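import Mathlib
import Cfsg.Prelude.Def_LieTypeChar
import Cfsg.Agent.Lib.helper44.LODefs

/-!
# S2363 piece ARITH (`lo_good`), helper6
-/

set_option autoImplicit false

namespace Cfsg.Agent.Lib.helper44.LO

open Cfsg

theorem helper6_lo_arith {p : ℕ} (hp : p.Prime) (f : ℕ) (c n N M e : ℕ)
    (hc : c * n = (p ^ f) ^ N * M) (hcp : ¬ p ∣ c) (hMp : ¬ p ∣ M) (hM : M < c * (p ^ f) ^ e) :
    n.factorization p = f * N ∧ n < (p ^ f) ^ (N + e) := by
  have hc0 : c ≠ 0 := by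
    rintro rfl
    exact hcp (dvd_zero p)
  have hM0 : M ≠ 0 := by
    rintro rfl
    exact hMp (dvd_zero p)
  have hq0 : (p ^ f) ^ N ≠ 0 := pow_ne_zero _ (pow_ne_zero _ hp.ne_zero)
  have hn0 : n ≠ 0 := by
    rintro rfl
    rw [mul_zero] at hc
    exact (mul_ne_zero hq0 hM0) hc.symm
  constructor
  · have h1 : (c * n).factorization p = ((p ^ f) ^ N * M).factorization p := by rw [hc]
    rw [Nat.factorization_mul hc0 hn0, Nat.factorization_mul hq0 hM0, Finsupp.add_apply,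
      Finsupp.add_apply, Nat.factorization_eq_zero_of_not_dvd hcp,
      Nat.factorization_eq_zero_of_not_dvd hMp, ← pow_mul, Nat.Prime.factorization_pow hp,
      Finsupp.single_eq_same] at h1
    omega
  · have h1 : c * n < c * (p ^ f) ^ (N + e) := by
      rw [hc, pow_add]
      calc (p ^ f) ^ N * M < (p ^ f) ^ N * (c * (p ^ f) ^ e) :=
            (Nat.mul_lt_mul_left (Nat.pos_of_ne_zero hq0)).mpr hM
        _ = c * ((p ^ f) ^ N * (p ^ f) ^ e) := by ring
    exact Nat.lt_of_mul_lt_mul_left h1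

/-- ARITH. -/
theorem lo_good {p : ℕ} (hp : p.Prime) (f : ℕ) (hf : 1 ≤ f) (c n N M e : ℕ)
    (hc : c * n = (p ^ f) ^ N * M) (hcp : ¬ p ∣ c) (hMp : ¬ p ∣ M) (hM : M < c * (p ^ f) ^ e)
    (h1 : e ≤ 2 * N) (h2 : 3 * e ≤ 5 * N) : LOGood p n := by
  obtain ⟨hk, hn⟩ := helper6_lo_arith hp f c n N M e hc hcp hMp hM
  unfold LOGood
  rw [hk]
  constructor
  · calc n < (p ^ f) ^ (N + e) := hn
      _ = p ^ (f * (N + e)) := by rw [← pow_mul]
      _ ≤ p ^ (3 * (f * N)) :=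
          Nat.pow_le_pow_right hp.pos (by nlinarith [Nat.mul_le_mul_left f h1])
  · calc n ^ 3 < ((p ^ f) ^ (N + e)) ^ 3 := Nat.pow_lt_pow_left hn (by norm_num)
      _ = p ^ (f * (N + e) * 3) := by rw [← pow_mul, ← pow_mul, mul_assoc]
      _ ≤ p ^ (8 * (f * N)) :=
          Nat.pow_le_pow_right hp.pos (by nlinarith [Nat.mul_le_mul_left f h2])

end Cfsg.Agent.Lib.helper44.LO
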