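import Mathlib
import Cfsg.Agent.Lib.helper44.SL3Defs

/-!
# S2287 piece GEN: `rootE_props`
-/

set_option autoImplicit false

namespace Cfsg.Agent.Lib.helper44.SL3

open Polynomial

theorem h6_rootX_conj {G : Type*} [Group G] {F : Type*} [Field F] (x : F → G) (c : G)
    (hc3 : c * c * c = 1) (i j : Fin 3) (t : F) :
    c * rootX x c i j t * c⁻¹ = rootX x c (i + 1) (j + 1) t := by
  have h3 : ∀ g : G, c * (c ^ 2 * g * (c ^ 2)⁻¹) * c⁻¹ = g := by
    intro g
    have e1 : c * c ^ 2 = 1 := by rw [pow_two, ← mul_assoc]; exact hc3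
    have e2 : (c ^ 2)⁻¹ * c⁻¹ = 1 := by rw [← mul_inv_rev, e1, inv_one]
    calc c * (c ^ 2 * g * (c ^ 2)⁻¹) * c⁻¹ = (c * c ^ 2) * g * ((c ^ 2)⁻¹ * c⁻¹) := by group
      _ = g := by rw [e1, e2, one_mul, mul_one]
  have h2 : ∀ g : G, c * (c * g * c⁻¹) * c⁻¹ = c ^ 2 * g * (c ^ 2)⁻¹ := by
    intro g
    simp only [pow_two, mul_inv_rev, mul_assoc]
  fin_cases i <;> fin_cases j <;> simp [rootX, h3, h2]

-- GEN
theorem rootE_props {G : Type*} [Group G] {F : Type*} [Field F] (x : F → G) (c : G)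
    (hc : IsA2Conf x c) :
    (∀ a, x a ∈ rootE x c) ∧ (∀ a, ZZ x c a ∈ rootE x c) ∧
      (∀ e ∈ rootE x c, c * e * c⁻¹ ∈ rootE x c) := by
  refine ⟨fun a => ?_, fun a => ?_, ?_⟩
  · apply Subgroup.subset_closure
    refine ⟨0, 1, a, by decide, ?_⟩
    simp [rootX]
  · apply Subgroup.subset_closure
    refine ⟨0, 2, a, by decide, ?_⟩
    simp [rootX]
  · intro e he
    have hsub : rootE x c ≤ (rootE x c).comap (MulAut.conj c).toMonoidHom := by
      refine (Subgroup.closure_le _).mpr ?_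
      rintro g ⟨a, b, t, hab, rfl⟩
      have hmem : c * rootX x c a b t * c⁻¹ ∈ rootE x c := by
        rw [h6_rootX_conj x c hc.c3]
        exact Subgroup.subset_closure ⟨a + 1, b + 1, t, fun h => hab (add_right_cancel h), rfl⟩
      exact hmem
    exact hsub he

end Cfsg.Agent.Lib.helper44.SL3
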