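import Mathlib
import Cfsg.Agent.Lib.helper44.SL3Defs
import Cfsg.Agent.Lib.helper6.SL3GEN

/-!
# S2287 piece ST (racing copy): `stdata_of_conf`
-/

set_option autoImplicit false

namespace Cfsg.Agent.Lib.helper44.SL3

open Polynomial

theorem h6_fin3_cases : ∀ j : Fin 3, j = 0 ∨ j = 1 ∨ j = 2 := by decide

theorem h6_fin3_shift (P : Fin 3 → Prop) (h0 : P 0) (hs : ∀ i, P i → P (i + 1)) :
    ∀ i, P i := by
  intro i
  have h1 : P 1 := by
    have h := hs 0 h0
    rwa [show (0 : Fin 3) + 1 = 1 from rfl] at h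
  have h2 : P 2 := by
    have h := hs 1 h1
    rwa [show (1 : Fin 3) + 1 = 2 from rfl] at h
  rcases h6_fin3_cases i with rfl | rfl | rfl
  · exact h0
  · exact h1
  · exact h2

section

variable {G : Type*} [Group G] {F : Type*} [Field F] (x : F → G) (c : G)

theorem h6_X01 (t : F) : rootX x c 0 1 t = x t := by simp [rootX]

theorem h6_X02 (t : F) : rootX x c 0 2 t = ZZ x c t := by simp [rootX]

theorem h6_X12 (t : F) : rootX x c 1 2 t = yy x c t := by simp [rootX, yy]

theorem h6_X21 (t : F) : rootX x c 2 1 t = WW x c t := by simp [rootX, WW, pow_two]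

theorem h6_ZZ_add (hc : IsA2Conf x c) (t u : F) : ZZ x c t * ZZ x c u = ZZ x c (t + u) := by
  have hZ : ∀ t u : F, ZZ x c (t + u) = ZZ x c u * ZZ x c t := by
    intro t u
    have hr := (hc.row t u).eq
    unfold ZZ zz cm at hr ⊢
    rw [hc.x_add]
    calc x t * x u * yy x c 1 * (x t * x u)⁻¹ * (yy x c 1)⁻¹
        = (x t * (x u * yy x c 1 * (x u)⁻¹ * (yy x c 1)⁻¹)) *
            (yy x c 1 * (x t)⁻¹ * (yy x c 1)⁻¹) := by group
      _ = ((x u * yy x c 1 * (x u)⁻¹ * (yy x c 1)⁻¹) * x t) *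
            (yy x c 1 * (x t)⁻¹ * (yy x c 1)⁻¹) := by rw [hr]
      _ = x u * yy x c 1 * (x u)⁻¹ * (yy x c 1)⁻¹ *
            (x t * yy x c 1 * (x t)⁻¹ * (yy x c 1)⁻¹) := by group
  rw [add_comm, hZ]

theorem h6_x_WW (hc : IsA2Conf x c) (t u : F) : x t * WW x c u = WW x c u * x t := by
  have hcol := (hc.col t u).eq
  have hc3 := hc.c3
  have e1 : c * c * yy x c t * (c * c)⁻¹ = x t := by
    unfold yy
    calc c * c * (c * x t * c⁻¹) * (c * c)⁻¹ = (c * c * c) * x t * (c * c * c)⁻¹ := by group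
      _ = x t := by rw [hc3]; group
  calc x t * WW x c u = (c * c * yy x c t * (c * c)⁻¹) * WW x c u := by rw [e1]
    _ = c * c * (yy x c t * ZZ x c u) * (c * c)⁻¹ := by unfold WW; group
    _ = c * c * (ZZ x c u * yy x c t) * (c * c)⁻¹ := by rw [hcol]
    _ = WW x c u * (c * c * yy x c t * (c * c)⁻¹) := by unfold WW; group
    _ = WW x c u * x t := by rw [e1]

theorem h6_root_add (hc : IsA2Conf x c) :
    ∀ i j : Fin 3, i ≠ j → ∀ t u : F,
      rootX x c i j t * rootX x c i j u = rootX x c i j (t + u) := by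
  refine h6_fin3_shift _ ?_ ?_
  · intro j hj t u
    rcases h6_fin3_cases j with rfl | rfl | rfl
    · exact absurd rfl hj
    · rw [h6_X01, h6_X01, h6_X01, hc.x_add]
    · rw [h6_X02, h6_X02, h6_X02, h6_ZZ_add x c hc]
  · intro i hi j hij t u
    have h := hi (j - 1) (fun e => hij (by rw [e, sub_add_cancel])) t u
    have e : ∀ s : F, rootX x c (i + 1) j s = c * rootX x c i (j - 1) s * c⁻¹ := by
      intro s
      rw [h6_rootX_conj x c hc.c3, sub_add_cancel]
    rw [e, e, e, ← h]
    group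

theorem h6_root_comm (hc : IsA2Conf x c) :
    ∀ i j k l : Fin 3, i ≠ j → k ≠ l → i ≠ l → j ≠ k → ∀ t u : F,
      rootX x c i j t * rootX x c k l u = rootX x c k l u * rootX x c i j t := by
  refine h6_fin3_shift _ ?_ ?_
  · intro j k l hij hkl hil hjk t u
    rcases h6_fin3_cases j with rfl | rfl | rfl <;>
    rcases h6_fin3_cases k with rfl | rfl | rfl <;>
    rcases h6_fin3_cases l with rfl | rfl | rfl <;>
    first
      | exact absurd rfl hij
      | exact absurd rfl hkl
      | exact absurd rfl hil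
      | exact absurd rfl hjk
      | (rw [h6_root_add x c hc _ _ hij, h6_root_add x c hc _ _ hij, add_comm])
      | (rw [h6_X01, h6_X02]; exact (hc.row t u).eq)
      | (rw [h6_X02, h6_X01]; exact (hc.row u t).eq.symm)
      | (rw [h6_X01, h6_X21]; exact h6_x_WW x c hc t u)
      | (rw [h6_X02, h6_X12]; exact (hc.col u t).eq.symm)
  · intro i hi j k l hij hkl hil hjk t u
    have h := hi (j - 1) (k - 1) (l - 1) (fun e => hij (by rw [e, sub_add_cancel]))
      (fun e => hkl (sub_left_inj.mp e)) (fun e => hil (by rw [e, sub_add_cancel]))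
      (fun e => hjk (sub_left_inj.mp e)) t u
    have e1 : rootX x c (i + 1) j t = c * rootX x c i (j - 1) t * c⁻¹ := by
      rw [h6_rootX_conj x c hc.c3, sub_add_cancel]
    have e2 : rootX x c k l u = c * rootX x c (k - 1) (l - 1) u * c⁻¹ := by
      rw [h6_rootX_conj x c hc.c3, sub_add_cancel, sub_add_cancel]
    rw [e1, e2]
    calc c * rootX x c i (j - 1) t * c⁻¹ * (c * rootX x c (k - 1) (l - 1) u * c⁻¹)
        = c * (rootX x c i (j - 1) t * rootX x c (k - 1) (l - 1) u) * c⁻¹ := by group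
      _ = c * (rootX x c (k - 1) (l - 1) u * rootX x c i (j - 1) t) * c⁻¹ := by rw [h]
      _ = c * rootX x c (k - 1) (l - 1) u * c⁻¹ * (c * rootX x c i (j - 1) t * c⁻¹) := by group

theorem h6_root_rel (hc : IsA2Conf x c) :
    ∀ i j l : Fin 3, i ≠ j → j ≠ l → i ≠ l → ∀ t u : F,
      rootX x c i j t * rootX x c j l u * (rootX x c i j t)⁻¹ * (rootX x c j l u)⁻¹
        = rootX x c i l (t * u) := by
  refine h6_fin3_shift _ ?_ ?_
  · intro j l hij hjl hil t u
    rcases h6_fin3_cases j with rfl | rfl | rfl <;>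
    rcases h6_fin3_cases l with rfl | rfl | rfl <;>
    first
      | exact absurd rfl hij
      | exact absurd rfl hjl
      | exact absurd rfl hil
      | (rw [h6_X01, h6_X12, h6_X02]; exact hc.bp t u)
      | (rw [h6_X02, h6_X21, h6_X01]; exact hc.bm t u)
  · intro i hi j l hij hjl hil t u
    have h := hi (j - 1) (l - 1) (fun e => hij (by rw [e, sub_add_cancel]))
      (fun e => hjl (sub_left_inj.mp e)) (fun e => hil (by rw [e, sub_add_cancel])) t u
    have e1 : rootX x c (i + 1) j t = c * rootX x c i (j - 1) t * c⁻¹ := by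
      rw [h6_rootX_conj x c hc.c3, sub_add_cancel]
    have e2 : rootX x c j l u = c * rootX x c (j - 1) (l - 1) u * c⁻¹ := by
      rw [h6_rootX_conj x c hc.c3, sub_add_cancel, sub_add_cancel]
    have e3 : rootX x c (i + 1) l (t * u) = c * rootX x c i (l - 1) (t * u) * c⁻¹ := by
      rw [h6_rootX_conj x c hc.c3, sub_add_cancel]
    rw [e1, e2, e3, ← h]
    group

end

-- ST
theorem helper6_stdata_of_conf {G : Type*} [Group G] {F : Type*} [Field F] (x : F → G) (c : G)
    (hc : IsA2Conf x c) : ∃ D : StData (Fin 3) F G, D.X = rootX x c :=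
  ⟨{ X := rootX x c
     add := h6_root_add x c hc
     comm := h6_root_comm x c hc
     rel := h6_root_rel x c hc
     third := by decide }, rfl⟩

end Cfsg.Agent.Lib.helper44.SL3
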