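import Cfsg.Agent.Lib.helper6.Dihedral

/-!
The Brauer–Fowler counting argument.
-/

set_option autoImplicit false

namespace Cfsg.Agent.Lib.helper6

variable {G : Type*} [Group G]

/-- The numbers of pairs of involutions with a given product sum to `m ^ 2`. -/
theorem sum_card_pairs [Fintype G] :
    ∑ x : G, Nat.card {p : G × G // orderOf p.1 = 2 ∧ orderOf p.2 = 2 ∧ p.1 * p.2 = x} =
      Nat.card {t : G // orderOf t = 2} * Nat.card {t : G // orderOf t = 2} := by
  rw [← Nat.card_sigma, ← Nat.card_prod]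
  apply Nat.card_congr
  exact
    { toFun := fun q => (⟨q.2.1.1, q.2.2.1⟩, ⟨q.2.1.2, q.2.2.2.1⟩)
      invFun := fun uv => ⟨uv.1.1 * uv.2.1, ⟨(uv.1.1, uv.2.1), uv.1.2, uv.2.2, rfl⟩⟩
      left_inv := by
        rintro ⟨x, ⟨⟨u, v⟩, hu, hv, h⟩⟩
        subst h
        rfl
      right_inv := by
        rintro ⟨⟨u, hu⟩, ⟨v, hv⟩⟩
        rfl }

/-- Pairs of involutions with product `1` correspond to involutions. -/
theorem card_pairs_one :
    Nat.card {p : G × G // orderOf p.1 = 2 ∧ orderOf p.2 = 2 ∧ p.1 * p.2 = 1} =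
      Nat.card {t : G // orderOf t = 2} := by
  apply Nat.card_congr
  exact
    { toFun := fun p => ⟨p.1.1, p.2.1⟩
      invFun := fun t => ⟨(t.1, t.1), t.2, t.2, inv_mul_self' t.2⟩
      left_inv := by
        rintro ⟨⟨u, v⟩, hu, hv, h⟩
        apply Subtype.ext
        simp only [Prod.mk.injEq, true_and]
        have h1 : v = u⁻¹ := eq_inv_of_mul_eq_one_right h
        rw [h1, inv_eq_self hu]
      right_inv := by
        rintro ⟨t, ht⟩
        rfl }

/-- The extended centralizer: elements conjugating `x` to `x` or `x⁻¹`. -/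
def extCentralizer (x : G) : Subgroup G where
  carrier := {g | g * x * g⁻¹ = x ∨ g * x * g⁻¹ = x⁻¹}
  one_mem' := Or.inl (by simp)
  mul_mem' := by
    intro a b ha hb
    have key : a * b * x * (a * b)⁻¹ = a * (b * x * b⁻¹) * a⁻¹ := by group
    have hinv : ∀ g : G, g * x * g⁻¹ = x⁻¹ → g * x⁻¹ * g⁻¹ = x := by
      intro g hg
      have : g * x⁻¹ * g⁻¹ = (g * x * g⁻¹)⁻¹ := by group
      rw [this, hg, inv_inv]
    have hinv' : ∀ g : G, g * x * g⁻¹ = x → g * x⁻¹ * g⁻¹ = x⁻¹ := by
      intro g hg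
      have : g * x⁻¹ * g⁻¹ = (g * x * g⁻¹)⁻¹ := by group
      rw [this, hg]
    show a * b * x * (a * b)⁻¹ = x ∨ a * b * x * (a * b)⁻¹ = x⁻¹
    rw [key]
    rcases ha with ha | ha <;> rcases hb with hb | hb
    · left; rw [hb, ha]
    · right; rw [hb, hinv' a ha]
    · right; rw [hb, ha]
    · left; rw [hb, hinv a ha]
  inv_mem' := by
    intro a ha
    show a⁻¹ * x * a⁻¹⁻¹ = x ∨ a⁻¹ * x * a⁻¹⁻¹ = x⁻¹
    rcases ha with ha | ha
    · left
      have : a⁻¹ * x * a⁻¹⁻¹ = a⁻¹ * (a * x * a⁻¹) * a := by rw [ha]; group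
      rw [this]; group
    · right
      have h1 : a⁻¹ * x⁻¹ * a = x := by
        rw [← ha]; group
      have : a⁻¹ * x * a⁻¹⁻¹ = (a⁻¹ * x⁻¹ * a)⁻¹ := by group
      rw [this, h1]

theorem mem_extCentralizer (x g : G) :
    g ∈ extCentralizer x ↔ g * x * g⁻¹ = x ∨ g * x * g⁻¹ = x⁻¹ := Iff.rfl

theorem card_extCentralizer [Finite G] (x : G) (hx : x ^ 2 ≠ 1) (hreal : IsConj x x⁻¹) :
    Nat.card (extCentralizer x) = 2 * Nat.card (Subgroup.centralizer ({x} : Set G)) := by
  classical
  haveI : Fintype G := Fintype.ofFinite G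
  have hne : x ≠ x⁻¹ := by
    intro h
    apply hx
    rw [pow_two]
    nth_rewrite 2 [h]
    exact mul_inv_cancel x
  have h1 : Nat.card (extCentralizer x) =
      Nat.card {g : G // g * x * g⁻¹ = x ∨ g * x * g⁻¹ = x⁻¹} := rfl
  have hdisj : Disjoint (fun g : G => g * x * g⁻¹ = x) (fun g : G => g * x * g⁻¹ = x⁻¹) := by
    intro r hrp hrq g hrg
    exact hne ((hrp g hrg).symm.trans (hrq g hrg))
  rw [h1, Nat.card_eq_fintype_card, Fintype.card_subtype_or_disjoint _ _ hdisj,
    ← Nat.card_eq_fintype_card, ← Nat.card_eq_fintype_card,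
    card_inverting_eq_card_centralizer x hreal, two_mul]
  congr 1
  apply Nat.card_congr
  exact Equiv.subtypeEquivRight (fun g => by
    rw [Subgroup.mem_centralizer_singleton_iff]
    constructor
    · intro h
      have : g * x = (g * x * g⁻¹) * g := by group
      rw [this, h]
    · intro h
      rw [h]; group)

theorem two_mul_card_centralizer_le [Finite G] (b : ℕ) (hb : 3 ≤ b)
    (hmin : ∀ H : Subgroup G, H ≠ ⊤ → b ≤ H.index) (x : G) (hx : x ^ 2 ≠ 1)
    (hreal : IsConj x x⁻¹) :
    2 * b * Nat.card (Subgroup.centralizer ({x} : Set G)) ≤ Nat.card G := by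
  have hE := card_extCentralizer x hx hreal
  by_cases htop : extCentralizer x = ⊤
  · exfalso
    have h1 : Nat.card (extCentralizer x) = Nat.card G := by rw [htop, Subgroup.card_top]
    have h2 := Subgroup.card_mul_index (Subgroup.centralizer ({x} : Set G))
    have hpos : 0 < Nat.card (Subgroup.centralizer ({x} : Set G)) := Nat.card_pos
    have h3 : (Subgroup.centralizer ({x} : Set G)).index = 2 := by
      rw [← h1, hE, mul_comm 2] at h2
      exact Nat.eq_of_mul_eq_mul_left hpos h2
    have h4 : Subgroup.centralizer ({x} : Set G) ≠ ⊤ := by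
      intro h
      rw [h, Subgroup.index_top] at h3
      omega
    have := hmin _ h4
    omega
  · have h1 := hmin _ htop
    have h2 := Subgroup.card_mul_index (extCentralizer x)
    rw [hE] at h2
    calc 2 * b * Nat.card (Subgroup.centralizer ({x} : Set G))
        = 2 * Nat.card (Subgroup.centralizer ({x} : Set G)) * b := by ring
      _ ≤ 2 * Nat.card (Subgroup.centralizer ({x} : Set G)) * (extCentralizer x).index :=
          Nat.mul_le_mul_left _ h1
      _ = Nat.card G := h2

theorem two_mul_card_pairs_le [Finite G] (b : ℕ) (hb : 3 ≤ b)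
    (hmin : ∀ H : Subgroup G, H ≠ ⊤ → b ≤ H.index) (x : G) (hx : x ^ 2 ≠ 1) :
    2 * b * Nat.card {p : G × G // orderOf p.1 = 2 ∧ orderOf p.2 = 2 ∧ p.1 * p.2 = x} ≤
      Nat.card G := by
  by_cases hreal : IsConj x x⁻¹
  · exact le_trans (Nat.mul_le_mul_left _ (card_pairs_le_card_centralizer x))
      (two_mul_card_centralizer_le b hb hmin x hx hreal)
  · rw [card_pairs_eq_zero_of_not_real x hreal]; simp

theorem card_pairs_involution_le [Finite G] (b : ℕ)
    (hmin : ∀ H : Subgroup G, H ≠ ⊤ → b ≤ H.index) (x : G) (hx : orderOf x = 2)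
    (hxc : x ∉ Subgroup.center G) :
    b * (Nat.card {p : G × G // orderOf p.1 = 2 ∧ orderOf p.2 = 2 ∧ p.1 * p.2 = x} + 2) ≤
      Nat.card G := by
  have h1 := card_pairs_add_two_le x hx
  have h2 : Subgroup.centralizer ({x} : Set G) ≠ ⊤ := by
    intro h
    apply hxc
    rw [Subgroup.mem_center_iff]
    intro g
    have : g ∈ Subgroup.centralizer ({x} : Set G) := h ▸ Subgroup.mem_top g
    rw [Subgroup.mem_centralizer_singleton_iff] at this
    exact this
  have h3 := hmin _ h2
  have h4 := Subgroup.card_mul_index (Subgroup.centralizer ({x} : Set G))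
  calc b * (Nat.card {p : G × G // orderOf p.1 = 2 ∧ orderOf p.2 = 2 ∧ p.1 * p.2 = x} + 2)
      ≤ b * Nat.card (Subgroup.centralizer ({x} : Set G)) := Nat.mul_le_mul_left _ h1
    _ ≤ (Subgroup.centralizer ({x} : Set G)).index *
          Nat.card (Subgroup.centralizer ({x} : Set G)) := Nat.mul_le_mul_right _ h3
    _ = Nat.card G := by rw [mul_comm, h4]

/-- The Brauer–Fowler inequality: if `G` has no central involution and every proper subgroup has
index at least `b ≥ 3`, then `2 b m² + 2 b m + |G| ≤ |G| (|G| + m)`, `m` the number of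
involutions. -/
theorem brauer_fowler_core [Finite G] (b : ℕ) (hb : 3 ≤ b)
    (hmin : ∀ H : Subgroup G, H ≠ ⊤ → b ≤ H.index)
    (hcen : ∀ t : G, orderOf t = 2 → t ∉ Subgroup.center G) :
    2 * b * Nat.card {t : G // orderOf t = 2} ^ 2 + 2 * b * Nat.card {t : G // orderOf t = 2} +
        Nat.card G ≤
      Nat.card G * (Nat.card G + Nat.card {t : G // orderOf t = 2}) := by
  classical
  haveI : Fintype G := Fintype.ofFinite G
  set m := Nat.card {t : G // orderOf t = 2} with hm
  set n := Nat.card G with hn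
  let c : G → ℕ := fun x =>
    Nat.card {p : G × G // orderOf p.1 = 2 ∧ orderOf p.2 = 2 ∧ p.1 * p.2 = x}
  let δ : G → ℕ := fun x => if x = 1 then 1 else 0
  let ι : G → ℕ := fun x => if orderOf x = 2 then 1 else 0
  let ρ : G → ℕ := fun x => if x ≠ 1 ∧ orderOf x ≠ 2 then 1 else 0
  have hpt : ∀ x : G, 2 * b * c x + 4 * b * ι x ≤ 2 * b * m * δ x + 2 * n * ι x + n * ρ x := by
    intro x
    by_cases h1 : x = 1
    · subst h1
      have h2 : orderOf (1 : G) ≠ 2 := by rw [orderOf_one]; omega
      have h3 : c 1 = m := card_pairs_one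
      simp only [δ, ι, ρ, h2, if_true, if_false, h3, ne_eq, not_true_eq_false, false_and]
      omega
    · by_cases h2 : orderOf x = 2
      · have h3 := card_pairs_involution_le b hmin x h2 (hcen x h2)
        have h4 : b * (c x + 2) ≤ n := h3
        simp only [δ, ι, ρ, h1, h2, if_true, if_false, ne_eq, not_true_eq_false, and_false]
        nlinarith
      · have hx2 : x ^ 2 ≠ 1 := fun h => h2 (orderOf_two_iff.2 ⟨h, h1⟩)
        have h3 := two_mul_card_pairs_le b hb hmin x hx2
        have h4 : 2 * b * c x ≤ n := h3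
        simp only [δ, ι, ρ, h1, h2, if_true, if_false, ne_eq, not_false_eq_true, and_self]
        omega
  have hsum := Finset.sum_le_sum (fun x (_ : x ∈ (Finset.univ : Finset G)) => hpt x)
  simp only [Finset.sum_add_distrib, ← Finset.mul_sum] at hsum
  have hδ : ∑ x : G, δ x = 1 := by simp [δ]
  have hι : ∑ x : G, ι x = m := by
    simp only [ι]
    rw [← Finset.card_filter, hm, Nat.card_eq_fintype_card, Fintype.card_subtype]
  have hρ : ∑ x : G, ρ x + 1 + m = n := by
    rw [← hδ, ← hι, ← Finset.sum_add_distrib, ← Finset.sum_add_distrib]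
    have h1 : ∀ x : G, ρ x + δ x + ι x = 1 := by
      intro x
      by_cases h1 : x = 1
      · subst h1
        have h2 : orderOf (1 : G) ≠ 2 := by rw [orderOf_one]; omega
        simp [δ, ι, ρ, h2]
      · by_cases h2 : orderOf x = 2
        · simp [δ, ι, ρ, h1, h2]
        · simp [δ, ι, ρ, h1, h2]
    simp only [h1, Finset.sum_const, Finset.card_univ, smul_eq_mul, mul_one]
    rw [hn, Nat.card_eq_fintype_card]
  have hc : ∑ x : G, c x = m * m := sum_card_pairs
  rw [hδ, hι, hc] at hsum
  rw [← hρ]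
  rw [← hρ] at hsum
  nlinarith [hsum]

/-- A nontrivial finite group has a proper subgroup of minimal index. -/
theorem exists_min_index [Finite G] [Nontrivial G] :
    ∃ H : Subgroup G, H ≠ ⊤ ∧ ∀ K : Subgroup G, K ≠ ⊤ → H.index ≤ K.index := by
  classical
  have hex : ∃ k, ∃ H : Subgroup G, H ≠ ⊤ ∧ H.index = k := ⟨_, ⊥, bot_ne_top, rfl⟩
  obtain ⟨H, hH, hk⟩ := Nat.find_spec hex
  refine ⟨H, hH, fun K hK => ?_⟩
  rw [hk]
  exact Nat.find_min' hex ⟨K, hK, rfl⟩

theorem nontrivial_of_even_card [Finite G] (h : Even (Nat.card G)) : Nontrivial G := by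
  rw [← Finite.one_lt_card_iff_nontrivial]
  have hpos : 0 < Nat.card G := Nat.card_pos
  obtain ⟨k, hk⟩ := h
  omega

theorem three_le_index_of_ne_two [Finite G] (H : Subgroup G) (hH : H ≠ ⊤) (h2 : H.index ≠ 2) :
    3 ≤ H.index := by
  have hidx1 : H.index ≠ 1 := fun h => hH (Subgroup.index_eq_one.1 h)
  have hidx0 : H.index ≠ 0 := Subgroup.index_ne_zero_of_finite
  omega

end Cfsg.Agent.Lib.helper6
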