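import Cfsg.Agent.Lib.helper6.SLCard

/-!
`PSL_2(F)` as a permutation group on the projective line.
-/

set_option autoImplicit false

namespace Cfsg.Agent.Lib.helper6

open scoped LinearAlgebra.Projectivization

/-- An injective homomorphism into `Perm (Fin n)` from a group of order `n! / 2` is an
isomorphism onto the alternating group. -/
theorem nonempty_mulEquiv_alternatingGroup_of_injective_of_card {G : Type*} [Group G] [Finite G]
    {n : ℕ} (f : G →* Equiv.Perm (Fin n)) (hf : Function.Injective f)
    (hcard : 2 * Nat.card G = n.factorial) : Nonempty (G ≃* alternatingGroup (Fin n)) := by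
  have h1 : Nat.card f.range = Nat.card G :=
    Nat.card_congr (MonoidHom.ofInjective hf).toEquiv.symm
  have h2 := Subgroup.card_mul_index f.range
  rw [h1, Nat.card_perm, Nat.card_eq_fintype_card (α := Fin n), Fintype.card_fin, ← hcard] at h2
  have hpos : 0 < Nat.card G := Nat.card_pos
  have h3 : f.range.index = 2 := by
    have : Nat.card G * f.range.index = Nat.card G * 2 := by rw [h2]; ring
    exact Nat.eq_of_mul_eq_mul_left hpos this
  have h4 := Equiv.Perm.eq_alternatingGroup_of_index_eq_two h3
  exact ⟨(MonoidHom.ofInjective hf).trans (MulEquiv.subgroupCongr h4)⟩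

variable {F : Type*} [Field F] [Fintype F]

theorem card_projLine : Nat.card (ℙ F (Fin 2 → F)) = Fintype.card F + 1 := by
  rw [Projectivization.card_of_finrank_two F (Fin 2 → F) (by simp), Nat.card_eq_fintype_card]

/-- An injective homomorphism from `PSL_2(F)` into `Perm (Fin (q + 1))`. -/
theorem exists_injective_PSL_perm {n : ℕ} (hn : Fintype.card F + 1 = n) :
    ∃ f : Matrix.ProjectiveSpecialLinearGroup (Fin 2) F →* Equiv.Perm (Fin n),
      Function.Injective f := by
  classical
  have e : ℙ F (Fin 2 → F) ≃ Fin n := Finite.equivFinOfCardEq (by rw [card_projLine, hn])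
  refine ⟨(e.permCongrHom).toMonoidHom.comp Projectivization.PSLAction.toPermHom, ?_⟩
  exact (e.permCongrHom).injective.comp
    Matrix.ProjectiveSpecialLinearGroup.toPermHom_injective

/-- An injective homomorphism from `SL_2(F)` into `Perm (Fin (q + 1))` when the centre is
trivial. -/
theorem exists_injective_SL_perm {n : ℕ} (hn : Fintype.card F + 1 = n)
    (hc : Subgroup.center (Matrix.SpecialLinearGroup (Fin 2) F) = ⊥) :
    ∃ f : Matrix.SpecialLinearGroup (Fin 2) F →* Equiv.Perm (Fin n), Function.Injective f := by
  classical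
  have e : ℙ F (Fin 2 → F) ≃ Fin n := Finite.equivFinOfCardEq (by rw [card_projLine, hn])
  refine ⟨(e.permCongrHom).toMonoidHom.comp
    (MulAction.toPermHom (Matrix.SpecialLinearGroup (Fin 2) F) (ℙ F (Fin 2 → F))), ?_⟩
  apply (e.permCongrHom).injective.comp
  rw [← MonoidHom.ker_eq_bot_iff, Projectivization.SL_mulAction_ker, hc]

end Cfsg.Agent.Lib.helper6
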