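import Mathlib
import Cfsg.Prelude.Def_Characters
import Cfsg.Prelude.Def_Blocks
import Cfsg.Agent.Lib.helper84.BrDefs
import Cfsg.Agent.Lib.helper82.CharDeg
import Cfsg.Agent.Lib.helper81.CharBasic
import Cfsg.Agent.Lib.helper81.CharOrtho
import Cfsg.Agent.Lib.helper4.CharDecomp

/-!
# S0996 pieces C9 / E1 / E3: decomposition of a character along `1, A, B, Y, Dset`
-/

set_option autoImplicit false
set_option linter.unusedSectionVars false

namespace Cfsg.Agent.Lib.helper6.Br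

open Cfsg Cfsg.Agent.Lib.helper81 Cfsg.Agent.Lib.helper84.Br
open scoped ComplexConjugate

universe u

variable {G : Type u} [Group G] [Fintype G] {p : ℕ} [Fact p.Prime] {P : Sylow p G} {e n : ℕ}

open Classical in
/-- the non-identity elements of a subgroup, as a finset -/
noncomputable def helper6_T (H : Subgroup G) : Finset G :=
  Finset.univ.filter (fun g => g ∈ H ∧ g ≠ 1)

theorem helper6_psum_eq (H : Subgroup G) (f : G → ℂ) :
    psum H f = ∑ g ∈ helper6_T H, f g := by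
  classical
  unfold psum helper6_T
  rw [Finset.sum_filter]

theorem helper6_card_T (hP : Nat.card P = p) :
    (helper6_T (P : Subgroup G)).card = p - 1 := by
  classical
  have h1 : helper6_T (P : Subgroup G)
      = (Finset.univ.filter (fun g => g ∈ (P : Subgroup G))).erase 1 := by
    ext g; simp [helper6_T, and_comm]
  rw [h1, Finset.card_erase_of_mem (by simp)]
  have h2 : (Finset.univ.filter (fun g => g ∈ (P : Subgroup G))).card
      = Nat.card (P : Subgroup G) := by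
    rw [Nat.card_eq_fintype_card, Fintype.card_subtype]
  rw [h2]
  have h3 : Nat.card (P : Subgroup G) = p := hP
  omega

theorem helper6_psum_const (hP : Nat.card P = p) (f : G → ℂ) (c : ℂ)
    (hf : ∀ x : G, x ∈ (P : Subgroup G) → x ≠ 1 → f x = c) :
    psum (P : Subgroup G) f = ((p - 1 : ℕ) : ℂ) * c := by
  classical
  have h1 : ∑ g ∈ helper6_T (P : Subgroup G), f g = ∑ _g ∈ helper6_T (P : Subgroup G), c := by
    refine Finset.sum_congr rfl fun x hx => ?_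
    simp only [helper6_T, Finset.mem_filter, Finset.mem_univ, true_and] at hx
    exact hf x hx.1 hx.2
  rw [helper6_psum_eq, h1, Finset.sum_const, helper6_card_T hP, nsmul_eq_mul]

theorem helper6_exists_ne_one (hP : Nat.card P = p) :
    ∃ x : G, x ∈ (P : Subgroup G) ∧ x ≠ 1 := by
  classical
  have h := helper6_card_T (P := P) hP
  have hp := (Fact.out : p.Prime).two_le
  have hne : (helper6_T (P : Subgroup G)).Nonempty := Finset.card_pos.mp (by omega)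
  obtain ⟨x, hx⟩ := hne
  simp only [helper6_T, Finset.mem_filter, Finset.mem_univ, true_and] at hx
  exact ⟨x, hx⟩

theorem helper6_psum_decomp [Fintype (IrrCharacter G)] (H : Subgroup G) (Θ : G → ℂ)
    (N : IrrCharacter G → ℕ)
    (h : ∀ g, Θ g = ∑ ψ : IrrCharacter G, (N ψ : ℂ) * (ψ : G → ℂ) g) :
    psum H Θ = ∑ ψ : IrrCharacter G, (N ψ : ℂ) * psum H (ψ : G → ℂ) := by
  simp only [helper6_psum_eq]
  simp_rw [h, Finset.mul_sum]
  exact Finset.sum_comm

theorem helper6_deg_triv : charDegree (trivChar G : G → ℂ) = 1 := by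
  have h := irr_one_eq_charDegree (trivChar G)
  rw [trivChar_apply] at h
  exact_mod_cast h.symm

theorem helper6_norm_decomp [Fintype (IrrCharacter G)] (Θ : G → ℂ) (N : IrrCharacter G → ℕ)
    (h1 : ∀ ψ : IrrCharacter G, classInner Θ (ψ : G → ℂ) = N ψ)
    (h2 : ∀ g, Θ g = ∑ ψ : IrrCharacter G, (N ψ : ℂ) * (ψ : G → ℂ) g) :
    classInner Θ Θ = ((∑ ψ : IrrCharacter G, N ψ ^ 2 : ℕ) : ℂ) := by
  have h3 : Θ = ∑ ψ : IrrCharacter G, (N ψ : ℂ) • (ψ : G → ℂ) := by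
    funext g; rw [h2 g, Finset.sum_apply]; rfl
  have h4 : classInner (∑ ψ : IrrCharacter G, (N ψ : ℂ) • (ψ : G → ℂ)) Θ
      = ∑ ψ : IrrCharacter G, (N ψ : ℂ) * classInner (ψ : G → ℂ) Θ := by
    rw [Cfsg.Agent.Lib.helper81.classInner_sum_left]
    refine Finset.sum_congr rfl fun ψ _ => ?_
    rw [Cfsg.Agent.Lib.helper81.classInner_smul_left]
  rw [← h3] at h4
  rw [h4]
  push_cast
  refine Finset.sum_congr rfl fun ψ _ => ?_
  rw [Cfsg.Agent.Lib.helper82.classInner_irr_char_comm ψ (h1 ψ)]; ring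

theorem helper6_psum_triv (hP : Nat.card P = p) :
    psum (P : Subgroup G) (trivChar G : G → ℂ) = ((p - 1 : ℕ) : ℂ) := by
  rw [helper6_psum_const hP (trivChar G : G → ℂ) 1 (fun x _ _ => rfl), mul_one]

theorem helper6_psum_A (hP : Nat.card P = p) (D : Data G p P e) (χ : IrrCharacter G)
    (hχ : χ ∈ D.A) : psum (P : Subgroup G) (χ : G → ℂ) = ((p - 1 : ℕ) : ℂ) := by
  rw [D.mem_A] at hχ
  rw [helper6_psum_const hP _ 1
    (fun x hx hx1 => by rw [D.val_X χ hχ.1 x hx hx1, hχ.2.2]; norm_num), mul_one]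

theorem helper6_psum_B (hP : Nat.card P = p) (D : Data G p P e) (χ : IrrCharacter G)
    (hχ : χ ∈ D.B) : psum (P : Subgroup G) (χ : G → ℂ) = -((p - 1 : ℕ) : ℂ) := by
  rw [D.mem_B] at hχ
  rw [helper6_psum_const hP _ (-1)
    (fun x hx hx1 => by rw [D.val_X χ hχ.1 x hx hx1, hχ.2]; norm_num), mul_neg, mul_one]

theorem helper6_psum_D (hP : Nat.card P = p) (D : Data G p P e) [Fintype (IrrCharacter G)]
    (d : IrrCharacter G) (hd : d ∈ D.Dset) : psum (P : Subgroup G) (d : G → ℂ) = 0 := by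
  rw [D.mem_Dset] at hd
  rw [helper6_psum_const hP _ 0 (fun x hx hx1 => D.vanish d hd.1 hd.2 x hx hx1), mul_zero]

/-- The decomposition of a character `Θ` into irreducibles, split along
`{1} ⊔ A ⊔ B ⊔ Y ⊔ Dset`: degree, sum over `P ∖ 1`, and norm. -/
theorem helper6_decomp (hP : Nat.card P = p) (D : Data G p P e) [Fintype (IrrCharacter G)]
    (hA : ∀ χ ∈ D.A, charDegree (χ : G → ℂ) = 1 + n * p)
    (hB : ∀ χ ∈ D.B, charDegree (χ : G → ℂ) = p - 1)
    (hY : ∀ θ ∈ D.Y, psum (P : Subgroup G) (θ : G → ℂ) = -(D.ε : ℂ) * (e : ℂ))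
    {Θ : G → ℂ} (hΘ : IsCharacter G Θ) :
    ∃ N : IrrCharacter G → ℕ, (∀ ψ : IrrCharacter G, classInner Θ (ψ : G → ℂ) = N ψ) ∧
      Θ 1 = ((N (trivChar G) + (∑ χ ∈ D.A, N χ) * (1 + n * p) + (∑ χ ∈ D.B, N χ) * (p - 1)
          + ∑ θ ∈ D.Y, N θ * charDegree (θ : G → ℂ)
          + ∑ d ∈ D.Dset, N d * charDegree (d : G → ℂ) : ℕ) : ℂ) ∧
      psum (P : Subgroup G) Θ = ((p - 1 : ℕ) : ℂ) * ((N (trivChar G) : ℂ)
          + ((∑ χ ∈ D.A, N χ : ℕ) : ℂ) - ((∑ χ ∈ D.B, N χ : ℕ) : ℂ))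
          - (D.ε : ℂ) * (e : ℂ) * ((∑ θ ∈ D.Y, N θ : ℕ) : ℂ) ∧
      classInner Θ Θ = ((N (trivChar G) ^ 2 + ∑ χ ∈ D.A, N χ ^ 2 + ∑ χ ∈ D.B, N χ ^ 2
          + ∑ θ ∈ D.Y, N θ ^ 2 + ∑ d ∈ D.Dset, N d ^ 2 : ℕ) : ℂ) := by
  obtain ⟨x, hx, hx1⟩ := helper6_exists_ne_one (P := P) hP
  have hδ1 := D.δ_triv x hx hx1
  obtain ⟨N, hN1, hN2, hN3⟩ := Cfsg.Agent.Lib.helper82.exists_nat_decomp hΘ
  refine ⟨N, hN1, ?_, ?_, ?_⟩
  · have d1 : ∑ χ ∈ D.A, N χ * charDegree (χ : G → ℂ) = (∑ χ ∈ D.A, N χ) * (1 + n * p) := by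
      rw [Finset.sum_mul]; exact Finset.sum_congr rfl fun χ hχ => by rw [hA χ hχ]
    have d2 : ∑ χ ∈ D.B, N χ * charDegree (χ : G → ℂ) = (∑ χ ∈ D.B, N χ) * (p - 1) := by
      rw [Finset.sum_mul]; exact Finset.sum_congr rfl fun χ hχ => by rw [hB χ hχ]
    rw [hN3, D.sum_split hδ1 (fun ψ => N ψ * charDegree (ψ : G → ℂ)), d1, d2,
      helper6_deg_triv, mul_one]
  · have e1 : ∑ χ ∈ D.A, (N χ : ℂ) * psum (P : Subgroup G) (χ : G → ℂ)
        = ((∑ χ ∈ D.A, N χ : ℕ) : ℂ) * ((p - 1 : ℕ) : ℂ) := by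
      rw [Nat.cast_sum, Finset.sum_mul]
      exact Finset.sum_congr rfl fun χ hχ => by rw [helper6_psum_A hP D χ hχ]
    have e2 : ∑ χ ∈ D.B, (N χ : ℂ) * psum (P : Subgroup G) (χ : G → ℂ)
        = ((∑ χ ∈ D.B, N χ : ℕ) : ℂ) * (-((p - 1 : ℕ) : ℂ)) := by
      rw [Nat.cast_sum, Finset.sum_mul]
      exact Finset.sum_congr rfl fun χ hχ => by rw [helper6_psum_B hP D χ hχ]
    have e3 : ∑ θ ∈ D.Y, (N θ : ℂ) * psum (P : Subgroup G) (θ : G → ℂ)
        = ((∑ θ ∈ D.Y, N θ : ℕ) : ℂ) * (-(D.ε : ℂ) * (e : ℂ)) := by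
      rw [Nat.cast_sum, Finset.sum_mul]
      exact Finset.sum_congr rfl fun θ hθ => by rw [hY θ hθ]
    have e4 : ∑ d ∈ D.Dset, (N d : ℂ) * psum (P : Subgroup G) (d : G → ℂ) = 0 :=
      Finset.sum_eq_zero fun d hd => by rw [helper6_psum_D hP D d hd, mul_zero]
    rw [helper6_psum_decomp _ Θ N hN2,
      D.sum_split hδ1 (fun ψ => (N ψ : ℂ) * psum (P : Subgroup G) (ψ : G → ℂ)),
      e1, e2, e3, e4, helper6_psum_triv hP]
    ring
  · rw [helper6_norm_decomp Θ N hN1 hN2, D.sum_split hδ1 (fun ψ => N ψ ^ 2)]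

/-- The arithmetic core of E3. -/
theorem helper6_arith_e3 (p e n t aA aB aY R : ℤ) (hp : 2 ≤ p) (he2 : 2 ≤ e) (hn1 : 1 ≤ n)
    (ht : 2 ≤ t) (hte : t * e = p - 1) (hA : 0 ≤ aA) (hB : 0 ≤ aB) (hY : 0 ≤ aY) (hR : 0 ≤ R)
    (h1 : e ^ 2 = 1 + aA * (1 + n * p) + aB * (p - 1) + e * aY + p * R)
    (h2 : e * (p - e) = (p - 1) * (1 + aA - aB) - e * aY) : n = 1 ∧ t = 2 := by
  have hE : e = 1 + (n + 1) * aA + R := by
    have h3 : p * e = p * (1 + (n + 1) * aA + R) := by linear_combination h1 + h2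
    exact mul_left_cancel₀ (by omega : p ≠ 0) h3
  have hF : (t - 1) * (e - 1) ≤ t * aA := by
    have h4 : e * (p - e) ≤ (p - 1) * (1 + aA) := by
      have h41 : 0 ≤ (p - 1) * aB := mul_nonneg (by omega) hB
      have h42 : 0 ≤ e * aY := mul_nonneg (by omega) hY
      nlinarith
    have hpe : p = t * e + 1 := by linarith
    have h5 : e * (t * e + 1 - e) ≤ e * (t * (1 + aA)) := by
      rw [hpe] at h4
      calc e * (t * e + 1 - e) ≤ (t * e + 1 - 1) * (1 + aA) := h4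
        _ = e * (t * (1 + aA)) := by ring
    have h6 : t * e + 1 - e ≤ t * (1 + aA) := le_of_mul_le_mul_left h5 (by omega)
    nlinarith
  have hG : (n + 1) * aA ≤ e - 1 := by linarith
  have hA1 : 1 ≤ aA := by
    by_contra h
    have h0 : aA = 0 := by omega
    rw [h0] at hF
    have h7 : 1 ≤ (t - 1) * (e - 1) := by nlinarith
    linarith
  have hH : (t - 1) * (n + 1) ≤ t := by
    have h7 : (t - 1) * ((n + 1) * aA) ≤ t * aA :=
      le_trans (mul_le_mul_of_nonneg_left hG (by omega)) hF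
    have h8 : ((t - 1) * (n + 1)) * aA ≤ t * aA := by linarith [h7]
    exact le_of_mul_le_mul_right h8 (by omega)
  have hI : (t - 1) * n ≤ 1 := by linarith
  have hn : n ≤ 1 := by nlinarith
  have ht' : t ≤ 2 := by nlinarith
  constructor <;> omega

end Cfsg.Agent.Lib.helper6.Br
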