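import Mathlib
import Cfsg.Prelude.Def_Characters
import Cfsg.Prelude.Def_Blocks
import Cfsg.Agent.Lib.helper84.BrDefs
import Cfsg.Agent.Lib.helper6.BrDecomp

/-!
# S0996 piece C9 (PI-DECOMP)
-/

set_option autoImplicit false
set_option linter.unusedSectionVars false

namespace Cfsg.Agent.Lib.helper6.Br

open Cfsg Cfsg.Agent.Lib.helper81 Cfsg.Agent.Lib.helper84.Br
open scoped ComplexConjugate

universe u

variable {G : Type u} [Group G] [Fintype G] {p : ℕ} [Fact p.Prime] {P : Sylow p G} {e n : ℕ}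

/-- C9 (PI-DECOMP). -/
theorem pi_decomp (hctx : Ctx G p P e n) (D : Data G p P e) [Fintype (IrrCharacter G)]
    (hA : ∀ χ ∈ D.A, charDegree (χ : G → ℂ) = 1 + n * p)
    (hB : ∀ χ ∈ D.B, charDegree (χ : G → ℂ) = p - 1)
    (hY : ∀ θ ∈ D.Y, psum (P : Subgroup G) (θ : G → ℂ) = -(D.ε : ℂ) * (e : ℂ))
    (hπc : IsCharacter G (piChar P)) (hπ1 : piChar P 1 = ((1 + n * p : ℕ) : ℂ))
    (hπx : ∀ x : G, x ∈ (P : Subgroup G) → x ≠ 1 → piChar P x = 1)
    (hπt : classInner (piChar P) (trivChar G : G → ℂ) = 1)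
    (hπle : ∀ ψ : G → ℂ, IsCharacter G ψ → ∃ k l : ℕ, classInner (piChar P) ψ = k ∧
      ψ 1 + psum (P : Subgroup G) ψ = (p : ℂ) * l ∧ k ≤ l) :
    ∃ m : IrrCharacter G → ℕ, (∀ ψ : IrrCharacter G, classInner (piChar P) (ψ : G → ℂ) = m ψ) ∧
      (∀ d ∈ D.Dset, m d ≤ charDegree (d : G → ℂ) / p) ∧
      ∑ d ∈ D.Dset, m d * (charDegree (d : G → ℂ) / p) = n ∧
      classInner (piChar P) (piChar P) = ((1 + ∑ d ∈ D.Dset, (m d) ^ 2 : ℕ) : ℂ) := by
  have hP := hctx.hP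
  have hp2 : 2 ≤ p := (Fact.out : p.Prime).two_le
  obtain ⟨m, hm1, hdeg, hps, hnorm⟩ := helper6_decomp (n := n) hP D hA hB hY hπc
  have h1 : m (trivChar G) = 1 := by
    have h := hm1 (trivChar G)
    rw [hπt] at h
    exact_mod_cast h.symm
  have hdegN : 1 + n * p = m (trivChar G) + (∑ χ ∈ D.A, m χ) * (1 + n * p)
      + (∑ χ ∈ D.B, m χ) * (p - 1) + ∑ θ ∈ D.Y, m θ * charDegree (θ : G → ℂ)
      + ∑ d ∈ D.Dset, m d * charDegree (d : G → ℂ) := by
    rw [hπ1] at hdeg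
    exact_mod_cast hdeg
  have hA0 : ∑ χ ∈ D.A, m χ = 0 := by
    by_contra hne
    have h2 : 1 ≤ ∑ χ ∈ D.A, m χ := Nat.one_le_iff_ne_zero.mpr hne
    have h3 : 1 + n * p ≤ (∑ χ ∈ D.A, m χ) * (1 + n * p) := Nat.le_mul_of_pos_left _ (by omega)
    omega
  have hB0 : ∀ χ ∈ D.B, m χ = 0 := by
    intro χ hχ
    obtain ⟨k, l, hk, hl, hkl⟩ := hπle (χ : G → ℂ) (irr_isCharacter χ)
    rw [irr_one_eq_charDegree, hB χ hχ, helper6_psum_B hP D χ hχ, add_neg_cancel] at hl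
    have hl0 : l = 0 := by
      rcases mul_eq_zero.mp hl.symm with h | h
      · exfalso
        have : p = 0 := by exact_mod_cast h
        omega
      · exact_mod_cast h
    have h4 : (m χ : ℂ) = k := by rw [← hm1 χ, hk]
    have h5 : m χ = k := by exact_mod_cast h4
    omega
  have hB0' : ∑ χ ∈ D.B, m χ = 0 := Finset.sum_eq_zero hB0
  have hpsπ : psum (P : Subgroup G) (piChar P) = ((p - 1 : ℕ) : ℂ) := by
    rw [helper6_psum_const hP (piChar P) 1 hπx, mul_one]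
  have hY0 : ∑ θ ∈ D.Y, m θ = 0 := by
    rw [hpsπ, h1, hA0, hB0'] at hps
    simp only [Nat.cast_one, Nat.cast_zero] at hps
    have h2 : (D.ε : ℂ) * (e : ℂ) * ((∑ θ ∈ D.Y, m θ : ℕ) : ℂ) = 0 := by
      linear_combination hps
    have hε0 : (D.ε : ℂ) ≠ 0 := by
      rcases D.ε_sq with h | h <;> simp [h]
    have he0 : (e : ℂ) ≠ 0 := by
      have := hctx.he2
      exact_mod_cast (by omega : e ≠ 0)
    rcases mul_eq_zero.mp h2 with h | h
    · exact absurd h (mul_ne_zero hε0 he0)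
    · exact_mod_cast h
  have hDl : ∀ d ∈ D.Dset, ∃ l : ℕ, charDegree (d : G → ℂ) = p * l ∧ m d ≤ l := by
    intro d hd
    obtain ⟨k, l, hk, hl, hkl⟩ := hπle (d : G → ℂ) (irr_isCharacter d)
    rw [irr_one_eq_charDegree, helper6_psum_D hP D d hd, add_zero] at hl
    have h3 : charDegree (d : G → ℂ) = p * l := by exact_mod_cast hl
    have h4 : (m d : ℂ) = k := by rw [← hm1 d, hk]
    have h5 : m d = k := by exact_mod_cast h4
    exact ⟨l, h3, by omega⟩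
  refine ⟨m, hm1, ?_, ?_, ?_⟩
  · intro d hd
    obtain ⟨l, h3, h4⟩ := hDl d hd
    rw [h3, Nat.mul_div_cancel_left l (by omega : 0 < p)]
    exact h4
  · have h6 : ∑ d ∈ D.Dset, m d * charDegree (d : G → ℂ)
        = p * ∑ d ∈ D.Dset, m d * (charDegree (d : G → ℂ) / p) := by
      rw [Finset.mul_sum]
      refine Finset.sum_congr rfl fun d hd => ?_
      obtain ⟨l, h3, h4⟩ := hDl d hd
      rw [h3, Nat.mul_div_cancel_left l (by omega : 0 < p)]
      ring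
    have hY0' : ∑ θ ∈ D.Y, m θ * charDegree (θ : G → ℂ) = 0 :=
      Finset.sum_eq_zero fun θ hθ => by
        rw [(Finset.sum_eq_zero_iff.mp hY0) θ hθ, zero_mul]
    rw [h1, hA0, hB0', hY0', h6] at hdegN
    have h7 : p * n = p * ∑ d ∈ D.Dset, m d * (charDegree (d : G → ℂ) / p) := by
      rw [zero_mul, zero_mul] at hdegN
      rw [mul_comm p n]
      omega
    exact (Nat.eq_of_mul_eq_mul_left (by omega : 0 < p) h7).symm
  · have hA2 : ∑ χ ∈ D.A, m χ ^ 2 = 0 :=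
      Finset.sum_eq_zero fun χ hχ => by simp [(Finset.sum_eq_zero_iff.mp hA0) χ hχ]
    have hB2 : ∑ χ ∈ D.B, m χ ^ 2 = 0 :=
      Finset.sum_eq_zero fun χ hχ => by simp [hB0 χ hχ]
    have hY2 : ∑ θ ∈ D.Y, m θ ^ 2 = 0 :=
      Finset.sum_eq_zero fun θ hθ => by simp [(Finset.sum_eq_zero_iff.mp hY0) θ hθ]
    rw [hnorm, h1, hA2, hB2, hY2]
    norm_num

end Cfsg.Agent.Lib.helper6.Br
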