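import Mathlib
import Cfsg.Prelude.Def_Characters
import Cfsg.Prelude.Def_Blocks
import Cfsg.Agent.Lib.helper84.BrDefs
import Cfsg.Agent.Lib.helper6.BrDecomp

/-!
# S0996 piece E1 (TAU-END)
-/

set_option autoImplicit false
set_option linter.unusedSectionVars false

namespace Cfsg.Agent.Lib.helper6.Br

open Cfsg Cfsg.Agent.Lib.helper81 Cfsg.Agent.Lib.helper84.Br
open scoped ComplexConjugate

universe u

variable {G : Type u} [Group G] [Fintype G] {p : ℕ} [Fact p.Prime] {P : Sylow p G} {e n : ℕ}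

/-- E1 (TAU-END) : if `e` is even then `ε = -1` and `t = n + 1`. -/
theorem tau_end (hctx : Ctx G p P e n) (D : Data G p P e) [Fintype (IrrCharacter G)]
    (hA : ∀ χ ∈ D.A, charDegree (χ : G → ℂ) = 1 + n * p)
    (hB : ∀ χ ∈ D.B, charDegree (χ : G → ℂ) = p - 1)
    (hY : ∀ θ ∈ D.Y, psum (P : Subgroup G) (θ : G → ℂ) = -(D.ε : ℂ) * (e : ℂ))
    (hπD : ∀ d ∈ D.Dset, classInner (piChar P) (d : G → ℂ) =
      ((charDegree (d : G → ℂ) / p : ℕ) : ℂ))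
    (τ : G → ℂ) (hτc : IsCharacter G τ) (hτ1 : τ 1 = ((1 + n * p : ℕ) : ℂ))
    (hτx : ∀ x : G, x ∈ (P : Subgroup G) → x ≠ 1 → τ x = 1)
    (hτt : classInner τ (trivChar G : G → ℂ) = 0)
    (hτn : classInner τ τ = ((n + 1 : ℕ) : ℂ))
    (hτle : ∀ ψ : G → ℂ, IsCharacter G ψ → ∃ k m l : ℕ, classInner (piChar P) ψ = k ∧
      classInner τ ψ = m ∧ ψ 1 + psum (P : Subgroup G) ψ = (p : ℂ) * l ∧ k + m ≤ l)
    (hconst : ∀ θ ∈ D.Y, ∀ θ' ∈ D.Y, classInner τ (θ : G → ℂ) = classInner τ (θ' : G → ℂ)) :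
    D.ε = -1 ∧ D.Y.card = n + 1 := by
  have hP := hctx.hP
  have hn1 := hctx.hn1
  have hp2 : 2 ≤ p := (Fact.out : p.Prime).two_le
  obtain ⟨m, hm1, hdeg, hps, hnorm⟩ := helper6_decomp (n := n) hP D hA hB hY hτc
  have h1 : m (trivChar G) = 0 := by
    have h := hm1 (trivChar G)
    rw [hτt] at h
    exact_mod_cast h.symm
  have hdegN : 1 + n * p = m (trivChar G) + (∑ χ ∈ D.A, m χ) * (1 + n * p)
      + (∑ χ ∈ D.B, m χ) * (p - 1) + ∑ θ ∈ D.Y, m θ * charDegree (θ : G → ℂ)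
      + ∑ d ∈ D.Dset, m d * charDegree (d : G → ℂ) := by
    rw [hτ1] at hdeg
    exact_mod_cast hdeg
  have hnormN : n + 1 = m (trivChar G) ^ 2 + ∑ χ ∈ D.A, m χ ^ 2 + ∑ χ ∈ D.B, m χ ^ 2
      + ∑ θ ∈ D.Y, m θ ^ 2 + ∑ d ∈ D.Dset, m d ^ 2 := by
    rw [hτn] at hnorm
    exact_mod_cast hnorm
  have hB0 : ∀ χ ∈ D.B, m χ = 0 := by
    intro χ hχ
    obtain ⟨k, m', l, hk, hm', hl, hkl⟩ := hτle (χ : G → ℂ) (irr_isCharacter χ)
    rw [irr_one_eq_charDegree, hB χ hχ, helper6_psum_B hP D χ hχ, add_neg_cancel] at hl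
    have hl0 : l = 0 := by
      rcases mul_eq_zero.mp hl.symm with h | h
      · exfalso
        have : p = 0 := by exact_mod_cast h
        omega
      · exact_mod_cast h
    have h4 : (m χ : ℂ) = m' := by rw [← hm1 χ, hm']
    have h5 : m χ = m' := by exact_mod_cast h4
    omega
  have hD0 : ∀ d ∈ D.Dset, m d = 0 := by
    intro d hd
    obtain ⟨k, m', l, hk, hm', hl, hkl⟩ := hτle (d : G → ℂ) (irr_isCharacter d)
    rw [irr_one_eq_charDegree, helper6_psum_D hP D d hd, add_zero] at hl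
    have h3 : charDegree (d : G → ℂ) = p * l := by exact_mod_cast hl
    have h4 : k = charDegree (d : G → ℂ) / p := by
      have h := hπD d hd
      rw [hk] at h
      exact_mod_cast h
    rw [h3, Nat.mul_div_cancel_left l (by omega : 0 < p)] at h4
    have h5 : (m d : ℂ) = m' := by rw [← hm1 d, hm']
    have h6 : m d = m' := by exact_mod_cast h5
    omega
  have hB0' : ∑ χ ∈ D.B, m χ = 0 := Finset.sum_eq_zero hB0
  have hD0' : ∑ d ∈ D.Dset, m d * charDegree (d : G → ℂ) = 0 :=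
    Finset.sum_eq_zero fun d hd => by rw [hD0 d hd, zero_mul]
  have hB2 : ∑ χ ∈ D.B, m χ ^ 2 = 0 :=
    Finset.sum_eq_zero fun χ hχ => by simp [hB0 χ hχ]
  have hD2 : ∑ d ∈ D.Dset, m d ^ 2 = 0 :=
    Finset.sum_eq_zero fun d hd => by simp [hD0 d hd]
  rw [h1, hB0', hD0', zero_mul, zero_add, add_zero, add_zero] at hdegN
  rw [h1, hB2, hD2] at hnormN
  simp only [ne_eq, OfNat.ofNat_ne_zero, not_false_eq_true, zero_pow, zero_add, add_zero]
    at hnormN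
  have hA0 : ∑ χ ∈ D.A, m χ = 0 := by
    by_contra hne
    have h1A : 1 ≤ ∑ χ ∈ D.A, m χ := Nat.one_le_iff_ne_zero.mpr hne
    have h2A : 1 + n * p ≤ (∑ χ ∈ D.A, m χ) * (1 + n * p) :=
      Nat.le_mul_of_pos_left _ (by omega)
    have h3A : ∑ θ ∈ D.Y, m θ * charDegree (θ : G → ℂ) = 0 := by omega
    have h4A : (∑ χ ∈ D.A, m χ) * (1 + n * p) = 1 * (1 + n * p) := by omega
    have h5A : ∑ χ ∈ D.A, m χ = 1 :=
      Nat.eq_of_mul_eq_mul_right (by omega : 0 < 1 + n * p) h4A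
    have hY0 : ∀ θ ∈ D.Y, m θ = 0 := by
      intro θ hθ
      have h := (Finset.sum_eq_zero_iff.mp h3A) θ hθ
      rcases Nat.mul_eq_zero.mp h with h | h
      · exact h
      · exact absurd h (irr_charDegree_pos θ).ne'
    have hY2 : ∑ θ ∈ D.Y, m θ ^ 2 = 0 :=
      Finset.sum_eq_zero fun θ hθ => by simp [hY0 θ hθ]
    have hA2 : ∑ χ ∈ D.A, m χ ^ 2 ≤ 1 := by
      calc ∑ χ ∈ D.A, m χ ^ 2 ≤ ∑ χ ∈ D.A, m χ := Finset.sum_le_sum fun χ hχ => by
            have h : m χ ≤ ∑ χ ∈ D.A, m χ :=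
              Finset.single_le_sum (f := fun χ => m χ) (fun _ _ => Nat.zero_le _) hχ
            rw [h5A] at h
            rcases Nat.le_one_iff_eq_zero_or_eq_one.mp h with h' | h' <;> simp [h']
        _ = 1 := h5A
    omega
  have hA2 : ∑ χ ∈ D.A, m χ ^ 2 = 0 :=
    Finset.sum_eq_zero fun χ hχ => by simp [(Finset.sum_eq_zero_iff.mp hA0) χ hχ]
  have hte := D.cardY
  have hYne : D.Y.Nonempty := by
    rw [← Finset.card_pos]
    apply Nat.pos_of_ne_zero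
    intro h
    rw [h] at hte
    omega
  obtain ⟨θ0, hθ0⟩ := hYne
  have hc : ∀ θ ∈ D.Y, m θ = m θ0 := by
    intro θ hθ
    have h := hconst θ hθ θ0 hθ0
    rw [hm1 θ, hm1 θ0] at h
    exact_mod_cast h
  have hYs : ∑ θ ∈ D.Y, m θ = D.Y.card * m θ0 := by
    rw [Finset.sum_congr rfl hc, Finset.sum_const, smul_eq_mul]
  have hYs2 : ∑ θ ∈ D.Y, m θ ^ 2 = D.Y.card * m θ0 ^ 2 := by
    rw [Finset.sum_congr rfl (fun θ hθ => by rw [hc θ hθ]), Finset.sum_const, smul_eq_mul]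
  have hpsτ : psum (P : Subgroup G) τ = ((p - 1 : ℕ) : ℂ) := by
    rw [helper6_psum_const hP τ 1 hτx, mul_one]
  rw [hpsτ, h1, hA0, hB0', hYs] at hps
  have hteC : ((p - 1 : ℕ) : ℂ) = (D.Y.card : ℂ) * (e : ℂ) := by
    rw [← hte]; push_cast; ring
  have hZ : ((p - 1 : ℕ) : ℤ) = - D.ε * ((p - 1 : ℕ) : ℤ) * (m θ0 : ℤ) := by
    have h' : ((p - 1 : ℕ) : ℂ) = - (D.ε : ℂ) * ((p - 1 : ℕ) : ℂ) * (m θ0 : ℂ) := by
      simp only [Nat.cast_zero, Nat.cast_mul] at hps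
      linear_combination hps + (D.ε : ℂ) * (m θ0 : ℂ) * hteC
    exact_mod_cast h'
  have hpos : (0 : ℤ) < ((p - 1 : ℕ) : ℤ) := by
    exact_mod_cast (by omega : 0 < p - 1)
  rcases D.ε_sq with hε | hε
  · exfalso
    rw [hε] at hZ
    have h0 : (0 : ℤ) ≤ (m θ0 : ℤ) := Int.natCast_nonneg _
    nlinarith
  · rw [hε] at hZ
    have hc1 : (m θ0 : ℤ) = 1 := by
      have h2 : ((p - 1 : ℕ) : ℤ) * ((m θ0 : ℤ) - 1) = 0 := by linarith
      rcases mul_eq_zero.mp h2 with h | h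
      · omega
      · omega
    have hc1' : m θ0 = 1 := by exact_mod_cast hc1
    refine ⟨hε, ?_⟩
    rw [hA2, hYs2, hc1'] at hnormN
    simp at hnormN
    omega

end Cfsg.Agent.Lib.helper6.Br
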