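import Mathlib
import Cfsg.Prelude.Def_Characters
import Cfsg.Prelude.Def_Blocks
import Cfsg.Agent.Lib.helper84.BrDefs
import Cfsg.Agent.Lib.helper6.BrDecomp

/-!
# S0996 piece E3 (THETA-SQ-END)
-/

set_option autoImplicit false
set_option linter.unusedSectionVars false

namespace Cfsg.Agent.Lib.helper6.Br

open Cfsg Cfsg.Agent.Lib.helper81 Cfsg.Agent.Lib.helper84.Br
open scoped ComplexConjugate

universe u

variable {G : Type u} [Group G] [Fintype G] {p : ℕ} [Fact p.Prime] {P : Sylow p G} {e n : ℕ}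

/-- E3 (THETA-SQ-END) : if `ε = 1` and `t ≥ 2` then `n = 1` and `t = 2`. -/
theorem theta_sq_end (hctx : Ctx G p P e n) (D : Data G p P e) [Fintype (IrrCharacter G)]
    (hε : D.ε = 1)
    (hA : ∀ χ ∈ D.A, charDegree (χ : G → ℂ) = 1 + n * p)
    (hB : ∀ χ ∈ D.B, charDegree (χ : G → ℂ) = p - 1)
    (hYd : ∀ θ ∈ D.Y, charDegree (θ : G → ℂ) = e)
    (hY : ∀ θ ∈ D.Y, psum (P : Subgroup G) (θ : G → ℂ) = -(D.ε : ℂ) * (e : ℂ))
    (hY2 : ∀ θ ∈ D.Y, psum (P : Subgroup G) (fun g => (θ : G → ℂ) g * conj ((θ : G → ℂ) g)) =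
      (e : ℂ) * ((p : ℂ) - (e : ℂ)))
    (hD : ∀ d ∈ D.Dset, p ∣ charDegree (d : G → ℂ))
    (ht : 2 ≤ D.Y.card) :
    n = 1 ∧ D.Y.card = 2 := by
  have hP := hctx.hP
  have hn1 := hctx.hn1
  have he2 := hctx.he2
  have hp2 : 2 ≤ p := (Fact.out : p.Prime).two_le
  obtain ⟨θ, hθ⟩ : D.Y.Nonempty := Finset.card_pos.mp (by omega)
  obtain ⟨Θ, hΘdef⟩ : ∃ Θ : G → ℂ, Θ = fun g => (θ : G → ℂ) g * conj ((θ : G → ℂ) g) :=
    ⟨_, rfl⟩
  have hΘc : IsCharacter G Θ := by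
    have h := Cfsg.Agent.Lib.helper4.isCharacter_mul (irr_isCharacter θ)
      (Cfsg.Agent.Lib.helper4.isCharacter_conj (irr_isCharacter θ))
    rw [hΘdef]
    exact h
  obtain ⟨α, hα1, hdeg, hps, hnorm⟩ := helper6_decomp (n := n) hP D hA hB hY hΘc
  have h1 : α (trivChar G) = 1 := by
    have h := hα1 (trivChar G)
    have h2 : classInner Θ (trivChar G : G → ℂ) = classInner (θ : G → ℂ) (θ : G → ℂ) := by
      unfold classInner
      congr 1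
      refine Finset.sum_congr rfl fun g _ => ?_
      simp [hΘdef]
    rw [h2, irr_classInner_self] at h
    exact_mod_cast h.symm
  have hΘ1 : Θ 1 = ((e ^ 2 : ℕ) : ℂ) := by
    rw [hΘdef]
    simp only
    rw [irr_one_eq_charDegree, hYd θ hθ]
    simp [sq]
  have hdegN : e ^ 2 = α (trivChar G) + (∑ χ ∈ D.A, α χ) * (1 + n * p)
      + (∑ χ ∈ D.B, α χ) * (p - 1) + ∑ θ' ∈ D.Y, α θ' * charDegree (θ' : G → ℂ)
      + ∑ d ∈ D.Dset, α d * charDegree (d : G → ℂ) := by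
    rw [hΘ1] at hdeg
    exact_mod_cast hdeg
  have hYdeg : ∑ θ' ∈ D.Y, α θ' * charDegree (θ' : G → ℂ) = (∑ θ' ∈ D.Y, α θ') * e := by
    rw [Finset.sum_mul]
    exact Finset.sum_congr rfl fun θ' h' => by rw [hYd θ' h']
  have hDdeg : ∑ d ∈ D.Dset, α d * charDegree (d : G → ℂ)
      = p * ∑ d ∈ D.Dset, α d * (charDegree (d : G → ℂ) / p) := by
    rw [Finset.mul_sum]
    refine Finset.sum_congr rfl fun d hd => ?_
    obtain ⟨l, hl⟩ := hD d hd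
    rw [hl, Nat.mul_div_cancel_left l (by omega : 0 < p)]
    ring
  have hpsΘ : psum (P : Subgroup G) Θ = (e : ℂ) * ((p : ℂ) - (e : ℂ)) := by
    rw [hΘdef]; exact hY2 θ hθ
  rw [hpsΘ, h1, hε] at hps
  rw [h1, hYdeg, hDdeg] at hdegN
  obtain ⟨q, hq⟩ : ∃ q : ℕ, q = p - 1 := ⟨_, rfl⟩
  rw [← hq] at hdegN hps
  have hqZ : (q : ℤ) = (p : ℤ) - 1 := by omega
  have hte := D.cardY
  rw [← hq] at hte
  obtain ⟨aA, haA⟩ : ∃ a : ℕ, a = ∑ χ ∈ D.A, α χ := ⟨_, rfl⟩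
  obtain ⟨aB, haB⟩ : ∃ a : ℕ, a = ∑ χ ∈ D.B, α χ := ⟨_, rfl⟩
  obtain ⟨aY, haY⟩ : ∃ a : ℕ, a = ∑ θ' ∈ D.Y, α θ' := ⟨_, rfl⟩
  obtain ⟨R, hR⟩ : ∃ a : ℕ, a = ∑ d ∈ D.Dset, α d * (charDegree (d : G → ℂ) / p) := ⟨_, rfl⟩
  obtain ⟨t, htdef⟩ : ∃ a : ℕ, a = D.Y.card := ⟨_, rfl⟩
  rw [← haA, ← haB, ← haY, ← hR] at hdegN
  rw [← haA, ← haB, ← haY] at hps
  rw [← htdef] at hte ht ⊢
  have hZ1 : (e : ℤ) ^ 2 = 1 + (aA : ℤ) * (1 + (n : ℤ) * p) + (aB : ℤ) * ((p : ℤ) - 1)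
      + (e : ℤ) * aY + (p : ℤ) * R := by
    have h := congrArg (Nat.cast : ℕ → ℤ) hdegN
    push_cast at h
    rw [hqZ] at h
    linarith
  have hZ2 : (e : ℤ) * ((p : ℤ) - e) = ((p : ℤ) - 1) * (1 + (aA : ℤ) - aB) - (e : ℤ) * aY := by
    have hqC : (q : ℂ) = (p : ℂ) - 1 := by
      have h := congrArg (Int.cast : ℤ → ℂ) hqZ
      push_cast at h
      exact h
    have h' : (e : ℂ) * ((p : ℂ) - e)
        = ((p : ℂ) - 1) * (1 + (aA : ℂ) - (aB : ℂ)) - (e : ℂ) * (aY : ℂ) := by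
      rw [hqC] at hps
      simp only [Nat.cast_one, Int.cast_one] at hps
      linear_combination hps
    exact_mod_cast h'
  have hteZ : (t : ℤ) * (e : ℤ) = (p : ℤ) - 1 := by
    have h := congrArg (Nat.cast : ℕ → ℤ) hte
    push_cast at h
    rw [hqZ] at h
    exact h
  have hfin := helper6_arith_e3 (p : ℤ) (e : ℤ) (n : ℤ) (t : ℤ) (aA : ℤ) (aB : ℤ) (aY : ℤ) (R : ℤ)
    (by exact_mod_cast hp2) (by exact_mod_cast he2) (by exact_mod_cast hn1)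
    (by exact_mod_cast ht) hteZ (Int.natCast_nonneg _) (Int.natCast_nonneg _)
    (Int.natCast_nonneg _) (Int.natCast_nonneg _) hZ1 hZ2
  constructor
  · exact_mod_cast hfin.1
  · exact_mod_cast hfin.2

end Cfsg.Agent.Lib.helper6.Br
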