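import Mathlib

/-!
# The permutation module modulo the all-ones vector

`permModHom B C a u ...` is the monoid homomorphism `σ ↦ B * P_σ * C` from `Equiv.Perm n` to
`d × d` matrices, where `B`, `C` are "coordinates on (even-weight vectors) / (all-ones vector)".
Also: generic lemmas producing a group isomorphism from a comparison of images.
-/

set_option autoImplicit false

namespace Cfsg.Agent.Lib.helper6

open Matrix

section PermMod

variable {n d R : Type*} [Fintype n] [DecidableEq n] [Fintype d] [DecidableEq d] [CommRing R]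

theorem permMatrix_mulVec_one (σ : Equiv.Perm n) :
    σ.permMatrix R *ᵥ (1 : n → R) = 1 := by
  rw [Matrix.permMatrix_mulVec]; rfl

theorem one_vecMul_permMatrix (σ : Equiv.Perm n) :
    (1 : n → R) ᵥ* σ.permMatrix R = 1 := by
  rw [Matrix.vecMul_permMatrix]; rfl

theorem vecMulVec_zero' {m k : Type*} (w : m → R) : vecMulVec w (0 : k → R) = 0 := by
  ext i j; simp [vecMulVec_apply]

/-- `σ ↦ B * P_σ * C` is multiplicative when `B 𝟙 = 0`, `𝟙ᵀ C = 0`, `B C = 1` and
`C B = 1 + 𝟙 aᵀ + u 𝟙ᵀ`. -/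
theorem permMod_mul (B : Matrix d n R) (C : Matrix n d R) (a u : n → R)
    (hB : B *ᵥ 1 = 0) (hC : 1 ᵥ* C = 0)
    (hCB : C * B = 1 + vecMulVec 1 a + vecMulVec u 1) (σ τ : Equiv.Perm n) :
    B * (σ * τ)⁻¹.permMatrix R * C
      = (B * σ⁻¹.permMatrix R * C) * (B * τ⁻¹.permMatrix R * C) := by
  have h1 : B * σ⁻¹.permMatrix R * vecMulVec (1 : n → R) a = 0 := by
    rw [Matrix.mul_assoc, Matrix.mul_vecMulVec, permMatrix_mulVec_one, Matrix.mul_vecMulVec, hB,
      zero_vecMulVec]
  have h2 : vecMulVec u (1 : n → R) * (τ⁻¹.permMatrix R * C) = 0 := by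
    rw [Matrix.vecMulVec_mul, ← Matrix.vecMul_vecMul, one_vecMul_permMatrix, hC, vecMulVec_zero']
  have h3 : (B * σ⁻¹.permMatrix R * C) * (B * τ⁻¹.permMatrix R * C)
      = B * σ⁻¹.permMatrix R * (C * B) * (τ⁻¹.permMatrix R * C) := by
    simp only [Matrix.mul_assoc]
  rw [h3, hCB, Matrix.mul_add, Matrix.mul_add, h1, add_zero, Matrix.mul_one, Matrix.add_mul,
    Matrix.mul_assoc _ (vecMulVec u 1), h2, Matrix.mul_zero, add_zero, _root_.mul_inv_rev,
    Matrix.permMatrix_mul]
  simp only [Matrix.mul_assoc]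

/-- The monoid homomorphism `σ ↦ B * P_σ * C`. -/
def permModHom (B : Matrix d n R) (C : Matrix n d R) (a u : n → R)
    (hB : B *ᵥ 1 = 0) (hC : 1 ᵥ* C = 0) (hBC : B * C = 1)
    (hCB : C * B = 1 + vecMulVec 1 a + vecMulVec u 1) : Equiv.Perm n →* Matrix d d R where
  toFun σ := B * σ⁻¹.permMatrix R * C
  map_one' := by simp [hBC]
  map_mul' σ τ := permMod_mul B C a u hB hC hCB σ τ

theorem permModHom_apply (B : Matrix d n R) (C : Matrix n d R) (a u : n → R)
    (hB : B *ᵥ 1 = 0) (hC : 1 ᵥ* C = 0) (hBC : B * C = 1)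
    (hCB : C * B = 1 + vecMulVec 1 a + vecMulVec u 1) (σ : Equiv.Perm n) :
    permModHom B C a u hB hC hBC hCB σ = B * σ⁻¹.permMatrix R * C := rfl

/-- `(B P_σ C)ᵀ S (B P_σ C) = S` when `S = Cᵀ C` and `𝟙ᵀ 𝟙 = 0`. -/
theorem permMod_form (B : Matrix d n R) (C : Matrix n d R) (a u : n → R)
    (hC : 1 ᵥ* C = 0)
    (hCB : C * B = 1 + vecMulVec 1 a + vecMulVec u 1)
    (h11 : (1 : n → R) ⬝ᵥ 1 = 0) (σ : Equiv.Perm n) :
    (B * σ⁻¹.permMatrix R * C)ᵀ * (Cᵀ * C) * (B * σ⁻¹.permMatrix R * C) = Cᵀ * C := by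
  have hC' : Cᵀ *ᵥ 1 = 0 := by rw [Matrix.mulVec_transpose, hC]
  -- `C * (B * P * C) = P * C + 𝟙 wᵀ`
  obtain ⟨w, hw⟩ : ∃ w : d → R, C * (B * σ⁻¹.permMatrix R * C)
      = σ⁻¹.permMatrix R * C + vecMulVec (1 : n → R) w := by
    refine ⟨a ᵥ* (σ⁻¹.permMatrix R * C), ?_⟩
    have h2 : vecMulVec u (1 : n → R) * (σ⁻¹.permMatrix R * C) = 0 := by
      rw [Matrix.vecMulVec_mul, ← Matrix.vecMul_vecMul, one_vecMul_permMatrix, hC, vecMulVec_zero']
    have : C * (B * σ⁻¹.permMatrix R * C) = (C * B) * (σ⁻¹.permMatrix R * C) := by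
      simp only [Matrix.mul_assoc]
    rw [this, hCB, Matrix.add_mul, Matrix.add_mul, h2, add_zero, Matrix.one_mul,
      Matrix.vecMulVec_mul]
  have key : (B * σ⁻¹.permMatrix R * C)ᵀ * (Cᵀ * C) * (B * σ⁻¹.permMatrix R * C)
      = (C * (B * σ⁻¹.permMatrix R * C))ᵀ * (C * (B * σ⁻¹.permMatrix R * C)) := by
    rw [Matrix.transpose_mul C]
    simp only [Matrix.mul_assoc]
  rw [key, hw, Matrix.transpose_add, Matrix.transpose_mul, Matrix.transpose_vecMulVec,
    Matrix.add_mul, Matrix.mul_add, Matrix.mul_add]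
  have e1 : Cᵀ * (σ⁻¹.permMatrix R)ᵀ * (σ⁻¹.permMatrix R * C) = Cᵀ * C := by
    rw [Matrix.mul_assoc, ← Matrix.mul_assoc _ _ C, Matrix.transpose_permMatrix,
      ← Matrix.permMatrix_mul, mul_inv_cancel, Matrix.permMatrix_one, Matrix.one_mul]
  have e2 : Cᵀ * (σ⁻¹.permMatrix R)ᵀ * vecMulVec (1 : n → R) w = 0 := by
    rw [Matrix.mul_vecMulVec, ← Matrix.mulVec_mulVec, Matrix.transpose_permMatrix,
      permMatrix_mulVec_one, hC', zero_vecMulVec]
  have e3 : vecMulVec w (1 : n → R) * (σ⁻¹.permMatrix R * C) = 0 := by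
    rw [Matrix.vecMulVec_mul, ← Matrix.vecMul_vecMul, one_vecMul_permMatrix, hC, vecMulVec_zero']
  have e4 : vecMulVec w (1 : n → R) * vecMulVec (1 : n → R) w = 0 := by
    rw [Matrix.vecMulVec_mul_vecMulVec, h11, zero_smul, vecMulVec_zero']
  rw [e1, e2, e3, e4]
  simp

end PermMod

section IsoFromImages

/-- An injective homomorphism between finite groups of the same order is an isomorphism. -/
theorem nonempty_mulEquiv_of_injective_of_card {G H : Type*} [Group G] [Group H] [Finite H]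
    (f : G →* H) (hf : Function.Injective f) (hcard : Nat.card H ≤ Nat.card G) :
    Nonempty (G ≃* H) := by
  have : Finite G := Finite.of_injective f hf
  have hbij : Function.Bijective f := by
    rw [Nat.bijective_iff_injective_and_card]
    exact ⟨hf, le_antisymm (Nat.card_le_card_of_injective f hf) hcard⟩
  exact ⟨MulEquiv.ofBijective f hbij⟩

/-- If `ρ : G →* P` is injective, `φ : H →* P`, the image of `ρ` is contained in the image of `φ`
and `|H| ≤ |G|`, then `G ≃* H`. -/
theorem nonempty_mulEquiv_of_range_le {G H P : Type*} [Group G] [Group H] [Group P]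
    [Finite G] [Finite H] (ρ : G →* P) (φ : H →* P) (hρ : Function.Injective ρ)
    (hle : ρ.range ≤ φ.range) (hcard : Nat.card H ≤ Nat.card G) :
    Nonempty (G ≃* H) := by
  classical
  -- `φ` is injective: its range has at least `|G|` elements
  have h1 : Nat.card ρ.range = Nat.card G :=
    Nat.card_congr (Equiv.ofInjective ρ hρ).symm
  have : Finite φ.range := Set.finite_range φ
  have h2 : Nat.card ρ.range ≤ Nat.card φ.range := Subgroup.card_le_of_le hle
  have h3 : Nat.card φ.range ≤ Nat.card H := Nat.card_le_card_of_surjective φ.rangeRestrict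
    φ.rangeRestrict_surjective
  have hφ : Function.Injective φ.rangeRestrict := by
    have : Function.Bijective φ.rangeRestrict := by
      rw [Nat.bijective_iff_surjective_and_card]
      exact ⟨φ.rangeRestrict_surjective, by omega⟩
    exact this.1
  have hφ' : Function.Injective φ := fun x y hxy => hφ (Subtype.ext hxy)
  have heq : ρ.range = φ.range := by
    apply Subgroup.eq_of_le_of_card_ge hle
    omega
  let e1 : G ≃* ρ.range := MonoidHom.ofInjective hρ
  let e2 : H ≃* φ.range := MonoidHom.ofInjective hφ'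
  exact ⟨e1.trans ((MulEquiv.subgroupCongr heq).trans e2.symm)⟩

end IsoFromImages

end Cfsg.Agent.Lib.helper6
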