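import Mathlib
import Cfsg.Agent.Lib.helper16.U34CDefs

/-! Piece C of the S1903 split (helper16): two groups of order 320 generated by pairs satisfying
`Rel` are isomorphic (via the subgroup of the product generated by the pair of generators). -/

set_option autoImplicit false
set_option linter.unusedSectionVars false
set_option linter.unusedVariables false

namespace Cfsg.Agent.Lib.helper16.U34C

open Cfsg
open scoped commutatorElement

universe u v

/-- `Rel` is reflected by injective homomorphisms. -/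
theorem helper6_rel_of_injective {H H' : Type*} [Group H] [Group H'] (f : H →* H')
    (hf : Function.Injective f) (u x : H) (h : Rel (f u) (f x)) : Rel u x := by
  have hca : f (ca u x) = ca (f u) (f x) := by
    simp only [ca, map_commutatorElement, map_mul, map_inv]
  have hcb : f (cb u x) = cb (f u) (f x) := by
    simp only [cb, map_commutatorElement, map_mul, map_inv, map_pow]
  refine ⟨?_, ?_, ?_, ?_, ?_, ?_, ?_, ?_, ?_⟩
  · apply hf; rw [map_pow, map_one]; exact h.x5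
  · apply hf; rw [map_pow, map_mul, map_one]; exact h.ux5
  · apply hf; rw [map_pow, hca, map_one]; exact h.a2
  · apply hf; rw [map_pow, hcb, map_one]; exact h.b2
  · show ca u x * u = u * ca u x
    apply hf; rw [map_mul, map_mul, hca]; exact h.au.eq
  · show ca u x * x = x * ca u x
    apply hf; rw [map_mul, map_mul, hca]; exact h.ax.eq
  · show cb u x * u = u * cb u x
    apply hf; rw [map_mul, map_mul, hcb]; exact h.bu.eq
  · show cb u x * x = x * cb u x
    apply hf; rw [map_mul, map_mul, hcb]; exact h.bx.eq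
  · apply hf; rw [map_pow, map_mul, hca, hcb]; exact h.u2

/-- `Rel` holds componentwise in a product. -/
theorem helper6_rel_prod {G₁ : Type u} {G₂ : Type v} [Group G₁] [Group G₂]
    (u₁ x₁ : G₁) (u₂ x₂ : G₂) (h₁ : Rel u₁ x₁) (h₂ : Rel u₂ x₂) :
    Rel ((u₁, u₂) : G₁ × G₂) (x₁, x₂) := by
  have hca : ca ((u₁, u₂) : G₁ × G₂) (x₁, x₂) = (ca u₁ x₁, ca u₂ x₂) := rfl
  have hcb : cb ((u₁, u₂) : G₁ × G₂) (x₁, x₂) = (cb u₁ x₁, cb u₂ x₂) := rfl
  refine ⟨?_, ?_, ?_, ?_, ?_, ?_, ?_, ?_, ?_⟩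
  · exact Prod.ext h₁.x5 h₂.x5
  · exact Prod.ext h₁.ux5 h₂.ux5
  · rw [hca]; exact Prod.ext h₁.a2 h₂.a2
  · rw [hcb]; exact Prod.ext h₁.b2 h₂.b2
  · rw [hca]
    show (ca u₁ x₁, ca u₂ x₂) * ((u₁, u₂) : G₁ × G₂) = (u₁, u₂) * (ca u₁ x₁, ca u₂ x₂)
    exact Prod.ext h₁.au.eq h₂.au.eq
  · rw [hca]
    show (ca u₁ x₁, ca u₂ x₂) * ((x₁, x₂) : G₁ × G₂) = (x₁, x₂) * (ca u₁ x₁, ca u₂ x₂)
    exact Prod.ext h₁.ax.eq h₂.ax.eq
  · rw [hcb]
    show (cb u₁ x₁, cb u₂ x₂) * ((u₁, u₂) : G₁ × G₂) = (u₁, u₂) * (cb u₁ x₁, cb u₂ x₂)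
    exact Prod.ext h₁.bu.eq h₂.bu.eq
  · rw [hcb]
    show (cb u₁ x₁, cb u₂ x₂) * ((x₁, x₂) : G₁ × G₂) = (x₁, x₂) * (cb u₁ x₁, cb u₂ x₂)
    exact Prod.ext h₁.bx.eq h₂.bx.eq
  · rw [hca, hcb]; exact Prod.ext h₁.u2 h₂.u2

/-- PIECE C (core form: the bound is a hypothesis) -/
theorem iso_of_rel_core {G₁ : Type u} {G₂ : Type v} [Group G₁] [Group G₂]
    (hB : ∀ {H : Type (max u v)} [Group H] (u x : H), Rel u x → Subgroup.closure {u, x} = ⊤ →
      Finite H ∧ Nat.card H ≤ 320)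
    (u₁ x₁ : G₁) (u₂ x₂ : G₂) (h₁ : Rel u₁ x₁) (h₂ : Rel u₂ x₂)
    (g₁ : Subgroup.closure {u₁, x₁} = ⊤) (g₂ : Subgroup.closure {u₂, x₂} = ⊤)
    (c₁ : Nat.card G₁ = 320) (c₂ : Nat.card G₂ = 320) : Nonempty (G₁ ≃* G₂) := by
  classical
  set S : Set (G₁ × G₂) := {(u₁, u₂), (x₁, x₂)} with hS
  set K : Subgroup (G₁ × G₂) := Subgroup.closure S with hK
  have hUm : ((u₁, u₂) : G₁ × G₂) ∈ K := Subgroup.subset_closure (by simp [hS])
  have hXm : ((x₁, x₂) : G₁ × G₂) ∈ K := Subgroup.subset_closure (by simp [hS])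
  set U : ↥K := ⟨(u₁, u₂), hUm⟩ with hU
  set X : ↥K := ⟨(x₁, x₂), hXm⟩ with hX
  have hrel : Rel U X := by
    apply helper6_rel_of_injective K.subtype K.subtype_injective
    exact helper6_rel_prod u₁ x₁ u₂ x₂ h₁ h₂
  have hgen : Subgroup.closure ({U, X} : Set ↥K) = ⊤ := by
    have h := Subgroup.closure_closure_coe_preimage (k := S)
    have hset : ({U, X} : Set ↥K) = ((↑) : ↥(Subgroup.closure S) → G₁ × G₂) ⁻¹' S := by
      ext ⟨p, hp⟩
      simp only [Set.mem_insert_iff, Set.mem_singleton_iff, Set.mem_preimage, hS, hU, hX,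
        Subtype.mk.injEq]
    rw [hset]; exact h
  obtain ⟨hfin, hcard⟩ := hB U X hrel hgen
  -- the two projections
  let φ₁ : ↥K →* G₁ := (MonoidHom.fst G₁ G₂).comp K.subtype
  let φ₂ : ↥K →* G₂ := (MonoidHom.snd G₁ G₂).comp K.subtype
  have hs₁ : Function.Surjective φ₁ := by
    rw [← MonoidHom.range_eq_top, eq_top_iff, ← g₁, Subgroup.closure_le]
    intro g hg
    rcases hg with rfl | rfl
    · exact ⟨U, rfl⟩
    · exact ⟨X, rfl⟩
  have hs₂ : Function.Surjective φ₂ := by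
    rw [← MonoidHom.range_eq_top, eq_top_iff, ← g₂, Subgroup.closure_le]
    intro g hg
    rcases hg with rfl | rfl
    · exact ⟨U, rfl⟩
    · exact ⟨X, rfl⟩
  have hb₁ : Function.Bijective φ₁ :=
    hs₁.bijective_of_nat_card_le (by rw [c₁]; exact hcard)
  have hb₂ : Function.Bijective φ₂ :=
    hs₂.bijective_of_nat_card_le (by rw [c₂]; exact hcard)
  exact ⟨(MulEquiv.ofBijective φ₁ hb₁).symm.trans (MulEquiv.ofBijective φ₂ hb₂)⟩

end Cfsg.Agent.Lib.helper16.U34C
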