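import Mathlib
import Cfsg.Prelude.Def_Characters
import Cfsg.Prelude.Def_Blocks
import Cfsg.Agent.Lib.helper84.BrDefs

/-!
# S0998 piece AE
-/

set_option autoImplicit false

namespace Cfsg.Agent.Lib.helper6.BT

open Cfsg Cfsg.Agent.Lib.helper81 Cfsg.Agent.Lib.helper84.Br
open scoped ComplexConjugate

universe u

theorem helper6_two_pow_ne (k n : ℕ) (hn : 2 ^ k = n) (lo : ℕ) (h1 : 2 ^ lo < n)
    (h2 : n < 2 ^ (lo + 1)) : False := by
  rcases Nat.lt_or_ge lo k with h | h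
  · have : 2 ^ (lo + 1) ≤ 2 ^ k := Nat.pow_le_pow_right (by norm_num) h
    omega
  · have : 2 ^ k ≤ 2 ^ lo := Nat.pow_le_pow_right (by norm_num) h
    omega

/-- AE : consecutive degrees dividing `p 2^b`, `p ∈ {5, 7}`. -/
theorem arith_end (p b u : ℕ) (hp : p = 5 ∨ p = 7) (hu : 2 ≤ u) (h1 : u ∣ 3 * p * 2 ^ b)
    (h2 : u + 1 ∣ 3 * p * 2 ^ b) (h3 : ¬ 3 ∣ u) (h3' : ¬ 3 ∣ u + 1) :
    (p = 5 ∧ u = 4) ∨ (p = 7 ∧ u = 7) := by
  have hpp : p.Prime := by
    rcases hp with rfl | rfl <;> norm_num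
  have hc3 : Nat.Coprime u 3 := by
    rw [Nat.coprime_comm, Nat.Prime.coprime_iff_not_dvd Nat.prime_three]; exact h3
  have hc3' : Nat.Coprime (u + 1) 3 := by
    rw [Nat.coprime_comm, Nat.Prime.coprime_iff_not_dvd Nat.prime_three]; exact h3'
  have e1 : 3 * p * 2 ^ b = 3 * (p * 2 ^ b) := by ring
  rw [e1] at h1 h2
  have hu1 : u ∣ p * 2 ^ b := hc3.dvd_of_dvd_mul_left h1
  have hu2 : u + 1 ∣ p * 2 ^ b := hc3'.dvd_of_dvd_mul_left h2
  have hodd : ∀ x : ℕ, x % 2 = 1 → x ∣ p * 2 ^ b → x = 1 ∨ x = p := by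
    intro x hx hxd
    have hc : Nat.Coprime x (2 ^ b) := by
      apply Nat.Coprime.pow_right
      rw [Nat.coprime_comm, Nat.Prime.coprime_iff_not_dvd Nat.prime_two]; omega
    exact (Nat.dvd_prime hpp).mp (hc.dvd_of_dvd_mul_right hxd)
  rcases Nat.mod_two_eq_zero_or_one u with hev | hod
  · -- u even, u + 1 odd
    have h4 : u + 1 = 1 ∨ u + 1 = p := hodd (u + 1) (by omega) hu2
    have h5 : u + 1 = p := by omega
    -- u = p - 1 divides p * 2^b, coprime to p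
    have hc : Nat.Coprime u p := by
      rw [← h5]; simp
    have h6 : u ∣ 2 ^ b := hc.dvd_of_dvd_mul_left hu1
    obtain ⟨k, hkb, hk⟩ := (Nat.dvd_prime_pow Nat.prime_two).mp h6
    rcases hp with rfl | rfl
    · left; exact ⟨rfl, by omega⟩
    · exfalso
      have hu6 : u = 6 := by omega
      exact helper6_two_pow_ne k 6 (by rw [← hk, hu6]) 2 (by norm_num) (by norm_num)
  · -- u odd
    have h4 : u = 1 ∨ u = p := hodd u hod hu1
    have h5 : u = p := by omega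
    have hc : Nat.Coprime (u + 1) p := by
      rw [← h5]; simp
    have h6 : u + 1 ∣ 2 ^ b := hc.dvd_of_dvd_mul_left hu2
    obtain ⟨k, hkb, hk⟩ := (Nat.dvd_prime_pow Nat.prime_two).mp h6
    rcases hp with rfl | rfl
    · exfalso
      have hu6 : u + 1 = 6 := by omega
      exact helper6_two_pow_ne k 6 (by rw [← hk, hu6]) 2 (by norm_num) (by norm_num)
    · right; exact ⟨rfl, h5⟩

end Cfsg.Agent.Lib.helper6.BT
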