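import Mathlib
import Cfsg.Prelude.Def_Characters
import Cfsg.Prelude.Def_Blocks
import Cfsg.Agent.Lib.helper84.BrDefs
import Cfsg.Agent.Lib.helper6.BrDecomp

/-!
# S0998 piece THSQ
-/

set_option autoImplicit false
set_option linter.unusedSectionVars false

namespace Cfsg.Agent.Lib.helper6.BT

open Cfsg Cfsg.Agent.Lib.helper81 Cfsg.Agent.Lib.helper84.Br Cfsg.Agent.Lib.helper6.Br
open scoped ComplexConjugate

universe u

section pieces

variable {G : Type u} [Group G] [Fintype G]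

variable {p : ℕ} [Fact p.Prime] {P : Sylow p G} {e : ℕ}

/-- The decomposition of a character `Θ` along `{1} ⊔ A ⊔ B ⊔ Y ⊔ Dset` (no degree hypotheses). -/
theorem helper6_decomp2 (hP : Nat.card P = p) (D : Data G p P e) [Fintype (IrrCharacter G)]
    (hY : ∀ θ ∈ D.Y, psum (P : Subgroup G) (θ : G → ℂ) = -(D.ε : ℂ) * (e : ℂ))
    {Θ : G → ℂ} (hΘ : IsCharacter G Θ) :
    ∃ N : IrrCharacter G → ℕ, (∀ ψ : IrrCharacter G, classInner Θ (ψ : G → ℂ) = N ψ) ∧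
      Θ 1 = ((N (trivChar G) + ∑ χ ∈ D.A, N χ * charDegree (χ : G → ℂ)
          + ∑ χ ∈ D.B, N χ * charDegree (χ : G → ℂ)
          + ∑ θ ∈ D.Y, N θ * charDegree (θ : G → ℂ)
          + ∑ d ∈ D.Dset, N d * charDegree (d : G → ℂ) : ℕ) : ℂ) ∧
      psum (P : Subgroup G) Θ = ((p - 1 : ℕ) : ℂ) * ((N (trivChar G) : ℂ)
          + ((∑ χ ∈ D.A, N χ : ℕ) : ℂ) - ((∑ χ ∈ D.B, N χ : ℕ) : ℂ))
          - (D.ε : ℂ) * (e : ℂ) * ((∑ θ ∈ D.Y, N θ : ℕ) : ℂ) := by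
  obtain ⟨x, hx, hx1⟩ := helper6_exists_ne_one (P := P) hP
  have hδ1 := D.δ_triv x hx hx1
  obtain ⟨N, hN1, hN2, hN3⟩ := Cfsg.Agent.Lib.helper82.exists_nat_decomp hΘ
  refine ⟨N, hN1, ?_, ?_⟩
  · rw [hN3, D.sum_split hδ1 (fun ψ => N ψ * charDegree (ψ : G → ℂ)),
      helper6_deg_triv, mul_one]
  · have e1 : ∑ χ ∈ D.A, (N χ : ℂ) * psum (P : Subgroup G) (χ : G → ℂ)
        = ((∑ χ ∈ D.A, N χ : ℕ) : ℂ) * ((p - 1 : ℕ) : ℂ) := by
      rw [Nat.cast_sum, Finset.sum_mul]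
      exact Finset.sum_congr rfl fun χ hχ => by rw [helper6_psum_A hP D χ hχ]
    have e2 : ∑ χ ∈ D.B, (N χ : ℂ) * psum (P : Subgroup G) (χ : G → ℂ)
        = ((∑ χ ∈ D.B, N χ : ℕ) : ℂ) * (-((p - 1 : ℕ) : ℂ)) := by
      rw [Nat.cast_sum, Finset.sum_mul]
      exact Finset.sum_congr rfl fun χ hχ => by rw [helper6_psum_B hP D χ hχ]
    have e3 : ∑ θ ∈ D.Y, (N θ : ℂ) * psum (P : Subgroup G) (θ : G → ℂ)
        = ((∑ θ ∈ D.Y, N θ : ℕ) : ℂ) * (-(D.ε : ℂ) * (e : ℂ)) := by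
      rw [Nat.cast_sum, Finset.sum_mul]
      exact Finset.sum_congr rfl fun θ hθ => by rw [hY θ hθ]
    have e4 : ∑ d ∈ D.Dset, (N d : ℂ) * psum (P : Subgroup G) (d : G → ℂ) = 0 :=
      Finset.sum_eq_zero fun d hd => by rw [helper6_psum_D hP D d hd, mul_zero]
    rw [helper6_psum_decomp _ Θ N hN2,
      D.sum_split hδ1 (fun ψ => (N ψ : ℂ) * psum (P : Subgroup G) (ψ : G → ℂ)),
      e1, e2, e3, e4, helper6_psum_triv hP]
    ring

/-- The arithmetic core of THSQ: the inequality. -/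
theorem helper6_arith_thsq (p e K L M S : ℤ) (hp : 2 ≤ p) (he2 : 2 ≤ e)
    (hK : 0 ≤ K) (hL : 0 ≤ L) (hM : 0 ≤ M)
    (hS : (p + 1) * K ≤ S) (h1 : 1 + S ≤ e ^ 2)
    (h2 : e * (p - e) = (p - 1) * (1 + K - L) - e * M) : p - 1 ≤ 2 * e := by
  have hF1 : e * (p - e) ≤ (p - 1) * (1 + K) := by
    have h41 : 0 ≤ (p - 1) * L := mul_nonneg (by omega) hL
    have h42 : 0 ≤ e * M := mul_nonneg (by omega) hM
    nlinarith
  have hF2 : (p + 1) * K ≤ e ^ 2 - 1 := by linarith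
  have h3 : (e - 1) * p * (p - 2 * e - 1) ≤ 0 := by
    have h5 : (p - 1) * ((p + 1) * K) ≤ (p - 1) * (e ^ 2 - 1) :=
      mul_le_mul_of_nonneg_left hF2 (by omega)
    have h6 : (p + 1) * (e * (p - e)) ≤ (p + 1) * ((p - 1) * (1 + K)) :=
      mul_le_mul_of_nonneg_left hF1 (by omega)
    nlinarith
  by_contra hcon
  have h7 : 1 ≤ p - 2 * e - 1 := by omega
  have h8 : 0 < (e - 1) * p * (p - 2 * e - 1) :=
    mul_pos (mul_pos (by omega) (by omega)) (by omega)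
  linarith

/-- The arithmetic core of THSQ: the equality case. -/
theorem helper6_arith_thsq2 (p e K L M S : ℤ) (hp : 2 ≤ p) (he2 : 2 ≤ e)
    (hK : 0 ≤ K) (hL : 0 ≤ L) (hM : 0 ≤ M)
    (hS : (2 * p + 1) * K ≤ S) (h1 : 1 + S ≤ e ^ 2)
    (h2 : e * (p - e) = (p - 1) * (1 + K - L) - e * M) (heq : p - 1 = 2 * e) : False := by
  have hpe : p = 2 * e + 1 := by linarith
  subst hpe
  have hF1 : e * (2 * e + 1 - e) ≤ (2 * e + 1 - 1) * (1 + K) := by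
    have h41 : 0 ≤ (2 * e + 1 - 1) * L := mul_nonneg (by omega) hL
    have h42 : 0 ≤ e * M := mul_nonneg (by omega) hM
    nlinarith
  have hF1' : e * (e + 1) ≤ e * (2 * (1 + K)) := by
    calc e * (e + 1) = e * (2 * e + 1 - e) := by ring
      _ ≤ (2 * e + 1 - 1) * (1 + K) := hF1
      _ = e * (2 * (1 + K)) := by ring
  have hF1'' : e + 1 ≤ 2 * (1 + K) := le_of_mul_le_mul_left hF1' (by omega)
  have hK1 : 1 ≤ K := by omega
  have hF2 : (2 * (2 * e + 1) + 1) * K ≤ e ^ 2 - 1 := by linarith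
  have h5 : (e - 1) * (e + 1) ≤ (2 * K) * (e + 1) :=
    mul_le_mul_of_nonneg_right (by omega) (by omega)
  have h6 : (2 * (2 * e + 1) + 1) * K ≤ (2 * (e + 1)) * K := by nlinarith
  have h7 := le_of_mul_le_mul_right h6 (by omega : (0 : ℤ) < K)
  omega

/-- THSQ : the decomposition of `θ θ̄` (`ε = 1`, `θ(1) = e`) gives `p - 1 ≤ 2 e`, and in case of
equality a character of degree `p + 1` and sign `+1` in `X`. -/
theorem theta_sq (hP : Nat.card P = p) (D : Data G p P e) (he2 : 2 ≤ e) (hε : D.ε = 1)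
    (hYd : ∀ θ ∈ D.Y, charDegree (θ : G → ℂ) = e)
    (hnl : ∀ χ ∈ D.X, χ ≠ trivChar G → charDegree (χ : G → ℂ) ≠ 1)
    (hY : ∀ θ ∈ D.Y, psum (P : Subgroup G) (θ : G → ℂ) = -(D.ε : ℂ) * (e : ℂ))
    (hY2 : ∀ θ ∈ D.Y, psum (P : Subgroup G) (fun g => (θ : G → ℂ) g * conj ((θ : G → ℂ) g)) =
      (e : ℂ) * ((p : ℂ) - (e : ℂ))) :
    p - 1 ≤ 2 * e ∧
      (p - 1 = 2 * e → ∃ χ ∈ D.X, D.δ χ = 1 ∧ charDegree (χ : G → ℂ) = p + 1) := by
  classical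
  have hp2 : 2 ≤ p := (Fact.out : p.Prime).two_le
  have hcY := D.cardY
  obtain ⟨θ, hθ⟩ : D.Y.Nonempty := by
    apply Finset.card_pos.mp
    by_contra hcon
    have h0 : D.Y.card = 0 := by omega
    rw [h0] at hcY
    omega
  obtain ⟨Θ, hΘdef⟩ : ∃ Θ : G → ℂ, Θ = fun g => (θ : G → ℂ) g * conj ((θ : G → ℂ) g) :=
    ⟨_, rfl⟩
  have hΘc : IsCharacter G Θ := by
    have h := Cfsg.Agent.Lib.helper4.isCharacter_mul (irr_isCharacter θ)
      (Cfsg.Agent.Lib.helper4.isCharacter_conj (irr_isCharacter θ))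
    rw [hΘdef]
    exact h
  obtain ⟨α, hα1, hdeg, hps⟩ := helper6_decomp2 hP D hY hΘc
  have h1 : α (trivChar G) = 1 := by
    have h := hα1 (trivChar G)
    have h2 : classInner Θ (trivChar G : G → ℂ) = classInner (θ : G → ℂ) (θ : G → ℂ) := by
      unfold classInner
      congr 1
      refine Finset.sum_congr rfl fun g _ => ?_
      simp [hΘdef]
    rw [h2, irr_classInner_self] at h
    exact_mod_cast h.symm
  have hΘ1 : Θ 1 = ((e ^ 2 : ℕ) : ℂ) := by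
    rw [hΘdef]
    simp only
    rw [irr_one_eq_charDegree, hYd θ hθ]
    simp [sq]
  have hdegN : e ^ 2 = α (trivChar G) + ∑ χ ∈ D.A, α χ * charDegree (χ : G → ℂ)
      + ∑ χ ∈ D.B, α χ * charDegree (χ : G → ℂ)
      + ∑ θ' ∈ D.Y, α θ' * charDegree (θ' : G → ℂ)
      + ∑ d ∈ D.Dset, α d * charDegree (d : G → ℂ) := by
    rw [hΘ1] at hdeg
    exact_mod_cast hdeg
  have hpsΘ : psum (P : Subgroup G) Θ = (e : ℂ) * ((p : ℂ) - (e : ℂ)) := by
    rw [hΘdef]; exact hY2 θ hθ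
  rw [hpsΘ, h1, hε] at hps
  rw [h1] at hdegN
  have hpZ : (2 : ℤ) ≤ (p : ℤ) := by exact_mod_cast hp2
  have heZ : (2 : ℤ) ≤ (e : ℤ) := by exact_mod_cast he2
  -- degrees of the characters of A
  have hAdeg : ∀ χ ∈ D.A, p + 1 ≤ charDegree (χ : G → ℂ) ∧
      (charDegree (χ : G → ℂ) = p + 1 ∨ 2 * p + 1 ≤ charDegree (χ : G → ℂ)) := by
    intro χ hχ
    rw [D.mem_A] at hχ
    have hm := D.deg_X χ hχ.1
    rw [hχ.2.2] at hm
    have hne := hnl χ hχ.1 hχ.2.1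
    have hdv : (p : ℤ) ∣ (charDegree (χ : G → ℂ) : ℤ) - 1 := Int.modEq_iff_dvd.mp hm.symm
    obtain ⟨k, hk⟩ := hdv
    have hd0 : (0 : ℤ) ≤ (charDegree (χ : G → ℂ) : ℤ) := Int.natCast_nonneg _
    have hk1 : 1 ≤ k := by
      by_contra hcon
      have hk0 : k ≤ 0 := by omega
      rcases eq_or_lt_of_le hk0 with h0 | h0
      · rw [h0, mul_zero] at hk
        apply hne
        have h' : (charDegree (χ : G → ℂ) : ℤ) = 1 := by linarith
        exact_mod_cast h'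
      · have h' : (p : ℤ) * k ≤ (p : ℤ) * (-1) :=
          mul_le_mul_of_nonneg_left (by omega) (by omega)
        linarith
    rcases eq_or_lt_of_le hk1 with h1' | h1'
    · have h' : (charDegree (χ : G → ℂ) : ℤ) = p + 1 := by
        rw [← h1', mul_one] at hk; linarith
      have h'' : charDegree (χ : G → ℂ) = p + 1 := by exact_mod_cast h'
      exact ⟨by omega, Or.inl h''⟩
    · have h0 : (p : ℤ) * 2 ≤ (p : ℤ) * k := mul_le_mul_of_nonneg_left (by omega) (by omega)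
      have h' : (2 * p + 1 : ℤ) ≤ (charDegree (χ : G → ℂ) : ℤ) := by linarith
      have h'' : 2 * p + 1 ≤ charDegree (χ : G → ℂ) := by exact_mod_cast h'
      exact ⟨by omega, Or.inr h''⟩
  obtain ⟨q, hq⟩ : ∃ q : ℕ, q = p - 1 := ⟨_, rfl⟩
  rw [← hq] at hps
  have hqZ : (q : ℤ) = (p : ℤ) - 1 := by omega
  obtain ⟨aA, haA⟩ : ∃ a : ℕ, a = ∑ χ ∈ D.A, α χ := ⟨_, rfl⟩
  obtain ⟨aB, haB⟩ : ∃ a : ℕ, a = ∑ χ ∈ D.B, α χ := ⟨_, rfl⟩
  obtain ⟨aY, haY⟩ : ∃ a : ℕ, a = ∑ θ' ∈ D.Y, α θ' := ⟨_, rfl⟩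
  obtain ⟨S, hSdef⟩ : ∃ a : ℕ, a = ∑ χ ∈ D.A, α χ * charDegree (χ : G → ℂ) := ⟨_, rfl⟩
  rw [← haA, ← haB, ← haY] at hps
  rw [← hSdef] at hdegN
  have hS2 : 1 + S ≤ e ^ 2 := by
    rw [hdegN]
    exact le_trans (le_trans (Nat.le_add_right _ _) (Nat.le_add_right _ _))
      (Nat.le_add_right _ _)
  have hS2Z : 1 + (S : ℤ) ≤ (e : ℤ) ^ 2 := by exact_mod_cast hS2
  have hZ2 : (e : ℤ) * ((p : ℤ) - e) = ((p : ℤ) - 1) * (1 + (aA : ℤ) - aB) - (e : ℤ) * aY := by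
    have hqC : (q : ℂ) = (p : ℂ) - 1 := by
      have h := congrArg (Int.cast : ℤ → ℂ) hqZ
      push_cast at h
      exact h
    have h' : (e : ℂ) * ((p : ℂ) - e)
        = ((p : ℂ) - 1) * (1 + (aA : ℂ) - (aB : ℂ)) - (e : ℂ) * (aY : ℂ) := by
      rw [hqC] at hps
      simp only [Nat.cast_one, Int.cast_one] at hps
      linear_combination hps
    exact_mod_cast h'
  have hS1 : (p + 1) * aA ≤ S := by
    rw [haA, hSdef, Finset.mul_sum]
    refine Finset.sum_le_sum fun χ hχ => ?_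
    rw [mul_comm]
    exact Nat.mul_le_mul_left _ (hAdeg χ hχ).1
  constructor
  · have hS1Z : ((p : ℤ) + 1) * (aA : ℤ) ≤ (S : ℤ) := by exact_mod_cast hS1
    have h := helper6_arith_thsq (p : ℤ) (e : ℤ) (aA : ℤ) (aB : ℤ) (aY : ℤ) (S : ℤ) hpZ heZ
      (Int.natCast_nonneg _) (Int.natCast_nonneg _) (Int.natCast_nonneg _) hS1Z hS2Z hZ2
    omega
  · intro heq
    by_contra hno
    push_neg at hno
    have hS3 : (2 * p + 1) * aA ≤ S := by
      rw [haA, hSdef, Finset.mul_sum]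
      refine Finset.sum_le_sum fun χ hχ => ?_
      rw [mul_comm]
      apply Nat.mul_le_mul_left
      have hχ' := (D.mem_A χ).mp hχ
      rcases (hAdeg χ hχ).2 with h | h
      · exact absurd h (hno χ hχ'.1 hχ'.2.2)
      · exact h
    have hS3Z : (2 * (p : ℤ) + 1) * (aA : ℤ) ≤ (S : ℤ) := by exact_mod_cast hS3
    have heqZ : (p : ℤ) - 1 = 2 * (e : ℤ) := by omega
    exact helper6_arith_thsq2 (p : ℤ) (e : ℤ) (aA : ℤ) (aB : ℤ) (aY : ℤ) (S : ℤ) hpZ heZ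
      (Int.natCast_nonneg _) (Int.natCast_nonneg _) (Int.natCast_nonneg _) hS3Z hS2Z hZ2 heqZ

end pieces

end Cfsg.Agent.Lib.helper6.BT
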