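import Mathlib

/-!
# S3313 (order of a group of Hall–Janko involution pattern): the abstract setting (helper6)

`QK z Q K`: `Q` is a subgroup of order 32 with centre `{1, z}`, all squares and commutators of `Q`
in `{1, z}`, normalised by `K ≅ A₅`, `K ∩ Q = 1`, `K` centralises `z`, and every involution `k` of
`K` has `C_Q(k)` of order 4 and exponent 2.
-/

set_option autoImplicit false

namespace Cfsg.Agent.Lib.helper6.S3313

/-- The abstract `2^{1+4}:A₅` setting used for the count in `C(z)`. -/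
structure QK {G : Type*} [Group G] (z : G) (Q K : Subgroup G) : Prop where
  z_ne : z ≠ 1
  z_sq : z ^ 2 = 1
  z_mem : z ∈ Q
  z_comm : ∀ q ∈ Q, q * z = z * q
  card_Q : Nat.card Q = 32
  sq : ∀ q ∈ Q, q ^ 2 = 1 ∨ q ^ 2 = z
  comm : ∀ q ∈ Q, ∀ q' ∈ Q, q * q' = q' * q ∨ q * q' = q' * q * z
  center : ∀ q ∈ Q, (∀ q' ∈ Q, q * q' = q' * q) → q = 1 ∨ q = z
  K_z : ∀ k ∈ K, k * z = z * k
  K_norm : ∀ k ∈ K, ∀ q ∈ Q, k * q * k⁻¹ ∈ Q
  K_inf : ∀ k ∈ K, k ∈ Q → k = 1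
  K_iso : Nonempty (K ≃* alternatingGroup (Fin 5))
  cent : ∀ k ∈ K, orderOf k = 2 →
    Nat.card {q : G // q ∈ Q ∧ q * k = k * q} = 4 ∧ ∀ q ∈ Q, q * k = k * q → q ^ 2 = 1

end Cfsg.Agent.Lib.helper6.S3313
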