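import Mathlib
import Cfsg.Agent.Lib.helper69.SNDefs

/-!
# S4073 piece E1-B: `sn_sylow2_fusion_noncenter`
-/

set_option autoImplicit false

open Cfsg.Agent.Lib.helper69.SNG

namespace Cfsg.Agent.Lib.helper6.SNG

universe u

/-- `O * S` as a subgroup when `S` normalizes `O`. -/
def h6_prodSub {G : Type u} [Group G] (O S : Subgroup G)
    (hSO : S ≤ Subgroup.normalizer (O : Set G)) : Subgroup G where
  carrier := {x | ∃ o ∈ O, ∃ s ∈ S, x = o * s}
  one_mem' := ⟨1, O.one_mem, 1, S.one_mem, by simp⟩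
  mul_mem' := by
    rintro _ _ ⟨o₁, ho₁, s₁, hs₁, rfl⟩ ⟨o₂, ho₂, s₂, hs₂, rfl⟩
    refine ⟨o₁ * (s₁ * o₂ * s₁⁻¹),
      O.mul_mem ho₁ ((Subgroup.mem_normalizer_iff.mp (hSO hs₁) o₂).mp ho₂), s₁ * s₂,
      S.mul_mem hs₁ hs₂, by group⟩
  inv_mem' := by
    rintro _ ⟨o, ho, s, hs, rfl⟩
    refine ⟨s⁻¹ * o⁻¹ * s⁻¹⁻¹,
      (Subgroup.mem_normalizer_iff.mp (hSO (S.inv_mem hs)) o⁻¹).mp (O.inv_mem ho), s⁻¹,
      S.inv_mem hs, by group⟩

theorem h6_sup_decomp {G : Type u} [Group G] (O S : Subgroup G)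
    (hSO : S ≤ Subgroup.normalizer (O : Set G)) (x : G) (hx : x ∈ O ⊔ S) :
    ∃ o ∈ O, ∃ s ∈ S, x = o * s := by
  have h : O ⊔ S ≤ h6_prodSub O S hSO :=
    sup_le (fun o ho => ⟨o, ho, 1, S.one_mem, by simp⟩)
      (fun s hs => ⟨1, O.one_mem, s, hs, by simp⟩)
  exact h hx

/-- an element of a subgroup of odd order and of a subgroup of 2-power order is trivial -/
theorem h6_odd_two_trivial {G : Type u} [Group G] (O T : Subgroup G) (hO : Odd (Nat.card O))
    (a : ℕ) (hT : Nat.card T = 2 ^ a) (x : G) (hxO : x ∈ O) (hxT : x ∈ T) : x = 1 := by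
  have h1 : orderOf x ∣ Nat.card O := O.orderOf_dvd_natCard hxO
  have h2 : orderOf x ∣ 2 ^ a := hT ▸ T.orderOf_dvd_natCard hxT
  have hcop : Nat.Coprime (Nat.card O) (2 ^ a) :=
    Nat.Coprime.pow_right a (Nat.coprime_two_right.mpr hO)
  exact orderOf_eq_one_iff.mp (Nat.eq_one_of_dvd_coprimes hcop h1 h2)

/-- index two subgroups are normalized -/
theorem h6_le_normalizer_of_card {G : Type u} [Group G] [Finite G] (H K : Subgroup G)
    (hHK : H ≤ K) (hc : 2 * Nat.card H = Nat.card K) :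
    K ≤ Subgroup.normalizer (H : Set G) := by
  have h1 : Nat.card (H.subgroupOf K) = Nat.card H :=
    Nat.card_congr (Subgroup.subgroupOfEquivOfLe hHK).toEquiv
  have h2 := Subgroup.card_mul_index (H.subgroupOf K)
  rw [h1, ← hc] at h2
  have hpos : 0 < Nat.card H := Nat.card_pos
  have h3 : (H.subgroupOf K).index = 2 := by
    have h4 : Nat.card H * (H.subgroupOf K).index = Nat.card H * 2 := by rw [h2]; ring
    exact Nat.eq_of_mul_eq_mul_left hpos h4
  have hn : (H.subgroupOf K).Normal := Subgroup.normal_of_index_eq_two h3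
  exact Subgroup.le_normalizer_of_normal_subgroupOf hHK

/-- **[E1-B]** -/
theorem sn_sylow2_fusion_noncenter {G : Type u} [Group G] [Finite G] [IsSimpleGroup G]
    (hna : ¬ IsMulCommutative G) (h : SN G) (S : Sylow 2 G) (hS : ¬ IsMulCommutative S)
    (hP2N : ∀ (K : Subgroup G), K ≠ ⊤ → ∀ T : Sylow 2 G, (T : Subgroup G) ≤ K →
      ∃ O : Subgroup G, O ≤ K ∧ K ≤ Subgroup.normalizer (O : Set G) ∧ Odd (Nat.card O) ∧
        O ⊔ (T : Subgroup G) = K)
    (z : G) (hzS : z ∈ S) (hz1 : z ≠ 1)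
    (hz : z ∈ Subgroup.centralizer ((S : Subgroup G) : Set G)) (g : G)
    (hgS : g * z * g⁻¹ ∈ S)
    (hM : 2 * Nat.card ↥((S : Subgroup G) ⊓ Subgroup.centralizer ({g * z * g⁻¹} : Set G))
      = Nat.card S) : False := by
  classical
  have hcardS : Nat.card (S : Subgroup G) = 2 ^ (Nat.card G).factorization 2 :=
    S.card_eq_multiplicity
  generalize hz' : g * z * g⁻¹ = z' at hgS hM
  generalize ha : (Nat.card G).factorization 2 = a at hcardS
  -- membership in the centralizer of z'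
  have hLmem : ∀ x : G, x ∈ Subgroup.centralizer ({z'} : Set G) ↔ z' * x = x * z' := by
    intro x
    rw [Subgroup.mem_centralizer_iff]
    constructor
    · intro hx
      exact hx z' (Set.mem_singleton z')
    · intro hx y hy
      rw [Set.mem_singleton_iff] at hy
      rw [hy]
      exact hx
  have hz'L : z' ∈ Subgroup.centralizer ({z'} : Set G) := (hLmem z').mpr rfl
  have hzL : z ∈ Subgroup.centralizer ({z'} : Set G) :=
    (hLmem z).mpr (Subgroup.mem_centralizer_iff.mp hz z' hgS)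
  have hzM : z ∈ (S : Subgroup G) ⊓ Subgroup.centralizer ({z'} : Set G) := ⟨hzS, hzL⟩
  have hz'M : z' ∈ (S : Subgroup G) ⊓ Subgroup.centralizer ({z'} : Set G) := ⟨hgS, hz'L⟩
  -- the conjugate Sylow subgroup lies in the centralizer of z'
  have hS₁card : Nat.card ((S : Subgroup G).map (MulAut.conj g).toMonoidHom) = Nat.card S :=
    Subgroup.card_map_of_injective (MulAut.conj g).injective
  have hS₁L : (S : Subgroup G).map (MulAut.conj g).toMonoidHom
      ≤ Subgroup.centralizer ({z'} : Set G) := by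
    rintro _ ⟨s, hs, rfl⟩
    rw [hLmem]
    show z' * (g * s * g⁻¹) = g * s * g⁻¹ * z'
    have hzs : s * z = z * s := Subgroup.mem_centralizer_iff.mp hz s hs
    rw [← hz']
    calc g * z * g⁻¹ * (g * s * g⁻¹) = g * (z * s) * g⁻¹ := by group
      _ = g * (s * z) * g⁻¹ := by rw [hzs]
      _ = g * s * g⁻¹ * (g * z * g⁻¹) := by group
  have hdvdL : 2 ^ a ∣ Nat.card (Subgroup.centralizer ({z'} : Set G)) := by
    rw [← hcardS, ← hS₁card]
    exact Subgroup.card_dvd_of_le hS₁L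
  -- a Sylow 2-subgroup of the centralizer containing M₁
  have hM₁p : IsPGroup 2 ↥(((S : Subgroup G) ⊓ Subgroup.centralizer ({z'} : Set G)).subgroupOf
      (Subgroup.centralizer ({z'} : Set G))) :=
    (S.isPGroup'.to_le inf_le_left).comap_subtype
  obtain ⟨Q, hQ⟩ := hM₁p.exists_le_sylow
  have hQdvd : 2 ^ a ∣ Nat.card (Q : Subgroup (Subgroup.centralizer ({z'} : Set G))) :=
    Q.pow_dvd_card_of_pow_dvd_card hdvdL
  obtain ⟨S₂, hS₂def⟩ : ∃ S₂ : Subgroup G, S₂ = (Q : Subgroup (Subgroup.centralizer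
      ({z'} : Set G))).map (Subgroup.centralizer ({z'} : Set G)).subtype := ⟨_, rfl⟩
  have hS₂cardQ : Nat.card S₂ = Nat.card (Q : Subgroup (Subgroup.centralizer ({z'} : Set G))) := by
    rw [hS₂def]
    exact Subgroup.card_map_of_injective (Subgroup.subtype_injective _)
  have hS₂L : S₂ ≤ Subgroup.centralizer ({z'} : Set G) := by
    rw [hS₂def]
    exact Subgroup.map_subtype_le _
  have hM₁S₂ : (S : Subgroup G) ⊓ Subgroup.centralizer ({z'} : Set G) ≤ S₂ := by
    intro m hm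
    rw [hS₂def]
    exact ⟨⟨m, hm.2⟩, hQ (Subgroup.mem_subgroupOf.mpr hm), rfl⟩
  have hS₂p : IsPGroup 2 ↥S₂ := by
    rw [hS₂def]
    exact Q.isPGroup'.map _
  have hS₂card : Nat.card S₂ = 2 ^ a := by
    obtain ⟨T, hT⟩ := hS₂p.exists_le_sylow
    have h1 : Nat.card S₂ ∣ Nat.card (T : Subgroup G) := Subgroup.card_dvd_of_le hT
    have h2 : Nat.card (T : Subgroup G) = 2 ^ a := by
      rw [T.card_eq_multiplicity, ha]
    rw [h2] at h1
    rw [← hS₂cardQ] at hQdvd
    exact Nat.dvd_antisymm h1 hQdvd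
  -- both S and S₂ normalize M₁
  have hSN : (S : Subgroup G) ≤ Subgroup.normalizer
      (((S : Subgroup G) ⊓ Subgroup.centralizer ({z'} : Set G) : Subgroup G) : Set G) :=
    h6_le_normalizer_of_card _ _ inf_le_left hM
  have hS₂N : S₂ ≤ Subgroup.normalizer
      (((S : Subgroup G) ⊓ Subgroup.centralizer ({z'} : Set G) : Subgroup G) : Set G) :=
    h6_le_normalizer_of_card _ _ hM₁S₂ (by rw [hM, hcardS, hS₂card])
  -- the normalizer is proper
  have hNtop : Subgroup.normalizer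
      (((S : Subgroup G) ⊓ Subgroup.centralizer ({z'} : Set G) : Subgroup G) : Set G) ≠ ⊤ := by
    intro htop
    have hnorm : ((S : Subgroup G) ⊓ Subgroup.centralizer ({z'} : Set G)).Normal :=
      Subgroup.normalizer_eq_top_iff.mp htop
    rcases hnorm.eq_bot_or_eq_top with hb | ht
    · rw [hb, Subgroup.mem_bot] at hzM
      exact hz1 hzM
    · rw [ht, Subgroup.card_top] at hM
      have h1 : Nat.card (S : Subgroup G) ≤ Nat.card G := Subgroup.card_le_card_group _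
      have h2 : 0 < Nat.card G := Nat.card_pos
      omega
  obtain ⟨O, hON, hNO, hOodd, hOS⟩ := hP2N _ hNtop S hSN
  -- O centralizes M₁
  have hOM : ∀ o ∈ O, ∀ m ∈ (S : Subgroup G) ⊓ Subgroup.centralizer ({z'} : Set G),
      o * m = m * o := by
    intro o ho m hm
    have hc1 : o * m * o⁻¹ * m⁻¹ ∈ (S : Subgroup G) ⊓ Subgroup.centralizer ({z'} : Set G) :=
      Subgroup.mul_mem _ ((Subgroup.mem_normalizer_iff.mp (hON ho) m).mp hm)
        (Subgroup.inv_mem _ hm)
    have hc2 : o * m * o⁻¹ * m⁻¹ ∈ O := by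
      have h1 : m * o⁻¹ * m⁻¹ ∈ O :=
        (Subgroup.mem_normalizer_iff.mp (hNO (hSN hm.1)) o⁻¹).mp (O.inv_mem ho)
      have h2 : o * m * o⁻¹ * m⁻¹ = o * (m * o⁻¹ * m⁻¹) := by group
      rw [h2]
      exact O.mul_mem ho h1
    have hc3 := h6_odd_two_trivial O (S : Subgroup G) hOodd a hcardS _ hc2 hc1.1
    calc o * m = (o * m * o⁻¹ * m⁻¹) * (m * o) := by group
      _ = m * o := by rw [hc3, one_mul]
  have hOL : O ≤ Subgroup.centralizer ({z'} : Set G) := by
    intro o ho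
    rw [hLmem]
    exact (hOM o ho z' hz'M).symm
  -- every element of S₂ is o * m with m ∈ M₁
  have key : ∀ t : ↥S₂, ∃ m : ↥((S : Subgroup G) ⊓ Subgroup.centralizer ({z'} : Set G)),
      ∃ o ∈ O, (t : G) = o * (m : G) := by
    intro t
    have htN : (t : G) ∈ O ⊔ (S : Subgroup G) := by
      rw [hOS]
      exact hS₂N t.2
    obtain ⟨o, ho, s, hs, hts⟩ := h6_sup_decomp O (S : Subgroup G) (hSN.trans hNO) _ htN
    have hsL : s ∈ Subgroup.centralizer ({z'} : Set G) := by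
      have h1 : s = o⁻¹ * (t : G) := by rw [hts]; group
      rw [h1]
      exact Subgroup.mul_mem _ (Subgroup.inv_mem _ (hOL ho)) (hS₂L t.2)
    exact ⟨⟨s, hs, hsL⟩, o, ho, hts⟩
  choose f hf using key
  have hinj : Function.Injective f := by
    intro t₁ t₂ h12
    obtain ⟨o₁, ho₁, e₁⟩ := hf t₁
    obtain ⟨o₂, ho₂, e₂⟩ := hf t₂
    have h1 : (t₁ : G) * (t₂ : G)⁻¹ = o₁ * o₂⁻¹ := by
      rw [e₁, e₂, h12]
      group
    have h2 : (t₁ : G) * (t₂ : G)⁻¹ ∈ O := by
      rw [h1]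
      exact O.mul_mem ho₁ (O.inv_mem ho₂)
    have h3 : (t₁ : G) * (t₂ : G)⁻¹ ∈ S₂ := S₂.mul_mem t₁.2 (S₂.inv_mem t₂.2)
    have h4 := h6_odd_two_trivial O S₂ hOodd a hS₂card _ h2 h3
    exact Subtype.ext (mul_inv_eq_one.mp h4)
  have hle : Nat.card ↥S₂ ≤ Nat.card ↥((S : Subgroup G) ⊓ Subgroup.centralizer ({z'} : Set G)) :=
    Nat.card_le_card_of_injective f hinj
  have hpos : 0 < Nat.card ↥((S : Subgroup G) ⊓ Subgroup.centralizer ({z'} : Set G)) :=
    Nat.card_pos
  rw [hS₂card, ← hcardS, ← hM] at hle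
  omega

end Cfsg.Agent.Lib.helper6.SNG
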