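import Mathlib
import Cfsg.Agent.Lib.helper24.SfoDefs

/-! Piece QBIL of the S5981 split (helper24): basic facts about a nondegenerate quadratic form
and its polar form. -/

set_option autoImplicit false

namespace Cfsg.Agent.Lib.helper24

open Module Matrix Cfsg.Geo

/-- QBIL -/
theorem sfo_basic {F : Type*} [Field F] {n : ℕ} (h2 : (2 : F) ≠ 0) (Q : (Fin n → F) → F)
    (hQ : IsNondegenerateQuadraticForm Q) :
    (∀ u v, QuadraticMap.polar Q u v = QuadraticMap.polar Q v u) ∧
    (∀ u v, Q (u + v) = Q u + Q v + QuadraticMap.polar Q u v) ∧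
    (∀ v, QuadraticMap.polar Q v v = 2 * Q v) ∧ Q 0 = 0 ∧
    (∀ (g : Matrix (Fin n) (Fin n) F) (c : F), (∀ v, Q (g *ᵥ v) = c * Q v) →
      ∀ u v, QuadraticMap.polar Q (g *ᵥ u) (g *ᵥ v) = c * QuadraticMap.polar Q u v) := by
  refine ⟨?_, ?_, ?_, ?_, ?_⟩
  · intro u v
    unfold QuadraticMap.polar
    rw [add_comm u v]
    ring
  · intro u v
    unfold QuadraticMap.polar
    ring
  · intro v
    unfold QuadraticMap.polar
    have h : v + v = (2 : F) • v := (two_smul F v).symm
    rw [h, hQ.smul]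
    ring
  · have h := hQ.smul 0 (0 : Fin n → F)
    rw [zero_smul] at h
    rw [h]
    ring
  · intro g c hg u v
    unfold QuadraticMap.polar
    rw [← Matrix.mulVec_add, hg, hg, hg]
    ring

end Cfsg.Agent.Lib.helper24
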