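import Mathlib

set_option autoImplicit false

namespace Cfsg.Agent.Lib.helper6.S3875

/-- PIECE E1. Class size of a nonidentity element of a Sylow subgroup of order `p`. -/
theorem class_size {H : Type*} [Group H] [Finite H] (p : ℕ) [Fact p.Prime] (P : Sylow p H)
    (hP : Nat.card P = p) (x : H) (hx : x ∈ (P : Subgroup H)) (hx1 : x ≠ 1) :
    (Subgroup.centralizer ({x} : Set H)).index =
        (Subgroup.centralizer ((P : Subgroup H) : Set H)).relIndex
          (Subgroup.normalizer ((P : Subgroup H) : Set H)) * Nat.card (Sylow p H) ∧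
      p ∣ Nat.card (Subgroup.centralizer ({x} : Set H)) := by
  have hpp : p.Prime := Fact.out
  -- orderOf x = p
  have hord : orderOf x = p := by
    have h1 : orderOf (⟨x, hx⟩ : (P : Subgroup H)) ∣ p := by
      have := orderOf_dvd_natCard (⟨x, hx⟩ : (P : Subgroup H))
      rwa [hP] at this
    rw [Subgroup.orderOf_mk] at h1
    rcases (Nat.dvd_prime hpp).mp h1 with h | h
    · exact absurd (orderOf_eq_one_iff.mp h) hx1
    · exact h
  -- zpowers x = P
  have hz : Subgroup.zpowers x = (P : Subgroup H) := by
    refine Subgroup.eq_of_le_of_card_ge ((Subgroup.zpowers_le).mpr hx) ?_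
    rw [Nat.card_zpowers, hord]
    exact hP.le
  -- centralizers agree
  have hcent : Subgroup.centralizer ({x} : Set H)
      = Subgroup.centralizer ((P : Subgroup H) : Set H) := by
    ext g
    rw [Subgroup.mem_centralizer_iff, Subgroup.mem_centralizer_iff]
    constructor
    · intro hg y hy
      have hy' : y ∈ Subgroup.zpowers x := by rw [hz]; exact hy
      obtain ⟨k, rfl⟩ := Subgroup.mem_zpowers_iff.mp hy'
      have hc : Commute x g := hg x (Set.mem_singleton x)
      exact (hc.zpow_left k).eq
    · intro hg y hy
      rw [Set.mem_singleton_iff] at hy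
      rw [hy]
      exact hg x hx
  constructor
  · rw [hcent, ← Subgroup.relIndex_mul_index
      (Subgroup.centralizer_le_normalizer ((P : Subgroup H) : Set H)),
      Sylow.card_eq_index_normalizer P]
    rfl
  · have hxc : x ∈ Subgroup.centralizer ({x} : Set H) := by
      rw [Subgroup.mem_centralizer_iff]
      intro y hy
      rw [Set.mem_singleton_iff] at hy
      rw [hy]
    have := orderOf_dvd_natCard (⟨x, hxc⟩ : Subgroup.centralizer ({x} : Set H))
    rwa [Subgroup.orderOf_mk, hord] at this

end Cfsg.Agent.Lib.helper6.S3875
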