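import Mathlib

set_option autoImplicit false

namespace Cfsg.Agent.Lib.helper6.S3875

/-- PIECE E5 (arithmetic of a sign `-1` character). -/
theorem arith_minus (p e N d : ℕ) (hp : p.Prime) (he2 : 2 ≤ e) (hep : 2 * e ≤ p - 1)
    (hN : N % p = 1) (hd : (d : ℤ) ≡ -1 [ZMOD p]) (hdvd : d ∣ e * N) :
    (p - 1) * (p + 1) ≤ 2 * (e * N) := by
  obtain ⟨m, hm⟩ := hdvd
  have hp2 : 2 ≤ p := hp.two_le
  obtain ⟨n, hNdiv⟩ : ∃ n, p * n + 1 = N := by
    refine ⟨N / p, ?_⟩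
    have := Nat.div_add_mod N p
    rw [hN] at this
    exact this
  have hNpos : 0 < N := by omega
  have hdm : 0 < d * m := by
    rw [← hm]
    exact Nat.mul_pos (by omega) hNpos
  have hdpos : 0 < d := Nat.pos_of_mul_pos_right hdm
  have hmpos : 0 < m := Nat.pos_of_mul_pos_left hdm
  -- p ∣ d + 1
  have h1 : (p : ℤ) ∣ (d : ℤ) + 1 := by
    have := Int.modEq_iff_dvd.mp hd.symm
    simpa using this
  obtain ⟨t, ht⟩ := h1
  have hdp : p ≤ d + 1 := by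
    have h2 : (p : ℤ) ∣ ((d + 1 : ℕ) : ℤ) := ⟨t, by push_cast; exact ht⟩
    exact Nat.le_of_dvd (by omega) (Int.natCast_dvd_natCast.mp h2)
  -- p ∣ m + e
  have h3 : (p : ℤ) ∣ ((m + e : ℕ) : ℤ) := by
    refine ⟨t * m - e * n, ?_⟩
    have hmz : (e : ℤ) * N = d * m := by exact_mod_cast hm
    have hNz : (p : ℤ) * n + 1 = N := by exact_mod_cast hNdiv
    push_cast
    linear_combination (1 : ℤ) * hmz + (m : ℤ) * ht + (e : ℤ) * hNz
  have hme : p ≤ m + e := Nat.le_of_dvd (by omega) (Int.natCast_dvd_natCast.mp h3)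
  obtain ⟨q, rfl⟩ : ∃ q, p = q + 1 := ⟨p - 1, by omega⟩
  have hq : q + 1 - 1 = q := by omega
  rw [hq] at hep ⊢
  calc q * (q + 1 + 1) ≤ d * (2 * m) := Nat.mul_le_mul (by omega) (by omega)
    _ = 2 * (e * N) := by rw [hm]; ring

end Cfsg.Agent.Lib.helper6.S3875
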