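import Mathlib

set_option autoImplicit false

namespace Cfsg.Agent.Lib.helper6.S3875

/-- PIECE E6 (arithmetic of a sign `+1` character). -/
theorem arith_plus (p e N d : ℕ) (hp : p.Prime) (he2 : 2 ≤ e) (hep : 2 * e ≤ p - 1)
    (hN : N % p = 1) (hd1 : 1 < d) (hd : (d : ℤ) ≡ 1 [ZMOD p]) (hdvd : d ∣ e * N) :
    d = N ∨ (p - 1) * (p + 1) ≤ 2 * (e * N) := by
  obtain ⟨m, hm⟩ := hdvd
  have hp2 : 2 ≤ p := hp.two_le
  obtain ⟨n, hNdiv⟩ : ∃ n, p * n + 1 = N := by
    refine ⟨N / p, ?_⟩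
    have := Nat.div_add_mod N p
    rw [hN] at this
    exact this
  have hNpos : 0 < N := by omega
  have hdm : 0 < d * m := by
    rw [← hm]
    exact Nat.mul_pos (by omega) hNpos
  have hmpos : 0 < m := Nat.pos_of_mul_pos_left hdm
  -- p ∣ d - 1
  have h1 : (p : ℤ) ∣ (d : ℤ) - 1 := Int.modEq_iff_dvd.mp hd.symm
  obtain ⟨t, ht⟩ := h1
  have hdp : p + 1 ≤ d := by
    have h2 : (p : ℤ) ∣ ((d - 1 : ℕ) : ℤ) := ⟨t, by push_cast [Nat.cast_sub (by omega : 1 ≤ d)]; exact ht⟩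
    have := Nat.le_of_dvd (by omega) (Int.natCast_dvd_natCast.mp h2)
    omega
  -- p ∣ m - e
  have hmz : (e : ℤ) * N = d * m := by exact_mod_cast hm
  have hNz : (p : ℤ) * n + 1 = N := by exact_mod_cast hNdiv
  have h3 : (m : ℤ) - e = p * (e * n - t * m) := by
    linear_combination (-1 : ℤ) * hmz - (m : ℤ) * ht - (e : ℤ) * hNz
  have hpz : (0 : ℤ) < p := by exact_mod_cast hp.pos
  rcases lt_trichotomy ((e : ℤ) * n - t * m) 0 with hk | hk | hk
  · exfalso
    have h4 : (m : ℤ) - e ≤ -p := by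
      rw [h3]; nlinarith
    have h5 : (p : ℤ) + m ≤ e := by linarith
    have h6 : p + m ≤ e := by exact_mod_cast h5
    omega
  · left
    rw [hk, mul_zero] at h3
    have h7 : m = e := by
      have : (m : ℤ) = e := by linarith
      exact_mod_cast this
    rw [h7, mul_comm d e] at hm
    exact (Nat.eq_of_mul_eq_mul_left (by omega : 0 < e) hm).symm
  · right
    have h4 : (p : ℤ) ≤ (m : ℤ) - e := by
      rw [h3]; nlinarith
    have h5 : (p : ℤ) + e ≤ m := by linarith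
    have h6 : p + e ≤ m := by exact_mod_cast h5
    obtain ⟨q, rfl⟩ : ∃ q, p = q + 1 := ⟨p - 1, by omega⟩
    have hq : q + 1 - 1 = q := by omega
    rw [hq]
    calc q * (q + 1 + 1) ≤ d * (2 * m) := Nat.mul_le_mul (by omega) (by omega)
      _ = 2 * (e * N) := by rw [hm]; ring

end Cfsg.Agent.Lib.helper6.S3875
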