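import Mathlib

set_option autoImplicit false

namespace Cfsg.Agent.Lib.helper6.S3875

/-- PIECE E7 (arithmetic of the exceptional degree). -/
theorem arith_exc (p e N c f : ℕ) (hp : p.Prime) (he2 : 2 ≤ e) (hep : e ≤ p - 1)
    (hN : N % p = 1) (hN1 : 1 < N) (hc0 : 0 < c) (hc : p ∣ c) (hf : f = 1 + (e - 1) * N)
    (hdvd : f ∣ c * (e * N)) : p * (p ^ 2 - 1) / 2 ≤ c * (e * N) := by
  have hp2 : 2 ≤ p := hp.two_le
  have hNdiv : p * (N / p) + 1 = N := by
    have := Nat.div_add_mod N p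
    rw [hN] at this
    exact this
  have hNp : p + 1 ≤ N := by
    have hpos : 0 < N / p := by
      rcases Nat.eq_zero_or_pos (N / p) with h0 | h0
      · rw [h0] at hNdiv; omega
      · exact h0
    have : p * 1 ≤ p * (N / p) := Nat.mul_le_mul_left p hpos
    omega
  -- f coprime to N
  have hfN : Nat.Coprime f N := by
    rw [hf]
    exact (Nat.coprime_add_mul_right_left 1 N (e - 1)).mpr (Nat.coprime_one_left N)
  -- f coprime to p
  have hfp : Nat.Coprime f p := by
    rw [Nat.coprime_comm]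
    refine (Nat.Prime.coprime_iff_not_dvd hp).mpr ?_
    intro hpf
    have hfe : f = e + p * ((e - 1) * (N / p)) := by
      rw [hf]
      obtain ⟨e', rfl⟩ : ∃ e', e = e' + 1 := ⟨e - 1, by omega⟩
      have h0 : e' + 1 - 1 = e' := by omega
      rw [h0]
      calc 1 + e' * N = 1 + e' * (p * (N / p) + 1) := by rw [hNdiv]
        _ = e' + 1 + p * (e' * (N / p)) := by ring
    rw [hfe] at hpf
    have hpe : p ∣ e := (Nat.dvd_add_left (dvd_mul_right p _)).mp hpf
    have := Nat.le_of_dvd (by omega) hpe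
    omega
  obtain ⟨c', rfl⟩ := hc
  have hc'pos : 0 < c' := Nat.pos_of_mul_pos_left hc0
  have h1 : f ∣ (p * c' * e) * N := by
    have : p * c' * (e * N) = (p * c' * e) * N := by ring
    rw [← this]; exact hdvd
  have h2 : f ∣ p * (c' * e) := by
    have := Nat.Coprime.dvd_of_dvd_mul_right hfN h1
    rwa [mul_assoc] at this
  have h3 : f ∣ c' * e := Nat.Coprime.dvd_of_dvd_mul_left hfp h2
  have h4 : f ≤ c' * e := Nat.le_of_dvd (Nat.mul_pos hc'pos (by omega)) h3
  have h5 : p + 2 ≤ f := by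
    rw [hf]
    have : 1 * N ≤ (e - 1) * N := Nat.mul_le_mul_right N (by omega)
    omega
  calc p * (p ^ 2 - 1) / 2 ≤ p * (p ^ 2 - 1) := Nat.div_le_self _ _
    _ ≤ p * ((p + 2) * (p + 1)) := by
        refine Nat.mul_le_mul_left p ?_
        have : p ^ 2 ≤ (p + 2) * (p + 1) := by nlinarith
        omega
    _ ≤ p * (f * N) := Nat.mul_le_mul_left p (Nat.mul_le_mul h5 hNp)
    _ ≤ p * ((c' * e) * N) := Nat.mul_le_mul_left p (Nat.mul_le_mul_right N h4)
    _ = p * c' * (e * N) := by ring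

end Cfsg.Agent.Lib.helper6.S3875
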