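import Mathlib
import Cfsg.Agent.Lib.helper24.S6eDefs

/-!
# S6002 piece ATR (`s6_trace_zero`), helper6
-/

set_option autoImplicit false

namespace Cfsg.Agent.Lib.helper24

open Matrix Cfsg Cfsg.Geo

theorem helper6_mse {n F : Type*} [Fintype n] [DecidableEq n] [Field F] (M N : Matrix n n F)
    (j k i l : n) : (M * Matrix.single j k (1 : F) * N) i l = M i j * N k l := by
  rw [Matrix.mul_apply]
  rw [Finset.sum_eq_single k]
  · rw [Matrix.mul_single_apply_same, mul_one]
  · intro b _ hb
    rw [Matrix.mul_single_apply_of_ne (hbj := hb), zero_mul]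
  · intro h
    exact absurd (Finset.mem_univ k) h

/-- abstract form: a finite group `G` of invertible matrices, `z` with matrix `-1`, Schur relation -/
theorem helper6_trace_zero_abs {F : Type*} [Field F] (h2 : (2 : F) ≠ 0)
    {G : Type*} [Group G] [Fintype G] [DecidableEq G] (m : G →* GL S6I F)
    (hcard : Fintype.card G = 32) (z : G) (hz : (m z : Matrix S6I S6I F) = -1)
    (hinj : Function.Injective m)
    (havg : ∀ A : Matrix S6I S6I F, ∑ s : G, (m s : Matrix S6I S6I F) * A *
      ((m s)⁻¹ : GL S6I F) = (8 * Matrix.trace A) • (1 : Matrix S6I S6I F))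
    (g : G) (hg1 : (m g : Matrix S6I S6I F) ≠ 1) (hg2 : (m g : Matrix S6I S6I F) ≠ -1) :
    Matrix.trace (((m g)⁻¹ : GL S6I F) : Matrix S6I S6I F) = 0 := by
  classical
  have h8 : (8 : F) ≠ 0 := by
    have h : (8 : F) = 2 * 2 * 2 := by norm_num
    rw [h]
    exact mul_ne_zero (mul_ne_zero h2 h2) h2
  -- entries
  have key : ∀ i j k l : S6I, ∑ s : G, (m s : Matrix S6I S6I F) i j *
      (((m s)⁻¹ : GL S6I F) : Matrix S6I S6I F) k l =
      if j = k then (if i = l then 8 else 0) else 0 := by
    intro i j k l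
    have h := congrFun (congrFun (havg (Matrix.single j k (1 : F))) i) l
    rw [Matrix.sum_apply] at h
    simp only [helper6_mse] at h
    rw [h, Matrix.smul_apply, Matrix.one_apply]
    by_cases hjk : j = k
    · subst hjk
      rw [Matrix.trace_single_eq_same, if_pos rfl]
      by_cases hil : i = l
      · simp [hil]
      · simp [hil]
    · rw [Matrix.trace_single_eq_of_ne (h := hjk), if_neg hjk]
      simp
  -- Fourier inversion
  have hfou : ∀ A : Matrix S6I S6I F, ∑ s : G,
      Matrix.trace (A * (((m s)⁻¹ : GL S6I F) : Matrix S6I S6I F)) • (m s : Matrix S6I S6I F) =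
      (8 : F) • A := by
    intro A
    ext i j
    rw [Matrix.sum_apply]
    simp only [Matrix.smul_apply, Matrix.trace, Matrix.diag_apply, Matrix.mul_apply, smul_eq_mul,
      Finset.sum_mul]
    rw [Finset.sum_comm]
    have h1 : ∀ l : S6I, ∑ s : G, ∑ k : S6I, A l k *
        (((m s)⁻¹ : GL S6I F) : Matrix S6I S6I F) k l * (m s : Matrix S6I S6I F) i j =
        if i = l then 8 * A l j else 0 := by
      intro l
      rw [Finset.sum_comm]
      have h2' : ∀ k : S6I, ∑ s : G, A l k *
          (((m s)⁻¹ : GL S6I F) : Matrix S6I S6I F) k l * (m s : Matrix S6I S6I F) i j =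
          A l k * (if j = k then (if i = l then 8 else 0) else 0) := by
        intro k
        rw [← key i j k l, Finset.mul_sum]
        apply Finset.sum_congr rfl
        intro s _
        ring
      rw [Finset.sum_congr rfl (fun k _ => h2' k)]
      by_cases hil : i = l
      · simp [hil, mul_comm]
      · simp [hil]
    rw [Finset.sum_congr rfl (fun l _ => h1 l)]
    simp
  -- the linear map `c ↦ ∑ c s • s`
  have hΦ : ∀ c : G → F, Fintype.linearCombination F (fun s : G => (m s : Matrix S6I S6I F)) c =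
      ∑ s : G, c s • (m s : Matrix S6I S6I F) :=
    fun c => Fintype.linearCombination_apply F _ c
  have hsurj : LinearMap.range
      (Fintype.linearCombination F (fun s : G => (m s : Matrix S6I S6I F))) = ⊤ := by
    rw [LinearMap.range_eq_top]
    intro A
    refine ⟨fun s => (8 : F)⁻¹ *
      Matrix.trace (A * (((m s)⁻¹ : GL S6I F) : Matrix S6I S6I F)), ?_⟩
    rw [hΦ]
    simp only [mul_smul]
    rw [← Finset.smul_sum, hfou A, smul_smul, inv_mul_cancel₀ h8, one_smul]
  have hmat : Module.finrank F (Matrix S6I S6I F) = 16 := by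
    rw [Module.finrank_matrix]
    simp
  have hker : Module.finrank F (LinearMap.ker
      (Fintype.linearCombination F (fun s : G => (m s : Matrix S6I S6I F)))) = 16 := by
    have h1 := LinearMap.finrank_range_add_finrank_ker
      (Fintype.linearCombination F (fun s : G => (m s : Matrix S6I S6I F)))
    rw [hsurj, finrank_top, hmat, Module.finrank_fintype_fun_eq_card, hcard] at h1
    omega
  -- `z`
  have hzz : z * z = 1 := by
    apply hinj
    apply Units.ext
    rw [map_mul, Units.val_mul, hz, map_one, Units.val_one]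
    simp
  have hz1 : z ≠ 1 := by
    intro h
    have h3 := hz
    rw [h, map_one, Units.val_one] at h3
    have h4 := congrFun (congrFun h3 (Sum.inl 0)) (Sum.inl 0)
    simp at h4
    apply h2
    linear_combination h4
  have hoz : orderOf z = 2 := orderOf_eq_prime (by rw [pow_two]; exact hzz) hz1
  have hHcard : Nat.card (Subgroup.zpowers z) = 2 := by rw [Nat.card_zpowers, hoz]
  haveI : Fintype (G ⧸ Subgroup.zpowers z) := Fintype.ofFinite _
  have hQcard : Fintype.card (G ⧸ Subgroup.zpowers z) = 16 := by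
    have h1 := Subgroup.card_eq_card_quotient_mul_card_subgroup (Subgroup.zpowers z)
    rw [hHcard, Nat.card_eq_fintype_card, Nat.card_eq_fintype_card, hcard] at h1
    omega
  have hιinj : Function.Injective (LinearMap.funLeft F F
      (QuotientGroup.mk : G → G ⧸ Subgroup.zpowers z)) :=
    LinearMap.funLeft_injective_of_surjective F F _ QuotientGroup.mk_surjective
  have hιrank : Module.finrank F (LinearMap.range (LinearMap.funLeft F F
      (QuotientGroup.mk : G → G ⧸ Subgroup.zpowers z))) = 16 := by
    rw [LinearMap.finrank_range_of_inj hιinj, Module.finrank_fintype_fun_eq_card, hQcard]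
  have hmulz : ∀ s : G, (m (s * z) : Matrix S6I S6I F) = -(m s : Matrix S6I S6I F) := by
    intro s
    rw [map_mul, Units.val_mul, hz, mul_neg, mul_one]
  have hιle : LinearMap.range (LinearMap.funLeft F F
      (QuotientGroup.mk : G → G ⧸ Subgroup.zpowers z)) ≤ LinearMap.ker
      (Fintype.linearCombination F (fun s : G => (m s : Matrix S6I S6I F))) := by
    rintro _ ⟨f, rfl⟩
    rw [LinearMap.mem_ker, hΦ]
    have hS : ∑ s : G, (LinearMap.funLeft F F
          (QuotientGroup.mk : G → G ⧸ Subgroup.zpowers z) f) s • (m s : Matrix S6I S6I F) =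
        -∑ s : G, (LinearMap.funLeft F F
          (QuotientGroup.mk : G → G ⧸ Subgroup.zpowers z) f) s • (m s : Matrix S6I S6I F) := by
      conv_lhs => rw [← Equiv.sum_comp (Equiv.mulRight z)]
      rw [← Finset.sum_neg_distrib]
      apply Finset.sum_congr rfl
      intro s _
      have h1 : (LinearMap.funLeft F F
          (QuotientGroup.mk : G → G ⧸ Subgroup.zpowers z) f) (s * z) =
          (LinearMap.funLeft F F (QuotientGroup.mk : G → G ⧸ Subgroup.zpowers z) f) s := by
        show f (QuotientGroup.mk (s * z)) = f (QuotientGroup.mk s)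
        rw [QuotientGroup.mk_mul_of_mem s (Subgroup.mem_zpowers z)]
      rw [Equiv.coe_mulRight, h1, hmulz, smul_neg]
    have h3 : (2 : F) • ∑ s : G, (LinearMap.funLeft F F
          (QuotientGroup.mk : G → G ⧸ Subgroup.zpowers z) f) s • (m s : Matrix S6I S6I F) = 0 := by
      rw [two_smul]
      nth_rewrite 2 [hS]
      rw [add_neg_cancel]
    exact (smul_eq_zero.mp h3).resolve_left h2
  have hιeq := Submodule.eq_of_le_of_finrank_eq hιle (by rw [hιrank, hker])
  -- the two coefficient functions
  have hΦc : Fintype.linearCombination F (fun s : G => (m s : Matrix S6I S6I F))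
      (fun s => Matrix.trace (((m s)⁻¹ : GL S6I F) : Matrix S6I S6I F)) =
      (8 : F) • (1 : Matrix S6I S6I F) := by
    rw [hΦ]
    have h1 := hfou 1
    simp only [one_mul] at h1
    exact h1
  have hΦd : Fintype.linearCombination F (fun s : G => (m s : Matrix S6I S6I F))
      ((4 : F) • Pi.single (1 : G) (1 : F) - (4 : F) • Pi.single z (1 : F)) =
      (8 : F) • (1 : Matrix S6I S6I F) := by
    rw [map_sub, map_smul, map_smul, Fintype.linearCombination_apply_single,
      Fintype.linearCombination_apply_single, one_smul, one_smul, map_one, Units.val_one, hz,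
      smul_neg, sub_neg_eq_add, ← add_smul]
    norm_num
  have hmem : (fun s => Matrix.trace (((m s)⁻¹ : GL S6I F) : Matrix S6I S6I F)) -
      ((4 : F) • Pi.single (1 : G) (1 : F) - (4 : F) • Pi.single z (1 : F)) ∈ LinearMap.ker
      (Fintype.linearCombination F (fun s : G => (m s : Matrix S6I S6I F))) := by
    rw [LinearMap.mem_ker, map_sub, hΦc, hΦd, sub_self]
  rw [← hιeq] at hmem
  obtain ⟨f, hf⟩ := hmem
  have hg_ne1 : g ≠ 1 := by
    intro h
    apply hg1
    rw [h, map_one, Units.val_one]
  have hg_nez : g ≠ z := by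
    intro h
    apply hg2
    rw [h, hz]
  have hgz_ne1 : g * z ≠ 1 := by
    intro h
    apply hg2
    have h1 := hmulz g
    rw [h, map_one, Units.val_one] at h1
    exact neg_eq_iff_eq_neg.mp h1.symm
  have hgz_nez : g * z ≠ z := by
    intro h
    apply hg1
    have h1 := hmulz g
    rw [h, hz] at h1
    exact (neg_injective h1).symm
  have h1 := congrFun hf (g * z)
  have h2' := congrFun hf g
  have h3 : (LinearMap.funLeft F F (QuotientGroup.mk : G → G ⧸ Subgroup.zpowers z) f) (g * z) =
      (LinearMap.funLeft F F (QuotientGroup.mk : G → G ⧸ Subgroup.zpowers z) f) g := by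
    show f (QuotientGroup.mk (g * z)) = f (QuotientGroup.mk g)
    rw [QuotientGroup.mk_mul_of_mem g (Subgroup.mem_zpowers z)]
  rw [h3, h2'] at h1
  simp only [Pi.sub_apply, Pi.smul_apply, Pi.single_apply, if_neg hg_ne1, if_neg hg_nez,
    if_neg hgz_ne1, if_neg hgz_nez, smul_zero, sub_zero] at h1
  have h4 : ((m (g * z))⁻¹ : GL S6I F) = m z * (m g)⁻¹ := by
    rw [map_mul, _root_.mul_inv_rev, ← map_inv m z, inv_eq_of_mul_eq_one_right hzz]
  rw [h4, Units.val_mul, hz, neg_one_mul, Matrix.trace_neg] at h1
  have h5 : (2 : F) * Matrix.trace (((m g)⁻¹ : GL S6I F) : Matrix S6I S6I F) = 0 := by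
    linear_combination h1
  exact (mul_eq_zero.mp h5).resolve_left h2

/-- ATR (L). Trace zero off the centre. -/
theorem s6_trace_zero {F : Type*} [Field F] [Fintype F] (h2 : (2 : F) ≠ 0) (R : Subgroup (GL S6I F))
    (hR5 : Nat.card R = 32) (hneg : ∃ z ∈ R, (z : Matrix S6I S6I F) = -1)
    (havg : ∀ A : Matrix S6I S6I F, ∑ᶠ s : R, ((s : GL S6I F) : Matrix S6I S6I F) * A *
      (((s : GL S6I F)⁻¹ : GL S6I F) : Matrix S6I S6I F) = (8 * Matrix.trace A) • (1 : Matrix S6I S6I F)) :
    ∀ s ∈ R, (s : Matrix S6I S6I F) ≠ 1 → (s : Matrix S6I S6I F) ≠ -1 → Matrix.trace (s : Matrix S6I S6I F) = 0 := by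
  classical
  intro s hs hs1 hs2
  obtain ⟨z, hzR, hz⟩ := hneg
  haveI : Fintype ↥R := Fintype.ofFinite _
  have hcard : Fintype.card ↥R = 32 := by rw [← Nat.card_eq_fintype_card]; exact hR5
  have havg' : ∀ A : Matrix S6I S6I F, ∑ s : ↥R, (R.subtype s : Matrix S6I S6I F) * A *
      ((R.subtype s)⁻¹ : GL S6I F) = (8 * Matrix.trace A) • (1 : Matrix S6I S6I F) := by
    intro A
    have h := havg A
    rw [finsum_eq_sum_of_fintype] at h
    exact h
  have hzz : z * z = 1 := by
    apply Units.ext
    rw [Units.val_mul, hz, Units.val_one]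
    simp
  have hzinv : z⁻¹ = z := inv_eq_of_mul_eq_one_right hzz
  have h1 : ((s⁻¹ : GL S6I F) : Matrix S6I S6I F) ≠ 1 := by
    intro h
    apply hs1
    have h3 : s⁻¹ = 1 := Units.ext (by rw [h, Units.val_one])
    rw [inv_eq_one.mp h3, Units.val_one]
  have h2' : ((s⁻¹ : GL S6I F) : Matrix S6I S6I F) ≠ -1 := by
    intro h
    apply hs2
    have h3 : s⁻¹ = z := Units.ext (by rw [h, hz])
    have h4 : s = z := by rw [← inv_inv s, h3, hzinv]
    rw [h4, hz]
  have h := helper6_trace_zero_abs h2 R.subtype hcard ⟨z, hzR⟩ hz R.subtype_injective havg'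
    ⟨s⁻¹, R.inv_mem hs⟩ h1 h2'
  have h5 : ((R.subtype ⟨s⁻¹, R.inv_mem hs⟩)⁻¹ : GL S6I F) = s := by
    show (s⁻¹)⁻¹ = s
    exact inv_inv s
  rw [h5] at h
  exact h

end Cfsg.Agent.Lib.helper24
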