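import Mathlib
import Cfsg.Agent.Lib.helper68.HallPet
import Cfsg.Agent.Lib.helper79.PearlX

set_option autoImplicit false

namespace Cfsg.Agent.Lib.helper79.P3

open Cfsg.Agent.Lib.helper68

/-- (c3): cubes lie in `gam G 2` (`G ⧸ gam G 2` has order 9 and is not cyclic). -/
theorem h6_p3_nu_c3 {G : Type*} [Group G] [Finite G] (n : ℕ) (hn : 3 ≤ n) (hG : Nat.card G = 3 ^ n) (x : G)
    (hC : Nat.card (Subgroup.centralizer ({x} : Set G)) = 3 ^ 2) (g : G) : g ^ 3 ∈ gam G 2 := by
  haveI : Fact (Nat.Prime 3) := ⟨by norm_num⟩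
  have hidx : (gam G 2).index = 3 ^ 2 :=
    Cfsg.Agent.Lib.helper79.h79_px_index 3 n hG x hC hn 2 le_rfl (by omega)
  have hgam : gam G 2 = commutator G := by
    show (⊤ : Subgroup G).lowerCentralSeries 1 = commutator G
    rfl
  rw [hgam] at hidx ⊢
  haveI hnil : Group.IsNilpotent G := (IsPGroup.of_card hG).isNilpotent
  have hcard : Nat.card (G ⧸ commutator G) = 9 := by
    rw [← Subgroup.index_eq_card, hidx]
    norm_num
  have hncyc : ¬ IsCyclic (G ⧸ commutator G) := by
    intro hcyc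
    have hbot := Cfsg.Agent.Lib.helper15.MaxClass.commutator_eq_bot_of_isCyclic hcyc
    rw [hbot, Subgroup.index_bot, hG] at hidx
    have h3 : n = 2 := Nat.pow_right_injective (by norm_num : 2 ≤ 3) hidx
    omega
  rw [← QuotientGroup.eq_one_iff, QuotientGroup.mk_pow]
  obtain ⟨q, hq⟩ : ∃ q : G ⧸ commutator G, q = QuotientGroup.mk g := ⟨_, rfl⟩
  rw [← hq]
  have hord : orderOf q ∣ 9 := by
    rw [← hcard]
    exact orderOf_dvd_natCard q
  have h9 : orderOf q ≠ 9 := by
    intro h
    exact hncyc (isCyclic_of_orderOf_eq_card q (by rw [h, hcard]))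
  have h3 : orderOf q ∣ 3 := by
    have hmem : orderOf q ∈ Nat.divisors 9 := Nat.mem_divisors.mpr ⟨hord, by norm_num⟩
    have hd : Nat.divisors 9 = {1, 3, 9} := by decide
    rw [hd] at hmem
    simp only [Finset.mem_insert, Finset.mem_singleton] at hmem
    rcases hmem with h | h | h
    · rw [h]
      norm_num
    · rw [h]
    · exact absurd h h9
  exact orderOf_dvd_iff_pow_eq_one.mp h3

end Cfsg.Agent.Lib.helper79.P3
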