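import Mathlib
import Cfsg.Agent.Lib.helper44.PresDefs
import Cfsg.Agent.Lib.helper56.PresADJ

/-!
# S2286 piece PARA
-/

set_option autoImplicit false

namespace Cfsg.Agent.Lib.helper44.Pres

open Polynomial

-- PARA
theorem adjoin_sq_gen {F : Type*} [Field F] [Fintype F] {p : ℕ} [Fact p.Prime]
    [Algebra (ZMod p) F] (ζ : Fˣ) (hζ : ∀ y : Fˣ, y ∈ Subgroup.zpowers ζ) :
    Algebra.adjoin (ZMod p) {(ζ : F) ^ 2} = ⊤ := by
  classical
  have hp : p.Prime := Fact.out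
  have hp2 := hp.two_le
  have hchar : CharP F p :=
    charP_of_injective_algebraMap (algebraMap (ZMod p) F).injective p
  obtain ⟨n, hn⟩ := FiniteField.card F p
  have he : Fintype.card F = p ^ (n : ℕ) := hn.2
  apply adjoin_eq_top_of_frob ((ζ : F) ^ 2) (n : ℕ) he
  intro d hd0 hde hμ
  have hord : orderOf ζ = Fintype.card F - 1 := by
    rw [orderOf_eq_card_of_forall_mem_zpowers hζ, Nat.card_eq_fintype_card, Fintype.card_units]
  have hz0 : (ζ : F) ≠ 0 := ζ.ne_zero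
  obtain ⟨P, hP⟩ : ∃ P : ℕ, P = p ^ d := ⟨_, rfl⟩
  rw [← hP] at hμ
  have hP2 : 2 ≤ P := by
    rw [hP]
    calc 2 ≤ p := hp2
      _ = p ^ 1 := (pow_one p).symm
      _ ≤ p ^ d := Nat.pow_le_pow_right hp.pos hd0
  have hqP : p * P ≤ Fintype.card F := by
    rw [he, hP, ← pow_succ']
    exact Nat.pow_le_pow_right hp.pos hde
  have hq2P : 2 * P ≤ Fintype.card F := le_trans (Nat.mul_le_mul_right P hp2) hqP
  -- ζ ^ (2 * (P - 1)) = 1
  have h1 : (ζ : F) ^ (2 * (P - 1)) = 1 := by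
    have h2 : (ζ : F) ^ (2 * (P - 1)) * (ζ : F) ^ 2 = 1 * (ζ : F) ^ 2 := by
      rw [one_mul, ← pow_add]
      have h3 : 2 * (P - 1) + 2 = 2 * P := by omega
      rw [h3, pow_mul]
      exact hμ
    exact mul_right_cancel₀ (pow_ne_zero 2 hz0) h2
  have h4 : ζ ^ (2 * (P - 1)) = 1 := by
    apply Units.ext
    rw [Units.val_pow_eq_pow_val, h1, Units.val_one]
  have h5 := orderOf_dvd_of_pow_eq_one h4
  rw [hord] at h5
  have h6 := Nat.le_of_dvd (by omega) h5
  omega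

end Cfsg.Agent.Lib.helper44.Pres
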