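import Mathlib

/-!
Shared definitions for S3366: the Heisenberg group `H3` of order 27 in symmetric coordinates,
the action `phi` of `SL(2,3)` on it, the model `M = H3 ⋊ SL(2,3)` of order 648, the elementwise
hypothesis package `Setting`, and the criterion `iso_of_data`.
-/

set_option autoImplicit false

namespace Cfsg.Agent.Lib.helper6.S3366

/-- `SL(2,3)`. -/
abbrev SL23 := Matrix.SpecialLinearGroup (Fin 2) (ZMod 3)

/-- The Heisenberg group of order 27, with multiplication
`(x,y,k)(x',y',k') = (x+x', y+y', k+k' - (x y' - x' y))`. -/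
@[ext] structure H3 where
  x : ZMod 3
  y : ZMod 3
  k : ZMod 3
deriving DecidableEq, Fintype

namespace H3

instance : Mul H3 := ⟨fun a b => ⟨a.x + b.x, a.y + b.y, a.k + b.k - (a.x * b.y - b.x * a.y)⟩⟩
instance : One H3 := ⟨⟨0, 0, 0⟩⟩
instance : Inv H3 := ⟨fun a => ⟨-a.x, -a.y, -a.k⟩⟩

theorem mul_def (a b : H3) :
    a * b = ⟨a.x + b.x, a.y + b.y, a.k + b.k - (a.x * b.y - b.x * a.y)⟩ := rfl
theorem one_def : (1 : H3) = ⟨0, 0, 0⟩ := rfl
theorem inv_def (a : H3) : a⁻¹ = ⟨-a.x, -a.y, -a.k⟩ := rfl

instance : Group H3 := Group.ofLeftAxioms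
  (by intro a b c; ext <;> simp only [mul_def] <;> ring)
  (by intro a; ext <;> simp [mul_def, one_def])
  (by intro a; ext <;> simp [mul_def, one_def, inv_def])

/-- The involutory automorphism `(x,y,k) ↦ (-x,-y,k)` (as a function). -/
def neg (h : H3) : H3 := ⟨-h.x, -h.y, h.k⟩

/-- The action of `SL(2,3)` (as a function). -/
def act (A : SL23) (h : H3) : H3 :=
  ⟨A 0 0 * h.x + A 0 1 * h.y, A 1 0 * h.x + A 1 1 * h.y, h.k⟩

theorem card : Nat.card H3 = 27 := by
  rw [Nat.card_eq_fintype_card]
  decide +kernel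

theorem act_one : ∀ h : H3, act 1 h = h := by decide +kernel

theorem act_act : ∀ (A B : SL23) (h : H3), act (A * B) h = act A (act B h) := by decide +kernel

theorem act_mul : ∀ (A : SL23) (h h' : H3), act A (h * h') = act A h * act A h' := by
  decide +kernel

end H3

/-- The action of `SL(2,3)` on `H3` by automorphisms: `A • (v, k) = (A v, k)`. -/
def phi : SL23 →* MulAut H3 where
  toFun A :=
    { toFun := H3.act A
      invFun := H3.act A⁻¹
      left_inv := fun h => by rw [← H3.act_act, inv_mul_cancel, H3.act_one]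
      right_inv := fun h => by rw [← H3.act_act, mul_inv_cancel, H3.act_one]
      map_mul' := H3.act_mul A }
  map_one' := by
    ext h : 1
    exact H3.act_one h
  map_mul' A B := by
    ext h : 1
    exact H3.act_act A B h

theorem phi_apply (A : SL23) (h : H3) : phi A h = H3.act A h := rfl

/-- The model group `3^{1+2} : SL(2,3)` of order 648. -/
abbrev M := H3 ⋊[phi] SL23

theorem card_SL23 : Nat.card SL23 = 24 := by
  rw [Nat.card_eq_fintype_card]
  decide +kernel

theorem card_M : Nat.card M = 648 := by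
  rw [Nat.card_congr SemidirectProduct.equivProd, Nat.card_prod, H3.card, card_SL23]

/-- A group of order 648 with compatible injective homs from `H3` and `SL(2,3)` is the model. -/
theorem iso_of_data {X : Type*} [Group X] [Finite X] (hcard : Nat.card X = 648)
    (ι : H3 →* X) (lam : SL23 →* X)
    (hc : ∀ (A : SL23) (h : H3), lam A * ι h * (lam A)⁻¹ = ι (phi A h))
    (hinj : ∀ (h : H3) (A : SL23), ι h * lam A = 1 → h = 1 ∧ A = 1) :
    Nonempty (M ≃* X) := by
  let f : M →* X := SemidirectProduct.lift ι lam (by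
    intro A
    ext h
    simp only [MonoidHom.coe_comp, MulEquiv.coe_toMonoidHom, Function.comp_apply,
      MulAut.conj_apply]
    exact (hc A h).symm)
  have hf : ∀ m : M, f m = ι m.left * lam m.right := fun m => rfl
  have hinj' : Function.Injective f := by
    rw [injective_iff_map_eq_one]
    intro m hm
    rw [hf] at hm
    obtain ⟨h1, h2⟩ := hinj _ _ hm
    exact SemidirectProduct.ext h1 h2
  have hbij : Function.Bijective f :=
    (Nat.bijective_iff_injective_and_card f).mpr ⟨hinj', by rw [card_M, hcard]⟩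
  exact ⟨MulEquiv.ofBijective f hbij⟩

/-- The elementwise hypotheses on `X`: `R` is the kernel of a surjection `π` onto `SL(2,3)`, of
order 27 and exponent 3, with centre generated by `z` and all commutators in the centre, and `X`
has no central involution. -/
structure Setting (X : Type*) [Group X] (R : Subgroup X) (π : X →* SL23) (z : X) : Prop where
  surj : Function.Surjective π
  ker : ∀ x : X, π x = 1 ↔ x ∈ R
  card : Nat.card R = 27
  exp : ∀ r ∈ R, r ^ 3 = 1
  zmem : z ∈ R
  zne : z ≠ 1
  cent : ∀ r ∈ R, (∀ s ∈ R, r * s = s * r) ↔ r ∈ Subgroup.zpowers z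
  comm : ∀ r ∈ R, ∀ s ∈ R, r * s * r⁻¹ * s⁻¹ ∈ Subgroup.zpowers z
  noinv : ∀ u : X, u ^ 2 = 1 → (∀ g : X, g * u = u * g) → u = 1

end Cfsg.Agent.Lib.helper6.S3366
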