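import Mathlib
import Cfsg.Prelude.Def_OddOrderLocal

/-!
# S1383 piece X1
-/

set_option autoImplicit false

namespace Cfsg.Agent.Lib.helper6.TV

open Cfsg Subgroup

variable {G : Type*} [Group G]

theorem helper6_center_map (P : Subgroup G) :
    (Subgroup.center ↥P).map P.subtype = P ⊓ centralizer (P : Set G) := by
  ext x
  rw [Subgroup.mem_map, Subgroup.mem_inf]
  constructor
  · rintro ⟨y, hy, rfl⟩
    refine ⟨y.2, ?_⟩
    rw [Subgroup.mem_centralizer_iff]
    intro h hh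
    have := (Subgroup.mem_center_iff.mp hy) ⟨h, hh⟩
    exact congrArg Subtype.val this
  · rintro ⟨hxP, hxc⟩
    refine ⟨⟨x, hxP⟩, ?_, rfl⟩
    rw [Subgroup.mem_center_iff]
    intro g
    apply Subtype.ext
    exact (Subgroup.mem_centralizer_iff.mp hxc) g g.2

/-- the facts about `↥P` itself: centre of order `p`, quotient of order `p ^ 2`, not cyclic -/
theorem helper6_p3_core [Finite G] (p : ℕ) [Fact p.Prime] (P : Subgroup G)
    (hP : Nat.card P = p ^ 3) (hPna : ¬ IsMulCommutative ↥P) :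
    Nat.card (Subgroup.center ↥P) = p ∧ Nat.card (↥P ⧸ Subgroup.center ↥P) = p ^ 2 ∧
      ¬ IsCyclic (↥P ⧸ Subgroup.center ↥P) := by
  have hp : p.Prime := Fact.out
  have hPp : IsPGroup p ↥P := IsPGroup.of_card hP
  have hnc : ¬ ∀ a b : ↥P, a * b = b * a := fun h => hPna ⟨⟨h⟩⟩
  have hcyc : ¬ IsCyclic (↥P ⧸ Subgroup.center ↥P) := by
    intro hc
    exact hnc (fun a b => (MonoidHom.isMulCommutative_of_isCyclic_of_ker_le_center
      (QuotientGroup.mk' (Subgroup.center ↥P)) (by rw [QuotientGroup.ker_mk'])).is_comm.comm a b)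
  have hmul : Nat.card (↥P ⧸ Subgroup.center ↥P) * Nat.card (Subgroup.center ↥P) = p ^ 3 := by
    rw [← hP]; exact (Subgroup.card_eq_card_quotient_mul_card_subgroup _).symm
  have hZcard : Nat.card (Subgroup.center ↥P) = p := by
    have hdvd : Nat.card (Subgroup.center ↥P) ∣ p ^ 3 := by
      rw [← hP]; exact Subgroup.card_subgroup_dvd_card _
    obtain ⟨k, hk3, hk⟩ := (Nat.dvd_prime_pow hp).mp hdvd
    have hnt : Nontrivial ↥P := by
      rw [← Finite.one_lt_card_iff_nontrivial, hP]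
      exact Nat.one_lt_pow (by norm_num) hp.one_lt
    have hZnt : Nontrivial (Subgroup.center ↥P) := hPp.center_nontrivial
    interval_cases k
    · exfalso
      rw [pow_zero] at hk
      have := Finite.one_lt_card_iff_nontrivial.mpr hZnt
      omega
    · rw [hk, pow_one]
    · exfalso
      rw [hk] at hmul
      have hq : Nat.card (↥P ⧸ Subgroup.center ↥P) = p := by
        have h1 : Nat.card (↥P ⧸ Subgroup.center ↥P) * p ^ 2 = p * p ^ 2 := by rw [hmul]; ring
        exact Nat.eq_of_mul_eq_mul_right (pow_pos hp.pos 2) h1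
      exact hcyc (isCyclic_of_prime_card hq)
    · exfalso
      have htop : Subgroup.center ↥P = ⊤ := Subgroup.eq_top_of_card_eq _ (by rw [hk, hP])
      apply hnc
      intro a b
      have hb : b ∈ Subgroup.center ↥P := by rw [htop]; trivial
      exact (Subgroup.mem_center_iff.mp hb a)
  refine ⟨hZcard, ?_, hcyc⟩
  rw [hZcard] at hmul
  have h1 : Nat.card (↥P ⧸ Subgroup.center ↥P) * p = p ^ 2 * p := by rw [hmul]; ring
  exact Nat.eq_of_mul_eq_mul_right hp.pos h1

/-- **X1** (pure). A non-abelian group `P` of order `p ^ 3`: the centre `Z = P ∩ C_G(P)` has order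
`p`, `P / Z` has exponent `p`, and all commutators lie in `Z`. -/
theorem p3_struct [Finite G] (p : ℕ) [Fact p.Prime] (P : Subgroup G) (hP : Nat.card P = p ^ 3)
    (hPna : ¬ IsMulCommutative ↥P) :
    Nat.card ↥(P ⊓ centralizer (P : Set G)) = p ∧
    (∀ x ∈ P, x ^ p ∈ P ⊓ centralizer (P : Set G)) ∧
    (∀ x ∈ P, ∀ y ∈ P, x * y * x⁻¹ * y⁻¹ ∈ P ⊓ centralizer (P : Set G)) := by
  have hp : p.Prime := Fact.out
  obtain ⟨hZcard, hqcard, hcyc⟩ := helper6_p3_core p P hP hPna
  refine ⟨?_, ?_, ?_⟩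
  · rw [← helper6_center_map, Subgroup.card_map_of_injective (Subgroup.subtype_injective _)]
    exact hZcard
  · intro x hx
    rw [← helper6_center_map]
    refine Subgroup.mem_map.mpr ⟨(⟨x, hx⟩ : ↥P) ^ p, ?_, by simp⟩
    rw [← QuotientGroup.eq_one_iff, QuotientGroup.mk_pow]
    have hord : orderOf ((⟨x, hx⟩ : ↥P) : ↥P ⧸ Subgroup.center ↥P) ∣ p ^ 2 := by
      rw [← hqcard]; exact orderOf_dvd_natCard _
    obtain ⟨k, hk2, hk⟩ := (Nat.dvd_prime_pow hp).mp hord
    interval_cases k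
    · rw [pow_zero, orderOf_eq_one_iff] at hk
      rw [hk, one_pow]
    · rw [pow_one] at hk
      rw [← hk]
      exact pow_orderOf_eq_one _
    · exfalso
      exact hcyc (isCyclic_of_orderOf_eq_card _ (by rw [hk, hqcard]))
  · intro x hx y hy
    rw [← helper6_center_map]
    refine Subgroup.mem_map.mpr
      ⟨(⟨x, hx⟩ : ↥P) * ⟨y, hy⟩ * (⟨x, hx⟩ : ↥P)⁻¹ * (⟨y, hy⟩ : ↥P)⁻¹, ?_, by simp⟩
    rw [← QuotientGroup.eq_one_iff]
    have hcomm := (IsPGroup.isMulCommutative_of_card_eq_prime_sq hqcard).is_comm.comm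
    simp only [QuotientGroup.mk_mul, QuotientGroup.mk_inv]
    rw [hcomm (((⟨x, hx⟩ : ↥P)) : ↥P ⧸ Subgroup.center ↥P) ((⟨y, hy⟩ : ↥P) : ↥P ⧸ Subgroup.center ↥P)]
    group

end Cfsg.Agent.Lib.helper6.TV
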