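import Cfsg.Agent.Lib.helper89.GfHDefs

/-!
# S4395 piece EXB, sub-split leaf XB1 (`exb_basic`), helper6
-/

set_option autoImplicit false

namespace Cfsg.Agent.Lib.helper3.Gf

universe u

theorem helper6_xb1_pow_P {L : Type u} [CommRing L] {n : ℕ} (D : H89Data L n)
    (u : H89G D) (hu : u.k = 0) (m : ℕ) : (u ^ m).x = (m : L) * u.x ∧ (u ^ m).k = 0 := by
  induction m with
  | zero => simp
  | succ m ih =>
    obtain ⟨h1, h2⟩ := ih
    rw [pow_succ]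
    refine ⟨?_, ?_⟩
    · rw [H89G.mul_x, h1, h2, D.e_zero]; push_cast; ring
    · rw [H89G.mul_k, h2, hu]; simp

theorem helper6_xb1_pow_N {L : Type u} [CommRing L] {n : ℕ} (D : H89Data L n)
    (w : H89G D) (hx : w.x = 0) (hk : w.k = 0) (m : ℕ) :
    (w ^ m).x = 0 ∧ (w ^ m).z = (m : L) * w.z ∧ (w ^ m).k = 0 := by
  induction m with
  | zero => simp
  | succ m ih =>
    obtain ⟨h1, h2, h3⟩ := ih
    rw [pow_succ]
    refine ⟨?_, ?_, ?_⟩
    · rw [H89G.mul_x, h1, hx]; simp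
    · rw [H89G.mul_z, h1, h2]; push_cast; ring
    · rw [H89G.mul_k, h3, hk]; simp

/-- XB1 : the basic fields of `Cov` (char `p` only).  `(u ^ m).x = m * u.x` for `u ∈ P`. -/
theorem exb_basic (p : ℕ) [Fact p.Prime] {L : Type u} [CommRing L] {n : ℕ} (D : H89Data L n)
    (hp : (p : L) = 0) :
    h89N D ≤ h89P D ∧ h89N D ≤ Subgroup.center (H89G D) ∧ (h89P D).Normal ∧ IsPGroup p ↥(h89P D) ∧
    (∀ u ∈ h89P D, ∀ v ∈ h89P D, u * v * u⁻¹ * v⁻¹ ∈ h89N D) ∧ (∀ u ∈ h89P D, u ^ p ∈ h89N D) := by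
  have hpowN : ∀ u ∈ h89P D, u ^ p ∈ h89N D := by
    intro u hu
    have hu' : u.k = 0 := hu
    obtain ⟨h1, h2⟩ := helper6_xb1_pow_P D u hu' p
    refine ⟨?_, h2⟩
    rw [h1, hp, zero_mul]
  have hNp : ∀ w ∈ h89N D, w ^ p = 1 := by
    intro w hw
    obtain ⟨hx, hk⟩ := hw
    obtain ⟨h1, h2, h3⟩ := helper6_xb1_pow_N D w hx hk p
    apply H89G.ext
    · rw [h1]; rfl
    · rw [h2, hp, zero_mul]; rfl
    · rw [h3]; rfl
  refine ⟨fun a ha => ha.2, ?_, ?_, ?_, ?_, hpowN⟩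
  · intro a ha
    obtain ⟨hx, hk⟩ := ha
    rw [Subgroup.mem_center_iff]
    intro g
    apply H89G.ext
    · rw [H89G.mul_x, H89G.mul_x, hx, hk, D.e_zero]; ring
    · rw [H89G.mul_z, H89G.mul_z, hx, hk, D.e_zero]; simp [add_comm]
    · rw [H89G.mul_k, H89G.mul_k, add_comm]
  · refine ⟨fun a ha g => ?_⟩
    have ha' : a.k = 0 := ha
    show (g * a * g⁻¹).k = 0
    rw [H89G.mul_k, H89G.mul_k, H89G.inv_k, ha']; simp
  · intro g
    refine ⟨2, ?_⟩
    apply Subtype.ext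
    rw [Subgroup.coe_pow, Subgroup.coe_one, pow_two, pow_mul]
    exact hNp _ (hpowN _ g.2)
  · intro u hu v hv
    have hu' : u.k = 0 := hu
    have hv' : v.k = 0 := hv
    refine ⟨?_, ?_⟩
    · simp only [H89G.mul_x, H89G.mul_k, H89G.inv_x, H89G.inv_k, hu', hv', neg_zero, add_zero,
        D.e_zero]
      ring
    · show (u * v * u⁻¹ * v⁻¹).k = 0
      simp only [H89G.mul_k, H89G.inv_k, hu', hv', neg_zero, add_zero]

end Cfsg.Agent.Lib.helper3.Gf
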