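import Mathlib
import Cfsg.Agent.Lib.helper74.QODefs

/-!
# S1935 piece L7
-/

set_option autoImplicit false

namespace Cfsg.Agent.Lib.helper6.QO

open Cfsg.Agent.Lib.helper74.QO

/-- the vectors killed by `W` -/
def helper6_K {V : Type*} [AddCommGroup V] (W : AddSubgroup (AddMonoid.End V)) :
    AddSubgroup V where
  carrier := {v | ∀ w ∈ W, w v = 0}
  zero_mem' := fun w _ => map_zero w
  add_mem' := by
    intro a b ha hb w hw
    rw [map_add, ha w hw, hb w hw, add_zero]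
  neg_mem' := by
    intro a ha w hw
    rw [map_neg, ha w hw, neg_zero]

theorem helper6_mem_K {V : Type*} [AddCommGroup V] (W : AddSubgroup (AddMonoid.End V)) (v : V) :
    v ∈ helper6_K W ↔ ∀ w ∈ W, w v = 0 := Iff.rfl

/-- the vectors `v` killed by `W` with `ξ v` killed by `W` -/
def helper6_K1 {V : Type*} [AddCommGroup V] (W : AddSubgroup (AddMonoid.End V))
    (ξ : AddMonoid.End V) : AddSubgroup V where
  carrier := {v | v ∈ helper6_K W ∧ ξ v ∈ helper6_K W}
  zero_mem' := ⟨(helper6_K W).zero_mem, by rw [map_zero]; exact (helper6_K W).zero_mem⟩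
  add_mem' := by
    intro a b ha hb
    exact ⟨(helper6_K W).add_mem ha.1 hb.1,
      by rw [map_add]; exact (helper6_K W).add_mem ha.2 hb.2⟩
  neg_mem' := by
    intro a ha
    exact ⟨(helper6_K W).neg_mem ha.1, by rw [map_neg]; exact (helper6_K W).neg_mem ha.2⟩

theorem helper6_mem_K1 {V : Type*} [AddCommGroup V] (W : AddSubgroup (AddMonoid.End V))
    (ξ : AddMonoid.End V) (v : V) :
    v ∈ helper6_K1 W ξ ↔ v ∈ helper6_K W ∧ ξ v ∈ helper6_K W := Iff.rfl

/-- PIECE L7 -/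
theorem lim_fix {V : Type*} [AddCommGroup V] [Finite V] (W : AddSubgroup (AddMonoid.End V))
    (ξ : AddMonoid.End V) (hξ : ξ * ξ = 0) :
    Nat.card {v : V // ∀ w ∈ W, w v = 0} ≤ Nat.card {v : V // ∀ l ∈ lim W ξ, l v = 0} := by
  have hξ' : ∀ x : V, ξ (ξ x) = 0 := fun x => DFunLike.congr_fun hξ x
  let f : ↥(helper6_K1 W ξ) × ↥(helper6_K W) →+ V :=
    AddMonoidHom.mk' (fun x => (x.1 : V) - ξ (x.2 : V)) (by
      intro x y
      simp only [Prod.fst_add, Prod.snd_add, AddSubgroup.coe_add, map_add]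
      abel)
  have hf : ∀ x : ↥(helper6_K1 W ξ) × ↥(helper6_K W), f x = (x.1 : V) - ξ (x.2 : V) :=
    fun x => rfl
  have hkill : ∀ v ∈ f.range, ∀ l ∈ lim W ξ, l v = 0 := by
    intro v hv l hl
    obtain ⟨⟨⟨κ0, hκ0⟩, ⟨κ1, hκ1⟩⟩, rfl⟩ := AddMonoidHom.mem_range.mp hv
    obtain ⟨a, ha, b, hb, c, hc, h1, h2, rfl⟩ := mem_lim.mp hl
    rw [hf]
    show (a + b * ξ - ξ * b - ξ * c * ξ) (κ0 - ξ κ1) = 0
    rw [helper6_mem_K1] at hκ0
    have e0 : a κ0 = 0 := hκ0.1 a ha
    have e1 : b κ0 = 0 := hκ0.1 b hb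
    have e2 : b (ξ κ0) = 0 := hκ0.2 b hb
    have e3 : c (ξ κ0) = 0 := hκ0.2 c hc
    have e4 : a κ1 = 0 := hκ1 a ha
    have e5 : (a * ξ - ξ * a - ξ * b * ξ) κ1 = 0 := hκ1 _ h2
    have e5' : a (ξ κ1) - ξ (a κ1) - ξ (b (ξ κ1)) = 0 := e5
    rw [e4, map_zero, sub_zero, sub_eq_zero] at e5'
    have e6 : (a + b * ξ - ξ * b - ξ * c * ξ) (κ0 - ξ κ1)
        = a κ0 + b (ξ κ0) - ξ (b κ0) - ξ (c (ξ κ0))
          - (a (ξ κ1) + b (ξ (ξ κ1)) - ξ (b (ξ κ1)) - ξ (c (ξ (ξ κ1)))) := by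
      rw [map_sub]; rfl
    rw [e6, e0, e1, e2, e3, hξ', e5']
    simp
  have hcard : Nat.card f.range = Nat.card ↥(helper6_K W) := by
    have h1 : Nat.card f.ker * f.ker.index
        = Nat.card (↥(helper6_K1 W ξ) × ↥(helper6_K W)) := f.ker.card_mul_index
    rw [AddSubgroup.index_ker, Nat.card_prod] at h1
    have h2 : Nat.card f.ker = Nat.card ↥(helper6_K1 W ξ) := by
      apply Nat.card_congr
      exact {
        toFun := fun x => ⟨(x.1.2 : V), by
          have hx : f x.1 = 0 := AddMonoidHom.mem_ker.mp x.2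
          rw [hf] at hx
          rw [helper6_mem_K1]
          refine ⟨x.1.2.2, ?_⟩
          have h' : ξ (x.1.2 : V) = (x.1.1 : V) := (sub_eq_zero.mp hx).symm
          rw [h']
          exact ((helper6_mem_K1 W ξ _).mp x.1.1.2).1⟩
        invFun := fun κ => ⟨(⟨ξ (κ : V), (helper6_mem_K1 W ξ _).mpr
            ⟨((helper6_mem_K1 W ξ _).mp κ.2).2, by rw [hξ']; exact (helper6_K W).zero_mem⟩⟩,
            ⟨(κ : V), ((helper6_mem_K1 W ξ _).mp κ.2).1⟩),
          AddMonoidHom.mem_ker.mpr (by rw [hf]; simp)⟩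
        left_inv := by
          intro x
          apply Subtype.ext
          apply Prod.ext
          · apply Subtype.ext
            have hx : f x.1 = 0 := AddMonoidHom.mem_ker.mp x.2
            rw [hf] at hx
            exact (sub_eq_zero.mp hx).symm
          · rfl
        right_inv := by intro κ; rfl }
    rw [h2] at h1
    have hpos : 0 < Nat.card ↥(helper6_K1 W ξ) := Nat.card_pos
    exact Nat.eq_of_mul_eq_mul_left hpos h1
  have hK : Nat.card {v : V // ∀ w ∈ W, w v = 0} = Nat.card ↥(helper6_K W) :=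
    Nat.card_congr (Equiv.subtypeEquivRight (fun v => Iff.rfl))
  rw [hK, ← hcard]
  exact Nat.card_le_card_of_injective
    (fun x : f.range => (⟨x.1, hkill x.1 x.2⟩ : {v : V // ∀ l ∈ lim W ξ, l v = 0}))
    (fun x y hxy => by
      have h := congrArg (fun z : {v : V // ∀ l ∈ lim W ξ, l v = 0} => (z : V)) hxy
      exact Subtype.ext h)

end Cfsg.Agent.Lib.helper6.QO
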