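import Mathlib
import Cfsg.Agent.Lib.helper51.LevDefs

set_option autoImplicit false

namespace Cfsg.Agent.Lib.helper51.Lev

open Matrix

variable {K : Type*} [Field K]

/-- PIECE BTRI: block triangular form along an invariant subspace with a given basis. -/
theorem block_tri {ι : Type} [Fintype ι] [DecidableEq ι] (g : Matrix ι ι K) (k : ℕ)
    (b : Fin k → ι → K) (hb : LinearIndependent K b)
    (hinv : ∀ j, g *ᵥ b j ∈ Submodule.span K (Set.range b)) :
    ∃ (m : ℕ) (P : Matrix ι (Fin k ⊕ Fin m) K) (P' : Matrix (Fin k ⊕ Fin m) ι K)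
      (g₁ : Matrix (Fin k) (Fin k) K) (Z : Matrix (Fin k) (Fin m) K)
      (g₂ : Matrix (Fin m) (Fin m) K),
      P * P' = 1 ∧ P' * P = 1 ∧ k + m = Fintype.card ι ∧ P' * g * P = fromBlocks g₁ Z 0 g₂ ∧
      (∀ j, g *ᵥ b j = ∑ i, g₁ i j • b i) ∧
      (∀ a : K, g₂ = a • (1 : Matrix (Fin m) (Fin m) K) →
        ∀ w : ι → K, (g - a • (1 : Matrix ι ι K)) *ᵥ w ∈ Submodule.span K (Set.range b)) := by
  classical
  obtain ⟨W, hW⟩ : ∃ W : Submodule K (ι → K), W = Submodule.span K (Set.range b) := ⟨_, rfl⟩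
  rw [← hW] at hinv ⊢
  have hbW : ∀ j, b j ∈ W := fun j => by rw [hW]; exact Submodule.subset_span ⟨j, rfl⟩
  obtain ⟨W', hcompl⟩ := Submodule.exists_isCompl W
  obtain ⟨m, hm⟩ : ∃ m, m = Module.finrank K W' := ⟨_, rfl⟩
  let bc : Module.Basis (Fin m) K W' := (Module.finBasis K W').reindex (finCongr hm.symm)
  let fam : Fin k ⊕ Fin m → (ι → K) := Sum.elim b (fun j => (bc j : ι → K))
  have hspanc : Submodule.span K (Set.range (fun j => (bc j : ι → K))) = W' := by
    have h0 : (fun j => (bc j : ι → K)) = W'.subtype ∘ bc := rfl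
    rw [h0, Set.range_comp, Submodule.span_image, bc.span_eq, Submodule.map_top,
      Submodule.range_subtype]
  have hli : LinearIndependent K fam := by
    refine LinearIndependent.sum_type hb ?_ ?_
    · exact bc.linearIndependent.map' W'.subtype (Submodule.ker_subtype _)
    · rw [hspanc, ← hW]; exact hcompl.disjoint
  have hspan : ⊤ ≤ Submodule.span K (Set.range fam) := by
    rw [Set.Sum.elim_range, Submodule.span_union, hspanc, ← hW]
    exact hcompl.codisjoint.eq_top.ge
  let B : Module.Basis (Fin k ⊕ Fin m) K (ι → K) := Module.Basis.mk hli hspan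
  have hB : ∀ j, B j = fam j := fun j => by simp only [B, Module.Basis.coe_mk]
  have hBl : ∀ j, B (Sum.inl j) = b j := fun j => by rw [hB]; rfl
  have hBr : ∀ j, B (Sum.inr j) = (bc j : ι → K) := fun j => by rw [hB]; rfl
  have hkm : k + m = Fintype.card ι := by
    have h1 := Submodule.finrank_add_eq_of_isCompl hcompl
    rw [hW, finrank_span_eq_card hb, Fintype.card_fin, Module.finrank_fintype_fun_eq_card,
      ← hm] at h1
    exact h1
  have hM : ∀ i j, (B.toMatrix (Pi.basisFun K ι) * g * (Pi.basisFun K ι).toMatrix B) i j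
      = B.repr (g *ᵥ B j) i := by
    intro i j
    have h1 := basis_toMatrix_mul_linearMap_toMatrix_mul_basis_toMatrix B (Pi.basisFun K ι) B
      (Pi.basisFun K ι) (Matrix.toLin' g)
    rw [LinearMap.toMatrix_eq_toMatrix', LinearMap.toMatrix'_toLin'] at h1
    rw [h1, LinearMap.toMatrix_apply, Matrix.toLin'_apply]
  have hreprW : ∀ w ∈ W, ∀ i : Fin m, B.repr w (Sum.inr i) = 0 := by
    intro w hw i
    rw [hW] at hw
    refine Submodule.span_induction ?_ ?_ ?_ ?_ hw
    · rintro _ ⟨j, rfl⟩
      rw [← hBl, Module.Basis.repr_self]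
      simp
    · simp
    · intro x y _ _ hx hy
      simp [hx, hy]
    · intro a x _ hx
      simp [hx]
  refine ⟨m, (Pi.basisFun K ι).toMatrix B, B.toMatrix (Pi.basisFun K ι),
    Matrix.of (fun i j => B.repr (g *ᵥ b j) (Sum.inl i)),
    Matrix.of (fun i j => B.repr (g *ᵥ (bc j : ι → K)) (Sum.inl i)),
    Matrix.of (fun i j => B.repr (g *ᵥ (bc j : ι → K)) (Sum.inr i)),
    Module.Basis.toMatrix_mul_toMatrix_flip _ _, Module.Basis.toMatrix_mul_toMatrix_flip _ _,
    hkm, ?_, ?_, ?_⟩
  · ext i j
    rw [hM]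
    rcases i with i | i <;> rcases j with j | j
    · rw [hBl, Matrix.fromBlocks_apply₁₁, Matrix.of_apply]
    · rw [hBr, Matrix.fromBlocks_apply₁₂, Matrix.of_apply]
    · rw [hBl, Matrix.fromBlocks_apply₂₁]
      exact hreprW _ (hinv j) i
    · rw [hBr, Matrix.fromBlocks_apply₂₂, Matrix.of_apply]
  · intro j
    have h1 := B.sum_repr (g *ᵥ b j)
    rw [Fintype.sum_sum_type] at h1
    have h2 : ∑ i : Fin m, B.repr (g *ᵥ b j) (Sum.inr i) • B (Sum.inr i) = 0 :=
      Finset.sum_eq_zero fun i _ => by rw [hreprW _ (hinv j) i, zero_smul]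
    rw [h2, add_zero] at h1
    rw [← h1]
    refine Finset.sum_congr rfl fun i _ => ?_
    rw [hBl, Matrix.of_apply]
  · intro a ha w
    have hsub : ∀ v : ι → K, (g - a • (1 : Matrix ι ι K)) *ᵥ v = g *ᵥ v - a • v := by
      intro v
      rw [Matrix.sub_mulVec, Matrix.smul_mulVec, Matrix.one_mulVec]
    have hcomap : w ∈ W.comap (Matrix.mulVecLin (g - a • (1 : Matrix ι ι K))) := by
      have htop : w ∈ Submodule.span K (Set.range B) := by
        rw [B.span_eq]; trivial
      refine (Submodule.span_le.mpr ?_) htop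
      rintro _ ⟨i, rfl⟩
      show (g - a • (1 : Matrix ι ι K)) *ᵥ B i ∈ W
      rw [hsub]
      rcases i with i | i
      · rw [hBl]
        exact Submodule.sub_mem _ (hinv i) (Submodule.smul_mem _ _ (hbW i))
      · rw [hBr]
        have h1 := B.sum_repr (g *ᵥ (bc i : ι → K))
        rw [Fintype.sum_sum_type] at h1
        have h2 : ∑ l : Fin m, B.repr (g *ᵥ (bc i : ι → K)) (Sum.inr l) • B (Sum.inr l)
            = a • (bc i : ι → K) := by
          have h3 : ∀ l : Fin m, B.repr (g *ᵥ (bc i : ι → K)) (Sum.inr l)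
              = if l = i then a else 0 := by
            intro l
            have h4 := congrFun (congrFun ha l) i
            simp only [Matrix.of_apply, Matrix.smul_apply, Matrix.one_apply, smul_eq_mul,
              mul_ite, mul_one, mul_zero] at h4
            exact h4
          simp only [h3, ite_smul, zero_smul, Finset.sum_ite_eq', Finset.mem_univ, if_true, hBr]
        rw [h2] at h1
        rw [← h1, add_sub_cancel_right]
        refine Submodule.sum_mem _ fun l _ => Submodule.smul_mem _ _ ?_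
        rw [hBl]
        exact hbW l
    exact hcomap

end Cfsg.Agent.Lib.helper51.Lev
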