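import Mathlib
import Cfsg.Agent.Lib.helper51.LevDefs

set_option autoImplicit false

namespace Cfsg.Agent.Lib.helper51.Lev

open Matrix

variable {K : Type*} [Field K]

/-- PIECE COMPL: complete `x` (with `lam x = 1`) to an invertible matrix whose inverse has first
row `lam`. -/
theorem compl_basis {ι : Type} [Fintype ι] [DecidableEq ι] (x lam : ι → K)
    (hx : lam ⬝ᵥ x = 1) :
    ∃ (m : ℕ) (P : Matrix ι (Unit ⊕ Fin m) K) (P' : Matrix (Unit ⊕ Fin m) ι K),
      P * P' = 1 ∧ P' * P = 1 ∧ m + 1 = Fintype.card ι ∧
      (∀ i, P i (Sum.inl ()) = x i) ∧ (∀ i, P' (Sum.inl ()) i = lam i) := by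
  classical
  let φ : (ι → K) →ₗ[K] K :=
    { toFun := fun v => lam ⬝ᵥ v
      map_add' := fun v w => dotProduct_add lam v w
      map_smul' := fun a v => by simp [dotProduct_smul] }
  have hφ : ∀ v, φ v = lam ⬝ᵥ v := fun v => rfl
  have hsurj : Function.Surjective φ := by
    intro a
    refine ⟨a • x, ?_⟩
    rw [hφ, dotProduct_smul, hx, smul_eq_mul, mul_one]
  have hrange : LinearMap.range φ = ⊤ := LinearMap.range_eq_top.mpr hsurj
  obtain ⟨m, hm⟩ : ∃ m, m = Module.finrank K (LinearMap.ker φ) := ⟨_, rfl⟩
  have hdim : m + 1 = Fintype.card ι := by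
    have h1 := LinearMap.finrank_range_add_finrank_ker φ
    rw [hrange, finrank_top, Module.finrank_self, Module.finrank_fintype_fun_eq_card] at h1
    omega
  let bker : Module.Basis (Fin m) K (LinearMap.ker φ) :=
    (Module.finBasis K (LinearMap.ker φ)).reindex (finCongr hm.symm)
  let fam : Unit ⊕ Fin m → (ι → K) := Sum.elim (fun _ => x) (fun j => (bker j : ι → K))
  have hx0 : x ≠ 0 := by
    rintro rfl
    simp at hx
  have hli : LinearIndependent K fam := by
    refine LinearIndependent.sum_type ?_ ?_ ?_
    · exact LinearIndependent.of_subsingleton () hx0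
    · exact bker.linearIndependent.map' (LinearMap.ker φ).subtype (Submodule.ker_subtype _)
    · rw [Submodule.disjoint_def]
      intro w hw1 hw2
      rw [Set.range_const, Submodule.mem_span_singleton] at hw1
      obtain ⟨a, rfl⟩ := hw1
      have hker : a • x ∈ LinearMap.ker φ := by
        refine (Submodule.span_le.mpr ?_) hw2
        rintro _ ⟨j, rfl⟩
        exact (bker j).2
      rw [LinearMap.mem_ker, hφ, dotProduct_smul, hx, smul_eq_mul, mul_one] at hker
      rw [hker, zero_smul]
  have hcard : Fintype.card (Unit ⊕ Fin m) = Module.finrank K (ι → K) := by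
    rw [Fintype.card_sum, Fintype.card_unit, Fintype.card_fin,
      Module.finrank_fintype_fun_eq_card]
    omega
  let B : Module.Basis (Unit ⊕ Fin m) K (ι → K) :=
    basisOfLinearIndependentOfCardEqFinrank hli hcard
  have hB : ∀ j, B j = fam j := fun j => by
    simp only [B, coe_basisOfLinearIndependentOfCardEqFinrank]
  refine ⟨m, (Pi.basisFun K ι).toMatrix B, B.toMatrix (Pi.basisFun K ι),
    Module.Basis.toMatrix_mul_toMatrix_flip _ _, Module.Basis.toMatrix_mul_toMatrix_flip _ _,
    hdim, ?_, ?_⟩
  · intro i
    rw [Module.Basis.toMatrix_apply, Pi.basisFun_repr, hB]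
    rfl
  · intro i
    rw [Module.Basis.toMatrix_apply]
    have hcoord : B.coord (Sum.inl ()) = φ := by
      apply B.ext
      intro j
      rw [Module.Basis.coord_apply, Module.Basis.repr_self, hB]
      cases j with
      | inl u =>
        cases u
        simp [fam, hφ, hx]
      | inr j =>
        have h0 : φ (bker j : ι → K) = 0 := (bker j).2
        simp only [fam, Sum.elim_inr]
        rw [h0]
        simp
    have h1 := congrArg (fun f => f (Pi.basisFun K ι i)) hcoord
    simp only [Module.Basis.coord_apply] at h1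
    rw [h1, hφ, Pi.basisFun_apply, dotProduct_single_one]

end Cfsg.Agent.Lib.helper51.Lev
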