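import Mathlib
import Cfsg.Prelude.Def_OddOrderLocal

/-!
# S1383 piece CY
-/

set_option autoImplicit false

namespace Cfsg.Agent.Lib.helper6.TV

open Cfsg Subgroup

variable {G : Type*} [Group G]

/-- **CY** (pure). A `p'`-element normalizing a cyclic `p`-group `C` and centralizing its elements
of order dividing `p` centralizes `C`. -/
theorem cyclic_cent [Finite G] (p : ℕ) [Fact p.Prime] (C : Subgroup G) (hC : IsPGroup p ↥C)
    (hCc : IsCyclic ↥C) (k : G) (hk : k ∈ normalizer (C : Set G)) (hcop : (orderOf k).Coprime p)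
    (h1 : ∀ x ∈ C, x ^ p = 1 → k * x = x * k) : ∀ x ∈ C, k * x = x * k := by
  have hp : p.Prime := Fact.out
  obtain ⟨c, hc⟩ := hCc.exists_generator
  obtain ⟨n, hn⟩ := IsPGroup.iff_card.mp hC
  have hord : orderOf (c : G) = p ^ n := by
    rw [Subgroup.orderOf_coe, orderOf_eq_card_of_forall_mem_zpowers hc, hn]
  have hkc : k * (c : G) * k⁻¹ ∈ C := (Subgroup.mem_normalizer_iff.mp hk (c : G)).mp c.2
  obtain ⟨m, hm⟩ : ∃ m : ℕ, (c : G) ^ m = k * (c : G) * k⁻¹ := by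
    have h2 : (⟨k * (c : G) * k⁻¹, hkc⟩ : ↥C) ∈ Subgroup.zpowers c := hc _
    rw [← mem_powers_iff_mem_zpowers] at h2
    obtain ⟨m, hm⟩ := h2
    refine ⟨m, ?_⟩
    have h3 := congrArg Subtype.val hm
    simpa using h3
  suffices hmod : m ≡ 1 [MOD p ^ n] by
    have h3 : (c : G) ^ m = (c : G) ^ 1 := by
      rw [pow_eq_pow_iff_modEq, hord]; exact hmod
    rw [pow_one] at h3
    have hcomm : Commute k (c : G) := by
      have h4 : k * (c : G) * k⁻¹ = (c : G) := by rw [← hm, h3]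
      show k * (c : G) = (c : G) * k
      calc k * (c : G) = k * (c : G) * k⁻¹ * k := by group
        _ = (c : G) * k := by rw [h4]
    intro x hx
    have h4 : (⟨x, hx⟩ : ↥C) ∈ Subgroup.zpowers c := hc _
    obtain ⟨i, hi⟩ := Subgroup.mem_zpowers_iff.mp h4
    have h5 : x = (c : G) ^ i := by
      have h6 := congrArg Subtype.val hi
      simpa using h6.symm
    rw [h5]
    exact (hcomm.zpow_right i).eq
  rcases Nat.eq_zero_or_pos n with hn0 | hnpos
  · rw [hn0, pow_zero]; exact Nat.modEq_one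
  have hpow : ∀ j : ℕ, k ^ j * (c : G) * (k ^ j)⁻¹ = (c : G) ^ (m ^ j) := by
    intro j
    induction j with
    | zero => simp
    | succ j ih =>
      calc k ^ (j + 1) * (c : G) * (k ^ (j + 1))⁻¹
          = k * (k ^ j * (c : G) * (k ^ j)⁻¹) * k⁻¹ := by rw [pow_succ']; group
        _ = k * ((c : G) ^ (m ^ j)) * k⁻¹ := by rw [ih]
        _ = (k * (c : G) * k⁻¹) ^ (m ^ j) := (conj_pow).symm
        _ = ((c : G) ^ m) ^ (m ^ j) := by rw [hm]
        _ = (c : G) ^ (m ^ (j + 1)) := by rw [← pow_mul, pow_succ']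
  have h6 : m ^ orderOf k ≡ 1 [MOD p ^ n] := by
    have h7 := hpow (orderOf k)
    rw [pow_orderOf_eq_one, one_mul, inv_one, mul_one] at h7
    have h8 : (c : G) ^ (m ^ orderOf k) = (c : G) ^ 1 := by rw [← h7, pow_one]
    rw [pow_eq_pow_iff_modEq, hord] at h8
    exact h8
  obtain ⟨n', rfl⟩ : ∃ n', n = n' + 1 := ⟨n - 1, by omega⟩
  have h9 : (p : ℤ) ∣ (m : ℤ) - 1 := by
    have hz : ((c : G) ^ (p ^ n')) ^ p = 1 := by
      rw [← pow_mul, ← pow_succ, ← hord, pow_orderOf_eq_one]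
    have hzC : (c : G) ^ (p ^ n') ∈ C := Subgroup.pow_mem C c.2 _
    have hkz := h1 _ hzC hz
    have h10 : k * ((c : G) ^ (p ^ n')) * k⁻¹ = (c : G) ^ (p ^ n') := by
      rw [hkz]; group
    rw [← conj_pow, ← hm, ← pow_mul] at h10
    rw [pow_eq_pow_iff_modEq, hord] at h10
    have h11 := (Nat.modEq_iff_dvd.mp h10)
    have h12 : (p : ℤ) ^ n' * p ∣ (p : ℤ) ^ n' * (1 - m) := by
      have e1 : ((p ^ n' : ℕ) : ℤ) - ((m * p ^ n' : ℕ) : ℤ) = (p : ℤ) ^ n' * (1 - m) := by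
        push_cast; ring
      have e2 : ((p ^ (n' + 1) : ℕ) : ℤ) = (p : ℤ) ^ n' * p := by push_cast; ring
      rw [← e1, ← e2]; exact h11
    have h13 : (p : ℤ) ∣ 1 - m :=
      (mul_dvd_mul_iff_left (pow_ne_zero n' (by exact_mod_cast hp.ne_zero))).mp h12
    have e3 : (m : ℤ) - 1 = -(1 - m) := by ring
    rw [e3]; exact (dvd_neg).mpr h13
  have h14 : ((p ^ (n' + 1) : ℕ) : ℤ) ∣ (m : ℤ) ^ p ^ n' - 1 := by
    have h := dvd_sub_pow_of_dvd_sub h9 n'
    rw [one_pow] at h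
    exact_mod_cast h
  have h15 : ((m : ZMod (p ^ (n' + 1))) ^ p ^ n') = 1 := by
    have h := (ZMod.intCast_zmod_eq_zero_iff_dvd ((m : ℤ) ^ p ^ n' - 1) (p ^ (n' + 1))).mpr h14
    push_cast at h
    exact sub_eq_zero.mp h
  have h16 : ((m : ZMod (p ^ (n' + 1))) ^ orderOf k) = 1 := by
    have h := (ZMod.natCast_eq_natCast_iff _ _ _).mpr h6
    push_cast at h
    exact h
  have h17 : orderOf (m : ZMod (p ^ (n' + 1))) ∣ Nat.gcd (orderOf k) (p ^ n') :=
    Nat.dvd_gcd (orderOf_dvd_of_pow_eq_one h16) (orderOf_dvd_of_pow_eq_one h15)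
  have h18 : Nat.gcd (orderOf k) (p ^ n') = 1 := Nat.Coprime.pow_right n' hcop
  rw [h18, Nat.dvd_one, orderOf_eq_one_iff] at h17
  exact (ZMod.natCast_eq_natCast_iff m 1 (p ^ (n' + 1))).mp (by rw [h17]; simp)

end Cfsg.Agent.Lib.helper6.TV
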