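import Mathlib
import Cfsg.Agent.Lib.helper44.SUWDefs

/-! Piece UADD of the S2335 split (helper44): `uMat (C + C') = uMat C * uMat C'`. -/

set_option autoImplicit false

namespace Cfsg.Agent.Lib.helper44.SUW

open Matrix Cfsg

/-- UADD (S) -/
theorem uMat_add {K : Type*} [Field K] (σ : K →+* K) (ε : K) (hε : ε * σ ε = -1) {m : ℕ}
    (C C' : Matrix (Fin m) (Fin m) K) : uMat σ ε (C + C') = uMat σ ε C * uMat σ ε C' := by
  have hε' : σ ε * ε = -1 := by rw [mul_comm]; exact hε
  unfold uMat
  rw [Matrix.submatrix_mul_equiv, Matrix.fromBlocks_multiply]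
  congr 1
  rw [Matrix.fromBlocks_inj]
  refine ⟨?_, ?_, ?_, ?_⟩
  · simp only [Matrix.smul_mul, Matrix.mul_smul, smul_smul, hε, neg_one_smul]
    noncomm_ring
  · simp only [Matrix.smul_mul, Matrix.mul_smul, ← smul_add]
    congr 1
    noncomm_ring
  · simp only [Matrix.smul_mul, Matrix.mul_smul, ← smul_add]
    congr 1
    noncomm_ring
  · simp only [Matrix.smul_mul, Matrix.mul_smul, smul_smul, hε', neg_one_smul]
    noncomm_ring

end Cfsg.Agent.Lib.helper44.SUW
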