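import Mathlib
import Cfsg.Agent.Lib.helper44.SUWDefs
import Cfsg.Agent.Lib.helper44.SUODefs

/-!
# S2334 piece OCMEM (`cmat_mem`), helper6
-/

set_option autoImplicit false

namespace Cfsg.Agent.Lib.helper44.SUW

open Matrix Cfsg

/-- OCMEM (S) -/
theorem cmat_mem {K : Type*} [Field K] (σ : K →+* K) (hσσ : ∀ x, σ (σ x) = x) {m : ℕ}
    (t t' : Fin m → K) : cmat σ t t' ∈ skewH σ m := by
  rw [mem_skewH]
  intro i j
  simp only [cmat, Matrix.sub_apply, Matrix.vecMulVec_apply, map_sub, map_mul, hσσ]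
  ring

end Cfsg.Agent.Lib.helper44.SUW
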