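import Mathlib
import Cfsg.Agent.Lib.helper44.SUWDefs
import Cfsg.Agent.Lib.helper44.SUODefs
import Cfsg.Agent.Lib.helper29.SUWFSIG
import Cfsg.Agent.Lib.helper61.SUWFSKEW

/-!
# S2334 piece OHEIS (`heis_data`), helper6 (racer copy)
-/

set_option autoImplicit false

namespace Cfsg.Agent.Lib.helper44.SUW

open Matrix Cfsg

theorem h6_trace_cmat_single {K : Type*} [Field K] (σ : K →+* K) {m : ℕ}
    (Y : Matrix (Fin m) (Fin m) K) (a₀ b₀ : Fin m) (s τ : K) :
    Matrix.trace (Y * cmat σ (Pi.single a₀ s) (Pi.single b₀ τ)) =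
      Y b₀ a₀ * s * σ τ - Y a₀ b₀ * τ * σ s := by
  have h1 : (fun j => σ ((Pi.single b₀ τ : Fin m → K) j)) = Pi.single b₀ (σ τ) := by
    funext j
    by_cases hj : j = b₀
    · subst hj; simp
    · simp [Pi.single_eq_of_ne hj]
  have h2 : (fun j => σ ((Pi.single a₀ s : Fin m → K) j)) = Pi.single a₀ (σ s) := by
    funext j
    by_cases hj : j = a₀
    · subst hj; simp
    · simp [Pi.single_eq_of_ne hj]
  unfold cmat
  rw [h1, h2, Matrix.mul_sub, Matrix.trace_sub, Matrix.mul_vecMulVec, Matrix.mul_vecMulVec,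
    Matrix.trace_vecMulVec, Matrix.trace_vecMulVec, dotProduct_single, dotProduct_single]
  simp only [Matrix.mulVec_single, Pi.smul_apply, Matrix.col_apply, MulOpposite.smul_eq_mul_unop,
    MulOpposite.unop_op]

/-- OHEIS (L) -/
theorem h6_heis_data {K : Type*} [Field K] [Fintype K] {q m : ℕ} (hK : Fintype.card K = q ^ 2)
    (σ : K →+* K) (hσ : ∀ x, σ x = x ^ q) (ψ : AddChar K ℂ) (hψ : ψ 1 ≠ 1)
    (Y : Matrix (Fin m) (Fin m) K) (hY : Y ∈ skewH σ m) (hY0 : Y ≠ 0) :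
    ∃ (r : ℕ) (tx : Fin r → Fin m → K) (tz : Fin q → Fin m → K),
      (∀ i i', cmat σ (tx i) (tx i') = 0) ∧
      ∀ j j', j ≠ j' → ∃ i, ψ (Matrix.trace (Y * cmat σ (tx i) (tz j))) ≠
        ψ (Matrix.trace (Y * cmat σ (tx i) (tz j'))) := by
  classical
  obtain ⟨hσσ, hσid⟩ := sigma_facts hK σ hσ
  obtain ⟨η, hη⟩ : ∃ η : K, η + σ η = 1 := by
    have hex : ∃ θ, σ θ ≠ θ := by
      by_contra hcon
      push_neg at hcon
      exact hσid (RingHom.ext hcon)
    obtain ⟨θ, hθ⟩ := hex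
    have hne : θ - σ θ ≠ 0 := sub_ne_zero.mpr (Ne.symm hθ)
    have hne' : σ θ - θ ≠ 0 := sub_ne_zero.mpr hθ
    refine ⟨θ / (θ - σ θ), ?_⟩
    rw [map_div₀, map_sub, hσσ]
    field_simp
    ring
  obtain ⟨b₀, a₀, hy₀⟩ : ∃ b₀ a₀, Y b₀ a₀ ≠ 0 := by
    by_contra hcon
    push_neg at hcon
    exact hY0 (Matrix.ext hcon)
  have hskew : σ (Y b₀ a₀) = - Y a₀ b₀ := (mem_skewH.mp hY) b₀ a₀
  have hcard : Nat.card {c : K // σ c = -c} = q := card_skew hK σ hσ
  let e : {c : K // σ c = -c} ≃ Fin q := Finite.equivFinOfCardEq hcard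
  refine ⟨q, fun i => Pi.single a₀ (e.symm i).1,
    fun j => Pi.single b₀ (σ (η * (e.symm j).1 / Y b₀ a₀)), ?_, ?_⟩
  · intro i i'
    ext x y
    simp only [cmat, Matrix.sub_apply, Matrix.vecMulVec_apply, Matrix.zero_apply]
    by_cases hx : x = a₀
    · by_cases hy : y = a₀
      · rw [hx, hy]
        simp only [Pi.single_eq_same]
        rw [(e.symm i).2, (e.symm i').2]; ring
      · simp [Pi.single_eq_of_ne hy]
    · simp [Pi.single_eq_of_ne hx]
  · intro j j' hjj'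
    have hval : ∀ (s : K) (hs : σ s = -s) (j : Fin q),
        Matrix.trace (Y * cmat σ (Pi.single a₀ s)
          (Pi.single b₀ (σ (η * (e.symm j).1 / Y b₀ a₀)))) = s * (e.symm j).1 := by
      intro s hs j
      have hd : σ (e.symm j).1 = -(e.symm j).1 := (e.symm j).2
      have hY2 : Y a₀ b₀ = - σ (Y b₀ a₀) := by rw [hskew, neg_neg]
      have hσy : σ (Y b₀ a₀) ≠ 0 := fun h0 => hy₀ ((map_eq_zero σ).1 h0)
      rw [h6_trace_cmat_single, hσσ, hs, hY2, map_div₀, map_mul, hd]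
      field_simp
      linear_combination (s * (e.symm j).1) * hη
    have hdne : (e.symm j).1 - (e.symm j').1 ≠ 0 := by
      intro h0
      apply hjj'
      have h1 : (e.symm j).1 = (e.symm j').1 := sub_eq_zero.mp h0
      exact e.symm.injective (Subtype.ext h1)
    have hsk : σ ((e.symm j).1 - (e.symm j').1)⁻¹ = -((e.symm j).1 - (e.symm j').1)⁻¹ := by
      rw [map_inv₀, map_sub, (e.symm j).2, (e.symm j').2,
        show -(e.symm j).1 - -(e.symm j').1 = -((e.symm j).1 - (e.symm j').1) by ring, inv_neg]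
    refine ⟨e ⟨((e.symm j).1 - (e.symm j').1)⁻¹, hsk⟩, ?_⟩
    show ψ (Matrix.trace (Y * cmat σ (Pi.single a₀ (e.symm (e ⟨((e.symm j).1 - (e.symm j').1)⁻¹, hsk⟩)).1)
      (Pi.single b₀ (σ (η * (e.symm j).1 / Y b₀ a₀))))) ≠
      ψ (Matrix.trace (Y * cmat σ (Pi.single a₀ (e.symm (e ⟨((e.symm j).1 - (e.symm j').1)⁻¹, hsk⟩)).1)
      (Pi.single b₀ (σ (η * (e.symm j').1 / Y b₀ a₀)))))
    rw [Equiv.symm_apply_apply]
    rw [hval _ hsk j, hval _ hsk j']
    intro heq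
    apply hψ
    have h1 : ((e.symm j).1 - (e.symm j').1)⁻¹ * (e.symm j).1 =
        ((e.symm j).1 - (e.symm j').1)⁻¹ * (e.symm j').1 + 1 := by
      field_simp
      ring
    rw [h1, AddChar.map_add_eq_mul] at heq
    have hne0 : ψ (((e.symm j).1 - (e.symm j').1)⁻¹ * (e.symm j').1) ≠ 0 := by
      intro h0
      have h2 : ψ (((e.symm j).1 - (e.symm j').1)⁻¹ * (e.symm j').1 +
          -(((e.symm j).1 - (e.symm j').1)⁻¹ * (e.symm j').1)) = 1 := by
        rw [add_neg_cancel, AddChar.map_zero_eq_one]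
      rw [AddChar.map_add_eq_mul, h0, zero_mul] at h2
      exact zero_ne_one h2
    have h4 : ψ (((e.symm j).1 - (e.symm j').1)⁻¹ * (e.symm j').1) * ψ 1 =
        ψ (((e.symm j).1 - (e.symm j').1)⁻¹ * (e.symm j').1) * 1 := by
      rw [mul_one]; exact heq
    exact mul_left_cancel₀ hne0 h4

end Cfsg.Agent.Lib.helper44.SUW
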