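import Mathlib

namespace Cfsg.Agent.Lib.helper45.PearlC

/-- C5 SECOND CENTER (S/M): a finite `p`-group with `Z(G) ≠ G` has an element `w ∉ Z(G)` all of
whose commutators are central. -/
theorem h6_second_center {G : Type*} [Group G] [Finite G] (p : ℕ) [Fact p.Prime] (n : ℕ)
    (hG : Nat.card G = p ^ n) (hne : Subgroup.center G ≠ ⊤) :
    ∃ w : G, w ∉ Subgroup.center G ∧ ∀ g : G, w * g * w⁻¹ * g⁻¹ ∈ Subgroup.center G := by
  have hGp : IsPGroup p G := IsPGroup.of_card hG
  have hQp : IsPGroup p (G ⧸ Subgroup.center G) := hGp.to_quotient (Subgroup.center G)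
  haveI : Nontrivial (G ⧸ Subgroup.center G) := by
    by_contra hnt
    rw [not_nontrivial_iff_subsingleton] at hnt
    apply hne
    rw [eq_top_iff]
    intro g _
    rw [← QuotientGroup.eq_one_iff]
    exact Subsingleton.elim _ _
  haveI := hQp.center_nontrivial
  obtain ⟨q, hq⟩ := exists_ne (1 : Subgroup.center (G ⧸ Subgroup.center G))
  obtain ⟨w, hw⟩ := QuotientGroup.mk_surjective (q : G ⧸ Subgroup.center G)
  refine ⟨w, ?_, ?_⟩
  · intro hwZ
    apply hq
    apply Subtype.ext
    rw [← hw]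
    exact (QuotientGroup.eq_one_iff w).mpr hwZ
  · intro g
    rw [← QuotientGroup.eq_one_iff]
    have hc := Subgroup.mem_center_iff.mp q.2 (QuotientGroup.mk g)
    simp only [QuotientGroup.mk_mul, QuotientGroup.mk_inv, hw]
    rw [← hc]
    group

end Cfsg.Agent.Lib.helper45.PearlC
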