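import Mathlib

/-!
# Automorphisms of elementary abelian 2-groups

`card_mulAut_le`: a finite group `V` of order `2 ^ k` in which every element squares to `1` has at
most `∏ i < k, (2 ^ k - 2 ^ i)` automorphisms (the order of `GL_k(2)`).
-/

set_option autoImplicit false

namespace Cfsg.Agent.Lib.helper6

theorem comm_of_sq_eq_one {V : Type*} [Group V] (hexp : ∀ x : V, x * x = 1) (x y : V) :
    x * y = y * x := by
  have hx : x⁻¹ = x := inv_eq_of_mul_eq_one_left (hexp x)
  have hy : y⁻¹ = y := inv_eq_of_mul_eq_one_left (hexp y)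
  have hxy : (x * y)⁻¹ = x * y := inv_eq_of_mul_eq_one_left (hexp (x * y))
  calc x * y = (x * y)⁻¹ := hxy.symm
    _ = y⁻¹ * x⁻¹ := mul_inv_rev x y
    _ = y * x := by rw [hx, hy]

theorem card_mulAut_le {V : Type*} [Group V] [Finite V] (hexp : ∀ x : V, x * x = 1) (k : ℕ)
    (hcard : Nat.card V = 2 ^ k) :
    Nat.card (MulAut V) ≤ ∏ i : Fin k, (2 ^ k - 2 ^ (i : ℕ)) := by
  classical
  let _ : CommGroup V := { ‹Group V› with mul_comm := comm_of_sq_eq_one hexp }
  have h2 : ∀ x : Additive V, 2 • x = 0 := by
    intro x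
    rw [two_nsmul]
    exact congrArg Additive.ofMul (hexp x.toMul)
  let _ : Module (ZMod 2) (Additive V) := AddCommGroup.zmodModule h2
  have : Finite (Additive V) := ‹Finite V›
  have hfin : Module.finrank (ZMod 2) (Additive V) = k := by
    have h := Module.natCard_eq_pow_finrank (K := ZMod 2) (V := Additive V)
    have hc : Nat.card (Additive V) = 2 ^ k := hcard
    rw [hc, Nat.card_eq_fintype_card, ZMod.card] at h
    exact (Nat.pow_right_injective (le_refl 2) h).symm
  let b := Module.finBasisOfFinrankEq (ZMod 2) (Additive V) hfin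
  let toLin : MulAut V → (Additive V →ₗ[ZMod 2] Additive V) := fun φ =>
    AddMonoidHom.toZModLinearMap 2 (MonoidHom.toAdditive φ.toMonoidHom)
  have toLin_apply : ∀ (φ : MulAut V) (x : Additive V), toLin φ x = Additive.ofMul (φ x.toMul) :=
    fun φ x => rfl
  have hker : ∀ φ : MulAut V, LinearMap.ker (toLin φ) = ⊥ := by
    intro φ
    rw [LinearMap.ker_eq_bot]
    intro x y hxy
    rw [toLin_apply, toLin_apply] at hxy
    have := φ.injective (Additive.ofMul.injective hxy)
    exact Additive.toMul.injective this
  let F : MulAut V → {s : Fin k → Additive V // LinearIndependent (ZMod 2) s} := fun φ =>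
    ⟨fun i => toLin φ (b i), b.linearIndependent.map' (toLin φ) (hker φ)⟩
  have hF : Function.Injective F := by
    intro φ ψ h
    have h1 : ∀ i, toLin φ (b i) = toLin ψ (b i) := fun i => congrFun (congrArg Subtype.val h) i
    have h2 : toLin φ = toLin ψ := b.ext h1
    apply MulEquiv.ext
    intro x
    have h3 := congrArg (fun f : Additive V →ₗ[ZMod 2] Additive V => f (Additive.ofMul x)) h2
    exact Additive.ofMul.injective h3
  have h1 := Nat.card_le_card_of_injective F hF
  have h3 := card_linearIndependent (K := ZMod 2) (V := Additive V) (k := k) (le_of_eq hfin.symm)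
  rw [h3, hfin, ZMod.card] at h1
  exact h1

end Cfsg.Agent.Lib.helper6
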