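/-
Explicit finite subgroups of the permutation group of the 24 points given by lists of image
tables: all group computations are table computations on natural numbers, which the kernel
evaluates quickly.
-/
import Mathlib
import Cfsg.Agent.Lib.helper9.M24NF

set_option autoImplicit false

namespace Cfsg.Agent.Lib.helper6.TblGrp

open Cfsg Cfsg.Agent.Lib.helper9 Cfsg.Agent.Lib.helper33
open scoped Pointwise

/-- the inverse table, by search -/
def invOf (t : List ℕ) : List ℕ := (List.range 24).map fun j => t.idxOf j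

/-- validity of a table of images -/
def tvalid (t : List ℕ) : Bool := validTbl t (invOf t)

theorem tvalid_length {t : List ℕ} (h : tvalid t = true) : t.length = 24 := by
  simp only [tvalid, validTbl, Bool.and_eq_true] at h
  exact Nat.eq_of_beq_eq_true h.1

open Classical in
/-- the permutation with table `t` (the identity when there is none) -/
noncomputable def pT (t : List ℕ) : Equiv.Perm GolayPt :=
  if h : ∃ σ : Equiv.Perm GolayPt, IsTable σ t then h.choose else 1

theorem isTable_pT_of {σ : Equiv.Perm GolayPt} {t : List ℕ} (h : IsTable σ t) :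
    IsTable (pT t) t := by
  have h' : ∃ σ : Equiv.Perm GolayPt, IsTable σ t := ⟨σ, h⟩
  rw [pT, dif_pos h']
  exact h'.choose_spec

theorem isTable_pT {t : List ℕ} (h : tvalid t = true) : IsTable (pT t) t := by
  obtain ⟨σ, hσ⟩ := exists_perm_of_validTbl t (invOf t) h
  exact isTable_pT_of hσ

theorem eq_pT {σ : Equiv.Perm GolayPt} {t : List ℕ} (h : IsTable σ t) : σ = pT t :=
  eq_of_isTable h (isTable_pT_of h) (fun _ _ => rfl)

theorem isTable_congr {σ : Equiv.Perm GolayPt} {a c : List ℕ} (h : IsTable σ a)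
    (hc : c.length = 24) (he : eqT a c = true) : IsTable σ c := by
  simp only [eqT, List.all_eq_true, List.mem_range, beq_iff_eq] at he
  refine ⟨hc, fun p => ?_⟩
  rw [h.2, he _ (idx_lt p)]

theorem pT_one : pT idTbl = 1 := (eq_pT isTable_one).symm

theorem pT_mul {a b c : List ℕ} (ha : tvalid a = true) (hb : tvalid b = true)
    (hc : c.length = 24) (he : eqT (compT a b) c = true) : pT a * pT b = pT c :=
  eq_pT (isTable_congr (Cfsg.Agent.Lib.helper9.isTable_mul (isTable_pT ha) (isTable_pT hb)) hc he)

theorem pT_apply {t : List ℕ} (h : tvalid t = true) {i : ℕ} (hi : i < 24) :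
    pT t (pt i) = pt (t.getD i 0) := by
  rw [← pt_idx (pT t (pt i)), (isTable_pT h).2, idx_pt hi]

theorem pT_mem_M24 {t : List ℕ} (h : tvalid t = true) (hc : chkTbl t = true) : pT t ∈ M24 :=
  mem_M24_of_table _ t (isTable_pT h).2 hc

theorem pT_smul_decSet {t : List ℕ} (h : tvalid t = true) (m : ℕ) :
    pT t • decSet m = decSet (permMask t m) :=
  (decSet_permMask (isTable_pT h) m).symm

theorem isTable_inv {σ : Equiv.Perm GolayPt} {t : List ℕ} (h : IsTable σ t)
    (hv : tvalid t = true) : IsTable σ⁻¹ (invOf t) := by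
  refine ⟨by simp [invOf], fun p => ?_⟩
  simp only [tvalid, validTbl, Bool.and_eq_true, List.all_eq_true, List.mem_range] at hv
  have h1 := (hv.2 (idx (σ⁻¹ p)) (idx_lt _)).2
  have h2 := h.2 (σ⁻¹ p)
  have h3 : σ (σ⁻¹ p) = p := by simp
  rw [h3] at h2
  rw [← h2] at h1
  exact (Nat.eq_of_beq_eq_true h1).symm

theorem pT_inv {t : List ℕ} (h : tvalid t = true) : (pT t)⁻¹ = pT (invOf t) :=
  eq_pT (isTable_inv (isTable_pT h) h)

/-- the table of a word in tables -/
def evalW : List (List ℕ) → List ℕ
  | [] => idTbl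
  | t :: ws => compT t (evalW ws)

theorem isTable_prod (ws : List (List ℕ)) (hv : ∀ t ∈ ws, tvalid t = true) :
    IsTable (ws.map pT).prod (evalW ws) := by
  induction ws with
  | nil => exact isTable_one
  | cons t ws ih =>
    rw [List.map_cons, List.prod_cons]
    exact Cfsg.Agent.Lib.helper9.isTable_mul (isTable_pT (hv t List.mem_cons_self))
      (ih fun s hs => hv s (List.mem_cons_of_mem _ hs))

theorem prod_eq_pT (ws : List (List ℕ)) (c : List ℕ) (hv : ∀ t ∈ ws, tvalid t = true)
    (hc : c.length = 24) (he : eqT (evalW ws) c = true) : (ws.map pT).prod = pT c :=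
  eq_pT (isTable_congr (isTable_prod ws hv) hc he)

theorem prod_eq_prod (ws ws' : List (List ℕ)) (hv : ∀ t ∈ ws, tvalid t = true)
    (hv' : ∀ t ∈ ws', tvalid t = true) (he : eqT (evalW ws) (evalW ws') = true) :
    (ws.map pT).prod = (ws'.map pT).prod :=
  eq_of_eqT (isTable_prod ws hv) (isTable_prod ws' hv') he

theorem prod_ne_prod (ws ws' : List (List ℕ)) (hv : ∀ t ∈ ws, tvalid t = true)
    (hv' : ∀ t ∈ ws', tvalid t = true) (he : eqT (evalW ws) (evalW ws') = false) :
    (ws.map pT).prod ≠ (ws'.map pT).prod := by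
  intro h
  have h1 := isTable_prod ws' hv'
  rw [← h] at h1
  have := eqT_of_eq (isTable_prod ws hv) h1
  rw [he] at this
  exact Bool.false_ne_true this

theorem prod_eq_prod' (ws ws' : List (List ℕ))
    (h : (ws.all tvalid && ws'.all tvalid && eqT (evalW ws) (evalW ws')) = true) :
    (ws.map pT).prod = (ws'.map pT).prod := by
  simp only [Bool.and_eq_true] at h
  exact prod_eq_prod ws ws' (List.all_eq_true.1 h.1.1) (List.all_eq_true.1 h.1.2) h.2

theorem prod_ne_prod' (ws ws' : List (List ℕ))
    (h : (ws.all tvalid && ws'.all tvalid && !eqT (evalW ws) (evalW ws')) = true) :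
    (ws.map pT).prod ≠ (ws'.map pT).prod := by
  simp only [Bool.and_eq_true, Bool.not_eq_true'] at h
  exact prod_ne_prod ws ws' (List.all_eq_true.1 h.1.1) (List.all_eq_true.1 h.1.2) h.2

/-- closure of a list of tables under composition -/
def mulClosed (TL : List (List ℕ)) : Bool :=
  TL.all fun a => TL.all fun b => TL.any fun c => eqT (compT a b) c

/-- closure of a list of tables under inversion -/
def invClosed (TL : List (List ℕ)) : Bool :=
  TL.all fun a => TL.any fun b => eqT (compT a b) idTbl

/-- closure of a list of tables under `a ↦ g a g'` -/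
def conjClosed (g g' : List ℕ) (TL : List (List ℕ)) : Bool :=
  TL.all fun a => TL.any fun c => eqT (compT (compT g a) g') c

/-- a list of tables forming a group -/
structure IsTblGroup (TL : List (List ℕ)) : Prop where
  valid : ∀ t ∈ TL, tvalid t = true
  one : TL.any (eqT idTbl) = true
  mul : mulClosed TL = true
  inv : invClosed TL = true

theorem isTblGroup_of (TL : List (List ℕ))
    (h : (TL.all tvalid && TL.any (eqT idTbl) && mulClosed TL && invClosed TL) = true) :
    IsTblGroup TL := by
  simp only [Bool.and_eq_true] at h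
  exact ⟨fun t ht => (List.all_eq_true.1 h.1.1.1) t ht, h.1.1.2, h.1.2, h.2⟩

/-- the subgroup whose elements are the permutations with tables in the list -/
noncomputable def tblSubgroup (TL : List (List ℕ)) (h : IsTblGroup TL) :
    Subgroup (Equiv.Perm GolayPt) where
  carrier := {σ | ∃ t ∈ TL, σ = pT t}
  mul_mem' := by
    rintro _ _ ⟨a, ha, rfl⟩ ⟨b, hb, rfl⟩
    have := h.mul
    simp only [mulClosed, List.all_eq_true, List.any_eq_true] at this
    obtain ⟨c, hc, he⟩ := this a ha b hb
    exact ⟨c, hc, pT_mul (h.valid a ha) (h.valid b hb) (tvalid_length (h.valid c hc)) he⟩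
  one_mem' := by
    have := h.one
    simp only [List.any_eq_true] at this
    obtain ⟨c, hc, he⟩ := this
    exact ⟨c, hc, eq_pT (isTable_congr isTable_one (tvalid_length (h.valid c hc)) he)⟩
  inv_mem' := by
    rintro _ ⟨a, ha, rfl⟩
    have := h.inv
    simp only [invClosed, List.all_eq_true, List.any_eq_true] at this
    obtain ⟨b, hb, he⟩ := this a ha
    refine ⟨b, hb, ?_⟩
    have h1 : pT a * pT b = 1 := by
      rw [pT_mul (h.valid a ha) (h.valid b hb) (by simp [idTbl]) he, pT_one]
    exact inv_eq_of_mul_eq_one_right h1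

theorem mem_tblSubgroup {TL : List (List ℕ)} {h : IsTblGroup TL} {σ : Equiv.Perm GolayPt} :
    σ ∈ tblSubgroup TL h ↔ ∃ t ∈ TL, σ = pT t := Iff.rfl

theorem pT_mem_tblSubgroup {TL : List (List ℕ)} (h : IsTblGroup TL) {t : List ℕ} (ht : t ∈ TL) :
    pT t ∈ tblSubgroup TL h := ⟨t, ht, rfl⟩

theorem card_tblSubgroup (TL : List (List ℕ)) (h : IsTblGroup TL)
    (hd : TL.Pairwise (fun a b => eqT a b = false)) :
    Nat.card (tblSubgroup TL h) = TL.length := by
  classical
  have hnd : (TL.map pT).Nodup := by
    rw [List.Nodup, List.pairwise_map]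
    refine hd.imp_of_mem ?_
    intro a b ha hb hab heq
    have h1 := isTable_pT (h.valid b hb)
    rw [← heq] at h1
    have := eqT_of_eq (isTable_pT (h.valid a ha)) h1
    rw [hab] at this
    exact Bool.false_ne_true this
  have e : ↥(tblSubgroup TL h) ≃ ↥((TL.map pT).toFinset) :=
    Equiv.subtypeEquivRight (fun σ => by
      rw [List.mem_toFinset, List.mem_map]
      constructor
      · rintro ⟨t, ht, rfl⟩
        exact ⟨t, ht, rfl⟩
      · rintro ⟨t, ht, rfl⟩
        exact ⟨t, ht, rfl⟩)
  rw [Nat.card_congr e, Nat.card_eq_fintype_card, Fintype.card_coe,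
    List.toFinset_card_of_nodup hnd, List.length_map]

theorem pT_mem_normalizer (TL : List (List ℕ)) (h : IsTblGroup TL) (g : List ℕ)
    (hg : tvalid g = true) (h1 : conjClosed g (invOf g) TL = true)
    (h2 : conjClosed (invOf g) g TL = true) : pT g ∈ Subgroup.normalizer (tblSubgroup TL h : Set (Equiv.Perm GolayPt)) := by
  simp only [conjClosed, List.all_eq_true, List.any_eq_true] at h1 h2
  rw [Subgroup.mem_normalizer_iff]
  intro σ
  constructor
  · rintro ⟨a, ha, rfl⟩
    obtain ⟨c, hc, he⟩ := h1 a ha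
    exact ⟨c, hc, eq_pT (isTable_congr (Cfsg.Agent.Lib.helper9.isTable_mul
      (Cfsg.Agent.Lib.helper9.isTable_mul (isTable_pT hg)
      (isTable_pT (h.valid a ha))) (isTable_inv (isTable_pT hg) hg))
      (tvalid_length (h.valid c hc)) he)⟩
  · rintro ⟨c, hc, hσ⟩
    obtain ⟨c', hc', he⟩ := h2 c hc
    refine ⟨c', hc', ?_⟩
    have h3 : σ = (pT g)⁻¹ * pT c * pT g := by
      rw [← hσ]
      group
    rw [h3]
    exact eq_pT (isTable_congr (Cfsg.Agent.Lib.helper9.isTable_mul
      (Cfsg.Agent.Lib.helper9.isTable_mul (isTable_inv (isTable_pT hg) hg)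
      (isTable_pT (h.valid c hc))) (isTable_pT hg)) (tvalid_length (h.valid c' hc')) he)

theorem stab_eq_subgroupOf {β : Type*} [MulAction (Equiv.Perm GolayPt) β] (x : β) :
    MulAction.stabilizer M24 x =
      (M24 ⊓ MulAction.stabilizer (Equiv.Perm GolayPt) x).subgroupOf M24 := by
  ext g
  rw [Subgroup.mem_subgroupOf]
  exact ⟨fun h => Subgroup.mem_inf.2 ⟨g.2, h⟩, fun h => (Subgroup.mem_inf.1 h).2⟩

/-- the stabiliser in `M24` (as a group) of an object is the corresponding subgroup of
permutations -/
noncomputable def stabEquiv {β : Type*} [MulAction (Equiv.Perm GolayPt) β] (x : β) :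
    ↥(MulAction.stabilizer M24 x) ≃* ↥(M24 ⊓ MulAction.stabilizer (Equiv.Perm GolayPt) x) :=
  (MulEquiv.subgroupCongr (stab_eq_subgroupOf x)).trans
    (Subgroup.subgroupOfEquivOfLe inf_le_left)

theorem stabEquiv_apply {β : Type*} [MulAction (Equiv.Perm GolayPt) β] (x : β)
    (g : ↥(MulAction.stabilizer M24 x)) :
    ((stabEquiv x g : ↥(M24 ⊓ MulAction.stabilizer (Equiv.Perm GolayPt) x)) :
      Equiv.Perm GolayPt) = ((g : ↥M24) : Equiv.Perm GolayPt) := rfl

end Cfsg.Agent.Lib.helper6.TblGrp
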