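import Mathlib
import Cfsg.Agent.Lib.helper92.AffTransfer
import Cfsg.Agent.Lib.helper92.QFun

/-!
# Transfer of the structure of an involution centralizer from a subgroup to the ambient group

`up_structure`: if `Φ : G →* H` is injective, the range of `Φ` contains the centralizer of `Φ z`,
and the structure statement (extraspecial `O_2`, large, complement) holds for `z` in `G`, then it
holds for `Φ z` in `H`, provided some involution `u ∈ O_2(C_G(z))` has the centralizers of `Φ u`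
and `Φ (z u)` inside the range of `Φ` as well (this gives largeness in `H`).
-/

set_option autoImplicit false

namespace Cfsg.Agent.Lib.helper6

open Cfsg.Agent.Lib.helper92

/-- `QData` pushes forward along an injective homomorphism whose range contains the centralizer of
the image of the central involution. -/
theorem qdata_map {G H : Type*} [Group G] [Group H] (Φ : G →* H) (hΦ : Function.Injective Φ)
    {R : Subgroup G} {z : G} (h : QData R z)
    (hrange : Subgroup.centralizer ({Φ z} : Set H) ≤ Φ.range) : QData (R.map Φ) (Φ z) where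
  mem := Subgroup.mem_map_of_mem Φ h.mem
  ne_one := fun hz => h.ne_one (hΦ (hz.trans (map_one Φ).symm))
  sq := by rw [← map_mul, h.sq, map_one]
  comm := by
    rintro _ ⟨x, hx, rfl⟩ _ ⟨y, hy, rfl⟩
    have h1 := h.comm x hx y hy
    have e : Φ x * Φ y * (Φ x)⁻¹ * (Φ y)⁻¹ = Φ (x * y * x⁻¹ * y⁻¹) := by
      rw [map_mul, map_mul, map_mul, map_inv, map_inv]
    rw [e]
    rcases (mem_zpowers_invol h.sq _).1 h1 with h2 | h2
    · rw [h2, map_one]; exact Subgroup.one_mem _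
    · rw [h2]; exact Subgroup.mem_zpowers _
  sqmem := by
    rintro _ ⟨x, hx, rfl⟩
    have h1 := h.sqmem x hx
    rw [← map_mul]
    rcases (mem_zpowers_invol h.sq _).1 h1 with h2 | h2
    · rw [h2, map_one]; exact Subgroup.one_mem _
    · rw [h2]; exact Subgroup.mem_zpowers _
  cent := by
    intro x hx
    have hxz : x ∈ Subgroup.centralizer ({Φ z} : Set H) := by
      rw [Subgroup.mem_centralizer_singleton_iff]
      exact (hx (Φ z) (Subgroup.mem_map_of_mem Φ h.mem)).symm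
    obtain ⟨x', rfl⟩ := hrange hxz
    have h1 : x' ∈ Subgroup.zpowers z := h.cent x' (fun q hq => hΦ (by
      rw [map_mul, map_mul]; exact hx (Φ q) (Subgroup.mem_map_of_mem Φ hq)))
    rcases (mem_zpowers_invol h.sq _).1 h1 with h2 | h2
    · rw [h2, map_one]; exact Subgroup.one_mem _
    · rw [h2]; exact Subgroup.mem_zpowers _
  norm := by
    rintro x hxz _ ⟨q, hq, rfl⟩
    have hxc : x ∈ Subgroup.centralizer ({Φ z} : Set H) := by
      rw [Subgroup.mem_centralizer_singleton_iff]; exact hxz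
    obtain ⟨x', rfl⟩ := hrange hxc
    have h1 : x' * z = z * x' := hΦ (by rw [map_mul, map_mul]; exact hxz)
    refine ⟨x' * q * x'⁻¹, h.norm x' h1 q hq, ?_⟩
    rw [map_mul, map_mul, map_inv]
  central := by
    rintro _ ⟨q, hq, rfl⟩
    rw [← map_mul, ← map_mul, h.central q hq]

/-- Transfer of the structure of an involution centralizer from a subgroup to the ambient group. -/
theorem up_structure {G H : Type*} [Group G] [Group H] [Finite H]
    (Φ : G →* H) (hΦ : Function.Injective Φ) (z : G) (hz : orderOf z = 2)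
    (hrange : Subgroup.centralizer ({Φ z} : Set H) ≤ Φ.range)
    (a b : ℕ) (L : Type*) [Group L]
    (hG : Cfsg.IsExtraspecial 2 ↥(QO z) ∧ Nat.card ↥(QO z) = a ∧
      (∃ E : Subgroup G, E ≤ QO z ∧ Cfsg.IsElementaryAbelian 2 E ∧ Nat.card ↥E = b) ∧
      Cfsg.IsLargeExtraspecial (QO z) ∧
      ∃ K : Subgroup G, K ≤ Subgroup.centralizer ({z} : Set G) ∧ QO z ⊓ K = ⊥ ∧
        QO z ⊔ K = Subgroup.centralizer ({z} : Set G) ∧ Nonempty (↥K ≃* L))
    (u : G) (huQ : u ∈ QO z) (hu2 : u * u = 1)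
    (hru : Subgroup.centralizer ({Φ u} : Set H) ≤ Φ.range)
    (hrzu : Subgroup.centralizer ({Φ (z * u)} : Set H) ≤ Φ.range) :
    Cfsg.IsExtraspecial 2 ↥(QO (Φ z)) ∧ Nat.card ↥(QO (Φ z)) = a ∧
      (∃ E : Subgroup H, E ≤ QO (Φ z) ∧ Cfsg.IsElementaryAbelian 2 E ∧ Nat.card ↥E = b) ∧
      Cfsg.IsLargeExtraspecial (QO (Φ z)) ∧
      ∃ K : Subgroup H, K ≤ Subgroup.centralizer ({Φ z} : Set H) ∧ QO (Φ z) ⊓ K = ⊥ ∧
        QO (Φ z) ⊔ K = Subgroup.centralizer ({Φ z} : Set H) ∧ Nonempty (↥K ≃* L) := by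
  have hfinG : Finite G := Finite.of_injective Φ hΦ
  have hC : ∀ x : G, x ∈ Subgroup.centralizer ({z} : Set G) ↔
      Φ x ∈ Subgroup.centralizer ({Φ z} : Set H) := by
    intro x
    rw [Subgroup.mem_centralizer_singleton_iff, Subgroup.mem_centralizer_singleton_iff,
      ← map_mul, ← map_mul]
    exact ⟨fun h => congrArg Φ h, fun h => hΦ h⟩
  let f : ↥(Subgroup.centralizer ({z} : Set G)) →* ↥(Subgroup.centralizer ({Φ z} : Set H)) :=
    (Φ.comp (Subgroup.subtype _)).codRestrict _ (fun c => (hC c.1).1 c.2)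
  have hf_coe : ∀ c, ((f c : ↥(Subgroup.centralizer ({Φ z} : Set H))) : H) = Φ (c : G) :=
    fun c => rfl
  have hf_inj : Function.Injective f := by
    intro c c' h
    apply Subtype.ext
    apply hΦ
    rw [← hf_coe, ← hf_coe, h]
  have hf_surj : Function.Surjective f := by
    intro d
    obtain ⟨x, hx⟩ := hrange d.2
    exact ⟨⟨x, (hC x).2 (by rw [hx]; exact d.2)⟩, Subtype.ext hx⟩
  let e : ↥(Subgroup.centralizer ({z} : Set G)) ≃* ↥(Subgroup.centralizer ({Φ z} : Set H)) :=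
    MulEquiv.ofBijective f ⟨hf_inj, hf_surj⟩
  have he_coe : ∀ c, ((e c : ↥(Subgroup.centralizer ({Φ z} : Set H))) : H) = Φ (c : G) :=
    fun c => rfl
  have hpc := pCore_map_mulEquiv e 2
  have hQeq : QO (Φ z) = (QO z).map Φ := by
    ext x
    unfold QO
    rw [Subgroup.mem_map, Subgroup.mem_map]
    constructor
    · rintro ⟨d, hd, rfl⟩
      rw [← hpc] at hd
      obtain ⟨c, hc, rfl⟩ := hd
      exact ⟨c.1, ⟨c, hc, rfl⟩, rfl⟩
    · rintro ⟨x', ⟨c, hc, rfl⟩, rfl⟩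
      refine ⟨e c, ?_, rfl⟩
      rw [← hpc]; exact Subgroup.mem_map_of_mem _ hc
  obtain ⟨hes, hcard, ⟨E, hEQ, hEel, hEcard⟩, hlarge, K, hKC, hK1, hK2, ⟨eK⟩⟩ := hG
  have hqG : QData (QO z) z :=
    qdata_QO z hz hes (by rw [hlarge.2.1]; exact Subgroup.map_subtype_le _)
  have hqH : QData (QO (Φ z)) (Φ z) := by rw [hQeq]; exact qdata_map Φ hΦ hqG hrange
  have eQ : ↥(QO z) ≃* ↥(QO (Φ z)) :=
    ((QO z).equivMapOfInjective Φ hΦ).trans (MulEquiv.subgroupCongr hQeq.symm)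
  have hesH : Cfsg.IsExtraspecial 2 ↥(QO (Φ z)) := isExtraspecial_of_mulEquiv eQ hes
  refine ⟨hesH, ?_, ⟨E.map Φ, ?_, ?_, ?_⟩,
    ⟨hesH, hqH.centralizer_eq, hqH.centralizer_center_le_normalizer, ?_⟩, K.map Φ, ?_, ?_, ?_, ?_⟩
  · rw [← hcard]; exact (Nat.card_congr eQ.toEquiv).symm
  · rw [hQeq]; exact Subgroup.map_mono hEQ
  · constructor
    · rw [isMulCommutative_iff_of_setLike]
      rintro _ ⟨x, hx, rfl⟩ _ ⟨y, hy, rfl⟩
      have h1 := hEel.1
      rw [isMulCommutative_iff_of_setLike] at h1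
      rw [← map_mul, ← map_mul, h1 x hx y hy]
    · rintro _ ⟨x, hx, rfl⟩
      rw [← map_pow, hEel.2 x hx, map_one]
  · rw [← hEcard]; exact Subgroup.card_map_of_injective hΦ
  · intro K' hK' hQK'
    have hfinK : Finite ↥K' := inferInstance
    have hfix := hqH.eq_one_of_odd_of_comm K' hK' hQK'
    have hnorm : ∀ q ∈ QO (Φ z), ∀ k ∈ K', q * k * q⁻¹ ∈ K' := fun q hq k hk =>
      (Subgroup.mem_normalizer_iff.1 (hQK' hq) k).1 hk
    have hinv := inverts_of_fixed_point_free hqH.sq (hnorm (Φ z) hqH.mem)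
      (fun k hk hzk => hfix k hk hzk.symm)
    have hab := commute_of_inverts hinv
    have hwQ : Φ u ∈ QO (Φ z) := by rw [hQeq]; exact Subgroup.mem_map_of_mem Φ huQ
    have hw2 : Φ u * Φ u = 1 := by rw [← map_mul, hu2, map_one]
    have hwinv : (Φ u)⁻¹ = Φ u := inv_eq_of_mul_eq_one_left hw2
    have hle : K' ≤ Φ.range := by
      intro k hk
      have hk'K : Φ u * k * (Φ u)⁻¹ ∈ K' := hnorm (Φ u) hwQ k hk
      have e1 : Φ u * (Φ u * k * (Φ u)⁻¹) * (Φ u)⁻¹ = k := by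
        rw [hwinv]
        calc Φ u * (Φ u * k * Φ u) * Φ u = (Φ u * Φ u) * k * (Φ u * Φ u) := by group
          _ = k := by rw [hw2, one_mul, mul_one]
      have ha : k * (Φ u * k * (Φ u)⁻¹) ∈ Φ.range := by
        apply hru
        rw [Subgroup.mem_centralizer_singleton_iff]
        calc k * (Φ u * k * (Φ u)⁻¹) * Φ u = (Φ u * k * (Φ u)⁻¹) * k * Φ u := by
              rw [hab k hk _ hk'K]
          _ = (Φ u * k * (Φ u)⁻¹) * (Φ u * (Φ u * k * (Φ u)⁻¹) * (Φ u)⁻¹) * Φ u := by rw [e1]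
          _ = Φ u * (k * (Φ u * k * (Φ u)⁻¹)) := by group
      have hb : k * (Φ u * k * (Φ u)⁻¹)⁻¹ ∈ Φ.range := by
        apply hrzu
        rw [Subgroup.mem_centralizer_singleton_iff, map_mul]
        have h1 : Φ z * ((Φ u * k * (Φ u)⁻¹) * k⁻¹) * (Φ z)⁻¹ = ((Φ u * k * (Φ u)⁻¹) * k⁻¹)⁻¹ :=
          hinv _ (K'.mul_mem hk'K (K'.inv_mem hk))
        have h2 : (Φ z * Φ u) * (k * (Φ u * k * (Φ u)⁻¹)⁻¹) * (Φ z * Φ u)⁻¹ =
            k * (Φ u * k * (Φ u)⁻¹)⁻¹ := by
          calc (Φ z * Φ u) * (k * (Φ u * k * (Φ u)⁻¹)⁻¹) * (Φ z * Φ u)⁻¹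
              = Φ z * ((Φ u * k * (Φ u)⁻¹) * (Φ u * (Φ u * k * (Φ u)⁻¹) * (Φ u)⁻¹)⁻¹) * (Φ z)⁻¹ := by
                group
            _ = Φ z * ((Φ u * k * (Φ u)⁻¹) * k⁻¹) * (Φ z)⁻¹ := by rw [e1]
            _ = ((Φ u * k * (Φ u)⁻¹) * k⁻¹)⁻¹ := h1
            _ = k * (Φ u * k * (Φ u)⁻¹)⁻¹ := by group
        calc k * (Φ u * k * (Φ u)⁻¹)⁻¹ * (Φ z * Φ u)
            = ((Φ z * Φ u) * (k * (Φ u * k * (Φ u)⁻¹)⁻¹) * (Φ z * Φ u)⁻¹) * (Φ z * Φ u) := by
              rw [h2]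
          _ = Φ z * Φ u * (k * (Φ u * k * (Φ u)⁻¹)⁻¹) := by group
      have hkk : k * k ∈ Φ.range := by
        have e2 : k * k = (k * (Φ u * k * (Φ u)⁻¹)) * (k * (Φ u * k * (Φ u)⁻¹)⁻¹) := by
          calc k * k = k * (k * (Φ u * k * (Φ u)⁻¹)) * (Φ u * k * (Φ u)⁻¹)⁻¹ := by group
            _ = k * ((Φ u * k * (Φ u)⁻¹) * k) * (Φ u * k * (Φ u)⁻¹)⁻¹ := by
                rw [hab k hk _ hk'K]
            _ = (k * (Φ u * k * (Φ u)⁻¹)) * (k * (Φ u * k * (Φ u)⁻¹)⁻¹) := by group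
        rw [e2]; exact Φ.range.mul_mem ha hb
      have hodd : Odd (orderOf k) := by
        have h1 : orderOf k ∣ Nat.card K' := by
          have := orderOf_dvd_natCard (⟨k, hk⟩ : K')
          rwa [Subgroup.orderOf_mk] at this
        exact Odd.of_dvd_nat hK' h1
      obtain ⟨m, hm⟩ := hodd
      have e3 : k = (k * k) ^ (m + 1) := by
        rw [← pow_two, ← pow_mul]
        have : 2 * (m + 1) = orderOf k + 1 := by omega
        rw [this, pow_succ, pow_orderOf_eq_one, one_mul]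
      rw [e3]; exact Φ.range.pow_mem hkk _
    have hK''odd : Odd (Nat.card ↥(K'.comap Φ)) := by
      rw [Nat.card_congr (comapEquiv Φ hΦ K' hle).toEquiv]; exact hK'
    have hQK'' : QO z ≤ Subgroup.normalizer ((K'.comap Φ : Subgroup G) : Set G) := by
      intro q hq
      have h1 : Φ q ∈ Subgroup.normalizer (K' : Set H) :=
        hQK' (by rw [hQeq]; exact Subgroup.mem_map_of_mem Φ hq)
      exact Subgroup.le_normalizer_comap Φ h1
    have h3 := hlarge.2.2.2 _ hK''odd hQK''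
    rw [eq_bot_iff]
    intro k hk
    obtain ⟨x, rfl⟩ := hle hk
    have hx : x ∈ K'.comap Φ := hk
    rw [h3, Subgroup.mem_bot] at hx
    rw [hx, map_one]; exact Subgroup.one_mem _
  · rintro _ ⟨x, hx, rfl⟩
    exact (hC x).1 (hKC hx)
  · rw [hQeq, ← Subgroup.map_inf _ _ Φ hΦ, hK1, Subgroup.map_bot]
  · rw [hQeq, ← Subgroup.map_sup, hK2]
    ext x
    constructor
    · rintro ⟨x', hx', rfl⟩; exact (hC x').1 hx'
    · intro hx
      obtain ⟨x', rfl⟩ := hrange hx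
      exact ⟨x', (hC x').2 hx, rfl⟩
  · exact ⟨(K.equivMapOfInjective Φ hΦ).symm.trans eK⟩

end Cfsg.Agent.Lib.helper6
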