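import Mathlib
import Cfsg.Agent.Lib.helper51.S2113Defs
import Cfsg.Agent.Lib.helper69.StemSylow

/-! Piece R2 of the S2113 split (helper51): lifts of `T 0 u v` commute with lifts of `T 0 0 w`. -/

set_option autoImplicit false

namespace Cfsg.Agent.Lib.helper6.S2113

open scoped commutatorElement
open Cfsg.Agent.Lib.helper69 Cfsg.Agent.Lib.helper51.S2113

/-- PIECE R2: lifts of `T 0 u v` commute with lifts of `T 0 0 w`. -/
theorem helper6_r2 {K G Γ : Type*} [Field K] [Group G] [Group Γ] (σ : Γ →* G)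
    (hsurj : Function.Surjective σ) (hc : σ.ker ≤ Subgroup.center Γ) (T : K → K → K → G) (e : ℕ)
    (c : K → K → K) (D : UData K G T e c)
    (h1 : ∀ x y : Γ, (∃ w, σ x = T 0 0 w) → (∃ w, σ y = T 0 0 w) → x * y = y * x)
    (hbc : ∀ B : K → K → Γ, (∀ s s' t, B (s + s') t = B s t * B s' t) →
      (∀ s t t', B s (t + t') = B s t * B s t') →
      (∀ ν s t, ν ≠ 0 → B (ν * (ν ^ e) ^ 3 * s) (ν ^ 2 * (ν ^ e) ^ 3 * t) = B s t) →
      ∀ s t, B s t = 1)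
    (x y : Γ) (hx : ∃ u v, σ x = T 0 u v) (hy : ∃ w, σ y = T 0 0 w) : x * y = y * x := by
  obtain ⟨ℓ, hℓ⟩ := hsurj.hasRightInverse
  have hcen : ∀ u w : K, ⁅ℓ (T 0 u 0), ℓ (T 0 0 w)⁆ ∈ Subgroup.center Γ := by
    intro u w
    apply commutatorElement_mem_center_of_central σ hc
    rw [hℓ, hℓ, D.top_r, D.top_l]
  have hβ : ∀ u w : K, ⁅ℓ (T 0 u 0), ℓ (T 0 0 w)⁆ = 1 := by
    apply hbc (fun u w => ⁅ℓ (T 0 u 0), ℓ (T 0 0 w)⁆)
    · intro u u'' w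
      show ⁅ℓ (T 0 (u + u'') 0), ℓ (T 0 0 w)⁆ =
        ⁅ℓ (T 0 u 0), ℓ (T 0 0 w)⁆ * ⁅ℓ (T 0 u'' 0), ℓ (T 0 0 w)⁆
      rw [← stem_commutatorElement_mul_left _ _ _ (hcen u'' w)]
      apply commutatorElement_congr_of_central σ hc
      · rw [map_mul, hℓ, hℓ, hℓ, D.mid]
      · rfl
    · intro u w w'
      show ⁅ℓ (T 0 u 0), ℓ (T 0 0 (w + w'))⁆ =
        ⁅ℓ (T 0 u 0), ℓ (T 0 0 w)⁆ * ⁅ℓ (T 0 u 0), ℓ (T 0 0 w')⁆
      rw [← stem_commutatorElement_mul_right _ _ _ (hcen u w')]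
      apply commutatorElement_congr_of_central σ hc
      · rfl
      · rw [map_mul, hℓ, hℓ, hℓ, D.top_r]
    · intro ν s t hν
      show ⁅ℓ (T 0 (ν * (ν ^ e) ^ 3 * s) 0), ℓ (T 0 0 (ν ^ 2 * (ν ^ e) ^ 3 * t))⁆ =
        ⁅ℓ (T 0 s 0), ℓ (T 0 0 t)⁆
      obtain ⟨h, hh⟩ := D.tor ν hν
      rw [← commutatorElement_conj_of_central (ℓ h) _ _ (hcen s t)]
      apply commutatorElement_congr_of_central σ hc
      · rw [map_mul, map_mul, map_inv, hℓ, hℓ, hℓ, hh, mul_zero, mul_zero]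
      · rw [map_mul, map_mul, map_inv, hℓ, hℓ, hℓ, hh, mul_zero, mul_zero]
  obtain ⟨u, v, hx⟩ := hx
  obtain ⟨w, hy⟩ := hy
  have hsplit : ∀ u v : K, T 0 u 0 * T 0 0 v = T 0 u v := by
    intro u v
    rw [D.top_r, zero_add]
  have e1 : ⁅x, y⁆ = ⁅ℓ (T 0 u 0) * ℓ (T 0 0 v), y⁆ := by
    apply commutatorElement_congr_of_central σ hc
    · rw [map_mul, hℓ, hℓ, hsplit, hx]
    · rfl
  have e2 : ⁅ℓ (T 0 0 v), y⁆ = 1 := by
    rw [commutatorElement_eq_one_iff_mul_comm]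
    exact h1 _ _ ⟨v, hℓ _⟩ ⟨w, hy⟩
  have e3 : ⁅ℓ (T 0 u 0), y⁆ = ⁅ℓ (T 0 u 0), ℓ (T 0 0 w)⁆ := by
    apply commutatorElement_congr_of_central σ hc
    · rfl
    · rw [hℓ, hy]
  rw [stem_commutatorElement_mul_left _ _ _ (by rw [e2]; exact Subgroup.one_mem _), e2, mul_one,
    e3, hβ] at e1
  exact commutatorElement_eq_one_iff_mul_comm.mp e1

end Cfsg.Agent.Lib.helper6.S2113
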