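import Mathlib
import Cfsg.Prelude.Def_Classical
import Cfsg.Prelude.Def_GeometricClasses
import Cfsg.Agent.Lib.helper58.QfcKAPPA

/-!
# S5977 / S5978 block [A], leaf KAPPA (`sfk_kappa`), helper6: wrapper around the landed `qfc_kappa`
-/

set_option autoImplicit false

namespace Cfsg.Agent.Lib.helper59.Sfk

open Matrix Cfsg.Geo

/-- KAPPA (M; identical to `qfc_kappa` of block C, helper2): `K = F[κ]`, `κ² = δ` a nonsquare. -/
theorem sfk_kappa {F : Type*} [Field F] {ι : Type} [Fintype ι] [DecidableEq ι]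
    (h2 : (2 : F) ≠ 0) (K : Subalgebra F (Matrix ι ι F)) (hK : IsFieldSubalgebra 2 K) :
    ∃ κ ∈ K, ∃ δ : F, (∀ r : F, r ^ 2 ≠ δ + 0 * r) ∧ κ * κ = δ • (1 : Matrix ι ι F) ∧
      ∀ k ∈ K, ∃ a b : F, k = a • (1 : Matrix ι ι F) + b • κ :=
  Cfsg.Agent.Lib.helper2.qfc_kappa h2 K hK

end Cfsg.Agent.Lib.helper59.Sfk
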