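import Mathlib
import Cfsg.Agent.S3377

/-!
# Generators of `Alt(5)` of type `(3, 5, 2)`

* `exists_gens` : a subgroup isomorphic to `Alt(5)` has 60 elements and contains `a`, `b` with
  `a ^ 3 = b ^ 5 = (a * b) ^ 2 = 1`, both non-trivial, which generate it;
* `iso_of_gens` : a subgroup of order 60 containing such `a`, `b` is isomorphic to `Alt(5)`
  (by the presentation of `Alt(5)` proved in `S3377`).
-/

set_option autoImplicit false

namespace Cfsg.Agent.Lib.helper6.A5Gen

open Cfsg.Agent.S3377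

/-- The first standard generator, of order 3. -/
def x0 : alternatingGroup (Fin 5) := ⟨a0, a0_mem⟩

/-- The second standard generator, of order 5. -/
def y0 : alternatingGroup (Fin 5) := ⟨b0, b0_mem⟩

theorem x0_pow : x0 ^ 3 = 1 := by apply Subtype.ext; decide

theorem y0_pow : y0 ^ 5 = 1 := by apply Subtype.ext; decide

theorem x0y0_pow : (x0 * y0) ^ 2 = 1 := by apply Subtype.ext; decide

theorem x0_ne : x0 ≠ 1 := fun h => absurd (congrArg Subtype.val h) (by decide)

theorem y0_ne : y0 ≠ 1 := fun h => absurd (congrArg Subtype.val h) (by decide)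

theorem closure_x0_y0 : Subgroup.closure ({x0, y0} : Set (alternatingGroup (Fin 5))) = ⊤ := by
  have h1 : Subgroup.map phi (Subgroup.closure (Set.range (PresentedGroup.of : Fin 2 → P))) = ⊤ := by
    rw [PresentedGroup.closure_range_of, ← MonoidHom.range_eq_map, MonoidHom.range_eq_top]
    exact phi_surjective
  rw [MonoidHom.map_closure] at h1
  rw [← h1]
  congr 1
  ext z
  constructor
  · intro hz
    rcases hz with rfl | rfl
    · exact ⟨_, ⟨0, rfl⟩, phi_x⟩
    · exact ⟨_, ⟨1, rfl⟩, phi_y⟩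
  · rintro ⟨_, ⟨i, rfl⟩, rfl⟩
    fin_cases i
    · left; exact phi_x
    · right; exact phi_y

theorem exists_gens {G : Type*} [Group G] (L : Subgroup G)
    (h : Nonempty (L ≃* alternatingGroup (Fin 5))) :
    Nat.card L = 60 ∧ ∃ a b : G, a ∈ L ∧ b ∈ L ∧ a ^ 3 = 1 ∧ b ^ 5 = 1 ∧ (a * b) ^ 2 = 1 ∧
      a ≠ 1 ∧ b ≠ 1 ∧ ∀ K : Subgroup G, a ∈ K → b ∈ K → L ≤ K := by
  obtain ⟨φ⟩ := h
  refine ⟨by rw [Nat.card_congr φ.toEquiv]; exact card_alt, (φ.symm x0 : G), (φ.symm y0 : G),
    (φ.symm x0).2, (φ.symm y0).2, ?_, ?_, ?_, ?_, ?_, ?_⟩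
  · rw [← Subgroup.coe_pow, ← map_pow, x0_pow, map_one, Subgroup.coe_one]
  · rw [← Subgroup.coe_pow, ← map_pow, y0_pow, map_one, Subgroup.coe_one]
  · rw [← Subgroup.coe_mul, ← Subgroup.coe_pow, ← map_mul, ← map_pow, x0y0_pow, map_one,
      Subgroup.coe_one]
  · intro h1
    have h2 : φ.symm x0 = 1 := Subtype.ext h1
    exact x0_ne (by simpa using h2)
  · intro h1
    have h2 : φ.symm y0 = 1 := Subtype.ext h1
    exact y0_ne (by simpa using h2)
  · intro K ha hb y hy
    have h1 : Subgroup.closure ({x0, y0} : Set (alternatingGroup (Fin 5))) ≤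
        K.comap (L.subtype.comp φ.symm.toMonoidHom) := by
      rw [Subgroup.closure_le]
      intro z hz
      rcases hz with rfl | rfl
      · exact ha
      · exact hb
    rw [closure_x0_y0] at h1
    have h2 := h1 (Subgroup.mem_top (φ ⟨y, hy⟩))
    rw [Subgroup.mem_comap] at h2
    simpa using h2

theorem iso_of_gens {G : Type*} [Group G] (H : Subgroup G) (hcard : Nat.card H = 60)
    (a b : G) (ha : a ∈ H) (hb : b ∈ H) (ha3 : a ^ 3 = 1) (hb5 : b ^ 5 = 1)
    (hab : (a * b) ^ 2 = 1) (ha1 : a ≠ 1) : Nonempty (H ≃* alternatingGroup (Fin 5)) := by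
  obtain ⟨iso⟩ := result'
  have hrel : ∀ r ∈ rels, FreeGroup.lift ![(⟨a, ha⟩ : H), ⟨b, hb⟩] r = 1 := by
    intro r hr
    simp only [rels, Set.mem_insert_iff, Set.mem_singleton_iff] at hr
    rcases hr with rfl | rfl | rfl
    · rw [map_pow, FreeGroup.lift_apply_of]
      exact Subtype.ext ha3
    · rw [map_pow, FreeGroup.lift_apply_of]
      exact Subtype.ext hb5
    · rw [map_pow, map_mul, FreeGroup.lift_apply_of, FreeGroup.lift_apply_of]
      exact Subtype.ext hab
  let f : alternatingGroup (Fin 5) →* H := (PresentedGroup.toGroup hrel).comp iso.symm.toMonoidHom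
  have hfx : f (iso (PresentedGroup.of 0)) = ⟨a, ha⟩ := by simp [f]
  have hinj : Function.Injective f := by
    rw [← MonoidHom.ker_eq_bot_iff]
    have : IsSimpleGroup (alternatingGroup (Fin 5)) := alternatingGroup.isSimpleGroup (by simp)
    rcases (MonoidHom.normal_ker f).eq_bot_or_eq_top with h | h
    · exact h
    · exfalso
      have h1 : iso (PresentedGroup.of 0) ∈ f.ker := by rw [h]; trivial
      rw [MonoidHom.mem_ker, hfx] at h1
      exact ha1 (congrArg Subtype.val h1)
  have hfin : Finite H := Nat.finite_of_card_ne_zero (by rw [hcard]; norm_num)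
  have hbij : Function.Bijective f :=
    hinj.bijective_of_nat_card_le (by rw [hcard, card_alt])
  exact ⟨(MulEquiv.ofBijective f hbij).symm⟩

end Cfsg.Agent.Lib.helper6.A5Gen
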