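import Mathlib
import Cfsg.Agent.Lib.helper6.A6Model

/-!
# Sylow 2-subgroups of a group with a normal `Alt(6)` of index 4

`sylow_meet` : if `N ≅ Alt(6)` is normal of index 4 in the finite group `G`, any two Sylow
2-subgroups of `G` meet non-trivially.  Proof: a Sylow 2-subgroup `H` is the centraliser of an
involution `z ∈ N` (it centralises one by the fixed-point congruence, and centralisers of
involutions of `N` have order at most `8 * 4`).  So `H ∩ H ^ x` is the stabiliser of the pair
`(z, z ^ x)` under conjugation, and the orbit of that pair lies in the set of pairs `(a, b)` of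
involutions of `N` with `(a * b) ^ k = 1`, which has fewer than `1440 = |G|` elements for the
relevant `k ≤ 5` (a `decide` on codes).
-/

set_option autoImplicit false

open scoped Pointwise

namespace Cfsg.Agent.Lib.helper6.A6Model

open Cfsg.Agent.Lib.helper6.CodeModel

/-- The codes of the 45 involutions of `Alt(6)`. -/
def I45 : List ℕ := [2045, 3395, 4835, 5495, 5735, 5885, 8530, 11190, 12630, 13065, 13530, 13640, 16390, 17700, 20490, 20925, 21150, 21565, 24490, 25800, 27150, 29600, 29640, 29665, 37665, 37890, 38130, 38240, 38280, 38305, 39190, 39430, 39580, 40275, 40740, 40850, 41625, 41850, 42265, 43640, 43680, 43705, 44115, 44300, 44605]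

theorem invol_tab : ∀ c ∈ L360, cm6 c c = 44790 → c = 44790 ∨ c ∈ I45 := by decide +kernel

theorem cent_tab : ∀ z ∈ I45,
    (L360.filter (fun c => Nat.beq (cm6 c z) (cm6 z c))).length ≤ 8 := by decide +kernel

theorem pow_tab : ∀ c ∈ L360, ∃ k ∈ [1, 2, 3, 4, 5], gpow cm6 44790 c k = 44790 := by
  decide +kernel

/-- Pairs of involutions whose product has order dividing `k`. -/
def pairsK (k : ℕ) : List (ℕ × ℕ) :=
  (I45 ×ˢ I45).filter (fun p => Nat.beq (gpow cm6 44790 (cm6 p.1 p.2) k) 44790)

theorem pair_tab : ∀ k ∈ [1, 2, 3, 4, 5], (pairsK k).length < 1440 := by decide +kernel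

theorem card_of_a6model {N : Type*} [Group N] {f : N → ℕ} (M : GModel ok360 cm6 44790 f) :
    Nat.card N = 360 := by
  have h := M.card_of_list L360 L360_nodup (fun c hc => ok360_iff.mpr hc) (fun _ => True)
    (fun g => ⟨fun _ => ok360_iff.mp (M.mem g), fun _ => trivial⟩)
  rw [L360_length] at h
  rw [← h]
  exact (Nat.card_congr (Equiv.subtypeUnivEquiv (fun _ => trivial))).symm

theorem conj_comm_of_eq {G : Type*} [Group G] {g g' z : G} (h : g * z * g⁻¹ = g' * z * g'⁻¹) :
    g'⁻¹ * g * z = z * (g'⁻¹ * g) := by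
  calc g'⁻¹ * g * z = g'⁻¹ * (g * z * g⁻¹) * g := by group
    _ = g'⁻¹ * (g' * z * g'⁻¹) * g := by rw [h]
    _ = z * (g'⁻¹ * g) := by group

theorem sylow_meet {G : Type*} [Group G] [Finite G] (N : Subgroup G) [hN : N.Normal]
    (e : N ≃* alternatingGroup (Fin 6)) (hidx : N.index = 4) (H : Sylow 2 G) (x : G) :
    (H : Subgroup G) ⊓ MulAut.conj x • (H : Subgroup G) ≠ ⊥ := by
  classical
  have M := a6model.comp_iso e
  generalize hf : ((fun σ : alternatingGroup (Fin 6) => code6 σ.1) ∘ e) = f at M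
  have cardN : Nat.card N = 360 := card_of_a6model M
  have cardG : Nat.card G = 1440 := by rw [← N.card_mul_index, cardN, hidx]
  have hL : ∀ n : N, f n ∈ L360 := fun n => ok360_iff.mp (M.mem n)
  -- the order of `H`
  have cardH : Nat.card (H : Subgroup G) = 32 := by
    obtain ⟨n, hn⟩ := IsPGroup.iff_card.mp H.isPGroup'
    have h1 := (H : Subgroup G).card_mul_index
    have h2 : ¬ 2 ∣ (H : Subgroup G).index := H.not_dvd_index
    rw [cardG, hn] at h1
    have hn10 : n < 11 := by
      by_contra hcon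
      have h3 : 2 ^ 11 ≤ 2 ^ n := Nat.pow_le_pow_right (by norm_num) (by omega)
      have h4 : 0 < (H : Subgroup G).index := Nat.pos_of_ne_zero (fun h0 => by rw [h0] at h1; omega)
      nlinarith
    rw [hn]
    interval_cases n <;> omega
  -- an involution of `N` centralised by `H`
  obtain ⟨z, hzN, hz2, hzH⟩ : ∃ z : G, z ∈ N ∧ orderOf z = 2 ∧
      ∀ h ∈ (H : Subgroup G), h * z = z * h := by
    have hp : IsPGroup 2 (H : Subgroup G) := H.isPGroup'
    let act : MulAction (H : Subgroup G) N :=
      MulAction.compHom N ((MulAut.conjNormal (H := N)).comp (H : Subgroup G).subtype)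
    have hmod := hp.card_modEq_card_fixedPoints N
    have hset : MulAction.fixedPoints (H : Subgroup G) N =
        ((Subgroup.centralizer ((H : Subgroup G) : Set G)).subgroupOf N : Set N) := by
      ext n
      rw [MulAction.mem_fixedPoints, SetLike.mem_coe, Subgroup.mem_subgroupOf,
        Subgroup.mem_centralizer_iff]
      constructor
      · intro h1 h hh
        have h2 := congrArg Subtype.val (h1 ⟨h, hh⟩)
        have h3 : h * (n : G) * h⁻¹ = n := h2
        calc h * (n : G) = h * (n : G) * h⁻¹ * h := by group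
          _ = (n : G) * h := by rw [h3]
      · intro h1 h
        apply Subtype.ext
        show (h : G) * (n : G) * (h : G)⁻¹ = n
        rw [h1 h h.2]
        group
    rw [hset, cardN] at hmod
    have hdvd : 2 ∣ Nat.card ((Subgroup.centralizer ((H : Subgroup G) : Set G)).subgroupOf N) := by
      have h1 : Nat.card ((Subgroup.centralizer ((H : Subgroup G) : Set G)).subgroupOf N) % 2 =
          0 := by
        have h2 := hmod.symm
        unfold Nat.ModEq at h2
        exact h2
      exact Nat.dvd_of_mod_eq_zero h1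
    obtain ⟨y, hy⟩ := exists_prime_orderOf_dvd_card' 2 hdvd
    refine ⟨((y : N) : G), (y : N).2, ?_, ?_⟩
    · rw [Subgroup.orderOf_coe, Subgroup.orderOf_coe, hy]
    · intro h hh
      have h1 := y.2
      rw [Subgroup.mem_subgroupOf, Subgroup.mem_centralizer_iff] at h1
      exact h1 h hh
  have hz1 : z ≠ 1 := fun h => by rw [h, orderOf_one] at hz2; omega
  have hzz : z * z = 1 := by rw [← pow_two, ← hz2, pow_orderOf_eq_one]
  -- `H` is the centraliser of `z`
  have hHC : (H : Subgroup G) = Subgroup.centralizer {z} := by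
    have hle : (H : Subgroup G) ≤ Subgroup.centralizer {z} := by
      intro h hh
      rw [Subgroup.mem_centralizer_iff]
      intro y hy
      rw [Set.mem_singleton_iff] at hy
      rw [hy]
      exact (hzH h hh).symm
    apply Subgroup.eq_of_le_of_card_ge hle
    rw [cardH]
    have hζ : f ⟨z, hzN⟩ ∈ I45 := by
      have hsq : (⟨z, hzN⟩ : N) * ⟨z, hzN⟩ = 1 := Subtype.ext hzz
      rcases invol_tab _ (hL _) (by rw [← M.fmul, hsq, M.one]) with h | h
      · exact absurd (congrArg Subtype.val ((M.eq_one_iff _).mpr h)) hz1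
      · exact h
    have h8 := cent_tab _ hζ
    have hcl := M.card_of_list (L360.filter (fun c => Nat.beq (cm6 c (f ⟨z, hzN⟩))
        (cm6 (f ⟨z, hzN⟩) c))) (L360_nodup.filter _)
      (fun c hc => ok360_iff.mpr (List.mem_filter.mp hc).1)
      (fun n : N => n * ⟨z, hzN⟩ = ⟨z, hzN⟩ * n) (fun n => by
        rw [List.mem_filter]
        constructor
        · intro h
          refine ⟨hL n, ?_⟩
          rw [← M.fmul, ← M.fmul, h]
          exact Nat.beq_refl _
        · rintro ⟨_, h⟩
          have h2 := Nat.eq_of_beq_eq_true h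
          rw [← M.fmul, ← M.fmul] at h2
          exact M.inj h2)
    have hfin : Finite {n : N // n * ⟨z, hzN⟩ = ⟨z, hzN⟩ * n} := inferInstance
    have hinj : Function.Injective (fun c : N.subgroupOf (Subgroup.centralizer ({z} : Set G)) =>
        (⟨⟨((c : Subgroup.centralizer ({z} : Set G)) : G), Subgroup.mem_subgroupOf.mp c.2⟩, by
          apply Subtype.ext
          have h1 := (c : Subgroup.centralizer ({z} : Set G)).2
          rw [Subgroup.mem_centralizer_iff] at h1
          exact (h1 z rfl).symm⟩ : {n : N // n * ⟨z, hzN⟩ = ⟨z, hzN⟩ * n})) := by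
      intro a b hab
      apply Subtype.ext
      apply Subtype.ext
      exact congrArg (fun t : {n : N // n * ⟨z, hzN⟩ = ⟨z, hzN⟩ * n} => ((t : N) : G)) hab
    have h1 := Nat.card_le_card_of_injective _ hinj
    rw [hcl] at h1
    have h2 := (N.subgroupOf (Subgroup.centralizer ({z} : Set G))).card_mul_index
    have h3 : (N.subgroupOf (Subgroup.centralizer ({z} : Set G))).index ∣ N.index :=
      Subgroup.relIndex_dvd_index_of_normal N (Subgroup.centralizer ({z} : Set G))
    rw [hidx] at h3
    have h4 := Nat.le_of_dvd (by norm_num) h3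
    have h5 : Nat.card (N.subgroupOf (Subgroup.centralizer ({z} : Set G))) ≤ 8 := le_trans h1 h8
    rw [← h2]
    calc Nat.card (N.subgroupOf (Subgroup.centralizer ({z} : Set G))) *
          (N.subgroupOf (Subgroup.centralizer ({z} : Set G))).index ≤ 8 * 4 :=
        Nat.mul_le_mul h5 h4
      _ = 32 := by norm_num
  -- the counting argument
  intro hbot
  have hwN : x * z * x⁻¹ ∈ N := hN.conj_mem z hzN x
  have hcN : ∀ (g y : G), y ∈ N → g * y * g⁻¹ ∈ N := fun g y hy => hN.conj_mem y hy g
  obtain ⟨k, hk, hpow⟩ := pow_tab _ (hL (⟨z, hzN⟩ * ⟨x * z * x⁻¹, hwN⟩))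
  have hpk : (z * (x * z * x⁻¹)) ^ k = 1 := by
    rw [← M.map_pow] at hpow
    have h1 := (M.eq_one_iff _).mpr hpow
    exact congrArg Subtype.val h1
  have hlen := pair_tab k hk
  have key : ∀ g : G, (f ⟨g * z * g⁻¹, hcN g z hzN⟩, f ⟨g * (x * z * x⁻¹) * g⁻¹, hcN g _ hwN⟩) ∈
      (pairsK k).toFinset := by
    intro g
    have hinv : ∀ (y : G) (hy : y ∈ N), y * y = 1 → y ≠ 1 → f ⟨g * y * g⁻¹, hcN g y hy⟩ ∈ I45 := by
      intro y hy hyy hy1
      have hsq : (⟨g * y * g⁻¹, hcN g y hy⟩ : N) * ⟨g * y * g⁻¹, hcN g y hy⟩ = 1 := by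
        apply Subtype.ext
        show g * y * g⁻¹ * (g * y * g⁻¹) = 1
        calc g * y * g⁻¹ * (g * y * g⁻¹) = g * (y * y) * g⁻¹ := by group
          _ = 1 := by rw [hyy]; group
      rcases invol_tab _ (hL _) (by rw [← M.fmul, hsq, M.one]) with h | h
      · exfalso
        have h1 : g * y * g⁻¹ = 1 := congrArg Subtype.val ((M.eq_one_iff _).mpr h)
        apply hy1
        calc y = g⁻¹ * (g * y * g⁻¹) * g := by group
          _ = 1 := by rw [h1]; group
      · exact h
    rw [List.mem_toFinset, pairsK, List.mem_filter, List.mem_product]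
    refine ⟨⟨hinv z hzN hzz hz1, hinv _ hwN ?_ ?_⟩, ?_⟩
    · calc x * z * x⁻¹ * (x * z * x⁻¹) = x * (z * z) * x⁻¹ := by group
        _ = 1 := by rw [hzz]; group
    · intro h1
      apply hz1
      calc z = x⁻¹ * (x * z * x⁻¹) * x := by group
        _ = 1 := by rw [h1]; group
    · have h1 : (⟨g * z * g⁻¹, hcN g z hzN⟩ * ⟨g * (x * z * x⁻¹) * g⁻¹, hcN g _ hwN⟩ : N) ^ k =
          1 := by
        apply Subtype.ext
        rw [Subgroup.coe_pow, Subgroup.coe_mul, Subgroup.coe_one]
        show (g * z * g⁻¹ * (g * (x * z * x⁻¹) * g⁻¹)) ^ k = 1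
        have h2 : g * z * g⁻¹ * (g * (x * z * x⁻¹) * g⁻¹) = g * (z * (x * z * x⁻¹)) * g⁻¹ := by
          group
        rw [h2, conj_pow, hpk]
        group
      rw [← M.fmul, ← M.map_pow, h1, M.one]
      exact Nat.beq_refl _
  have hinj : Function.Injective (fun g : G =>
      (⟨(f ⟨g * z * g⁻¹, hcN g z hzN⟩, f ⟨g * (x * z * x⁻¹) * g⁻¹, hcN g _ hwN⟩), key g⟩ :
        {p : ℕ × ℕ // p ∈ (pairsK k).toFinset})) := by
    intro g g' h
    have h1 := congrArg Subtype.val h
    have ha : g * z * g⁻¹ = g' * z * g'⁻¹ :=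
      congrArg Subtype.val (M.inj (congrArg Prod.fst h1))
    have hb : g * (x * z * x⁻¹) * g⁻¹ = g' * (x * z * x⁻¹) * g'⁻¹ :=
      congrArg Subtype.val (M.inj (congrArg Prod.snd h1))
    have hu1 : g'⁻¹ * g ∈ (H : Subgroup G) := by
      rw [hHC, Subgroup.mem_centralizer_iff]
      intro y hy
      rw [Set.mem_singleton_iff] at hy
      rw [hy]
      exact (conj_comm_of_eq ha).symm
    have hu2 : g'⁻¹ * g ∈ MulAut.conj x • (H : Subgroup G) := by
      rw [Subgroup.mem_smul_pointwise_iff_exists]
      refine ⟨x⁻¹ * (g'⁻¹ * g) * x, ?_, ?_⟩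
      · rw [hHC, Subgroup.mem_centralizer_iff]
        intro y hy
        rw [Set.mem_singleton_iff] at hy
        rw [hy]
        have h2 := conj_comm_of_eq hb
        calc z * (x⁻¹ * (g'⁻¹ * g) * x) = x⁻¹ * (x * z * x⁻¹ * (g'⁻¹ * g)) * x := by group
          _ = x⁻¹ * (g'⁻¹ * g * (x * z * x⁻¹)) * x := by rw [h2]
          _ = x⁻¹ * (g'⁻¹ * g) * x * z := by group
      · rw [MulAut.smul_def, MulAut.conj_apply]
        group
    have hu : g'⁻¹ * g ∈ (H : Subgroup G) ⊓ MulAut.conj x • (H : Subgroup G) := ⟨hu1, hu2⟩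
    rw [hbot, Subgroup.mem_bot] at hu
    calc g = g' * (g'⁻¹ * g) := by group
      _ = g' := by rw [hu, mul_one]
  have h1 := Nat.card_le_card_of_injective _ hinj
  rw [cardG, Nat.card_eq_fintype_card, Fintype.card_coe] at h1
  have h2 := List.toFinset_card_le (pairsK k)
  omega

end Cfsg.Agent.Lib.helper6.A6Model
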