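import Mathlib

/-!
# S3571 pieces NT1a / NT1b: common lemmas (private copies of NT1c / NT1d and helpers)
-/

set_option autoImplicit false

namespace Cfsg.Agent.Lib.helper6.AD

open scoped Pointwise
open Equiv MulAction

theorem helper6_choose_le_pow_pi (m k B : ℕ) (hm : 0 < m) (hkm : k ≤ m)
    (h : ∀ p : ℕ, p.Prime → p ∣ m.choose k → p ≤ B) :
    m.choose k ≤ m ^ (Nat.primeCounting B) := by
  have hne : m.choose k ≠ 0 := (Nat.choose_pos hkm).ne'
  have h1 : ∏ p ∈ (m.choose k).primeFactors, p ^ (m.choose k).factorization p = m.choose k := by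
    have := Nat.prod_factorization_pow_eq_self hne
    rwa [Finsupp.prod, Nat.support_factorization] at this
  calc m.choose k = ∏ p ∈ (m.choose k).primeFactors, p ^ (m.choose k).factorization p := h1.symm
    _ ≤ ∏ p ∈ (m.choose k).primeFactors, m :=
        Finset.prod_le_prod (fun _ _ => Nat.zero_le _)
          (fun p _ => Nat.pow_factorization_choose_le hm)
    _ = m ^ (m.choose k).primeFactors.card := by rw [Finset.prod_const]
    _ ≤ m ^ (Nat.primeCounting B) := by
        apply Nat.pow_le_pow_right hm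
        rw [Nat.primeCounting, Nat.primeCounting', Nat.count_eq_card_filter_range]
        apply Finset.card_le_card
        intro p hp
        rw [Nat.mem_primeFactors] at hp
        rw [Finset.mem_filter, Finset.mem_range]
        exact ⟨Nat.lt_succ_of_le (h p hp.1 hp.2.1), hp.1⟩

theorem helper6_pow_le_pow_mul_choose :
    ∀ (k m : ℕ), k ≤ m → m ^ k ≤ k ^ k * m.choose k := by
  intro k
  induction k with
  | zero => intro m _; simp
  | succ k ih =>
    intro m hkm
    obtain ⟨n, rfl⟩ : ∃ n, m = n + 1 := ⟨m - 1, by omega⟩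
    have hkn : k ≤ n := by omega
    have ih' := ih n hkn
    have hsm : (n + 1) * n.choose k = (n + 1).choose (k + 1) * (k + 1) :=
      Nat.add_one_mul_choose_eq n k
    have h2 : (k + 1) ^ (k + 1) * (n + 1).choose (k + 1)
        = (k + 1) ^ k * ((n + 1) * n.choose k) := by
      rw [hsm]; ring
    rw [h2]
    have h3 : (n + 1) ^ k ≤ (k + 1) ^ k * n.choose k := by
      rcases Nat.eq_zero_or_pos k with rfl | hk
      · simp
      · have h4 : ((n + 1) * k) ^ k ≤ ((k + 1) * n) ^ k :=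
          Nat.pow_le_pow_left (by nlinarith) k
        have h5 : (n + 1) ^ k * k ^ k ≤ (k + 1) ^ k * n.choose k * k ^ k := by
          calc (n + 1) ^ k * k ^ k = ((n + 1) * k) ^ k := (mul_pow _ _ _).symm
            _ ≤ ((k + 1) * n) ^ k := h4
            _ = (k + 1) ^ k * n ^ k := mul_pow _ _ _
            _ ≤ (k + 1) ^ k * (k ^ k * n.choose k) := Nat.mul_le_mul_left _ ih'
            _ = (k + 1) ^ k * n.choose k * k ^ k := by ring
        exact Nat.le_of_mul_le_mul_right h5 (by positivity)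
    calc (n + 1) ^ (k + 1) = (n + 1) ^ k * (n + 1) := pow_succ _ _
      _ ≤ (k + 1) ^ k * n.choose k * (n + 1) := Nat.mul_le_mul_right _ h3
      _ = (k + 1) ^ k * ((n + 1) * n.choose k) := by ring

theorem helper6_dvd_choose_of_dvd_sub (m k p i : ℕ) (hp : p.Prime) (hkp : k < p) (hik : i < k)
    (hd : p ∣ m - i) : p ∣ m.choose k := by
  have h1 : m - i ∣ m.descFactorial k := by
    rw [Nat.descFactorial_eq_prod_range]
    exact Finset.dvd_prod_of_mem _ (Finset.mem_range.mpr hik)
  have h2 : p ∣ k.factorial * m.choose k := by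
    rw [← Nat.descFactorial_eq_factorial_mul_choose]; exact hd.trans h1
  rcases (Nat.Prime.dvd_mul hp).mp h2 with h | h
  · exact absurd ((Nat.Prime.dvd_factorial hp).mp h) (by omega)
  · exact h

theorem helper6_pi_small : Nat.primeCounting 1 = 0 ∧ Nat.primeCounting 2 = 1 ∧
    Nat.primeCounting 3 = 2 ∧ Nat.primeCounting 4 = 2 ∧ Nat.primeCounting 5 = 3 ∧
    Nat.primeCounting 6 = 3 ∧ Nat.primeCounting 7 = 4 ∧ Nat.primeCounting 8 = 4 := by
  refine ⟨?_, ?_, ?_, ?_, ?_, ?_, ?_, ?_⟩ <;> decide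

theorem helper6_two_pi_lt (k : ℕ) (hk : 9 ≤ k) : 2 * Nat.primeCounting k < k := by
  rcases Nat.lt_or_ge k 19 with h | h
  · interval_cases k <;> decide
  · have h1 := Nat.primeCounting'_add_le (a := 6) (k := 7) (by norm_num) (by norm_num) (k - 6)
    have h2 : Nat.primeCounting' 7 = 3 := by decide
    have h3 : Nat.totient 6 = 2 := by decide
    rw [h2, h3] at h1
    have h4 : 7 + (k - 6) = k + 1 := by omega
    rw [h4] at h1
    have h5 : Nat.primeCounting k = Nat.primeCounting' (k + 1) := rfl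
    rw [h5]
    omega

theorem helper6_two_pi_le (s : ℕ) (hs : 8 ≤ s) : 2 * Nat.primeCounting s ≤ s := by
  rcases Nat.lt_or_ge s 9 with h | h
  · have : s = 8 := by omega
    subst this
    rw [helper6_pi_small.2.2.2.2.2.2.2]
  · exact (helper6_two_pi_lt s h).le

theorem helper6_choose_mono (m a b : ℕ) (hab : a ≤ b) (hb : b ≤ m / 2) :
    m.choose a ≤ m.choose b := by
  induction b, hab using Nat.le_induction with
  | base => exact le_rfl
  | succ b hab ih =>
    exact (ih (by omega)).trans (Nat.choose_le_succ_of_lt_half_left (by omega))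

theorem helper6_pow_cancel (m a b c : ℕ) (hm : 0 < m) (hab : b ≤ a) (h : m ^ a ≤ c * m ^ b) :
    m ^ (a - b) ≤ c := by
  have h1 : m ^ a = m ^ (a - b) * m ^ b := by
    rw [← pow_add]; congr 1; omega
  rw [h1] at h
  exact Nat.le_of_mul_le_mul_right h (by positivity)

theorem helper6_pow_bound (m e c M : ℕ) (h : m ^ e ≤ c) (hM : c < (M + 1) ^ e) : m ≤ M := by
  by_contra hlt
  have := Nat.pow_le_pow_left (by omega : M + 1 ≤ m) e
  omega

theorem helper6_succ_pow_lt (s : ℕ) (hs : 8 ≤ s) : (s + 1) ^ (s + 1) < s ^ (s + 2) := by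
  have hx : (8 : ℝ) ≤ (s : ℝ) := by exact_mod_cast hs
  have hpos : (0 : ℝ) < s := by linarith
  have h1 : (s : ℝ) + 1 ≤ s * Real.exp (1 / (s : ℝ)) := by
    have h0 := Real.add_one_le_exp (1 / (s : ℝ))
    calc (s : ℝ) + 1 = s * (1 / (s : ℝ) + 1) := by field_simp; ring
      _ ≤ s * Real.exp (1 / (s : ℝ)) := mul_le_mul_of_nonneg_left h0 hpos.le
  have h2 : ((s : ℝ) + 1) ^ (s + 1) ≤ (s : ℝ) ^ (s + 1) * Real.exp (1 / (s : ℝ)) ^ (s + 1) := by
    calc ((s : ℝ) + 1) ^ (s + 1) ≤ (s * Real.exp (1 / (s : ℝ))) ^ (s + 1) :=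
          pow_le_pow_left₀ (by positivity) h1 _
      _ = _ := mul_pow _ _ _
  have h3 : Real.exp (1 / (s : ℝ)) ^ (s + 1) = Real.exp (((s : ℝ) + 1) / s) := by
    rw [← Real.exp_nat_mul]; congr 1; push_cast; field_simp
  have h4 : Real.exp (((s : ℝ) + 1) / s) ≤ Real.exp 2 := by
    apply Real.exp_le_exp.mpr
    rw [div_le_iff₀ hpos]; linarith
  have h5 : Real.exp 2 < 8 := by
    have h6 := Real.exp_one_lt_d9
    have h7 : Real.exp 2 = Real.exp 1 * Real.exp 1 := by
      rw [← Real.exp_add]; norm_num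
    rw [h7]; nlinarith [Real.exp_pos 1]
  have h8 : ((s : ℝ) + 1) ^ (s + 1) < (s : ℝ) ^ (s + 2) := by
    calc ((s : ℝ) + 1) ^ (s + 1) ≤ (s : ℝ) ^ (s + 1) * Real.exp (((s : ℝ) + 1) / s) := by
          rw [← h3]; exact h2
      _ < (s : ℝ) ^ (s + 1) * 8 :=
          mul_lt_mul_of_pos_left (lt_of_le_of_lt h4 h5) (by positivity)
      _ ≤ (s : ℝ) ^ (s + 1) * s := mul_le_mul_of_nonneg_left hx (by positivity)
      _ = (s : ℝ) ^ (s + 2) := by ring
  exact_mod_cast h8

end Cfsg.Agent.Lib.helper6.AD
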