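import Mathlib
import Cfsg.Agent.Lib.helper6.ADNTCommon

/-!
# S3571 piece NT1a: weak Sylvester-Schur, case `k ^ 2 ≤ m`
-/

set_option autoImplicit false

namespace Cfsg.Agent.Lib.helper6.AD

open scoped Pointwise
open Equiv MulAction
theorem helper6_wit2 (m : ℕ) (h1 : 4 ≤ m) (h2 : m ≤ 4) :
    ∃ p i : ℕ, p.Prime ∧ 2 < p ∧ i < 2 ∧ p ∣ m - i := by
  interval_cases m
  · exact ⟨3, 1, by norm_num, by norm_num, by norm_num, by norm_num⟩

theorem helper6_wit3 (m : ℕ) (h1 : 9 ≤ m) (h2 : m ≤ 27) :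
    ∃ p i : ℕ, p.Prime ∧ 3 < p ∧ i < 3 ∧ p ∣ m - i := by
  interval_cases m
  · exact ⟨7, 2, by norm_num, by norm_num, by norm_num, by norm_num⟩
  · exact ⟨5, 0, by norm_num, by norm_num, by norm_num, by norm_num⟩
  · exact ⟨11, 0, by norm_num, by norm_num, by norm_num, by norm_num⟩
  · exact ⟨11, 1, by norm_num, by norm_num, by norm_num, by norm_num⟩
  · exact ⟨13, 0, by norm_num, by norm_num, by norm_num, by norm_num⟩
  · exact ⟨7, 0, by norm_num, by norm_num, by norm_num, by norm_num⟩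
  · exact ⟨5, 0, by norm_num, by norm_num, by norm_num, by norm_num⟩
  · exact ⟨5, 1, by norm_num, by norm_num, by norm_num, by norm_num⟩
  · exact ⟨17, 0, by norm_num, by norm_num, by norm_num, by norm_num⟩
  · exact ⟨17, 1, by norm_num, by norm_num, by norm_num, by norm_num⟩
  · exact ⟨19, 0, by norm_num, by norm_num, by norm_num, by norm_num⟩
  · exact ⟨5, 0, by norm_num, by norm_num, by norm_num, by norm_num⟩
  · exact ⟨7, 0, by norm_num, by norm_num, by norm_num, by norm_num⟩
  · exact ⟨11, 0, by norm_num, by norm_num, by norm_num, by norm_num⟩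
  · exact ⟨23, 0, by norm_num, by norm_num, by norm_num, by norm_num⟩
  · exact ⟨23, 1, by norm_num, by norm_num, by norm_num, by norm_num⟩
  · exact ⟨5, 0, by norm_num, by norm_num, by norm_num, by norm_num⟩
  · exact ⟨13, 0, by norm_num, by norm_num, by norm_num, by norm_num⟩
  · exact ⟨13, 1, by norm_num, by norm_num, by norm_num, by norm_num⟩

theorem helper6_wit4 (m : ℕ) (h1 : 16 ≤ m) (h2 : m ≤ 16) :
    ∃ p i : ℕ, p.Prime ∧ 4 < p ∧ i < 4 ∧ p ∣ m - i := by
  interval_cases m
  · exact ⟨5, 1, by norm_num, by norm_num, by norm_num, by norm_num⟩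

theorem helper6_wit5 (m : ℕ) (h1 : 25 ≤ m) (h2 : m ≤ 55) :
    ∃ p i : ℕ, p.Prime ∧ 5 < p ∧ i < 5 ∧ p ∣ m - i := by
  interval_cases m
  · exact ⟨23, 2, by norm_num, by norm_num, by norm_num, by norm_num⟩
  · exact ⟨13, 0, by norm_num, by norm_num, by norm_num, by norm_num⟩
  · exact ⟨13, 1, by norm_num, by norm_num, by norm_num, by norm_num⟩
  · exact ⟨7, 0, by norm_num, by norm_num, by norm_num, by norm_num⟩
  · exact ⟨29, 0, by norm_num, by norm_num, by norm_num, by norm_num⟩
  · exact ⟨29, 1, by norm_num, by norm_num, by norm_num, by norm_num⟩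
  · exact ⟨31, 0, by norm_num, by norm_num, by norm_num, by norm_num⟩
  · exact ⟨31, 1, by norm_num, by norm_num, by norm_num, by norm_num⟩
  · exact ⟨11, 0, by norm_num, by norm_num, by norm_num, by norm_num⟩
  · exact ⟨17, 0, by norm_num, by norm_num, by norm_num, by norm_num⟩
  · exact ⟨7, 0, by norm_num, by norm_num, by norm_num, by norm_num⟩
  · exact ⟨7, 1, by norm_num, by norm_num, by norm_num, by norm_num⟩
  · exact ⟨37, 0, by norm_num, by norm_num, by norm_num, by norm_num⟩
  · exact ⟨19, 0, by norm_num, by norm_num, by norm_num, by norm_num⟩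
  · exact ⟨13, 0, by norm_num, by norm_num, by norm_num, by norm_num⟩
  · exact ⟨13, 1, by norm_num, by norm_num, by norm_num, by norm_num⟩
  · exact ⟨41, 0, by norm_num, by norm_num, by norm_num, by norm_num⟩
  · exact ⟨7, 0, by norm_num, by norm_num, by norm_num, by norm_num⟩
  · exact ⟨43, 0, by norm_num, by norm_num, by norm_num, by norm_num⟩
  · exact ⟨11, 0, by norm_num, by norm_num, by norm_num, by norm_num⟩
  · exact ⟨11, 1, by norm_num, by norm_num, by norm_num, by norm_num⟩
  · exact ⟨23, 0, by norm_num, by norm_num, by norm_num, by norm_num⟩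
  · exact ⟨47, 0, by norm_num, by norm_num, by norm_num, by norm_num⟩
  · exact ⟨47, 1, by norm_num, by norm_num, by norm_num, by norm_num⟩
  · exact ⟨7, 0, by norm_num, by norm_num, by norm_num, by norm_num⟩
  · exact ⟨7, 1, by norm_num, by norm_num, by norm_num, by norm_num⟩
  · exact ⟨17, 0, by norm_num, by norm_num, by norm_num, by norm_num⟩
  · exact ⟨13, 0, by norm_num, by norm_num, by norm_num, by norm_num⟩
  · exact ⟨53, 0, by norm_num, by norm_num, by norm_num, by norm_num⟩
  · exact ⟨53, 1, by norm_num, by norm_num, by norm_num, by norm_num⟩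
  · exact ⟨11, 0, by norm_num, by norm_num, by norm_num, by norm_num⟩

theorem helper6_wit6 (m : ℕ) (h1 : 36 ≤ m) (h2 : m ≤ 36) :
    ∃ p i : ℕ, p.Prime ∧ 6 < p ∧ i < 6 ∧ p ∣ m - i := by
  interval_cases m
  · exact ⟨7, 1, by norm_num, by norm_num, by norm_num, by norm_num⟩

theorem helper6_wit7 (m : ℕ) (h1 : 49 ≤ m) (h2 : m ≤ 93) :
    ∃ p i : ℕ, p.Prime ∧ 7 < p ∧ i < 7 ∧ p ∣ m - i := by
  interval_cases m
  · exact ⟨47, 2, by norm_num, by norm_num, by norm_num, by norm_num⟩
  · exact ⟨47, 3, by norm_num, by norm_num, by norm_num, by norm_num⟩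
  · exact ⟨17, 0, by norm_num, by norm_num, by norm_num, by norm_num⟩
  · exact ⟨13, 0, by norm_num, by norm_num, by norm_num, by norm_num⟩
  · exact ⟨53, 0, by norm_num, by norm_num, by norm_num, by norm_num⟩
  · exact ⟨53, 1, by norm_num, by norm_num, by norm_num, by norm_num⟩
  · exact ⟨11, 0, by norm_num, by norm_num, by norm_num, by norm_num⟩
  · exact ⟨11, 1, by norm_num, by norm_num, by norm_num, by norm_num⟩
  · exact ⟨19, 0, by norm_num, by norm_num, by norm_num, by norm_num⟩
  · exact ⟨29, 0, by norm_num, by norm_num, by norm_num, by norm_num⟩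
  · exact ⟨59, 0, by norm_num, by norm_num, by norm_num, by norm_num⟩
  · exact ⟨59, 1, by norm_num, by norm_num, by norm_num, by norm_num⟩
  · exact ⟨61, 0, by norm_num, by norm_num, by norm_num, by norm_num⟩
  · exact ⟨31, 0, by norm_num, by norm_num, by norm_num, by norm_num⟩
  · exact ⟨31, 1, by norm_num, by norm_num, by norm_num, by norm_num⟩
  · exact ⟨31, 2, by norm_num, by norm_num, by norm_num, by norm_num⟩
  · exact ⟨13, 0, by norm_num, by norm_num, by norm_num, by norm_num⟩
  · exact ⟨11, 0, by norm_num, by norm_num, by norm_num, by norm_num⟩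
  · exact ⟨67, 0, by norm_num, by norm_num, by norm_num, by norm_num⟩
  · exact ⟨17, 0, by norm_num, by norm_num, by norm_num, by norm_num⟩
  · exact ⟨23, 0, by norm_num, by norm_num, by norm_num, by norm_num⟩
  · exact ⟨23, 1, by norm_num, by norm_num, by norm_num, by norm_num⟩
  · exact ⟨71, 0, by norm_num, by norm_num, by norm_num, by norm_num⟩
  · exact ⟨71, 1, by norm_num, by norm_num, by norm_num, by norm_num⟩
  · exact ⟨73, 0, by norm_num, by norm_num, by norm_num, by norm_num⟩
  · exact ⟨37, 0, by norm_num, by norm_num, by norm_num, by norm_num⟩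
  · exact ⟨37, 1, by norm_num, by norm_num, by norm_num, by norm_num⟩
  · exact ⟨19, 0, by norm_num, by norm_num, by norm_num, by norm_num⟩
  · exact ⟨11, 0, by norm_num, by norm_num, by norm_num, by norm_num⟩
  · exact ⟨13, 0, by norm_num, by norm_num, by norm_num, by norm_num⟩
  · exact ⟨79, 0, by norm_num, by norm_num, by norm_num, by norm_num⟩
  · exact ⟨79, 1, by norm_num, by norm_num, by norm_num, by norm_num⟩
  · exact ⟨79, 2, by norm_num, by norm_num, by norm_num, by norm_num⟩
  · exact ⟨41, 0, by norm_num, by norm_num, by norm_num, by norm_num⟩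
  · exact ⟨83, 0, by norm_num, by norm_num, by norm_num, by norm_num⟩
  · exact ⟨83, 1, by norm_num, by norm_num, by norm_num, by norm_num⟩
  · exact ⟨17, 0, by norm_num, by norm_num, by norm_num, by norm_num⟩
  · exact ⟨43, 0, by norm_num, by norm_num, by norm_num, by norm_num⟩
  · exact ⟨29, 0, by norm_num, by norm_num, by norm_num, by norm_num⟩
  · exact ⟨11, 0, by norm_num, by norm_num, by norm_num, by norm_num⟩
  · exact ⟨89, 0, by norm_num, by norm_num, by norm_num, by norm_num⟩
  · exact ⟨89, 1, by norm_num, by norm_num, by norm_num, by norm_num⟩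
  · exact ⟨13, 0, by norm_num, by norm_num, by norm_num, by norm_num⟩
  · exact ⟨23, 0, by norm_num, by norm_num, by norm_num, by norm_num⟩
  · exact ⟨31, 0, by norm_num, by norm_num, by norm_num, by norm_num⟩

theorem helper6_wit8 (m : ℕ) (h1 : 64 ≤ m) (h2 : m ≤ 64) :
    ∃ p i : ℕ, p.Prime ∧ 8 < p ∧ i < 8 ∧ p ∣ m - i := by
  interval_cases m
  · exact ⟨31, 2, by norm_num, by norm_num, by norm_num, by norm_num⟩

/-- NT1a (weak Sylvester-Schur, case `k ≤ √m`) -/
theorem choose_prime_factor_small (m k : ℕ) (hk : 1 ≤ k) (hkm : 2 * k ≤ m) (hsq : k ^ 2 ≤ m) :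
    ∃ p : ℕ, p.Prime ∧ p ∣ m.choose k ∧ (k < p ∨ m < p ^ 2) := by
  by_contra hcon
  have h : ∀ p : ℕ, p.Prime → p ∣ m.choose k → p ≤ k := by
    intro p hp hd
    by_contra hlt
    exact hcon ⟨p, hp, hd, Or.inl (by omega)⟩
  have hm2 : 2 ≤ m := by omega
  have hkm' : k ≤ m := by omega
  have hc := helper6_choose_le_pow_pi m k k (by omega) hkm' h
  have hd := helper6_pow_le_pow_mul_choose k m hkm'
  have h1 : m ^ k ≤ k ^ k * m ^ (Nat.primeCounting k) := hd.trans (Nat.mul_le_mul_left _ hc)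
  have hw : ∀ p i : ℕ, p.Prime → k < p → i < k → p ∣ m - i → False := by
    intro p i hp hkp hik hdv
    have := h p hp (helper6_dvd_choose_of_dvd_sub m k p i hp hkp hik hdv)
    omega
  have hk8 : k ≤ 8 := by
    by_contra h9
    have hpi := helper6_two_pi_lt k (by omega)
    have h2 : m ^ (2 * k) ≤ m ^ (k + 2 * Nat.primeCounting k) := by
      calc m ^ (2 * k) = (m ^ k) ^ 2 := by rw [← pow_mul, mul_comm]
        _ ≤ (k ^ k * m ^ (Nat.primeCounting k)) ^ 2 := Nat.pow_le_pow_left h1 2
        _ = (k ^ 2) ^ k * m ^ (2 * Nat.primeCounting k) := by ring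
        _ ≤ m ^ k * m ^ (2 * Nat.primeCounting k) :=
            Nat.mul_le_mul_right _ (Nat.pow_le_pow_left hsq k)
        _ = m ^ (k + 2 * Nat.primeCounting k) := (pow_add _ _ _).symm
    have h3 := (Nat.pow_le_pow_iff_right (by omega : 1 < m)).mp h2
    omega
  interval_cases k
  · -- k = 1
    have hp := Nat.minFac_prime (by omega : m ≠ 1)
    exact hw m.minFac 0 hp hp.one_lt (by norm_num) (by simpa using Nat.minFac_dvd m)
  · -- k = 2
    rw [helper6_pi_small.2.1] at h1
    have hb : m ≤ 4 :=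
      helper6_pow_bound m 1 (2 ^ 2) 4
        (helper6_pow_cancel m 2 1 (2 ^ 2) (by omega) (by norm_num) h1) (by norm_num)
    obtain ⟨p, i, hp, hkp, hik, hdv⟩ := helper6_wit2 m (by norm_num at hsq ⊢; omega) hb
    exact hw p i hp hkp hik hdv
  · -- k = 3
    rw [helper6_pi_small.2.2.1] at h1
    have hb : m ≤ 27 :=
      helper6_pow_bound m 1 (3 ^ 3) 27
        (helper6_pow_cancel m 3 2 (3 ^ 3) (by omega) (by norm_num) h1) (by norm_num)
    obtain ⟨p, i, hp, hkp, hik, hdv⟩ := helper6_wit3 m (by norm_num at hsq ⊢; omega) hb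
    exact hw p i hp hkp hik hdv
  · -- k = 4
    rw [helper6_pi_small.2.2.2.1] at h1
    have hb : m ≤ 16 :=
      helper6_pow_bound m 2 (4 ^ 4) 16
        (helper6_pow_cancel m 4 2 (4 ^ 4) (by omega) (by norm_num) h1) (by norm_num)
    obtain ⟨p, i, hp, hkp, hik, hdv⟩ := helper6_wit4 m (by norm_num at hsq ⊢; omega) hb
    exact hw p i hp hkp hik hdv
  · -- k = 5
    rw [helper6_pi_small.2.2.2.2.1] at h1
    have hb : m ≤ 55 :=
      helper6_pow_bound m 2 (5 ^ 5) 55
        (helper6_pow_cancel m 5 3 (5 ^ 5) (by omega) (by norm_num) h1) (by norm_num)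
    obtain ⟨p, i, hp, hkp, hik, hdv⟩ := helper6_wit5 m (by norm_num at hsq ⊢; omega) hb
    exact hw p i hp hkp hik hdv
  · -- k = 6
    rw [helper6_pi_small.2.2.2.2.2.1] at h1
    have hb : m ≤ 36 :=
      helper6_pow_bound m 3 (6 ^ 6) 36
        (helper6_pow_cancel m 6 3 (6 ^ 6) (by omega) (by norm_num) h1) (by norm_num)
    obtain ⟨p, i, hp, hkp, hik, hdv⟩ := helper6_wit6 m (by norm_num at hsq ⊢; omega) hb
    exact hw p i hp hkp hik hdv
  · -- k = 7
    rw [helper6_pi_small.2.2.2.2.2.2.1] at h1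
    have hb : m ≤ 93 :=
      helper6_pow_bound m 3 (7 ^ 7) 93
        (helper6_pow_cancel m 7 4 (7 ^ 7) (by omega) (by norm_num) h1) (by norm_num)
    obtain ⟨p, i, hp, hkp, hik, hdv⟩ := helper6_wit7 m (by norm_num at hsq ⊢; omega) hb
    exact hw p i hp hkp hik hdv
  · -- k = 8
    rw [helper6_pi_small.2.2.2.2.2.2.2] at h1
    have hb : m ≤ 64 :=
      helper6_pow_bound m 4 (8 ^ 8) 64
        (helper6_pow_cancel m 8 4 (8 ^ 8) (by omega) (by norm_num) h1) (by norm_num)
    obtain ⟨p, i, hp, hkp, hik, hdv⟩ := helper6_wit8 m (by norm_num at hsq ⊢; omega) hb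
    exact hw p i hp hkp hik hdv

end Cfsg.Agent.Lib.helper6.AD
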