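import Mathlib
import Cfsg.Agent.Lib.helper6.ADNTCommon

/-!
# S3571 piece NT1b: weak Sylvester-Schur, case `m < k ^ 2`
-/

set_option autoImplicit false

namespace Cfsg.Agent.Lib.helper6.AD

open scoped Pointwise
open Equiv MulAction

theorem helper6_prime_near (m : ℕ) (h1 : 2 ≤ m) (h2 : m < 64) :
    ∃ q : ℕ, q.Prime ∧ q ≤ m ∧ (m - q) ^ 2 ≤ m := by
  interval_cases m
  · exact ⟨2, by norm_num, by norm_num, by norm_num⟩
  · exact ⟨3, by norm_num, by norm_num, by norm_num⟩
  · exact ⟨3, by norm_num, by norm_num, by norm_num⟩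
  · exact ⟨5, by norm_num, by norm_num, by norm_num⟩
  · exact ⟨5, by norm_num, by norm_num, by norm_num⟩
  · exact ⟨7, by norm_num, by norm_num, by norm_num⟩
  · exact ⟨7, by norm_num, by norm_num, by norm_num⟩
  · exact ⟨7, by norm_num, by norm_num, by norm_num⟩
  · exact ⟨7, by norm_num, by norm_num, by norm_num⟩
  · exact ⟨11, by norm_num, by norm_num, by norm_num⟩
  · exact ⟨11, by norm_num, by norm_num, by norm_num⟩
  · exact ⟨13, by norm_num, by norm_num, by norm_num⟩
  · exact ⟨13, by norm_num, by norm_num, by norm_num⟩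
  · exact ⟨13, by norm_num, by norm_num, by norm_num⟩
  · exact ⟨13, by norm_num, by norm_num, by norm_num⟩
  · exact ⟨17, by norm_num, by norm_num, by norm_num⟩
  · exact ⟨17, by norm_num, by norm_num, by norm_num⟩
  · exact ⟨19, by norm_num, by norm_num, by norm_num⟩
  · exact ⟨19, by norm_num, by norm_num, by norm_num⟩
  · exact ⟨19, by norm_num, by norm_num, by norm_num⟩
  · exact ⟨19, by norm_num, by norm_num, by norm_num⟩
  · exact ⟨23, by norm_num, by norm_num, by norm_num⟩
  · exact ⟨23, by norm_num, by norm_num, by norm_num⟩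
  · exact ⟨23, by norm_num, by norm_num, by norm_num⟩
  · exact ⟨23, by norm_num, by norm_num, by norm_num⟩
  · exact ⟨23, by norm_num, by norm_num, by norm_num⟩
  · exact ⟨23, by norm_num, by norm_num, by norm_num⟩
  · exact ⟨29, by norm_num, by norm_num, by norm_num⟩
  · exact ⟨29, by norm_num, by norm_num, by norm_num⟩
  · exact ⟨31, by norm_num, by norm_num, by norm_num⟩
  · exact ⟨31, by norm_num, by norm_num, by norm_num⟩
  · exact ⟨31, by norm_num, by norm_num, by norm_num⟩
  · exact ⟨31, by norm_num, by norm_num, by norm_num⟩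
  · exact ⟨31, by norm_num, by norm_num, by norm_num⟩
  · exact ⟨31, by norm_num, by norm_num, by norm_num⟩
  · exact ⟨37, by norm_num, by norm_num, by norm_num⟩
  · exact ⟨37, by norm_num, by norm_num, by norm_num⟩
  · exact ⟨37, by norm_num, by norm_num, by norm_num⟩
  · exact ⟨37, by norm_num, by norm_num, by norm_num⟩
  · exact ⟨41, by norm_num, by norm_num, by norm_num⟩
  · exact ⟨41, by norm_num, by norm_num, by norm_num⟩
  · exact ⟨43, by norm_num, by norm_num, by norm_num⟩
  · exact ⟨43, by norm_num, by norm_num, by norm_num⟩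
  · exact ⟨43, by norm_num, by norm_num, by norm_num⟩
  · exact ⟨43, by norm_num, by norm_num, by norm_num⟩
  · exact ⟨47, by norm_num, by norm_num, by norm_num⟩
  · exact ⟨47, by norm_num, by norm_num, by norm_num⟩
  · exact ⟨47, by norm_num, by norm_num, by norm_num⟩
  · exact ⟨47, by norm_num, by norm_num, by norm_num⟩
  · exact ⟨47, by norm_num, by norm_num, by norm_num⟩
  · exact ⟨47, by norm_num, by norm_num, by norm_num⟩
  · exact ⟨53, by norm_num, by norm_num, by norm_num⟩
  · exact ⟨53, by norm_num, by norm_num, by norm_num⟩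
  · exact ⟨53, by norm_num, by norm_num, by norm_num⟩
  · exact ⟨53, by norm_num, by norm_num, by norm_num⟩
  · exact ⟨53, by norm_num, by norm_num, by norm_num⟩
  · exact ⟨53, by norm_num, by norm_num, by norm_num⟩
  · exact ⟨59, by norm_num, by norm_num, by norm_num⟩
  · exact ⟨59, by norm_num, by norm_num, by norm_num⟩
  · exact ⟨61, by norm_num, by norm_num, by norm_num⟩
  · exact ⟨61, by norm_num, by norm_num, by norm_num⟩
  · exact ⟨61, by norm_num, by norm_num, by norm_num⟩

/-- NT1b (weak Sylvester-Schur, case `√m < k`) -/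
theorem choose_prime_factor_large (m k : ℕ) (hk : 1 ≤ k) (hkm : 2 * k ≤ m) (hsq : m < k ^ 2) :
    ∃ p : ℕ, p.Prime ∧ p ∣ m.choose k ∧ (k < p ∨ m < p ^ 2) := by
  rcases Nat.lt_or_ge m 64 with hm | hm
  · have hm2 : 2 ≤ m := by omega
    obtain ⟨q, hq, hqm, hq2⟩ := helper6_prime_near m hm2 hm
    have hik : m - q < k := by
      by_contra hge
      have : k ^ 2 ≤ (m - q) ^ 2 := Nat.pow_le_pow_left (by omega) 2
      omega
    have hkq : k < q := by omega
    refine ⟨q, hq, helper6_dvd_choose_of_dvd_sub m k q (m - q) hq hkq hik ?_, Or.inl hkq⟩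
    have : m - (m - q) = q := by omega
    rw [this]
  · by_contra hcon
    have hs1 : (Nat.sqrt m) ^ 2 ≤ m := Nat.sqrt_le' m
    have hs2 : Nat.sqrt m < k := Nat.sqrt_lt'.mpr hsq
    have hs8 : 8 ≤ Nat.sqrt m := Nat.le_sqrt'.mpr (by omega)
    have hsm : ∀ p : ℕ, p ^ 2 ≤ m → p ≤ Nat.sqrt m := fun p hp => Nat.le_sqrt'.mpr hp
    generalize Nat.sqrt m = s at hs1 hs2 hs8 hsm
    have h : ∀ p : ℕ, p.Prime → p ∣ m.choose k → p ≤ s := by
      intro p hp hd
      by_contra hlt
      apply hcon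
      refine ⟨p, hp, hd, Or.inr ?_⟩
      by_contra h'
      exact hlt (hsm p (by omega))
    have hm0 : 0 < m := by omega
    have hc := helper6_choose_le_pow_pi m k s hm0 (by omega) h
    have hmono : m.choose (s + 1) ≤ m.choose k :=
      helper6_choose_mono m (s + 1) k (by omega) (by omega)
    have hd := helper6_pow_le_pow_mul_choose (s + 1) m (by omega)
    have h1 : m ^ (s + 1) ≤ (s + 1) ^ (s + 1) * m ^ (Nat.primeCounting s) :=
      hd.trans (Nat.mul_le_mul_left _ (hmono.trans hc))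
    have hpi : 2 * Nat.primeCounting s ≤ s := helper6_two_pi_le s hs8
    have h2 : m ^ (2 * (s + 1)) ≤ ((s + 1) ^ (s + 1)) ^ 2 * m ^ s := by
      calc m ^ (2 * (s + 1)) = (m ^ (s + 1)) ^ 2 := by rw [← pow_mul, mul_comm]
        _ ≤ ((s + 1) ^ (s + 1) * m ^ (Nat.primeCounting s)) ^ 2 := Nat.pow_le_pow_left h1 2
        _ = ((s + 1) ^ (s + 1)) ^ 2 * m ^ (2 * Nat.primeCounting s) := by ring
        _ ≤ ((s + 1) ^ (s + 1)) ^ 2 * m ^ s :=
            Nat.mul_le_mul_left _ (Nat.pow_le_pow_right hm0 hpi)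
    have h3 : m ^ (s + 2) ≤ ((s + 1) ^ (s + 1)) ^ 2 := by
      have h30 : m ^ (2 * (s + 1)) = m ^ (s + 2) * m ^ s := by
        rw [← pow_add]; congr 1; omega
      rw [h30] at h2
      exact Nat.le_of_mul_le_mul_right h2 (by positivity)
    have h4 : (s ^ (s + 2)) ^ 2 ≤ ((s + 1) ^ (s + 1)) ^ 2 := by
      calc (s ^ (s + 2)) ^ 2 = (s ^ 2) ^ (s + 2) := by ring
        _ ≤ m ^ (s + 2) := Nat.pow_le_pow_left hs1 _
        _ ≤ _ := h3
    have h5 : s ^ (s + 2) ≤ (s + 1) ^ (s + 1) := by
      by_contra hlt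
      have := Nat.pow_lt_pow_left (not_le.mp hlt) (by norm_num : 2 ≠ 0)
      omega
    have := helper6_succ_pow_lt s hs8
    omega

end Cfsg.Agent.Lib.helper6.AD
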