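import Cfsg.Agent.Lib.helper6.APB0core
import Cfsg.Agent.Lib.helper29.APINTV

/-!
# S2276 piece B0 (`b0`), helper6 (racer copy): from `h6_b0_core` and the landed GPC copy `h29_gpc`
-/

set_option autoImplicit false

namespace Cfsg.Agent.Lib.helper95.AP

open Equiv

/-- [B0] two full cycles; uses GPC (and PERF or NS for `p^e = 5`) -/
theorem h6_b0 (p : ℕ) (hp : p.Prime) (hp3 : 3 ≤ p) (e : ℕ) (h5 : 5 ≤ p ^ e) :
    ∃ b : Perm (Fin (p ^ e)), b.cycleType = {p ^ e} ∧ GoodBoth p (finRotate (p ^ e)) b :=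
  h6_b0_core h29_gpc p hp hp3 e h5

end Cfsg.Agent.Lib.helper95.AP
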