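import Cfsg.Agent.Lib.helper95.APDefs

/-!
# S2276 piece B0 (`b0`), helper6 (racer): core, with the GPC statement as a hypothesis

`b := s * a⁻¹ * s⁻¹` with `a = finRotate M`; `a * b = (a * s * a⁻¹) * s⁻¹`.
-/

set_option autoImplicit false

namespace Cfsg.Agent.Lib.helper95.AP

open Equiv

theorem h6_rot (M : ℕ) (k : ℕ) (hk : k + 1 < M) :
    finRotate M ⟨k, by omega⟩ = ⟨k + 1, hk⟩ := by
  cases M with
  | zero => omega
  | succ N => exact finRotate_of_lt (by omega)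

theorem h6_rot_inv (M : ℕ) (k : ℕ) (hk : k + 1 < M) :
    (finRotate M)⁻¹ ⟨k + 1, hk⟩ = ⟨k, by omega⟩ := by
  rw [Perm.inv_eq_iff_eq, h6_rot M k hk]

theorem h6_pi {M : ℕ} (a s : Perm (Fin M)) : a * (s * a⁻¹ * s⁻¹) = (a * s * a⁻¹) * s⁻¹ := by
  group

theorem h6_conj_mul {M : ℕ} (a s t : Perm (Fin M)) :
    a * (s * t) * a⁻¹ = (a * s * a⁻¹) * (a * t * a⁻¹) := by
  group

theorem h6_count {M : ℕ} (π : Perm (Fin M)) (S : Finset (Fin M))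
    (h : ∀ z, π z = z ↔ z ∉ S) :
    (Finset.univ.filter (fun z : Fin M => π z = z)).card = M - S.card := by
  have h1 : Finset.univ.filter (fun z : Fin M => π z = z) = Sᶜ := by
    ext z
    simp [h z]
  rw [h1, Finset.card_compl, Fintype.card_fin]

theorem h6_cyc (M : ℕ) (hM : 2 ≤ M) (s : Perm (Fin M)) :
    (s * (finRotate M)⁻¹ * s⁻¹).cycleType = {M} := by
  rw [Perm.cycleType_conj, Perm.cycleType_inv, cycleType_finRotate_of_le hM]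

/-- far from the support of `s`, the conjugate of the inverse rotation is `x ↦ x - 1` -/
theorem h6_far (M : ℕ) (s : Perm (Fin M)) (k : ℕ) (hk : k + 1 < M)
    (h1 : s⁻¹ ⟨k + 1, hk⟩ = ⟨k + 1, hk⟩) (h2 : s ⟨k, by omega⟩ = ⟨k, by omega⟩) :
    (s * (finRotate M)⁻¹ * s⁻¹) ⟨k + 1, hk⟩ = ⟨k, by omega⟩ := by
  rw [Perm.mul_apply, Perm.mul_apply, h1, h6_rot_inv M k hk, h2]

/-- the fixed points of `swap 1 3 * swap 0 2` -/
theorem h6_fixA (M : ℕ) (hM : 4 ≤ M) (z : Fin M) :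
    (swap (⟨1, by omega⟩ : Fin M) ⟨3, by omega⟩ * swap (⟨0, by omega⟩ : Fin M) ⟨2, by omega⟩) z = z ↔
      z ∉ ({⟨0, by omega⟩, ⟨1, by omega⟩, ⟨2, by omega⟩, ⟨3, by omega⟩} : Finset (Fin M)) := by
  simp only [Perm.mul_apply, Equiv.swap_apply_def, Finset.mem_insert, Finset.mem_singleton,
    Fin.ext_iff]
  split_ifs <;> simp_all <;> omega


/-- the fixed points of `swap 1 5 * swap 2 6 * (swap 1 5 * swap 0 4)` -/
theorem h6_fixB (M : ℕ) (hM : 7 ≤ M) (z : Fin M) :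
    (swap (⟨1, by omega⟩ : Fin M) ⟨5, by omega⟩ * swap (⟨2, by omega⟩ : Fin M) ⟨6, by omega⟩ *
      (swap (⟨1, by omega⟩ : Fin M) ⟨5, by omega⟩ * swap (⟨0, by omega⟩ : Fin M) ⟨4, by omega⟩)) z = z ↔
      z ∉ ({⟨0, by omega⟩, ⟨2, by omega⟩, ⟨4, by omega⟩, ⟨6, by omega⟩} : Finset (Fin M)) := by
  simp only [Perm.mul_apply, Equiv.swap_apply_def, Finset.mem_insert, Finset.mem_singleton,
    Fin.ext_iff]
  split_ifs <;> simp_all <;> omega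

/-- the fixed points of `swap 1 2 * swap 0 1` -/
theorem h6_fixC (M : ℕ) (hM : 4 ≤ M) (z : Fin M) :
    (swap (⟨1, by omega⟩ : Fin M) ⟨2, by omega⟩ * swap (⟨0, by omega⟩ : Fin M) ⟨1, by omega⟩) z = z ↔
      z ∉ ({⟨0, by omega⟩, ⟨1, by omega⟩, ⟨2, by omega⟩} : Finset (Fin M)) := by
  simp only [Perm.mul_apply, Equiv.swap_apply_def, Finset.mem_insert, Finset.mem_singleton,
    Fin.ext_iff]
  split_ifs <;> simp_all <;> omega

/-- the fixed points of `swap 1 2 * swap 2 3 * (swap 1 2 * swap 0 1)` -/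
theorem h6_fixD (M : ℕ) (hM : 4 ≤ M) (z : Fin M) :
    (swap (⟨1, by omega⟩ : Fin M) ⟨2, by omega⟩ * swap (⟨2, by omega⟩ : Fin M) ⟨3, by omega⟩ *
      (swap (⟨1, by omega⟩ : Fin M) ⟨2, by omega⟩ * swap (⟨0, by omega⟩ : Fin M) ⟨1, by omega⟩)) z = z ↔
      z ∉ ({⟨0, by omega⟩, ⟨1, by omega⟩, ⟨3, by omega⟩} : Finset (Fin M)) := by
  simp only [Perm.mul_apply, Equiv.swap_apply_def, Finset.mem_insert, Finset.mem_singleton,
    Fin.ext_iff]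
  split_ifs <;> simp_all <;> omega

theorem h6_cardA (M : ℕ) (hM : 4 ≤ M) :
    ({⟨0, by omega⟩, ⟨1, by omega⟩, ⟨2, by omega⟩, ⟨3, by omega⟩} : Finset (Fin M)).card = 4 := by
  rw [Finset.card_insert_of_notMem, Finset.card_insert_of_notMem, Finset.card_insert_of_notMem,
    Finset.card_singleton] <;> simp [Fin.ext_iff]

theorem h6_cardB (M : ℕ) (hM : 7 ≤ M) :
    ({⟨0, by omega⟩, ⟨2, by omega⟩, ⟨4, by omega⟩, ⟨6, by omega⟩} : Finset (Fin M)).card = 4 := by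
  rw [Finset.card_insert_of_notMem, Finset.card_insert_of_notMem, Finset.card_insert_of_notMem,
    Finset.card_singleton] <;> simp [Fin.ext_iff]

theorem h6_cardC (M : ℕ) (hM : 4 ≤ M) :
    ({⟨0, by omega⟩, ⟨1, by omega⟩, ⟨2, by omega⟩} : Finset (Fin M)).card = 3 := by
  rw [Finset.card_insert_of_notMem, Finset.card_insert_of_notMem,
    Finset.card_singleton] <;> simp [Fin.ext_iff]

theorem h6_cardD (M : ℕ) (hM : 4 ≤ M) :
    ({⟨0, by omega⟩, ⟨1, by omega⟩, ⟨3, by omega⟩} : Finset (Fin M)).card = 3 := by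
  rw [Finset.card_insert_of_notMem, Finset.card_insert_of_notMem,
    Finset.card_singleton] <;> simp [Fin.ext_iff]

/-- `a * b` for the conjugator `swap 0 2` -/
theorem h6_piA (M : ℕ) (hM : 4 ≤ M) :
    finRotate M * (swap (⟨0, by omega⟩ : Fin M) ⟨2, by omega⟩ * (finRotate M)⁻¹ *
      (swap (⟨0, by omega⟩ : Fin M) ⟨2, by omega⟩)⁻¹) =
    swap (⟨1, by omega⟩ : Fin M) ⟨3, by omega⟩ * swap (⟨0, by omega⟩ : Fin M) ⟨2, by omega⟩ := by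
  rw [h6_pi, ← Equiv.swap_apply_apply, h6_rot M 0 (by omega), h6_rot M 2 (by omega),
    Equiv.swap_inv]

/-- `a * b` for the conjugator `swap 0 4 * swap 1 5` -/
theorem h6_piB (M : ℕ) (hM : 7 ≤ M) :
    finRotate M * (swap (⟨0, by omega⟩ : Fin M) ⟨4, by omega⟩ * swap (⟨1, by omega⟩ : Fin M) ⟨5, by omega⟩ *
      (finRotate M)⁻¹ *
      (swap (⟨0, by omega⟩ : Fin M) ⟨4, by omega⟩ * swap (⟨1, by omega⟩ : Fin M) ⟨5, by omega⟩)⁻¹) =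
    swap (⟨1, by omega⟩ : Fin M) ⟨5, by omega⟩ * swap (⟨2, by omega⟩ : Fin M) ⟨6, by omega⟩ *
      (swap (⟨1, by omega⟩ : Fin M) ⟨5, by omega⟩ * swap (⟨0, by omega⟩ : Fin M) ⟨4, by omega⟩) := by
  rw [h6_pi, h6_conj_mul, ← Equiv.swap_apply_apply, ← Equiv.swap_apply_apply,
    h6_rot M 0 (by omega), h6_rot M 4 (by omega), h6_rot M 1 (by omega), h6_rot M 5 (by omega),
    mul_inv_rev, Equiv.swap_inv, Equiv.swap_inv]

/-- `a * b` for the conjugator `swap 0 1` -/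
theorem h6_piC (M : ℕ) (hM : 4 ≤ M) :
    finRotate M * (swap (⟨0, by omega⟩ : Fin M) ⟨1, by omega⟩ * (finRotate M)⁻¹ *
      (swap (⟨0, by omega⟩ : Fin M) ⟨1, by omega⟩)⁻¹) =
    swap (⟨1, by omega⟩ : Fin M) ⟨2, by omega⟩ * swap (⟨0, by omega⟩ : Fin M) ⟨1, by omega⟩ := by
  rw [h6_pi, ← Equiv.swap_apply_apply, h6_rot M 0 (by omega), h6_rot M 1 (by omega),
    Equiv.swap_inv]

/-- `a * b` for the conjugator `swap 0 1 * swap 1 2` -/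
theorem h6_piD (M : ℕ) (hM : 4 ≤ M) :
    finRotate M * (swap (⟨0, by omega⟩ : Fin M) ⟨1, by omega⟩ * swap (⟨1, by omega⟩ : Fin M) ⟨2, by omega⟩ *
      (finRotate M)⁻¹ *
      (swap (⟨0, by omega⟩ : Fin M) ⟨1, by omega⟩ * swap (⟨1, by omega⟩ : Fin M) ⟨2, by omega⟩)⁻¹) =
    swap (⟨1, by omega⟩ : Fin M) ⟨2, by omega⟩ * swap (⟨2, by omega⟩ : Fin M) ⟨3, by omega⟩ *
      (swap (⟨1, by omega⟩ : Fin M) ⟨2, by omega⟩ * swap (⟨0, by omega⟩ : Fin M) ⟨1, by omega⟩) := by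
  rw [h6_pi, h6_conj_mul, ← Equiv.swap_apply_apply, ← Equiv.swap_apply_apply,
    h6_rot M 0 (by omega), h6_rot M 1 (by omega), h6_rot M 2 (by omega),
    mul_inv_rev, Equiv.swap_inv, Equiv.swap_inv]


/-- values for the conjugator `swap 0 2` -/
theorem h6_valA (M : ℕ) (hM : 7 ≤ M) :
    (swap (⟨0, by omega⟩ : Fin M) ⟨2, by omega⟩ * (finRotate M)⁻¹ *
      (swap (⟨0, by omega⟩ : Fin M) ⟨2, by omega⟩)⁻¹) ⟨0, by omega⟩ = ⟨1, by omega⟩ := by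
  have h1 : (finRotate M)⁻¹ (⟨2, by omega⟩ : Fin M) = ⟨1, by omega⟩ := h6_rot_inv M 1 (by omega)
  rw [Equiv.swap_inv, Perm.mul_apply, Perm.mul_apply, Equiv.swap_apply_left, h1,
    Equiv.swap_apply_of_ne_of_ne (by simp [Fin.ext_iff]) (by simp [Fin.ext_iff])]

theorem h6_farA (M : ℕ) (hM : 7 ≤ M) (k : ℕ) (hk : k + 1 < M) (hk3 : 3 ≤ k) :
    (swap (⟨0, by omega⟩ : Fin M) ⟨2, by omega⟩ * (finRotate M)⁻¹ *
      (swap (⟨0, by omega⟩ : Fin M) ⟨2, by omega⟩)⁻¹) ⟨k + 1, hk⟩ = ⟨k, by omega⟩ := by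
  apply h6_far M _ k hk
  · rw [Equiv.swap_inv, Equiv.swap_apply_of_ne_of_ne] <;> simp [Fin.ext_iff] <;> omega
  · rw [Equiv.swap_apply_of_ne_of_ne] <;> simp [Fin.ext_iff] <;> omega

/-- values for the conjugator `swap 0 4 * swap 1 5` -/
theorem h6_valB (M : ℕ) (hM : 7 ≤ M) :
    (swap (⟨0, by omega⟩ : Fin M) ⟨4, by omega⟩ * swap (⟨1, by omega⟩ : Fin M) ⟨5, by omega⟩ *
      (finRotate M)⁻¹ *
      (swap (⟨0, by omega⟩ : Fin M) ⟨4, by omega⟩ * swap (⟨1, by omega⟩ : Fin M) ⟨5, by omega⟩)⁻¹)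
      ⟨2, by omega⟩ = ⟨5, by omega⟩ := by
  have h1 : (finRotate M)⁻¹ (⟨2, by omega⟩ : Fin M) = ⟨1, by omega⟩ := h6_rot_inv M 1 (by omega)
  rw [mul_inv_rev, Equiv.swap_inv, Equiv.swap_inv]
  simp only [Perm.mul_apply]
  rw [Equiv.swap_apply_of_ne_of_ne (a := (⟨0, by omega⟩ : Fin M)) (b := ⟨4, by omega⟩)
      (x := ⟨2, by omega⟩) (by simp [Fin.ext_iff]) (by simp [Fin.ext_iff]),
    Equiv.swap_apply_of_ne_of_ne (a := (⟨1, by omega⟩ : Fin M)) (b := ⟨5, by omega⟩)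
      (x := ⟨2, by omega⟩) (by simp [Fin.ext_iff]) (by simp [Fin.ext_iff]), h1,
    Equiv.swap_apply_left,
    Equiv.swap_apply_of_ne_of_ne (a := (⟨0, by omega⟩ : Fin M)) (b := ⟨4, by omega⟩)
      (x := ⟨5, by omega⟩) (by simp [Fin.ext_iff]) (by simp [Fin.ext_iff])]

theorem h6_farB (M : ℕ) (hM : 7 ≤ M) (k : ℕ) (hk : k + 1 < M) (hk6 : 6 ≤ k) :
    (swap (⟨0, by omega⟩ : Fin M) ⟨4, by omega⟩ * swap (⟨1, by omega⟩ : Fin M) ⟨5, by omega⟩ *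
      (finRotate M)⁻¹ *
      (swap (⟨0, by omega⟩ : Fin M) ⟨4, by omega⟩ * swap (⟨1, by omega⟩ : Fin M) ⟨5, by omega⟩)⁻¹)
      ⟨k + 1, hk⟩ = ⟨k, by omega⟩ := by
  apply h6_far M _ k hk
  · rw [mul_inv_rev, Equiv.swap_inv, Equiv.swap_inv, Perm.mul_apply,
      Equiv.swap_apply_of_ne_of_ne (a := (⟨0, by omega⟩ : Fin M)) (b := ⟨4, by omega⟩)
        (by simp [Fin.ext_iff] <;> omega) (by simp [Fin.ext_iff] <;> omega),
      Equiv.swap_apply_of_ne_of_ne (by simp [Fin.ext_iff] <;> omega) (by simp [Fin.ext_iff] <;> omega)]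
  · rw [Perm.mul_apply,
      Equiv.swap_apply_of_ne_of_ne (a := (⟨1, by omega⟩ : Fin M)) (b := ⟨5, by omega⟩)
        (by simp [Fin.ext_iff] <;> omega) (by simp [Fin.ext_iff] <;> omega),
      Equiv.swap_apply_of_ne_of_ne (by simp [Fin.ext_iff] <;> omega) (by simp [Fin.ext_iff] <;> omega)]


theorem h6_comp {M : ℕ} (a s t : Perm (Fin M)) :
    (t * s⁻¹) * (s * a⁻¹ * s⁻¹) * (t * s⁻¹)⁻¹ = t * a⁻¹ * t⁻¹ := by
  group

theorem h6_good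
    (hGPC : ∀ (p : ℕ) (hp : p.Prime) (hp3 : 3 ≤ p) (e : ℕ) (he : 1 ≤ e) (b : Perm (Fin (p ^ e)))
      (x y : Fin (p ^ e)) (hxy : ((p ^ (e - 1) : ℕ) : ℤ) ∣ ((x : ℕ) : ℤ) - ((y : ℕ) : ℤ))
      (hbxy : ¬ (p : ℤ) ∣ (((b x : Fin (p ^ e)) : ℕ) : ℤ) - (((b y : Fin (p ^ e)) : ℕ) : ℤ))
      (f : ℕ)
      (hf : (Finset.univ.filter (fun z : Fin (p ^ e) => (finRotate (p ^ e) * b) z = z)).card = f)
      (hf2 : 2 ≤ f) (hfp : ¬ p ∣ f), Good p (finRotate (p ^ e)) b)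
    (p : ℕ) (hp : p.Prime) (hp3 : 3 ≤ p) (e : ℕ) (he : 1 ≤ e)
    (s π : Perm (Fin (p ^ e)))
    (hπ : finRotate (p ^ e) * (s * (finRotate (p ^ e))⁻¹ * s⁻¹) = π)
    (S : Finset (Fin (p ^ e))) (hfix : ∀ z, π z = z ↔ z ∉ S) (c : ℕ) (hc : S.card = c)
    (hc2 : c + 2 ≤ p ^ e) (hpc : ¬ p ∣ c)
    (hwit : 2 ≤ e → ∃ x y : Fin (p ^ e),
      ((p ^ (e - 1) : ℕ) : ℤ) ∣ ((x : ℕ) : ℤ) - ((y : ℕ) : ℤ) ∧
      ¬ (p : ℤ) ∣ ((((s * (finRotate (p ^ e))⁻¹ * s⁻¹) x : Fin (p ^ e)) : ℕ) : ℤ) -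
        ((((s * (finRotate (p ^ e))⁻¹ * s⁻¹) y : Fin (p ^ e)) : ℕ) : ℤ)) :
    Good p (finRotate (p ^ e)) (s * (finRotate (p ^ e))⁻¹ * s⁻¹) := by
  have hcount : (Finset.univ.filter (fun z : Fin (p ^ e) =>
      (finRotate (p ^ e) * (s * (finRotate (p ^ e))⁻¹ * s⁻¹)) z = z)).card = p ^ e - c := by
    rw [hπ, h6_count π S hfix, hc]
  have hfp : ¬ p ∣ p ^ e - c := by
    intro hd
    apply hpc
    have h1 : p ∣ p ^ e := dvd_pow_self p (by omega)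
    have h2 : c = p ^ e - (p ^ e - c) := by omega
    rw [h2]
    exact Nat.dvd_sub h1 hd
  have hex : ∃ x y : Fin (p ^ e),
      ((p ^ (e - 1) : ℕ) : ℤ) ∣ ((x : ℕ) : ℤ) - ((y : ℕ) : ℤ) ∧
      ¬ (p : ℤ) ∣ ((((s * (finRotate (p ^ e))⁻¹ * s⁻¹) x : Fin (p ^ e)) : ℕ) : ℤ) -
        ((((s * (finRotate (p ^ e))⁻¹ * s⁻¹) y : Fin (p ^ e)) : ℕ) : ℤ) := by
    by_cases he2 : 2 ≤ e
    · exact hwit he2
    · have he1 : e = 1 := by omega
      subst he1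
      have hp1 : p ^ 1 = p := pow_one p
      refine ⟨⟨0, by omega⟩, ⟨1, by omega⟩, ?_, ?_⟩
      · simp
      · intro hd
        have hx := ((s * (finRotate (p ^ 1))⁻¹ * s⁻¹ : Perm (Fin (p ^ 1))) (⟨0, by omega⟩ : Fin (p ^ 1))).isLt
        have hy := ((s * (finRotate (p ^ 1))⁻¹ * s⁻¹ : Perm (Fin (p ^ 1))) (⟨1, by omega⟩ : Fin (p ^ 1))).isLt
        have h0 := Int.eq_zero_of_abs_lt_dvd hd (by rw [abs_lt]; constructor <;> omega)
        have h1 : ((s * (finRotate (p ^ 1))⁻¹ * s⁻¹ : Perm (Fin (p ^ 1))) (⟨0, by omega⟩ : Fin (p ^ 1))) =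
            ((s * (finRotate (p ^ 1))⁻¹ * s⁻¹ : Perm (Fin (p ^ 1))) (⟨1, by omega⟩ : Fin (p ^ 1))) := by
          apply Fin.ext
          omega
        have h2 := (s * (finRotate (p ^ 1))⁻¹ * s⁻¹ : Perm (Fin (p ^ 1))).injective h1
        simp [Fin.ext_iff] at h2
  obtain ⟨x, y, hxy, hbxy⟩ := hex
  exact hGPC p hp hp3 e he _ x y hxy hbxy _ hcount (by omega) hfp

/-- B0 from the GPC statement -/
theorem h6_b0_core
    (hGPC : ∀ (p : ℕ) (hp : p.Prime) (hp3 : 3 ≤ p) (e : ℕ) (he : 1 ≤ e) (b : Perm (Fin (p ^ e)))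
      (x y : Fin (p ^ e)) (hxy : ((p ^ (e - 1) : ℕ) : ℤ) ∣ ((x : ℕ) : ℤ) - ((y : ℕ) : ℤ))
      (hbxy : ¬ (p : ℤ) ∣ (((b x : Fin (p ^ e)) : ℕ) : ℤ) - (((b y : Fin (p ^ e)) : ℕ) : ℤ))
      (f : ℕ)
      (hf : (Finset.univ.filter (fun z : Fin (p ^ e) => (finRotate (p ^ e) * b) z = z)).card = f)
      (hf2 : 2 ≤ f) (hfp : ¬ p ∣ f), Good p (finRotate (p ^ e)) b)
    (p : ℕ) (hp : p.Prime) (hp3 : 3 ≤ p) (e : ℕ) (h5 : 5 ≤ p ^ e) :
    ∃ b : Perm (Fin (p ^ e)), b.cycleType = {p ^ e} ∧ GoodBoth p (finRotate (p ^ e)) b := by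
  have he : 1 ≤ e := by
    by_contra h
    have h0 : e = 0 := by omega
    rw [h0, pow_zero] at h5
    omega
  by_cases h7 : 7 ≤ p ^ e
  · have hp4 : ¬ p ∣ 4 := by
      intro h
      have h2 : p ∣ 2 := by
        rcases (Nat.Prime.dvd_mul hp).mp (show p ∣ 2 * 2 from h) with h | h <;> exact h
      have := Nat.le_of_dvd (by norm_num) h2
      omega
    have hwitfacts : 2 ≤ e → ∃ Y : ℕ, Y + 3 < p ^ e ∧ 5 ≤ Y ∧ p ∣ Y + 1 ∧ p ^ (e - 1) ∣ Y + 1 := by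
      intro he2
      have hMQ : p ^ e = p * p ^ (e - 1) := by
        have h1 : e = (e - 1) + 1 := by omega
        conv_lhs => rw [h1, pow_succ']
      have hQ3 : 3 ≤ p ^ (e - 1) := by
        calc 3 ≤ p := hp3
          _ = p ^ 1 := (pow_one p).symm
          _ ≤ p ^ (e - 1) := Nat.pow_le_pow_right (by omega) (by omega)
      have h3Q : 3 * p ^ (e - 1) ≤ p * p ^ (e - 1) := Nat.mul_le_mul_right _ hp3
      have hpQ : p ∣ p ^ (e - 1) := dvd_pow_self p (by omega)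
      refine ⟨p ^ e - p ^ (e - 1) - 1, by omega, by omega, ?_, ?_⟩
      · have h1 : p ^ e - p ^ (e - 1) - 1 + 1 = p ^ e - p ^ (e - 1) := by omega
        rw [h1]
        exact Nat.dvd_sub (dvd_pow_self p (by omega)) hpQ
      · have h1 : p ^ e - p ^ (e - 1) - 1 + 1 = p ^ e - p ^ (e - 1) := by omega
        rw [h1]
        exact Nat.dvd_sub (pow_dvd_pow p (by omega)) dvd_rfl
    refine ⟨swap (⟨0, by omega⟩ : Fin (p ^ e)) ⟨2, by omega⟩ * (finRotate (p ^ e))⁻¹ *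
        (swap (⟨0, by omega⟩ : Fin (p ^ e)) ⟨2, by omega⟩)⁻¹, h6_cyc _ (by omega) _,
      ⟨?_, (swap (⟨0, by omega⟩ : Fin (p ^ e)) ⟨4, by omega⟩ *
          swap (⟨1, by omega⟩ : Fin (p ^ e)) ⟨5, by omega⟩) *
        (swap (⟨0, by omega⟩ : Fin (p ^ e)) ⟨2, by omega⟩)⁻¹, ?_, ?_⟩⟩
    · refine h6_good hGPC p hp hp3 e he _ _ (h6_piA (p ^ e) (by omega)) _
        (h6_fixA (p ^ e) (by omega)) 4 (h6_cardA (p ^ e) (by omega)) (by omega) hp4 ?_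
      intro he2
      obtain ⟨Y, hY1, hY2, hY3, hY4⟩ := hwitfacts he2
      refine ⟨⟨0, by omega⟩, ⟨Y + 1, by omega⟩, ?_, ?_⟩
      · have h1 : (((⟨0, by omega⟩ : Fin (p ^ e)) : ℕ) : ℤ) -
            (((⟨Y + 1, by omega⟩ : Fin (p ^ e)) : ℕ) : ℤ) = -((Y + 1 : ℕ) : ℤ) := by
          push_cast; ring
        rw [h1]
        exact (dvd_neg.mpr (by exact_mod_cast hY4))
      · rw [h6_valA (p ^ e) h7, h6_farA (p ^ e) h7 Y (by omega) (by omega)]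
        intro hd
        have h2 : (p : ℤ) ∣ ((Y + 1 : ℕ) : ℤ) := by exact_mod_cast hY3
        have h3 : (((⟨1, by omega⟩ : Fin (p ^ e)) : ℕ) : ℤ) -
            (((⟨Y, by omega⟩ : Fin (p ^ e)) : ℕ) : ℤ) + ((Y + 1 : ℕ) : ℤ) = 2 := by
          push_cast; ring
        have h4 : (p : ℤ) ∣ 2 := by rw [← h3]; exact dvd_add hd h2
        have h5' : p ∣ 2 := by exact_mod_cast h4
        have := Nat.le_of_dvd (by norm_num) h5'
        omega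
    · simp [Perm.sign_swap', Fin.ext_iff]
    · rw [h6_comp]
      refine h6_good hGPC p hp hp3 e he _ _ (h6_piB (p ^ e) h7) _
        (h6_fixB (p ^ e) h7) 4 (h6_cardB (p ^ e) h7) (by omega) hp4 ?_
      intro he2
      obtain ⟨Y, hY1, hY2, hY3, hY4⟩ := hwitfacts he2
      refine ⟨⟨2, by omega⟩, ⟨Y + 2 + 1, by omega⟩, ?_, ?_⟩
      · have h1 : (((⟨2, by omega⟩ : Fin (p ^ e)) : ℕ) : ℤ) -
            (((⟨Y + 2 + 1, by omega⟩ : Fin (p ^ e)) : ℕ) : ℤ) = -((Y + 1 : ℕ) : ℤ) := by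
          push_cast; ring
        rw [h1]
        exact (dvd_neg.mpr (by exact_mod_cast hY4))
      · rw [h6_valB (p ^ e) h7, h6_farB (p ^ e) h7 (Y + 2) (by omega) (by omega)]
        intro hd
        have h2 : (p : ℤ) ∣ ((Y + 1 : ℕ) : ℤ) := by exact_mod_cast hY3
        have h3 : (((⟨5, by omega⟩ : Fin (p ^ e)) : ℕ) : ℤ) -
            (((⟨Y + 2, by omega⟩ : Fin (p ^ e)) : ℕ) : ℤ) + ((Y + 1 : ℕ) : ℤ) = 4 := by
          push_cast; ring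
        have h4 : (p : ℤ) ∣ 4 := by rw [← h3]; exact dvd_add hd h2
        exact hp4 (by exact_mod_cast h4)
  · have he1 : e = 1 := by
      by_contra h
      have h2 : 2 ≤ e := by omega
      have h9 : 3 ^ 2 ≤ p ^ e :=
        le_trans (Nat.pow_le_pow_left hp3 2) (Nat.pow_le_pow_right (by omega) h2)
      omega
    have hp5 : 5 ≤ p := by rw [he1, pow_one] at h5; exact h5
    have hp3' : ¬ p ∣ 3 := by
      intro h
      have := Nat.le_of_dvd (by norm_num) h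
      omega
    have h4 : 4 ≤ p ^ e := by omega
    refine ⟨swap (⟨0, by omega⟩ : Fin (p ^ e)) ⟨1, by omega⟩ * (finRotate (p ^ e))⁻¹ *
        (swap (⟨0, by omega⟩ : Fin (p ^ e)) ⟨1, by omega⟩)⁻¹, h6_cyc _ (by omega) _,
      ⟨?_, (swap (⟨0, by omega⟩ : Fin (p ^ e)) ⟨1, by omega⟩ *
          swap (⟨1, by omega⟩ : Fin (p ^ e)) ⟨2, by omega⟩) *
        (swap (⟨0, by omega⟩ : Fin (p ^ e)) ⟨1, by omega⟩)⁻¹, ?_, ?_⟩⟩
    · exact h6_good hGPC p hp hp3 e he _ _ (h6_piC (p ^ e) h4) _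
        (h6_fixC (p ^ e) h4) 3 (h6_cardC (p ^ e) h4) (by omega) hp3' (fun h2 => by omega)
    · simp [Perm.sign_swap', Fin.ext_iff]
    · rw [h6_comp]
      exact h6_good hGPC p hp hp3 e he _ _ (h6_piD (p ^ e) h4) _
        (h6_fixD (p ^ e) h4) 3 (h6_cardD (p ^ e) h4) (by omega) hp3' (fun h2 => by omega)

end Cfsg.Agent.Lib.helper95.AP
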