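import Mathlib

/-!
# Code models of finite groups

A `GModel ok mul e f` is a bijection `f` from a group `G` onto the set of natural-number
codes `c` with `ok c = true`, turning the multiplication of `G` into a kernel-computable
function `mul` on codes.  Structural questions about `G` then reduce to `decide +kernel`
checks on codes.  Generic lemmas: conjugating a model (`GModel.conj`), moving an element to a
prescribed code by an inner automorphism (`GModel.conj_to`), straight-line programs
(`slp`, `GModel.slp_mem`), cardinalities (`GModel.card_of_list`, `GModel.card_ge`),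
subgroups from closed code lists (`GModel.sub`), coatoms (`GModel.coatom_eq`) and normalizers
(`GModel.mem_normalizer_iff`).
-/

namespace Cfsg.Agent.Lib.helper6.CodeModel

/-- A code model of a group. -/
structure GModel {G : Type*} [Group G] (ok : ℕ → Bool) (mul : ℕ → ℕ → ℕ) (e : ℕ)
    (f : G → ℕ) : Prop where
  inj : Function.Injective f
  mem : ∀ g, ok (f g) = true
  surj : ∀ c, ok c = true → ∃ g, f g = c
  one : f 1 = e
  fmul : ∀ g h, f (g * h) = mul (f g) (f h)

/-- Powers of a code. -/
def gpow (mul : ℕ → ℕ → ℕ) (e c : ℕ) : ℕ → ℕ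
  | 0 => e
  | k + 1 => mul c (gpow mul e c k)

/-- Straight-line programs on codes: each step appends the product of two earlier entries. -/
def slp (mul : ℕ → ℕ → ℕ) (e : ℕ) : List (ℕ × ℕ) → List ℕ → List ℕ
  | [], acc => acc
  | p :: rest, acc => slp mul e rest (acc ++ [mul (acc.getD p.1 e) (acc.getD p.2 e)])

theorem getD_mem_or (l : List ℕ) (i d : ℕ) : l.getD i d = d ∨ l.getD i d ∈ l := by
  by_cases h : i < l.length
  · right
    rw [List.getD_eq_getElem _ _ h]
    exact List.getElem_mem h
  · left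
    exact List.getD_eq_default _ _ (by omega)

section

variable {G : Type*} [Group G] {ok : ℕ → Bool} {mul : ℕ → ℕ → ℕ} {e : ℕ} {f : G → ℕ}

theorem GModel.eq_one_iff (M : GModel ok mul e f) (g : G) : g = 1 ↔ f g = e := by
  constructor
  · rintro rfl
    exact M.one
  · intro h
    exact M.inj (h.trans M.one.symm)

theorem GModel.map_pow (M : GModel ok mul e f) (g : G) (k : ℕ) :
    f (g ^ k) = gpow mul e (f g) k := by
  induction k with
  | zero => rw [pow_zero, M.one]; rfl
  | succ k ih => rw [pow_succ', M.fmul, ih]; rfl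

theorem GModel.comp_iso {G' : Type*} [Group G'] (M : GModel ok mul e f) (φ : G' ≃* G) :
    GModel ok mul e (f ∘ φ) where
  inj := M.inj.comp φ.injective
  mem := fun g => M.mem (φ g)
  surj := fun c hc => by
    obtain ⟨g, hg⟩ := M.surj c hc
    exact ⟨φ.symm g, by rw [Function.comp_apply, MulEquiv.apply_symm_apply, hg]⟩
  one := by rw [Function.comp_apply, map_one, M.one]
  fmul := fun g h => by rw [Function.comp_apply, map_mul, M.fmul]; rfl

/-- Composing a model with an inner automorphism. -/
theorem GModel.conj (M : GModel ok mul e f) (g : G) :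
    GModel ok mul e (fun y => f (g * y * g⁻¹)) :=
  M.comp_iso (MulAut.conj g)

/-- If the code of `x` is conjugate to `r` via the code `c`, some inner automorphism moves `x`
to the element with code `r`. -/
theorem GModel.conj_to (M : GModel ok mul e f) (x : G) (r c : ℕ) (hr : ok r = true)
    (hc : ok c = true) (h : mul c r = mul (f x) c) : ∃ g : G, f (g * x * g⁻¹) = r := by
  obtain ⟨k, rfl⟩ := M.surj c hc
  obtain ⟨x0, rfl⟩ := M.surj r hr
  rw [← M.fmul, ← M.fmul] at h
  have h1 := M.inj h
  refine ⟨k⁻¹, ?_⟩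
  congr 1
  rw [inv_inv, mul_assoc, ← h1]
  group

theorem GModel.slp_mem (M : GModel ok mul e f) (H : Subgroup G) (prog : List (ℕ × ℕ)) :
    ∀ (acc : List ℕ), (∀ c ∈ acc, ∃ y ∈ H, f y = c) →
      ∀ c ∈ slp mul e prog acc, ∃ y ∈ H, f y = c := by
  induction prog with
  | nil => intro acc h; exact h
  | cons p rest ih =>
    intro acc h
    apply ih
    intro c hc
    rw [List.mem_append, List.mem_singleton] at hc
    rcases hc with hc | rfl
    · exact h c hc
    · have h1 : ∀ i, ∃ y ∈ H, f y = acc.getD i e := by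
        intro i
        rcases getD_mem_or acc i e with h2 | h2
        · exact ⟨1, H.one_mem, by rw [M.one, h2]⟩
        · exact h _ h2
      obtain ⟨y1, hy1, e1⟩ := h1 p.1
      obtain ⟨y2, hy2, e2⟩ := h1 p.2
      exact ⟨y1 * y2, H.mul_mem hy1 hy2, by rw [M.fmul, e1, e2]⟩

theorem GModel.card_of_list (M : GModel ok mul e f) (K : List ℕ) (hK : K.Nodup)
    (hKL : ∀ c ∈ K, ok c = true) (P : G → Prop) (hP : ∀ g, P g ↔ f g ∈ K) :
    Nat.card {g // P g} = K.length := by
  classical
  have e : {g // P g} ≃ {c // c ∈ K.toFinset} :=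
    Equiv.ofBijective (fun g => ⟨f g.1, List.mem_toFinset.mpr ((hP g.1).mp g.2)⟩)
      ⟨fun a b hab => Subtype.ext (M.inj (congrArg Subtype.val hab)), fun ⟨c, hc⟩ => by
        obtain ⟨g, hg⟩ := M.surj c (hKL c (List.mem_toFinset.mp hc))
        exact ⟨⟨g, (hP g).mpr (hg ▸ List.mem_toFinset.mp hc)⟩, Subtype.ext hg⟩⟩
  rw [Nat.card_congr e, Nat.card_eq_fintype_card, Fintype.card_coe,
    List.toFinset_card_of_nodup hK]

/-- A subgroup containing preimages of a duplicate-free list of codes has at least that many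
elements. -/
theorem GModel.card_ge (_M : GModel ok mul e f) [Finite G] (H : Subgroup G) (K : List ℕ)
    (hK : K.Nodup) (hKH : ∀ c ∈ K, ∃ y ∈ H, f y = c) : K.length ≤ Nat.card H := by
  classical
  choose! y hyH hy using hKH
  have hinj : Function.Injective (fun c : {c // c ∈ K.toFinset} =>
      (⟨y c.1, hyH c.1 (List.mem_toFinset.mp c.2)⟩ : H)) := by
    intro a b hab
    apply Subtype.ext
    have h1 : y a.1 = y b.1 := congrArg Subtype.val hab
    rw [← hy a.1 (List.mem_toFinset.mp a.2), ← hy b.1 (List.mem_toFinset.mp b.2), h1]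
  have h2 := Nat.card_le_card_of_injective _ hinj
  rwa [Nat.card_eq_fintype_card, Fintype.card_coe, List.toFinset_card_of_nodup hK] at h2

/-- The subgroup with a given closed list of codes. -/
def GModel.sub (M : GModel ok mul e f) [Finite G] (S : List ℕ) (h1 : e ∈ S)
    (hmul : ∀ a ∈ S, ∀ b ∈ S, mul a b ∈ S) : Subgroup G where
  carrier := {g | f g ∈ S}
  mul_mem' := by
    intro a b ha hb
    show f (a * b) ∈ S
    rw [M.fmul]
    exact hmul _ ha _ hb
  one_mem' := by
    show f 1 ∈ S
    rw [M.one]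
    exact h1
  inv_mem' := by
    intro x hx
    have hpow : ∀ k : ℕ, f (x ^ k) ∈ S := by
      intro k
      induction k with
      | zero => rw [pow_zero, M.one]; exact h1
      | succ k ih => rw [pow_succ', M.fmul]; exact hmul _ hx _ ih
    have h2 : x⁻¹ = x ^ (orderOf x - 1) := by
      apply inv_eq_of_mul_eq_one_right
      rw [← pow_succ', Nat.sub_add_cancel (orderOf_pos x), pow_orderOf_eq_one]
    show f x⁻¹ ∈ S
    rw [h2]
    exact hpow _

theorem GModel.mem_sub (M : GModel ok mul e f) [Finite G] (S : List ℕ) (h1 : e ∈ S)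
    (hmul : ∀ a ∈ S, ∀ b ∈ S, mul a b ∈ S) (x : G) : x ∈ M.sub S h1 hmul ↔ f x ∈ S :=
  Iff.rfl

/-- A coatom contained in a proper subgroup given by a code list equals it. -/
theorem GModel.coatom_eq (M : GModel ok mul e f) [Finite G] (H : Subgroup G) (hH : IsCoatom H)
    (S : List ℕ) (h1 : e ∈ S) (hmul : ∀ a ∈ S, ∀ b ∈ S, mul a b ∈ S)
    (hne : M.sub S h1 hmul ≠ ⊤) (hle : ∀ y ∈ H, f y ∈ S) : ∀ y, y ∈ H ↔ f y ∈ S := by
  have h2 : H ≤ M.sub S h1 hmul := fun y hy => hle y hy
  have h3 : H = M.sub S h1 hmul := by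
    by_contra hne'
    exact hne (hH.2 _ (lt_of_le_of_ne h2 hne'))
  intro y
  rw [h3]
  exact Iff.rfl

/-- Normalizer membership in terms of codes. -/
theorem GModel.mem_normalizer_iff (M : GModel ok mul e f) [Finite G] (U : Subgroup G)
    (K : List ℕ) (hU : ∀ x, x ∈ U ↔ f x ∈ K) (hKL : ∀ c ∈ K, ok c = true) (x : G) :
    x ∈ Subgroup.normalizer (U : Set G) ↔ ∀ k ∈ K, ∃ k' ∈ K, mul (f x) k = mul k' (f x) := by
  constructor
  · intro hx k hk
    obtain ⟨n, rfl⟩ := M.surj k (hKL k hk)
    have hn : n ∈ U := (hU n).mpr hk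
    have h3 : x * n * x⁻¹ ∈ U := (Subgroup.mem_normalizer_iff.mp hx n).mp hn
    refine ⟨f (x * n * x⁻¹), (hU _).mp h3, ?_⟩
    rw [← M.fmul, ← M.fmul]
    congr 1
    group
  · intro hx
    apply Subgroup.mem_normalizer_fintype
    intro n hn
    obtain ⟨k', hk', he⟩ := hx (f n) ((hU n).mp hn)
    obtain ⟨n', rfl⟩ := M.surj k' (hKL k' hk')
    rw [← M.fmul, ← M.fmul] at he
    have h4 := M.inj he
    have h5 : x * n * x⁻¹ = n' := by rw [h4]; group
    show x * n * x⁻¹ ∈ U
    rw [h5]
    exact (hU n').mpr hk'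

/-- Membership in a conjugate subgroup. -/
theorem mem_map_conj (H : Subgroup G) (k y : G) :
    y ∈ H.map (MulAut.conj k).toMonoidHom ↔ k⁻¹ * y * k ∈ H := by
  rw [Subgroup.mem_map]
  constructor
  · rintro ⟨x, hx, rfl⟩
    have : k⁻¹ * ((MulAut.conj k).toMonoidHom x) * k = x := by
      simp only [MulEquiv.toMonoidHom_eq_coe, MonoidHom.coe_coe, MulAut.conj_apply]
      group
    rwa [this]
  · intro h
    exact ⟨k⁻¹ * y * k, h, by simp [MulAut.conj_apply]; group⟩

end

end Cfsg.Agent.Lib.helper6.CodeModel
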