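import Mathlib
import Cfsg.Agent.Lib.helper6.CodeModel

/-!
# Homomorphisms between code models from tables, permutation actions, Sylow subgroups

* `sylow_equiv_of_card`: every Sylow `p`-subgroup is isomorphic to a given subgroup whose order is
  the full power of `p`.
* `exists_action_subgroup`: a subgroup of permutations realized by a faithful action on an indexed
  family of points lifts to an isomorphic subgroup of the acting group.
* `exists_hom_of_table`, `exists_iso_of_table`: homomorphisms between subgroups given by closed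
  code lists from a multiplicative function on codes.
* `exists_quot_subgroup`: the image of a subgroup in a quotient.
-/

namespace Cfsg.Agent.Lib.helper6.CodeIso

open Cfsg.Agent.Lib.helper6.CodeModel

/-- Every Sylow `p`-subgroup is isomorphic to a given subgroup of the full `p`-power order. -/
theorem sylow_equiv_of_card {G : Type*} [Group G] [Finite G] (p k : ℕ) [Fact p.Prime]
    (T : Subgroup G) (hT : Nat.card T = p ^ k) (hG : ¬ p ^ (k + 1) ∣ Nat.card G)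
    (P : Sylow p G) : Nonempty (P ≃* T) := by
  obtain ⟨Q, hQ⟩ := (IsPGroup.of_card hT).exists_le_sylow
  have hQc := Q.card_eq_multiplicity
  have hQG : Nat.card Q ∣ Nat.card G := Subgroup.card_subgroup_dvd_card _
  have hle : (Nat.card G).factorization p ≤ k := by
    by_contra h
    apply hG
    refine dvd_trans ?_ hQG
    rw [hQc]
    exact pow_dvd_pow p (by omega)
  have hcard : Nat.card Q ≤ Nat.card T := by
    rw [hQc, hT]
    exact Nat.pow_le_pow_right (Nat.Prime.pos Fact.out) hle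
  have heq : T = Q := Subgroup.eq_of_le_of_card_ge hQ hcard
  exact ⟨(P.equiv Q).trans (MulEquiv.subgroupCongr heq.symm)⟩

section Action

variable {G : Type*} [Group G] {V : Type*} {ι : Type*} (a : G → V → V) (w : ι → V)

/-- The permutations of the index set realized by group elements. -/
def realized (ha1 : ∀ v, a 1 v = v) (hamul : ∀ g h v, a (g * h) v = a g (a h v)) :
    Subgroup (Equiv.Perm ι) where
  carrier := {σ | ∃ g : G, ∀ i, a g (w i) = w (σ i)}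
  one_mem' := ⟨1, fun i => by rw [ha1]; rfl⟩
  mul_mem' := by
    rintro σ τ ⟨g, hg⟩ ⟨h, hh⟩
    exact ⟨g * h, fun i => by rw [hamul, hh, hg]; rfl⟩
  inv_mem' := by
    rintro σ ⟨g, hg⟩
    refine ⟨g⁻¹, fun i => ?_⟩
    have h1 := hg (σ⁻¹ i)
    rw [Equiv.Perm.inv_def, Equiv.apply_symm_apply] at h1
    rw [← h1, ← hamul, inv_mul_cancel, ha1]
    rfl

theorem mem_realized (ha1 : ∀ v, a 1 v = v) (hamul : ∀ g h v, a (g * h) v = a g (a h v))
    (σ : Equiv.Perm ι) : σ ∈ realized a w ha1 hamul ↔ ∃ g : G, ∀ i, a g (w i) = w (σ i) :=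
  Iff.rfl

/-- A subgroup of realized permutations lifts to an isomorphic subgroup of the acting group,
provided the points are distinct and the action on them is faithful. -/
theorem exists_action_subgroup (ha1 : ∀ v, a 1 v = v)
    (hamul : ∀ g h v, a (g * h) v = a g (a h v)) (hw : Function.Injective w)
    (hfaith : ∀ g, (∀ i, a g (w i) = w i) → g = 1)
    (H : Subgroup (Equiv.Perm ι)) (hH : H ≤ realized a w ha1 hamul) :
    ∃ (T : Subgroup G) (ρ : T ≃* H),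
      ∀ (t : T) (i : ι), a (t : G) (w i) = w ((ρ t : Equiv.Perm ι) i) := by
  classical
  let T : Subgroup G :=
    { carrier := {g | ∃ σ ∈ H, ∀ i, a g (w i) = w (σ i)}
      one_mem' := ⟨1, H.one_mem, fun i => by rw [ha1]; rfl⟩
      mul_mem' := by
        rintro g h ⟨σ, hσ, hg⟩ ⟨τ, hτ, hh⟩
        exact ⟨σ * τ, H.mul_mem hσ hτ, fun i => by rw [hamul, hh, hg]; rfl⟩
      inv_mem' := by
        rintro g ⟨σ, hσ, hg⟩
        refine ⟨σ⁻¹, H.inv_mem hσ, fun i => ?_⟩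
        have h1 := hg (σ⁻¹ i)
        rw [Equiv.Perm.inv_def, Equiv.apply_symm_apply] at h1
        rw [← h1, ← hamul, inv_mul_cancel, ha1]
        rfl }
  have hT : ∀ t : T, ∃ σ ∈ H, ∀ i, a (t : G) (w i) = w (σ i) := fun t => t.2
  choose r hrH hr using hT
  have huniq : ∀ (t : T) (σ : Equiv.Perm ι), (∀ i, a (t : G) (w i) = w (σ i)) → r t = σ := by
    intro t σ h
    ext i
    exact hw ((hr t i).symm.trans (h i))
  let ρ0 : T →* H := MonoidHom.mk' (fun t => ⟨r t, hrH t⟩) (by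
    intro s t
    apply Subtype.ext
    show r (s * t) = r s * r t
    apply huniq
    intro i
    rw [Subgroup.coe_mul, hamul, hr, hr]
    rfl)
  have hinj : Function.Injective ρ0 := by
    intro s t hst
    have h1 : r s = r t := congrArg Subtype.val hst
    have h2 : (s : G)⁻¹ * t = 1 := by
      apply hfaith
      intro i
      rw [hamul, hr t i, ← h1, ← hr s i, ← hamul, inv_mul_cancel, ha1]
    apply Subtype.ext
    exact inv_mul_eq_one.mp h2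
  have hsurj : Function.Surjective ρ0 := by
    rintro ⟨σ, hσ⟩
    obtain ⟨g, hg⟩ := hH hσ
    refine ⟨⟨g, σ, hσ, hg⟩, ?_⟩
    apply Subtype.ext
    exact huniq _ σ hg
  exact ⟨T, MulEquiv.ofBijective ρ0 ⟨hinj, hsurj⟩, fun t i => hr t i⟩

end Action

section Table

variable {G₁ G₂ : Type*} [Group G₁] [Group G₂] [Finite G₁] [Finite G₂]
  {ok₁ ok₂ : ℕ → Bool} {mul₁ mul₂ : ℕ → ℕ → ℕ} {e₁ e₂ : ℕ} {f₁ : G₁ → ℕ} {f₂ : G₂ → ℕ}

/-- A multiplicative function on codes induces a homomorphism between the subgroups with given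
closed code lists. -/
theorem exists_hom_of_table (M₁ : GModel ok₁ mul₁ e₁ f₁) (M₂ : GModel ok₂ mul₂ e₂ f₂)
    (S₁ S₂ : List ℕ) (h1 : e₁ ∈ S₁) (hm1 : ∀ a ∈ S₁, ∀ b ∈ S₁, mul₁ a b ∈ S₁)
    (h2 : e₂ ∈ S₂) (hm2 : ∀ a ∈ S₂, ∀ b ∈ S₂, mul₂ a b ∈ S₂) (hok₂ : ∀ c ∈ S₂, ok₂ c = true)
    (φ : ℕ → ℕ) (hφ : ∀ a ∈ S₁, φ a ∈ S₂)
    (hφm : ∀ a ∈ S₁, ∀ b ∈ S₁, φ (mul₁ a b) = mul₂ (φ a) (φ b)) :
    ∃ Θ : M₁.sub S₁ h1 hm1 →* M₂.sub S₂ h2 hm2,
      ∀ g : M₁.sub S₁ h1 hm1, f₂ (Θ g : G₂) = φ (f₁ (g : G₁)) := by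
  have hex : ∀ g : M₁.sub S₁ h1 hm1, ∃ y : G₂, f₂ y = φ (f₁ (g : G₁)) := fun g =>
    M₂.surj _ (hok₂ _ (hφ _ g.2))
  choose θ hθ using hex
  have hmem : ∀ g : M₁.sub S₁ h1 hm1, θ g ∈ M₂.sub S₂ h2 hm2 := by
    intro g
    show f₂ (θ g) ∈ S₂
    rw [hθ]
    exact hφ _ g.2
  refine ⟨MonoidHom.mk' (fun g => ⟨θ g, hmem g⟩) ?_, fun g => hθ g⟩
  intro g h
  apply Subtype.ext
  apply M₂.inj
  show f₂ (θ (g * h)) = f₂ (θ g * θ h)
  rw [hθ, M₂.fmul, hθ, hθ, Subgroup.coe_mul, M₁.fmul]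
  exact hφm _ g.2 _ h.2

theorem card_sub (M₁ : GModel ok₁ mul₁ e₁ f₁) (S₁ : List ℕ) (h1 : e₁ ∈ S₁)
    (hm1 : ∀ a ∈ S₁, ∀ b ∈ S₁, mul₁ a b ∈ S₁) (hnd : S₁.Nodup)
    (hok : ∀ c ∈ S₁, ok₁ c = true) : Nat.card (M₁.sub S₁ h1 hm1) = S₁.length :=
  M₁.card_of_list S₁ hnd hok (fun g => g ∈ M₁.sub S₁ h1 hm1) (fun _ => Iff.rfl)

/-- A multiplicative function on codes with trivial kernel between closed code lists of the same
length induces an isomorphism. -/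
theorem exists_iso_of_table (M₁ : GModel ok₁ mul₁ e₁ f₁) (M₂ : GModel ok₂ mul₂ e₂ f₂)
    (S₁ S₂ : List ℕ) (h1 : e₁ ∈ S₁) (hm1 : ∀ a ∈ S₁, ∀ b ∈ S₁, mul₁ a b ∈ S₁)
    (h2 : e₂ ∈ S₂) (hm2 : ∀ a ∈ S₂, ∀ b ∈ S₂, mul₂ a b ∈ S₂)
    (hok₁ : ∀ c ∈ S₁, ok₁ c = true) (hok₂ : ∀ c ∈ S₂, ok₂ c = true)
    (hnd₁ : S₁.Nodup) (hnd₂ : S₂.Nodup) (hlen : S₂.length ≤ S₁.length)
    (φ : ℕ → ℕ) (hφ : ∀ a ∈ S₁, φ a ∈ S₂)
    (hφm : ∀ a ∈ S₁, ∀ b ∈ S₁, φ (mul₁ a b) = mul₂ (φ a) (φ b))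
    (hker : ∀ a ∈ S₁, φ a = e₂ → a = e₁) :
    Nonempty (M₁.sub S₁ h1 hm1 ≃* M₂.sub S₂ h2 hm2) := by
  obtain ⟨Θ, hΘ⟩ := exists_hom_of_table M₁ M₂ S₁ S₂ h1 hm1 h2 hm2 hok₂ φ hφ hφm
  have hinj : Function.Injective Θ := by
    rw [injective_iff_map_eq_one]
    intro g hg
    apply Subtype.ext
    apply M₁.inj
    rw [Subgroup.coe_one, M₁.one]
    apply hker _ g.2
    rw [← hΘ, hg, Subgroup.coe_one, M₂.one]
  have hbij : Function.Bijective Θ := by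
    apply hinj.bijective_of_nat_card_le
    rw [card_sub M₁ S₁ h1 hm1 hnd₁ hok₁, card_sub M₂ S₂ h2 hm2 hnd₂ hok₂]
    exact hlen
  exact ⟨MulEquiv.ofBijective Θ hbij⟩

/-- Surjectivity of a table homomorphism. -/
theorem surjective_of_table (M₁ : GModel ok₁ mul₁ e₁ f₁) (M₂ : GModel ok₂ mul₂ e₂ f₂)
    (S₁ S₂ : List ℕ) (h1 : e₁ ∈ S₁) (hm1 : ∀ a ∈ S₁, ∀ b ∈ S₁, mul₁ a b ∈ S₁)
    (h2 : e₂ ∈ S₂) (hm2 : ∀ a ∈ S₂, ∀ b ∈ S₂, mul₂ a b ∈ S₂) (hok₁ : ∀ c ∈ S₁, ok₁ c = true)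
    (φ : ℕ → ℕ) (Θ : M₁.sub S₁ h1 hm1 →* M₂.sub S₂ h2 hm2)
    (hΘ : ∀ g : M₁.sub S₁ h1 hm1, f₂ (Θ g : G₂) = φ (f₁ (g : G₁)))
    (hsurj : ∀ c ∈ S₂, ∃ a ∈ S₁, φ a = c) : Function.Surjective Θ := by
  rintro ⟨y, hy⟩
  obtain ⟨a, ha, hay⟩ := hsurj _ ((M₂.mem_sub S₂ h2 hm2 y).mp hy)
  obtain ⟨x, rfl⟩ := M₁.surj a (hok₁ a ha)
  refine ⟨⟨x, ha⟩, ?_⟩
  apply Subtype.ext
  apply M₂.inj
  rw [hΘ]
  exact hay

end Table

section Gens

/-- A submonoid of a finite group is a subgroup. -/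
def subgroupOfFinite {G : Type*} [Group G] [Finite G] (K : Submonoid G) : Subgroup G where
  carrier := K
  mul_mem' := K.mul_mem
  one_mem' := K.one_mem
  inv_mem' := by
    intro x hx
    have h2 : x⁻¹ = x ^ (orderOf x - 1) := by
      apply inv_eq_of_mul_eq_one_right
      rw [← pow_succ', Nat.sub_add_cancel (orderOf_pos x), pow_orderOf_eq_one]
    have h3 : x ^ (orderOf x - 1) ∈ K := K.pow_mem hx _
    rw [← h2] at h3
    exact h3

theorem mem_subgroupOfFinite {G : Type*} [Group G] [Finite G] (K : Submonoid G) (x : G) :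
    x ∈ subgroupOfFinite K ↔ x ∈ K := Iff.rfl

/-- A list of codes obtained by a straight-line program from generators is closed under
multiplication as soon as it is closed under left multiplication by the generators. -/
theorem closed_of_gens {G : Type*} [Group G] [Finite G] {ok : ℕ → Bool} {mul : ℕ → ℕ → ℕ}
    {e : ℕ} {f : G → ℕ} (M : GModel ok mul e f) (S gens : List ℕ) (prog : List (ℕ × ℕ))
    (hok : ∀ c ∈ S, ok c = true) (hgok : ∀ c ∈ gens, ok c = true)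
    (hgS : ∀ g ∈ gens, ∀ s ∈ S, mul g s ∈ S)
    (hslp : ∀ c ∈ S, c ∈ slp mul e prog gens) :
    ∀ a ∈ S, ∀ b ∈ S, mul a b ∈ S := by
  let K : Submonoid G :=
    { carrier := {x | ∀ y, f y ∈ S → f (x * y) ∈ S}
      mul_mem' := by
        intro x x' hx hx' y hy
        rw [mul_assoc]
        exact hx _ (hx' y hy)
      one_mem' := by
        intro y hy
        rw [one_mul]
        exact hy }
  have hg : ∀ c ∈ gens, ∃ y ∈ subgroupOfFinite K, f y = c := by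
    intro c hc
    obtain ⟨x, rfl⟩ := M.surj c (hgok c hc)
    refine ⟨x, ?_, rfl⟩
    intro y hy
    rw [M.fmul]
    exact hgS _ hc _ hy
  have hall := M.slp_mem (subgroupOfFinite K) prog gens hg
  intro a ha b hb
  obtain ⟨x, hx, rfl⟩ := hall a (hslp a ha)
  obtain ⟨y, rfl⟩ := M.surj b (hok b hb)
  rw [← M.fmul]
  exact hx y hb

/-- A function on codes is multiplicative on a list of codes obtained by a straight-line program
from generators as soon as it is compatible with left multiplication by the generators. -/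
theorem hom_of_gens {G₁ G₂ : Type*} [Group G₁] [Group G₂] [Finite G₁]
    {ok₁ ok₂ : ℕ → Bool} {mul₁ mul₂ : ℕ → ℕ → ℕ} {e₁ e₂ : ℕ} {f₁ : G₁ → ℕ} {f₂ : G₂ → ℕ}
    (M₁ : GModel ok₁ mul₁ e₁ f₁) (M₂ : GModel ok₂ mul₂ e₂ f₂)
    (S₁ S₂ gens : List ℕ) (prog : List (ℕ × ℕ))
    (h1 : e₁ ∈ S₁) (hm1 : ∀ a ∈ S₁, ∀ b ∈ S₁, mul₁ a b ∈ S₁)
    (hok₁ : ∀ c ∈ S₁, ok₁ c = true) (hok₂ : ∀ c ∈ S₂, ok₂ c = true)
    (hgS : ∀ g ∈ gens, g ∈ S₁)
    (hslp : ∀ c ∈ S₁, c ∈ slp mul₁ e₁ prog gens)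
    (φ : ℕ → ℕ) (hφ : ∀ a ∈ S₁, φ a ∈ S₂) (hφ1 : φ e₁ = e₂)
    (hφg : ∀ g ∈ gens, ∀ s ∈ S₁, φ (mul₁ g s) = mul₂ (φ g) (φ s)) :
    ∀ a ∈ S₁, ∀ b ∈ S₁, φ (mul₁ a b) = mul₂ (φ a) (φ b) := by
  have hassoc : ∀ A ∈ S₂, ∀ B ∈ S₂, ∀ C ∈ S₂, mul₂ (mul₂ A B) C = mul₂ A (mul₂ B C) := by
    intro A hA B hB C hC
    obtain ⟨u, rfl⟩ := M₂.surj A (hok₂ A hA)
    obtain ⟨v, rfl⟩ := M₂.surj B (hok₂ B hB)
    obtain ⟨w, rfl⟩ := M₂.surj C (hok₂ C hC)
    rw [← M₂.fmul, ← M₂.fmul, ← M₂.fmul, ← M₂.fmul, mul_assoc]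
  have hone : ∀ C ∈ S₂, mul₂ e₂ C = C := by
    intro C hC
    obtain ⟨w, rfl⟩ := M₂.surj C (hok₂ C hC)
    rw [← M₂.one, ← M₂.fmul, one_mul]
  let K : Submonoid G₁ :=
    { carrier := {x | f₁ x ∈ S₁ ∧
        ∀ y, f₁ y ∈ S₁ → φ (f₁ (x * y)) = mul₂ (φ (f₁ x)) (φ (f₁ y))}
      mul_mem' := by
        rintro x x' ⟨hxS, hx⟩ ⟨hxS', hx'⟩
        have hxx : f₁ (x * x') ∈ S₁ := by rw [M₁.fmul]; exact hm1 _ hxS _ hxS'
        refine ⟨hxx, fun y hy => ?_⟩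
        have hxy : f₁ (x' * y) ∈ S₁ := by rw [M₁.fmul]; exact hm1 _ hxS' _ hy
        rw [mul_assoc, hx _ hxy, hx' y hy, hx x' hxS',
          hassoc _ (hφ _ hxS) _ (hφ _ hxS') _ (hφ _ hy)]
      one_mem' := by
        have h1' : f₁ (1 : G₁) ∈ S₁ := by rw [M₁.one]; exact h1
        refine ⟨h1', fun y hy => ?_⟩
        rw [one_mul, M₁.one, hφ1, hone _ (hφ _ hy)] }
  have hg : ∀ c ∈ gens, ∃ y ∈ subgroupOfFinite K, f₁ y = c := by
    intro c hc
    obtain ⟨x, rfl⟩ := M₁.surj c (hok₁ c (hgS c hc))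
    refine ⟨x, ⟨hgS _ hc, fun y hy => ?_⟩, rfl⟩
    rw [M₁.fmul]
    exact hφg _ hc _ hy
  have hall := M₁.slp_mem (subgroupOfFinite K) prog gens hg
  intro a ha b hb
  obtain ⟨x, hx, rfl⟩ := hall a (hslp a ha)
  obtain ⟨y, rfl⟩ := M₁.surj b (hok₁ b hb)
  rw [← M₁.fmul]
  exact hx.2 y hb

end Gens

/-- The image in a quotient of a subgroup `T` is isomorphic to `H`, given a surjection `T → H`
whose kernel is the intersection with the normal subgroup. -/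
theorem exists_quot_subgroup {G H : Type*} [Group G] [Group H] (N : Subgroup G) [N.Normal]
    (T : Subgroup G) (ψ : T →* H) (hψ : Function.Surjective ψ)
    (hker : ∀ t : T, ψ t = 1 ↔ (t : G) ∈ N) :
    ∃ T' : Subgroup (G ⧸ N), Nonempty (T' ≃* H) := by
  let q : T →* G ⧸ N := (QuotientGroup.mk' N).comp T.subtype
  have hq : q.ker = ψ.ker := by
    ext t
    rw [MonoidHom.mem_ker, MonoidHom.mem_ker, hker]
    show ((t : G) : G ⧸ N) = 1 ↔ _
    rw [QuotientGroup.eq_one_iff]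
  exact ⟨q.range, ⟨(QuotientGroup.quotientKerEquivRange q).symm.trans
    ((QuotientGroup.quotientMulEquivOfEq hq).trans
      (QuotientGroup.quotientKerEquivOfSurjective ψ hψ))⟩⟩

/-- Transport of a subgroup with a prescribed isomorphism type along a group isomorphism. -/
theorem exists_subgroup_of_equiv {G G' H : Type*} [Group G] [Group G'] [Group H] (e : G ≃* G')
    (T : Subgroup G) (ρ : T ≃* H) : ∃ T' : Subgroup G', Nonempty (T' ≃* H) :=
  ⟨T.map e.toMonoidHom, ⟨(T.equivMapOfInjective e.toMonoidHom e.injective).symm.trans ρ⟩⟩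

end Cfsg.Agent.Lib.helper6.CodeIso
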