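import Mathlib
import Cfsg.Agent.Lib.helper6.CodeModel

/-!
# A code model of the symmetric group of degree 16

A permutation `σ` of `Fin 16` is coded by the number with base-16 digits `σ 0, …, σ 7`.
-/

namespace Cfsg.Agent.Lib.helper6.S16Model

open Cfsg.Agent.Lib.helper6.CodeModel

/-- `i`-th base-16 digit of `n`. -/
def dg16 (n i : ℕ) : ℕ := Nat.mod (Nat.div n (Nat.pow 16 i)) 16

/-- Composition of permutation codes. -/
def cm16 (a b : ℕ) : ℕ :=
  Nat.add (Nat.add (Nat.add (Nat.add (Nat.add (Nat.add (Nat.add (Nat.add (Nat.add (Nat.add (Nat.add (Nat.add (Nat.add (Nat.add (Nat.add (dg16 a (dg16 b 0)) (Nat.mul 16 (dg16 a (dg16 b 1)))) (Nat.mul 256 (dg16 a (dg16 b 2)))) (Nat.mul 4096 (dg16 a (dg16 b 3)))) (Nat.mul 65536 (dg16 a (dg16 b 4)))) (Nat.mul 1048576 (dg16 a (dg16 b 5)))) (Nat.mul 16777216 (dg16 a (dg16 b 6)))) (Nat.mul 268435456 (dg16 a (dg16 b 7)))) (Nat.mul 4294967296 (dg16 a (dg16 b 8)))) (Nat.mul 68719476736 (dg16 a (dg16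 b 9)))) (Nat.mul 1099511627776 (dg16 a (dg16 b 10)))) (Nat.mul 17592186044416 (dg16 a (dg16 b 11)))) (Nat.mul 281474976710656 (dg16 a (dg16 b 12)))) (Nat.mul 4503599627370496 (dg16 a (dg16 b 13)))) (Nat.mul 72057594037927936 (dg16 a (dg16 b 14)))) (Nat.mul 1152921504606846976 (dg16 a (dg16 b 15)))

/-- The code of a permutation of `Fin 16`. -/
def code16 (σ : Equiv.Perm (Fin 16)) : ℕ :=
  (σ 0).val + 16 * (σ 1).val + 256 * (σ 2).val + 4096 * (σ 3).val + 65536 * (σ 4).val + 1048576 * (σ 5).val + 16777216 * (σ 6).val + 268435456 * (σ 7).val + 4294967296 * (σ 8).val + 68719476736 * (σ 9).val + 1099511627776 * (σ 10).val + 17592186044416 * (σ 11).val + 281474976710656 * (σ 12).val + 4503599627370496 * (σ 13).val + 72057594037927936 * (σ 14).val + 1152921504606846976 * (σ 15).val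

/-- Codes with pairwise distinct digits. -/
def valid16 (c : ℕ) : Bool :=
  Nat.blt c 18446744073709551616 &&
    (List.range 16).all (fun i => (List.range 16).all (fun j => i == j || dg16 c i != dg16 c j))

theorem dg16_eq (n i : ℕ) : dg16 n i = n / 16 ^ i % 16 := rfl

theorem dg16_lt (n i : ℕ) : dg16 n i < 16 := Nat.mod_lt _ (by norm_num)

theorem cm16_eq (a b : ℕ) : cm16 a b = dg16 a (dg16 b 0) + 16 * dg16 a (dg16 b 1) + 256 * dg16 a (dg16 b 2) + 4096 * dg16 a (dg16 b 3) + 65536 * dg16 a (dg16 b 4) + 1048576 * dg16 a (dg16 b 5) + 16777216 * dg16 a (dg16 b 6) + 268435456 * dg16 a (dg16 b 7) + 4294967296 * dg16 a (dg16 b 8) + 68719476736 * dg16 a (dg16 b 9) + 1099511627776 * dg16 a (dg16 b 10) + 17592186044416 * dg16 a (dg16 b 11) + 281474976710656 * dg16 a (dg16 b 12) + 4503599627370496 * dg16 a (dg16 b 13) + 72057594037927936 * dg16 a (dg16 b 14) + 1152921504606846976 * dg16 a (dg16 b 15) := rfl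

theorem dg16_comb (x0 x1 x2 x3 x4 x5 x6 x7 x8 x9 x10 x11 x12 x13 x14 x15 : ℕ) (h0 : x0 < 16) (h1 : x1 < 16) (h2 : x2 < 16) (h3 : x3 < 16) (h4 : x4 < 16) (h5 : x5 < 16) (h6 : x6 < 16) (h7 : x7 < 16) (h8 : x8 < 16) (h9 : x9 < 16) (h10 : x10 < 16) (h11 : x11 < 16) (h12 : x12 < 16) (h13 : x13 < 16) (h14 : x14 < 16) (h15 : x15 < 16) :
    dg16 (x0 + 16 * x1 + 256 * x2 + 4096 * x3 + 65536 * x4 + 1048576 * x5 + 16777216 * x6 + 268435456 * x7 + 4294967296 * x8 + 68719476736 * x9 + 1099511627776 * x10 + 17592186044416 * x11 + 281474976710656 * x12 + 4503599627370496 * x13 + 72057594037927936 * x14 + 1152921504606846976 * x15) 0 = x0 ∧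
    dg16 (x0 + 16 * x1 + 256 * x2 + 4096 * x3 + 65536 * x4 + 1048576 * x5 + 16777216 * x6 + 268435456 * x7 + 4294967296 * x8 + 68719476736 * x9 + 1099511627776 * x10 + 17592186044416 * x11 + 281474976710656 * x12 + 4503599627370496 * x13 + 72057594037927936 * x14 + 1152921504606846976 * x15) 1 = x1 ∧
    dg16 (x0 + 16 * x1 + 256 * x2 + 4096 * x3 + 65536 * x4 + 1048576 * x5 + 16777216 * x6 + 268435456 * x7 + 4294967296 * x8 + 68719476736 * x9 + 1099511627776 * x10 + 17592186044416 * x11 + 281474976710656 * x12 + 4503599627370496 * x13 + 72057594037927936 * x14 + 1152921504606846976 * x15) 2 = x2 ∧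
    dg16 (x0 + 16 * x1 + 256 * x2 + 4096 * x3 + 65536 * x4 + 1048576 * x5 + 16777216 * x6 + 268435456 * x7 + 4294967296 * x8 + 68719476736 * x9 + 1099511627776 * x10 + 17592186044416 * x11 + 281474976710656 * x12 + 4503599627370496 * x13 + 72057594037927936 * x14 + 1152921504606846976 * x15) 3 = x3 ∧
    dg16 (x0 + 16 * x1 + 256 * x2 + 4096 * x3 + 65536 * x4 + 1048576 * x5 + 16777216 * x6 + 268435456 * x7 + 4294967296 * x8 + 68719476736 * x9 + 1099511627776 * x10 + 17592186044416 * x11 + 281474976710656 * x12 + 4503599627370496 * x13 + 72057594037927936 * x14 + 1152921504606846976 * x15) 4 = x4 ∧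
    dg16 (x0 + 16 * x1 + 256 * x2 + 4096 * x3 + 65536 * x4 + 1048576 * x5 + 16777216 * x6 + 268435456 * x7 + 4294967296 * x8 + 68719476736 * x9 + 1099511627776 * x10 + 17592186044416 * x11 + 281474976710656 * x12 + 4503599627370496 * x13 + 72057594037927936 * x14 + 1152921504606846976 * x15) 5 = x5 ∧
    dg16 (x0 + 16 * x1 + 256 * x2 + 4096 * x3 + 65536 * x4 + 1048576 * x5 + 16777216 * x6 + 268435456 * x7 + 4294967296 * x8 + 68719476736 * x9 + 1099511627776 * x10 + 17592186044416 * x11 + 281474976710656 * x12 + 4503599627370496 * x13 + 72057594037927936 * x14 + 1152921504606846976 * x15) 6 = x6 ∧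
    dg16 (x0 + 16 * x1 + 256 * x2 + 4096 * x3 + 65536 * x4 + 1048576 * x5 + 16777216 * x6 + 268435456 * x7 + 4294967296 * x8 + 68719476736 * x9 + 1099511627776 * x10 + 17592186044416 * x11 + 281474976710656 * x12 + 4503599627370496 * x13 + 72057594037927936 * x14 + 1152921504606846976 * x15) 7 = x7 ∧
    dg16 (x0 + 16 * x1 + 256 * x2 + 4096 * x3 + 65536 * x4 + 1048576 * x5 + 16777216 * x6 + 268435456 * x7 + 4294967296 * x8 + 68719476736 * x9 + 1099511627776 * x10 + 17592186044416 * x11 + 281474976710656 * x12 + 4503599627370496 * x13 + 72057594037927936 * x14 + 1152921504606846976 * x15) 8 = x8 ∧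
    dg16 (x0 + 16 * x1 + 256 * x2 + 4096 * x3 + 65536 * x4 + 1048576 * x5 + 16777216 * x6 + 268435456 * x7 + 4294967296 * x8 + 68719476736 * x9 + 1099511627776 * x10 + 17592186044416 * x11 + 281474976710656 * x12 + 4503599627370496 * x13 + 72057594037927936 * x14 + 1152921504606846976 * x15) 9 = x9 ∧
    dg16 (x0 + 16 * x1 + 256 * x2 + 4096 * x3 + 65536 * x4 + 1048576 * x5 + 16777216 * x6 + 268435456 * x7 + 4294967296 * x8 + 68719476736 * x9 + 1099511627776 * x10 + 17592186044416 * x11 + 281474976710656 * x12 + 4503599627370496 * x13 + 72057594037927936 * x14 + 1152921504606846976 * x15) 10 = x10 ∧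
    dg16 (x0 + 16 * x1 + 256 * x2 + 4096 * x3 + 65536 * x4 + 1048576 * x5 + 16777216 * x6 + 268435456 * x7 + 4294967296 * x8 + 68719476736 * x9 + 1099511627776 * x10 + 17592186044416 * x11 + 281474976710656 * x12 + 4503599627370496 * x13 + 72057594037927936 * x14 + 1152921504606846976 * x15) 11 = x11 ∧
    dg16 (x0 + 16 * x1 + 256 * x2 + 4096 * x3 + 65536 * x4 + 1048576 * x5 + 16777216 * x6 + 268435456 * x7 + 4294967296 * x8 + 68719476736 * x9 + 1099511627776 * x10 + 17592186044416 * x11 + 281474976710656 * x12 + 4503599627370496 * x13 + 72057594037927936 * x14 + 1152921504606846976 * x15) 12 = x12 ∧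
    dg16 (x0 + 16 * x1 + 256 * x2 + 4096 * x3 + 65536 * x4 + 1048576 * x5 + 16777216 * x6 + 268435456 * x7 + 4294967296 * x8 + 68719476736 * x9 + 1099511627776 * x10 + 17592186044416 * x11 + 281474976710656 * x12 + 4503599627370496 * x13 + 72057594037927936 * x14 + 1152921504606846976 * x15) 13 = x13 ∧
    dg16 (x0 + 16 * x1 + 256 * x2 + 4096 * x3 + 65536 * x4 + 1048576 * x5 + 16777216 * x6 + 268435456 * x7 + 4294967296 * x8 + 68719476736 * x9 + 1099511627776 * x10 + 17592186044416 * x11 + 281474976710656 * x12 + 4503599627370496 * x13 + 72057594037927936 * x14 + 1152921504606846976 * x15) 14 = x14 ∧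
    dg16 (x0 + 16 * x1 + 256 * x2 + 4096 * x3 + 65536 * x4 + 1048576 * x5 + 16777216 * x6 + 268435456 * x7 + 4294967296 * x8 + 68719476736 * x9 + 1099511627776 * x10 + 17592186044416 * x11 + 281474976710656 * x12 + 4503599627370496 * x13 + 72057594037927936 * x14 + 1152921504606846976 * x15) 15 = x15 := by
  simp only [dg16_eq, Nat.reducePow]
  refine ⟨?_, ?_, ?_, ?_, ?_, ?_, ?_, ?_, ?_, ?_, ?_, ?_, ?_, ?_, ?_, ?_⟩ <;> omega

theorem dg16_code (σ : Equiv.Perm (Fin 16)) (i : Fin 16) : dg16 (code16 σ) i.val = (σ i).val := by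
  obtain ⟨H0, H1, H2, H3, H4, H5, H6, H7, H8, H9, H10, H11, H12, H13, H14, H15⟩ := dg16_comb (σ 0).val (σ 1).val (σ 2).val (σ 3).val (σ 4).val (σ 5).val (σ 6).val (σ 7).val (σ 8).val (σ 9).val (σ 10).val (σ 11).val (σ 12).val (σ 13).val (σ 14).val (σ 15).val
    (σ 0).isLt (σ 1).isLt (σ 2).isLt (σ 3).isLt (σ 4).isLt (σ 5).isLt (σ 6).isLt (σ 7).isLt (σ 8).isLt (σ 9).isLt (σ 10).isLt (σ 11).isLt (σ 12).isLt (σ 13).isLt (σ 14).isLt (σ 15).isLt
  fin_cases i
  · exact H0
  · exact H1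
  · exact H2
  · exact H3
  · exact H4
  · exact H5
  · exact H6
  · exact H7
  · exact H8
  · exact H9
  · exact H10
  · exact H11
  · exact H12
  · exact H13
  · exact H14
  · exact H15

theorem code16_lt (σ : Equiv.Perm (Fin 16)) : code16 σ < 18446744073709551616 := by
  have h0 := (σ 0).isLt
  have h1 := (σ 1).isLt
  have h2 := (σ 2).isLt
  have h3 := (σ 3).isLt
  have h4 := (σ 4).isLt
  have h5 := (σ 5).isLt
  have h6 := (σ 6).isLt
  have h7 := (σ 7).isLt
  have h8 := (σ 8).isLt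
  have h9 := (σ 9).isLt
  have h10 := (σ 10).isLt
  have h11 := (σ 11).isLt
  have h12 := (σ 12).isLt
  have h13 := (σ 13).isLt
  have h14 := (σ 14).isLt
  have h15 := (σ 15).isLt
  unfold code16
  omega

theorem code16_injective : Function.Injective code16 := by
  intro σ τ h
  ext i
  rw [← dg16_code σ i, ← dg16_code τ i, h]

theorem dg16_cm16 (a b i : ℕ) (hi : i < 16) : dg16 (cm16 a b) i = dg16 a (dg16 b i) := by
  obtain ⟨H0, H1, H2, H3, H4, H5, H6, H7, H8, H9, H10, H11, H12, H13, H14, H15⟩ := dg16_comb (dg16 a (dg16 b 0)) (dg16 a (dg16 b 1)) (dg16 a (dg16 b 2)) (dg16 a (dg16 b 3)) (dg16 a (dg16 b 4)) (dg16 a (dg16 b 5)) (dg16 a (dg16 b 6)) (dg16 a (dg16 b 7)) (dg16 a (dg16 b 8)) (dg16 a (dg16 b 9)) (dg16 a (dg16 b 10)) (dg16 a (dg16 b 11)) (dg16 a (dg16 b 12)) (dg16 a (dg16 b 13)) (dg16 a (dg16 b 14)) (dg16 a (dg16 b 15))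
    (dg16_lt _ _) (dg16_lt _ _) (dg16_lt _ _) (dg16_lt _ _) (dg16_lt _ _) (dg16_lt _ _) (dg16_lt _ _) (dg16_lt _ _) (dg16_lt _ _) (dg16_lt _ _) (dg16_lt _ _) (dg16_lt _ _) (dg16_lt _ _) (dg16_lt _ _) (dg16_lt _ _) (dg16_lt _ _)
  rw [cm16_eq]
  interval_cases i
  · exact H0
  · exact H1
  · exact H2
  · exact H3
  · exact H4
  · exact H5
  · exact H6
  · exact H7
  · exact H8
  · exact H9
  · exact H10
  · exact H11
  · exact H12
  · exact H13
  · exact H14
  · exact H15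

theorem code16_mul (σ τ : Equiv.Perm (Fin 16)) : code16 (σ * τ) = cm16 (code16 σ) (code16 τ) := by
  have h : ∀ i : Fin 16, dg16 (code16 σ) (dg16 (code16 τ) i.val) = ((σ * τ) i).val := by
    intro i
    rw [dg16_code τ i, dg16_code σ (τ i), Equiv.Perm.mul_apply]
  rw [cm16_eq]
  have h0 := h 0
  have h1 := h 1
  have h2 := h 2
  have h3 := h 3
  have h4 := h 4
  have h5 := h 5
  have h6 := h 6
  have h7 := h 7
  have h8 := h 8
  have h9 := h 9
  have h10 := h 10
  have h11 := h 11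
  have h12 := h 12
  have h13 := h 13
  have h14 := h 14
  have h15 := h 15
  simp only [Fin.val_zero, Fin.val_one] at h0 h1
  have e2 : ((2 : Fin 16) : ℕ) = 2 := rfl
  have e3 : ((3 : Fin 16) : ℕ) = 3 := rfl
  have e4 : ((4 : Fin 16) : ℕ) = 4 := rfl
  have e5 : ((5 : Fin 16) : ℕ) = 5 := rfl
  have e6 : ((6 : Fin 16) : ℕ) = 6 := rfl
  have e7 : ((7 : Fin 16) : ℕ) = 7 := rfl
  have e8 : ((8 : Fin 16) : ℕ) = 8 := rfl
  have e9 : ((9 : Fin 16) : ℕ) = 9 := rfl
  have e10 : ((10 : Fin 16) : ℕ) = 10 := rfl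
  have e11 : ((11 : Fin 16) : ℕ) = 11 := rfl
  have e12 : ((12 : Fin 16) : ℕ) = 12 := rfl
  have e13 : ((13 : Fin 16) : ℕ) = 13 := rfl
  have e14 : ((14 : Fin 16) : ℕ) = 14 := rfl
  have e15 : ((15 : Fin 16) : ℕ) = 15 := rfl
  rw [e2] at h2
  rw [e3] at h3
  rw [e4] at h4
  rw [e5] at h5
  rw [e6] at h6
  rw [e7] at h7
  rw [e8] at h8
  rw [e9] at h9
  rw [e10] at h10
  rw [e11] at h11
  rw [e12] at h12
  rw [e13] at h13
  rw [e14] at h14
  rw [e15] at h15
  rw [h0, h1, h2, h3, h4, h5, h6, h7, h8, h9, h10, h11, h12, h13, h14, h15]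
  rfl

theorem code16_one : code16 1 = 18364758544493064720 := by
  simp [code16]

theorem valid16_iff (c : ℕ) : valid16 c = true ↔
    c < 18446744073709551616 ∧ ∀ i < 16, ∀ j < 16, i = j ∨ dg16 c i ≠ dg16 c j := by
  simp [valid16]

theorem valid16_code (σ : Equiv.Perm (Fin 16)) : valid16 (code16 σ) = true := by
  rw [valid16_iff]
  refine ⟨code16_lt σ, ?_⟩
  intro i hi j hj
  by_cases hij : i = j
  · exact Or.inl hij
  · right
    intro h
    have h1 := dg16_code σ ⟨i, hi⟩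
    have h2 := dg16_code σ ⟨j, hj⟩
    simp only at h1 h2
    rw [h1, h2] at h
    have h3 := σ.injective (Fin.ext h)
    exact hij (congrArg Fin.val h3)

theorem exists_code16 (c : ℕ) (hc : valid16 c = true) : ∃ σ : Equiv.Perm (Fin 16), code16 σ = c := by
  rw [valid16_iff] at hc
  obtain ⟨hlt, hd⟩ := hc
  have hinj : Function.Injective (fun i : Fin 16 => (⟨dg16 c i.val, dg16_lt _ _⟩ : Fin 16)) := by
    intro i j h
    have h1 : dg16 c i.val = dg16 c j.val := congrArg Fin.val h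
    rcases hd i.val i.isLt j.val j.isLt with h2 | h2
    · exact Fin.ext h2
    · exact absurd h1 h2
  refine ⟨Equiv.ofBijective _ (Finite.injective_iff_bijective.mp hinj), ?_⟩
  simp only [code16, Equiv.ofBijective_apply, dg16_eq, Fin.val_zero, Fin.val_one]
  have e2 : ((2 : Fin 16) : ℕ) = 2 := rfl
  have e3 : ((3 : Fin 16) : ℕ) = 3 := rfl
  have e4 : ((4 : Fin 16) : ℕ) = 4 := rfl
  have e5 : ((5 : Fin 16) : ℕ) = 5 := rfl
  have e6 : ((6 : Fin 16) : ℕ) = 6 := rfl
  have e7 : ((7 : Fin 16) : ℕ) = 7 := rfl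
  have e8 : ((8 : Fin 16) : ℕ) = 8 := rfl
  have e9 : ((9 : Fin 16) : ℕ) = 9 := rfl
  have e10 : ((10 : Fin 16) : ℕ) = 10 := rfl
  have e11 : ((11 : Fin 16) : ℕ) = 11 := rfl
  have e12 : ((12 : Fin 16) : ℕ) = 12 := rfl
  have e13 : ((13 : Fin 16) : ℕ) = 13 := rfl
  have e14 : ((14 : Fin 16) : ℕ) = 14 := rfl
  have e15 : ((15 : Fin 16) : ℕ) = 15 := rfl
  rw [e2, e3, e4, e5, e6, e7, e8, e9, e10, e11, e12, e13, e14, e15]
  norm_num
  omega

/-- The code model of `Sym(16)`. -/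
theorem s16model : GModel valid16 cm16 18364758544493064720 code16 where
  inj := code16_injective
  mem := valid16_code
  surj := exists_code16
  one := code16_one
  fmul := code16_mul

end Cfsg.Agent.Lib.helper6.S16Model
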