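import Mathlib
import Cfsg.Agent.Lib.helper6.CodeIso
import Cfsg.Agent.Lib.helper6.S16Model

/-!
# Subgroups from faithful actions on 16 points

`exists_sub16`: if a finite group acts faithfully on 16 distinct points and every code of a
closed list of codes of permutations of degree 16 is produced by a straight-line program from
generator codes realized by group elements, then the group has a subgroup isomorphic to the
permutation group with that code list, acting on the points by the coded permutations.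
-/

namespace Cfsg.Agent.Lib.helper6.Act16

open Cfsg.Agent.Lib.helper6.CodeModel Cfsg.Agent.Lib.helper6.CodeIso
open Cfsg.Agent.Lib.helper6.S16Model

theorem code16_eq_of_dg (σ : Equiv.Perm (Fin 16)) (c : ℕ) (hc : valid16 c = true)
    (h : ∀ i < 16, dg16 (code16 σ) i = dg16 c i) : code16 σ = c := by
  obtain ⟨τ, rfl⟩ := exists_code16 c hc
  congr 1
  ext i
  have h1 := h i.val i.isLt
  rw [dg16_code, dg16_code] at h1
  exact h1

theorem exists_sub16 {G : Type*} [Group G] [Finite G] {V : Type*} (a : G → V → V) (wv : ℕ → V)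
    (ha1 : ∀ v, a 1 v = v) (hamul : ∀ g h v, a (g * h) v = a g (a h v))
    (hw : ∀ i < 16, ∀ j < 16, wv i = wv j → i = j)
    (hfaith : ∀ g, (∀ i < 16, a g (wv i) = wv i) → g = 1)
    (S : List ℕ) (h1 : 18364758544493064720 ∈ S) (hm : ∀ x ∈ S, ∀ y ∈ S, cm16 x y ∈ S)
    (gens : List ℕ) (prog : List (ℕ × ℕ))
    (hgv : ∀ c ∈ gens, valid16 c = true)
    (hgens : ∀ c ∈ gens, ∃ g : G, ∀ i < 16, a g (wv i) = wv (dg16 c i))
    (hS : ∀ c ∈ S, c ∈ slp cm16 18364758544493064720 prog gens) :
    ∃ (T : Subgroup G) (ρ : T ≃* s16model.sub S h1 hm),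
      ∀ (t : T) (i : ℕ), i < 16 →
        a (t : G) (wv i) = wv (dg16 (code16 (ρ t : Equiv.Perm (Fin 16))) i) := by
  let w : Fin 16 → V := fun i => wv i.val
  have hwinj : Function.Injective w := fun i j h => Fin.ext (hw _ i.isLt _ j.isLt h)
  have hf : ∀ g, (∀ i, a g (w i) = w i) → g = 1 := fun g h =>
    hfaith g (fun i hi => h ⟨i, hi⟩)
  have hR : ∀ c ∈ gens, ∃ y ∈ realized a w ha1 hamul, code16 y = c := by
    intro c hc
    obtain ⟨σ, hσ⟩ := exists_code16 c (hgv c hc)
    obtain ⟨g, hg⟩ := hgens c hc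
    refine ⟨σ, ⟨g, fun i => ?_⟩, hσ⟩
    show a g (wv i.val) = wv (σ i).val
    rw [hg _ i.isLt, ← hσ, dg16_code]
  have hall := s16model.slp_mem (realized a w ha1 hamul) prog gens hR
  have hH : s16model.sub S h1 hm ≤ realized a w ha1 hamul := by
    intro σ hσ
    obtain ⟨y, hy, hyc⟩ := hall _ (hS _ ((s16model.mem_sub S h1 hm σ).mp hσ))
    rw [← code16_injective hyc]
    exact hy
  obtain ⟨T, ρ, hρ⟩ := exists_action_subgroup a w ha1 hamul hwinj hf _ hH
  refine ⟨T, ρ, fun t i hi => ?_⟩
  have h2 := hρ t ⟨i, hi⟩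
  have h3 := dg16_code (ρ t : Equiv.Perm (Fin 16)) ⟨i, hi⟩
  simp only at h3
  rw [h3]
  exact h2

end Cfsg.Agent.Lib.helper6.Act16
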