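import Mathlib
import Cfsg.Prelude.Def_Characters
import Cfsg.Prelude.Def_Blocks
import Cfsg.Agent.Lib.helper19.LinChar

/-!
# S4504 R sub-split, piece R01 (insurance copy): `p ≥ 5`
-/

set_option autoImplicit false

open Cfsg

namespace Cfsg.Agent.Lib.helper2.BG

universe u

/-- R1 (V0): `p ≥ 5`. -/
theorem helper6_R_p_ge_five {G : Type u} [Group G] [Finite G] (p : ℕ) [Fact p.Prime]
    (hdiv : p ∣ Nat.card G) (hsq : ¬ p ^ 2 ∣ Nat.card G)
    (hnn : ∀ H : Subgroup G, H.Normal → Nat.card H ≠ p) (χ : G → ℂ)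
    (hχ : Cfsg.IsCharacter G χ) (hfaith : ∀ g : G, χ g = χ 1 → g = 1)
    (hdeg : 2 * Cfsg.charDegree χ + 1 = p) : 5 ≤ p := by
  classical
  have hp := (Fact.out : p.Prime)
  by_contra hlt
  have hp3 : p = 3 := by
    have h2 := hp.two_le
    have h4 : p ≠ 4 := by
      intro h
      rw [h] at hp
      exact absurd hp (by decide)
    omega
  have hd1 : Cfsg.charDegree χ = 1 := by omega
  have hχ1 : χ 1 = 1 := by
    have h : χ 1 = (Cfsg.charDegree χ : ℂ) := by
      obtain ⟨n, ρ, rfl⟩ := hχ
      unfold Cfsg.charDegree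
      rw [Representation.char_one]
      simp
    rw [h, hd1]
    simp
  obtain ⟨f, hf⟩ := Cfsg.Agent.Lib.helper19.exists_hom_of_linear χ hχ hχ1
  have hcomm : ∀ a b : G, a * b = b * a := by
    intro a b
    have h1 : χ (a * b * a⁻¹ * b⁻¹) = χ 1 := by
      rw [hf, hf, map_mul, map_mul, map_mul, map_inv, map_inv, map_one]
      have h : f a * f b * (f a)⁻¹ * (f b)⁻¹ = 1 := by
        rw [mul_comm (f a) (f b), mul_assoc (f b), mul_inv_cancel, mul_one, mul_inv_cancel]
      rw [h]
    have h2 := hfaith _ h1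
    calc a * b = (a * b * a⁻¹ * b⁻¹) * (b * a) := by group
      _ = b * a := by rw [h2, one_mul]
  obtain ⟨P⟩ := (inferInstance : Nonempty (Sylow p G))
  have hPcard : Nat.card (P : Subgroup G) = p := by
    have h1 := P.card_eq_multiplicity
    have hfac : (Nat.card G).factorization p = 1 := by
      have hpos : Nat.card G ≠ 0 := Nat.card_pos.ne'
      have hge : 1 ≤ (Nat.card G).factorization p :=
        (hp.dvd_iff_one_le_factorization hpos).mp hdiv
      have hlt : ¬ 2 ≤ (Nat.card G).factorization p := by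
        intro h
        exact hsq ((hp.pow_dvd_iff_le_factorization hpos).mpr h)
      omega
    rw [h1, hfac, pow_one]
  have hPn : (P : Subgroup G).Normal := ⟨fun n hn g => by
    have h : g * n * g⁻¹ = n := by rw [hcomm g n, mul_inv_cancel_right]
    rw [h]
    exact hn⟩
  exact hnn _ hPn hPcard

end Cfsg.Agent.Lib.helper2.BG
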