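import Mathlib
import Cfsg.Prelude.Def_Characters
import Cfsg.Prelude.Def_Blocks
import Cfsg.Agent.Lib.helper84.BrDefs

/-!
# S0998 piece AM
-/

set_option autoImplicit false

namespace Cfsg.Agent.Lib.helper6.BT

open Cfsg Cfsg.Agent.Lib.helper81 Cfsg.Agent.Lib.helper84.Br
open scoped ComplexConjugate

universe u

theorem helper6_three_dvd (m : ℕ) (hm : Odd m) : 3 ∣ 2 ^ m + 1 := by
  have h := Odd.nat_add_dvd_pow_add_pow 2 1 hm
  simpa using h

theorem helper6_nat_le_of_int_dvd (p n : ℕ) (hn : 0 < n) (h : (p : ℤ) ∣ (n : ℤ)) : p ≤ n :=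
  Nat.le_of_dvd hn (Int.natCast_dvd_natCast.mp h)

theorem helper6_eq_of_dvd_lt (p n : ℕ) (hn : 0 < n) (h : p ∣ n) (h2 : n < 2 * p) : n = p := by
  obtain ⟨k, hk⟩ := h
  have hk0 : k ≠ 0 := by
    rintro rfl
    rw [mul_zero] at hk
    omega
  have hk2 : k < 2 := by
    by_contra hcon
    have : p * 2 ≤ p * k := Nat.mul_le_mul_left p (by omega)
    omega
  have hk1 : k = 1 := by omega
  rw [hk1, mul_one] at hk
  exact hk

theorem helper6_mersenne_fermat (r m : ℕ) (hr : r.Prime) (hp : (r + 2).Prime)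
    (hm : r + 1 = 2 ^ m) : r = 3 := by
  have hr2 := hr.two_le
  have hm2 : 2 ≤ m := by
    by_contra hcon
    have : m = 0 ∨ m = 1 := by omega
    rcases this with rfl | rfl
    · rw [pow_zero] at hm; omega
    · rw [pow_one] at hm; omega
  rcases Nat.even_or_odd m with hev | hod
  · obtain ⟨k, rfl⟩ := hev
    obtain ⟨y, hy⟩ : ∃ y, 2 ^ k = y + 1 :=
      ⟨2 ^ k - 1, by have := Nat.one_le_two_pow (n := k); omega⟩
    rw [pow_add, hy] at hm
    have hr'' : r + 1 = y * (y + 2) + 1 := by rw [hm]; ring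
    have hr' : r = y * (y + 2) := by omega
    rw [hr', Nat.prime_mul_iff] at hr
    rcases hr with ⟨_, h⟩ | ⟨_, h⟩
    · omega
    · rw [hr', h]
  · have h3 := helper6_three_dvd m hod
    have h3' : 3 ∣ r + 2 := by
      have e : r + 2 = 2 ^ m + 1 := by omega
      rw [e]; exact h3
    have : 3 = r + 2 := (Nat.prime_dvd_prime_iff_eq Nat.prime_three hp).mp h3'
    omega

/-- AM : the case `ε = -1`. -/
theorem arith_minus_case (p q r e b : ℕ) (hp : p.Prime) (hq : q.Prime) (hr : r.Prime)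
    (he2 : 2 ≤ e) (hep : e ∣ p - 1) (hre : r + e = p) (heq : e ∣ r * q ^ b) (h1 : q ∣ r + 1)
    {ι : Type*} (S : Finset ι) (d : ι → ℕ) (δ : ι → ℤ) (hS : S.card + 1 = e)
    (hδ : ∀ i ∈ S, δ i = 1 ∨ δ i = -1)
    (hq' : ∀ i ∈ S, q ∣ d i) (hd : ∀ i ∈ S, d i ∣ r * q ^ b)
    (hmod : ∀ i ∈ S, (d i : ℤ) ≡ δ i [ZMOD p])
    (hsum : ∑ i ∈ S, δ i * (d i : ℤ) = -((r : ℤ) + 1)) : p = 5 ∧ r = 3 ∧ q = 2 := by
  have hr2 := hr.two_le
  have hp2 := hp.two_le
  have hcop : Nat.Coprime e r := by
    rw [Nat.coprime_comm, Nat.Prime.coprime_iff_not_dvd hr]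
    intro hre'
    have h2 : r ∣ p - 1 := hre'.trans hep
    have h3 : r ∣ p := by rw [← hre]; exact dvd_add (dvd_refl r) hre'
    have h4 : r ∣ (p - 1) + 1 := by rwa [show p - 1 + 1 = p by omega]
    have h5 : r ∣ 1 := (Nat.dvd_add_right h2).mp h4
    have := Nat.le_of_dvd (by norm_num) h5
    omega
  have heq' : e ∣ q ^ b := hcop.dvd_of_dvd_mul_left heq
  obtain ⟨a, hab, he⟩ := (Nat.dvd_prime_pow hq).mp heq'
  have ha : a ≠ 0 := by
    rintro rfl
    rw [pow_zero] at he
    omega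
  have hqe : q ∣ e := by rw [he]; exact dvd_pow_self q ha
  have hq1 : q ∣ p - 1 := hqe.trans hep
  have hq2 : q ∣ 2 := by
    have h4 : q ∣ (p - 1) + 2 := by
      rw [show p - 1 + 2 = (r + 1) + e by omega]
      exact dvd_add h1 hqe
    exact (Nat.dvd_add_right hq1).mp h4
  have hq2' : q = 2 := (Nat.prime_dvd_prime_iff_eq hq Nat.prime_two).mp hq2
  subst hq2'
  rcases Nat.lt_or_ge a 2 with ha2 | ha2
  · -- a = 1
    have ha1 : a = 1 := by omega
    rw [ha1, pow_one] at he
    have hc1 : S.card = 1 := by omega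
    obtain ⟨i, rfl⟩ := Finset.card_eq_one.mp hc1
    rw [Finset.sum_singleton] at hsum
    have hi : i ∈ ({i} : Finset ι) := Finset.mem_singleton_self i
    have hd0 : (0 : ℤ) ≤ (d i : ℤ) := Int.natCast_nonneg _
    have hr0 : (0 : ℤ) ≤ (r : ℤ) := Int.natCast_nonneg _
    have hdi : d i = r + 1 := by
      rcases hδ i hi with h | h
      · rw [h] at hsum; exfalso; linarith
      · rw [h] at hsum
        have : (d i : ℤ) = ((r + 1 : ℕ) : ℤ) := by push_cast; linarith
        exact_mod_cast this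
    have hdd := hd i hi
    rw [hdi] at hdd
    have hc : Nat.Coprime (r + 1) r := by simp
    have h6 : r + 1 ∣ 2 ^ b := hc.dvd_of_dvd_mul_left hdd
    obtain ⟨m, hmb, hm⟩ := (Nat.dvd_prime_pow Nat.prime_two).mp h6
    have hp' : (r + 2).Prime := by rw [show r + 2 = p by omega]; exact hp
    have hr3 := helper6_mersenne_fermat r m hr hp' hm
    refine ⟨by omega, hr3, rfl⟩
  · -- a ≥ 2
    exfalso
    have h4e : 4 ∣ e := by
      rw [he]
      have := pow_dvd_pow 2 ha2
      simpa using this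
    have h4p : 4 ∣ p - 1 := h4e.trans hep
    obtain ⟨c, hc⟩ := h4e
    obtain ⟨c', hc'⟩ := h4p
    have hr4 : r % 4 = 1 := by omega
    have hex : ∃ i ∈ S, d i % 4 = 2 := by
      by_contra hcon
      push_neg at hcon
      have hall : ∀ i ∈ S, (4 : ℤ) ∣ δ i * (d i : ℤ) := by
        intro i hi
        have h2 := hq' i hi
        have h3 := hcon i hi
        have h4 : 4 ∣ d i := by omega
        exact dvd_mul_of_dvd_right (by exact_mod_cast h4) _
      have hs := Finset.dvd_sum hall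
      rw [hsum] at hs
      omega
    obtain ⟨i, hi, hi4⟩ := hex
    obtain ⟨m', hm'⟩ := hq' i hi
    have hm'odd : m' % 2 = 1 := by omega
    have hm'd : m' ∣ r * 2 ^ b := (Dvd.intro_left 2 hm'.symm).trans (hd i hi)
    have hcm : Nat.Coprime m' (2 ^ b) := by
      apply Nat.Coprime.pow_right
      rw [Nat.coprime_comm, Nat.Prime.coprime_iff_not_dvd Nat.prime_two]; omega
    have hm'r : m' ∣ r := hcm.dvd_of_dvd_mul_right hm'd
    have hmodi := Int.modEq_iff_dvd.mp (hmod i hi)
    rcases (Nat.dvd_prime hr).mp hm'r with h1' | hr'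
    · -- d i = 2
      have hdi : d i = 2 := by rw [hm', h1']
      rw [hdi] at hmodi
      rcases hδ i hi with h | h
      · rw [h] at hmodi
        have h' : (p : ℤ) ∣ ((1 : ℕ) : ℤ) := by
          have e : ((1 : ℕ) : ℤ) = -(1 - ((2 : ℕ) : ℤ)) := by norm_num
          rw [e]; exact dvd_neg.mpr hmodi
        have := helper6_nat_le_of_int_dvd p 1 (by norm_num) h'
        omega
      · rw [h] at hmodi
        have h' : (p : ℤ) ∣ ((3 : ℕ) : ℤ) := by
          have e : ((3 : ℕ) : ℤ) = -(-1 - ((2 : ℕ) : ℤ)) := by norm_num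
          rw [e]; exact dvd_neg.mpr hmodi
        have := helper6_nat_le_of_int_dvd p 3 (by norm_num) h'
        omega
    · -- d i = 2 r
      have hdi : d i = 2 * r := by rw [hm', hr']
      have hpe : (p : ℤ) = (r : ℤ) + (e : ℤ) := by exact_mod_cast hre.symm
      have hdvd2 : (p : ℤ) ∣ δ i + 2 * (e : ℤ) := by
        have h2p : (p : ℤ) ∣ 2 * (p : ℤ) := Dvd.intro_left 2 rfl
        have h3 := dvd_add hmodi h2p
        have e1 : δ i - (d i : ℤ) + 2 * (p : ℤ) = δ i + 2 * (e : ℤ) := by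
          rw [hdi, hpe]; push_cast; ring
        rwa [e1] at h3
      rcases hδ i hi with h | h
      · rw [h] at hdvd2
        have h' : (p : ℤ) ∣ ((2 * e + 1 : ℕ) : ℤ) := by
          have e2 : ((2 * e + 1 : ℕ) : ℤ) = 1 + 2 * (e : ℤ) := by push_cast; ring
          rw [e2]; exact hdvd2
        have h'' : p ∣ 2 * e + 1 := Int.natCast_dvd_natCast.mp h'
        have hpeq : 2 * e + 1 = p :=
          helper6_eq_of_dvd_lt p (2 * e + 1) (by omega) h'' (by omega)
        have hre1 : r = e + 1 := by omega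
        rcases Nat.even_or_odd a with hev | hod
        · have h3 := helper6_three_dvd (a + 1) (Even.add_one hev)
          rw [pow_succ, ← he] at h3
          have h3p : 3 ∣ p := by
            rw [← hpeq, show 2 * e + 1 = e * 2 + 1 by ring]; exact h3
          have := (Nat.prime_dvd_prime_iff_eq Nat.prime_three hp).mp h3p
          omega
        · have h3 := helper6_three_dvd a hod
          rw [← he] at h3
          have h3r : 3 ∣ r := by rw [hre1]; exact h3
          have := (Nat.prime_dvd_prime_iff_eq Nat.prime_three hr).mp h3r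
          omega
      · rw [h] at hdvd2
        have h' : (p : ℤ) ∣ ((2 * e - 1 : ℕ) : ℤ) := by
          have e2 : ((2 * e - 1 : ℕ) : ℤ) = -1 + 2 * (e : ℤ) := by omega
          rw [e2]; exact hdvd2
        have h'' : p ∣ 2 * e - 1 := Int.natCast_dvd_natCast.mp h'
        have hpeq : 2 * e - 1 = p :=
          helper6_eq_of_dvd_lt p (2 * e - 1) (by omega) h'' (by omega)
        omega

end Cfsg.Agent.Lib.helper6.BT
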