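import Mathlib
import Cfsg.Prelude.Def_Characters
import Cfsg.Prelude.Def_Blocks
import Cfsg.Agent.Lib.helper84.BrDefs
import Cfsg.Agent.Lib.helper6.BrDecomp
import Cfsg.Agent.Lib.helper6.BT_THSQ

/-!
# S0997 piece THX
-/

set_option autoImplicit false
set_option linter.unusedSectionVars false
set_option linter.unusedVariables false

namespace Cfsg.Agent.Lib.helper6.BU

open Cfsg Cfsg.Agent.Lib.helper81 Cfsg.Agent.Lib.helper84.Br Cfsg.Agent.Lib.helper6.Br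
  Cfsg.Agent.Lib.helper6.BT
open scoped ComplexConjugate

universe u

/-- The arithmetic core of THX. -/
theorem helper6_arith_thx (e K L M S : ℤ) (he4 : 4 ≤ e) (hK : 0 ≤ K) (hL : 0 ≤ L) (hM : 0 ≤ M)
    (hS : (4 * e + 1) * L ≤ S) (h1 : S ≤ (e + 1) ^ 2)
    (h2 : e - e * (e + 1) = 2 * e * (K - L) + e * M) : False := by
  have h3 : e * (-e) = e * (2 * (K - L) + M) := by linarith
  have h4 : -e = 2 * (K - L) + M := mul_left_cancel₀ (by omega : e ≠ 0) h3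
  have h5 : e ≤ 2 * L := by linarith
  have h6 : (4 * e + 1) * e ≤ (4 * e + 1) * (2 * L) := mul_le_mul_of_nonneg_left h5 (by omega)
  have h7 : 4 * e ≤ e * e := by nlinarith
  nlinarith

section pieces

variable {G : Type u} [Group G] [Fintype G]

variable {p : ℕ} [Fact p.Prime] {P : Sylow p G} {e : ℕ}

/-- THX : the decomposition of `θ θ'̄` (`θ ≠ θ'` in `Y`, `ε = -1`, `p = 2 e + 1`, `e ≥ 4`) gives a
character of degree `p - 1` and sign `-1` in `X`. -/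
theorem theta_cross (hP : Nat.card P = p) (D : Data G p P e) (he4 : 4 ≤ e)
    (hpe : p - 1 = 2 * e) (hε : D.ε = -1)
    (hYd : ∀ θ ∈ D.Y, charDegree (θ : G → ℂ) = e + 1)
    (hX : ∀ χ ∈ D.X, χ ≠ trivChar G → p - 1 ≤ charDegree (χ : G → ℂ))
    (hY : ∀ θ ∈ D.Y, psum (P : Subgroup G) (θ : G → ℂ) = -(D.ε : ℂ) * (e : ℂ))
    (hY2 : ∀ θ ∈ D.Y, psum (P : Subgroup G) (fun g => (θ : G → ℂ) g * conj ((θ : G → ℂ) g)) =
      (e : ℂ) * ((p : ℂ) - (e : ℂ)))
    (horth : ∀ x : G, x ∈ (P : Subgroup G) → x ≠ 1 →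
      ∑ θ ∈ D.Y, (θ : G → ℂ) x = -(D.ε : ℂ)) :
    ∃ χ ∈ D.X, D.δ χ = -1 ∧ charDegree (χ : G → ℂ) = p - 1 := by
  classical
  have hp2 : 2 ≤ p := (Fact.out : p.Prime).two_le
  have hcY := D.cardY
  have hY2c : D.Y.card = 2 := by
    rw [hpe] at hcY
    exact Nat.eq_of_mul_eq_mul_right (by omega) hcY
  obtain ⟨θ, θ', hne, hYeq⟩ := Finset.card_eq_two.mp hY2c
  have hθ : θ ∈ D.Y := by rw [hYeq]; simp
  have hθ' : θ' ∈ D.Y := by rw [hYeq]; simp
  obtain ⟨Θ, hΘdef⟩ : ∃ Θ : G → ℂ, Θ = fun g => (θ : G → ℂ) g * conj ((θ' : G → ℂ) g) :=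
    ⟨_, rfl⟩
  have hΘc : IsCharacter G Θ := by
    have h := Cfsg.Agent.Lib.helper4.isCharacter_mul (irr_isCharacter θ)
      (Cfsg.Agent.Lib.helper4.isCharacter_conj (irr_isCharacter θ'))
    rw [hΘdef]
    exact h
  obtain ⟨α, hα1, hdeg, hps⟩ := helper6_decomp2 hP D hY hΘc
  have h1 : α (trivChar G) = 0 := by
    have h := hα1 (trivChar G)
    have h2 : classInner Θ (trivChar G : G → ℂ) = classInner (θ : G → ℂ) (θ' : G → ℂ) := by
      unfold classInner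
      congr 1
      refine Finset.sum_congr rfl fun g _ => ?_
      simp [hΘdef]
    rw [h2, irr_classInner_ne hne] at h
    exact_mod_cast h.symm
  have hΘ1 : Θ 1 = (((e + 1) ^ 2 : ℕ) : ℂ) := by
    rw [hΘdef]
    simp only
    rw [irr_one_eq_charDegree, irr_one_eq_charDegree, hYd θ hθ, hYd θ' hθ']
    simp [sq]
  have hdegN : (e + 1) ^ 2 = α (trivChar G) + ∑ χ ∈ D.A, α χ * charDegree (χ : G → ℂ)
      + ∑ χ ∈ D.B, α χ * charDegree (χ : G → ℂ)
      + ∑ θ' ∈ D.Y, α θ' * charDegree (θ' : G → ℂ)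
      + ∑ d ∈ D.Dset, α d * charDegree (d : G → ℂ) := by
    rw [hΘ1] at hdeg
    exact_mod_cast hdeg
  have hpsΘ : psum (P : Subgroup G) Θ = (e : ℂ) - (e : ℂ) * ((p : ℂ) - (e : ℂ)) := by
    have hval : ∀ x : G, x ∈ (P : Subgroup G) → x ≠ 1 →
        Θ x = (θ : G → ℂ) x - (θ : G → ℂ) x * conj ((θ : G → ℂ) x) := by
      intro x hx hx1
      have h := horth x hx hx1
      rw [hYeq, Finset.sum_pair hne, hε] at h
      have h' : (θ' : G → ℂ) x = 1 - (θ : G → ℂ) x := by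
        push_cast at h
        linear_combination h
      rw [hΘdef]
      simp only
      rw [h', map_sub, map_one]
      ring
    have e1 : ∑ g ∈ helper6_T (P : Subgroup G), Θ g
        = ∑ g ∈ helper6_T (P : Subgroup G),
            ((θ : G → ℂ) g - (θ : G → ℂ) g * conj ((θ : G → ℂ) g)) := by
      refine Finset.sum_congr rfl fun x hx => ?_
      simp only [helper6_T, Finset.mem_filter, Finset.mem_univ, true_and] at hx
      exact hval x hx.1 hx.2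
    have e2 := hY θ hθ
    have e3 := hY2 θ hθ
    rw [helper6_psum_eq] at e2 e3
    rw [helper6_psum_eq, e1, Finset.sum_sub_distrib, e2, e3, hε]
    push_cast
    ring
  rw [hpsΘ, h1, hε] at hps
  rw [h1] at hdegN
  -- degrees of the characters of B
  have hBdeg : ∀ χ ∈ D.B, (charDegree (χ : G → ℂ) = p - 1 ∨
      2 * p - 1 ≤ charDegree (χ : G → ℂ)) := by
    intro χ hχ
    rw [D.mem_B] at hχ
    have hm := D.deg_X χ hχ.1
    rw [hχ.2] at hm
    have hdv : (p : ℤ) ∣ (charDegree (χ : G → ℂ) : ℤ) - (-1) := Int.modEq_iff_dvd.mp hm.symm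
    obtain ⟨k, hk⟩ := hdv
    have hd0 : (0 : ℤ) ≤ (charDegree (χ : G → ℂ) : ℤ) := Int.natCast_nonneg _
    have hk1 : 1 ≤ k := by
      by_contra hcon
      have hk0 : k ≤ 0 := by omega
      have h' : (p : ℤ) * k ≤ 0 := mul_nonpos_of_nonneg_of_nonpos (by omega) hk0
      linarith
    rcases eq_or_lt_of_le hk1 with h1' | h1'
    · left
      have h' : (charDegree (χ : G → ℂ) : ℤ) = p - 1 := by
        rw [← h1', mul_one] at hk; linarith
      omega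
    · right
      have h0 : (p : ℤ) * 2 ≤ (p : ℤ) * k := mul_le_mul_of_nonneg_left (by omega) (by omega)
      have h' : (2 * p - 1 : ℤ) ≤ (charDegree (χ : G → ℂ) : ℤ) := by linarith
      omega
  obtain ⟨q, hq⟩ : ∃ q : ℕ, q = p - 1 := ⟨_, rfl⟩
  rw [← hq] at hps
  have hqe : q = 2 * e := by omega
  have hpe' : p = 2 * e + 1 := by omega
  obtain ⟨aA, haA⟩ : ∃ a : ℕ, a = ∑ χ ∈ D.A, α χ := ⟨_, rfl⟩
  obtain ⟨aB, haB⟩ : ∃ a : ℕ, a = ∑ χ ∈ D.B, α χ := ⟨_, rfl⟩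
  obtain ⟨aY, haY⟩ : ∃ a : ℕ, a = ∑ θ' ∈ D.Y, α θ' := ⟨_, rfl⟩
  obtain ⟨S, hSdef⟩ : ∃ a : ℕ, a = ∑ χ ∈ D.B, α χ * charDegree (χ : G → ℂ) := ⟨_, rfl⟩
  rw [← haA, ← haB, ← haY] at hps
  rw [← hSdef] at hdegN
  have hS2 : S ≤ (e + 1) ^ 2 := by
    rw [hdegN]
    exact le_trans (le_trans (Nat.le_add_left _ _) (Nat.le_add_right _ _))
      (Nat.le_add_right _ _)
  have hZ2 : (e : ℤ) - (e : ℤ) * ((e : ℤ) + 1)
      = 2 * (e : ℤ) * ((aA : ℤ) - (aB : ℤ)) + (e : ℤ) * (aY : ℤ) := by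
    have hpC : (p : ℂ) = 2 * (e : ℂ) + 1 := by exact_mod_cast hpe'
    have hqC : (q : ℂ) = 2 * (e : ℂ) := by exact_mod_cast hqe
    have h' : (e : ℂ) - (e : ℂ) * ((e : ℂ) + 1)
        = 2 * (e : ℂ) * ((aA : ℂ) - (aB : ℂ)) + (e : ℂ) * (aY : ℂ) := by
      rw [hpC, hqC] at hps
      push_cast at hps
      linear_combination hps
    exact_mod_cast h'
  by_contra hno
  push_neg at hno
  have hS3 : (4 * e + 1) * aB ≤ S := by
    rw [haB, hSdef, Finset.mul_sum]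
    refine Finset.sum_le_sum fun χ hχ => ?_
    rw [mul_comm]
    apply Nat.mul_le_mul_left
    have hχ' := (D.mem_B χ).mp hχ
    rcases hBdeg χ hχ with h | h
    · exact absurd h (hno χ hχ'.1 hχ'.2)
    · omega
  exact helper6_arith_thx (e : ℤ) (aA : ℤ) (aB : ℤ) (aY : ℤ) (S : ℤ) (by exact_mod_cast he4)
    (Int.natCast_nonneg _) (Int.natCast_nonneg _) (Int.natCast_nonneg _)
    (by exact_mod_cast hS3) (by exact_mod_cast hS2) hZ2

end pieces

end Cfsg.Agent.Lib.helper6.BU
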