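import Mathlib
import Cfsg.Prelude.Def_Characters
import Cfsg.Prelude.Def_Blocks
import Cfsg.Agent.S0992
import Cfsg.Agent.S0202
import Cfsg.Agent.S0203

/-!
# S4501 piece INV: Klein four Sylow 2-subgroups and a single class of involutions
-/

set_option autoImplicit false

namespace Cfsg.Agent.Lib.helper6.BW

open Cfsg

universe u

variable {G : Type u} [Group G] [Finite G]

/-- INV : Klein four Sylow 2-subgroups and a single class of involutions
(landed S0992, S0202, S0203). -/
theorem k4_inv [IsSimpleGroup G] (hna : ∃ x y : G, x * y ≠ y * x) (g₀ : ℕ) (hodd : Odd g₀)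
    (hG : Nat.card G = 4 * g₀) (P : Sylow 2 G) :
    IsKleinFour (P : Subgroup G) ∧
      ∀ s t : G, orderOf s = 2 → orderOf t = 2 → IsConj s t := by
  classical
  have hnc : ¬ IsMulCommutative G := by
    intro h
    obtain ⟨x, y, hxy⟩ := hna
    exact hxy (h.is_comm.comm x y)
  have h2 : Even (Nat.card G) := by
    rw [hG]
    exact ⟨2 * g₀, by ring⟩
  have h8 : ¬ 8 ∣ Nat.card G := by
    rw [hG]
    obtain ⟨k, rfl⟩ := hodd
    omega
  have hK : IsKleinFour ↥(P : Subgroup G) := (Cfsg.Agent.S0992.result hnc h2 h8 P).1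
  refine ⟨hK, ?_⟩
  have h13 := Cfsg.Agent.S0202.result P hK
  have h3 := Cfsg.Agent.S0203.result P hK
  have hne3 : Nat.card {C : ConjClasses G // ∃ t : G, orderOf t = 2 ∧ ConjClasses.mk t = C}
      ≠ 3 := by
    intro h
    obtain ⟨N, hN, hc⟩ := h3.mp h
    have hcard := hc.card_mul_card
    have hP4 : Nat.card ↥(P : Subgroup G) = 4 := hK.card_four
    rcases hN.eq_bot_or_eq_top with h | h
    · subst h
      rw [Subgroup.card_bot, one_mul, hP4] at hcard
      haveI : Fact (Nat.Prime 2) := ⟨Nat.prime_two⟩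
      have hc4 : Nat.card G = 2 ^ 2 := by rw [← hcard]; norm_num
      exact hnc (IsPGroup.isMulCommutative_of_card_eq_prime_sq hc4)
    · subst h
      rw [Subgroup.card_top, hP4] at hcard
      have hpos : 0 < Nat.card G := Nat.card_pos
      omega
  have h1 : Nat.card {C : ConjClasses G // ∃ t : G, orderOf t = 2 ∧ ConjClasses.mk t = C}
      = 1 := by
    rcases h13 with h | h
    · exact h
    · exact absurd h hne3
  intro s t hs ht
  have hsub := (Nat.card_eq_one_iff_unique.mp h1).1
  have he := hsub.elim ⟨ConjClasses.mk s, s, hs, rfl⟩ ⟨ConjClasses.mk t, t, ht, rfl⟩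
  exact ConjClasses.mk_eq_mk_iff_isConj.mp (congrArg (fun z : {C : ConjClasses G // ∃ t : G, orderOf t = 2 ∧ ConjClasses.mk t = C} => (z : ConjClasses G)) he)

end Cfsg.Agent.Lib.helper6.BW
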