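import Mathlib
import Cfsg.Agent.Lib.helper16.CG33Defs
import Cfsg.Agent.Lib.helper34.SL33Invol

/-!
# S3412 pieces TVa / TVb / MEM: cores (with the pieces U27 / TRANS as hypotheses)
-/

set_option autoImplicit false

open Matrix
open scoped Pointwise
open Cfsg.Agent.Lib.helper16.CG33

namespace Cfsg.Agent.Lib.helper6.CG33

theorem helper6_det_tvM (v φ : Fin 3 → ZMod 3) (h : φ ⬝ᵥ v = 0) : (tvM v φ).det = 1 := by
  rw [tvM, Matrix.vecMulVec_eq Unit, Matrix.det_one_add_replicateCol_mul_replicateRow, h,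
    add_zero]

theorem helper6_card_cent_conj {X : Type*} [Group X] (g x : X) :
    Nat.card (Subgroup.centralizer ({g * x * g⁻¹} : Set X))
      = Nat.card (Subgroup.centralizer ({x} : Set X)) := by
  have h : Subgroup.centralizer ({g * x * g⁻¹} : Set X)
      = (Subgroup.centralizer ({x} : Set X)).map (MulAut.conj g).toMonoidHom := by
    ext y
    simp only [Subgroup.mem_centralizer_iff, Set.mem_singleton_iff, forall_eq, Subgroup.mem_map,
      MulEquiv.coe_toMonoidHom, MulAut.conj_apply]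
    constructor
    · intro hy
      refine ⟨g⁻¹ * y * g, ?_, by group⟩
      have h1 : g⁻¹ * (g * x * g⁻¹ * y) * g = g⁻¹ * (y * (g * x * g⁻¹)) * g := by rw [hy]
      calc x * (g⁻¹ * y * g) = g⁻¹ * (g * x * g⁻¹ * y) * g := by group
        _ = g⁻¹ * (y * (g * x * g⁻¹)) * g := h1
        _ = g⁻¹ * y * g * x := by group
    · rintro ⟨z, hz, rfl⟩
      calc g * x * g⁻¹ * (g * z * g⁻¹) = g * (x * z) * g⁻¹ := by group
        _ = g * (z * x) * g⁻¹ := by rw [hz]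
        _ = g * z * g⁻¹ * (g * x * g⁻¹) := by group
  rw [h]
  exact Subgroup.card_map_of_injective (MulAut.conj g).injective

theorem helper6_cj_mem_T {X : Type*} [Group X] (g x : X) (hx : x ∈ T X) : g * x * g⁻¹ ∈ T X := by
  obtain ⟨h1, h2⟩ := hx
  refine ⟨?_, ?_⟩
  · intro h
    apply h1
    have : x = g⁻¹ * (g * x * g⁻¹) * g := by group
    rw [this, h]; group
  · rw [helper6_card_cent_conj]; exact h2

theorem helper6_tvM_mul (v φ w ψ : Fin 3 → ZMod 3) (h : φ ⬝ᵥ w = 0) :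
    tvM v φ * tvM w ψ = 1 + vecMulVec v φ + vecMulVec w ψ := by
  simp only [tvM, add_mul, mul_add, one_mul, mul_one, Matrix.vecMulVec_mul_vecMulVec, h,
    zero_smul, Matrix.vecMulVec_zero, add_zero]

/-- the statement of piece U27 -/
def helper6_U27 : Prop :=
  ∃ U : Subgroup S33, Nat.card U = 27 ∧
    (∀ g : S33, (∀ u ∈ U, g * u = u * g) →
      (g : Matrix (Fin 3) (Fin 3) (ZMod 3)) = 1 ∨
      (g : Matrix (Fin 3) (Fin 3) (ZMod 3)) = tvM ![1, 0, 0] ![0, 0, 1] ∨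
      (g : Matrix (Fin 3) (Fin 3) (ZMod 3)) = tvM ![1, 0, 0] ![0, 0, 2]) ∧
    (∀ u ∈ U, ∀ x : S33, (x : Matrix (Fin 3) (Fin 3) (ZMod 3)) = tvM ![1, 0, 0] ![0, 0, 1] →
      u * x = x * u)

/-- the statement of piece TRANS -/
def helper6_TRANS : Prop :=
  ∀ (v φ : Fin 3 → ZMod 3), v ≠ 0 → φ ≠ 0 → φ ⬝ᵥ v = 0 →
    ∃ g : S33, (g : Matrix (Fin 3) (Fin 3) (ZMod 3)) * tvM ![1, 0, 0] ![0, 0, 1] =
      tvM v φ * (g : Matrix (Fin 3) (Fin 3) (ZMod 3))

theorem helper6_tvM_mem_T_core (hU : helper6_U27) (hconj : helper6_TRANS)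
    (v φ : Fin 3 → ZMod 3) (hv : v ≠ 0) (hφ : φ ≠ 0) (h : φ ⬝ᵥ v = 0) (x : S33)
    (hx : (x : Matrix (Fin 3) (Fin 3) (ZMod 3)) = tvM v φ) : x ∈ T S33 := by
  obtain ⟨U, hU27, -, hUc⟩ := hU
  have hd0 : (![0, 0, 1] : Fin 3 → ZMod 3) ⬝ᵥ ![1, 0, 0] = 0 := by decide
  obtain ⟨x0, hx0⟩ : ∃ x0 : S33,
      (x0 : Matrix (Fin 3) (Fin 3) (ZMod 3)) = tvM ![1, 0, 0] ![0, 0, 1] :=
    ⟨⟨tvM ![1, 0, 0] ![0, 0, 1], helper6_det_tvM _ _ hd0⟩, rfl⟩
  have hx0T : x0 ∈ T S33 := by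
    refine ⟨?_, ?_⟩
    · intro h1
      have h2 : (x0 : Matrix (Fin 3) (Fin 3) (ZMod 3)) 0 2 = (1 : Matrix (Fin 3) (Fin 3) (ZMod 3)) 0 2 := by
        rw [h1]; rfl
      rw [hx0] at h2
      revert h2
      simp [tvM]
    · have hle : U ≤ Subgroup.centralizer ({x0} : Set S33) := by
        intro u hu
        rw [Subgroup.mem_centralizer_iff]
        intro y hy
        rw [Set.mem_singleton_iff] at hy
        rw [hy]
        exact (hUc u hu x0 hx0).symm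
      have := Subgroup.card_dvd_of_le hle
      rwa [hU27] at this
  obtain ⟨g, hg⟩ := hconj v φ hv hφ h
  have hxg : x = g * x0 * g⁻¹ := by
    have h1 : g * x0 = x * g := by
      apply Subtype.ext
      rw [Matrix.SpecialLinearGroup.coe_mul, Matrix.SpecialLinearGroup.coe_mul, hx0, hx]
      exact hg
    rw [h1]; group
  rw [hxg]
  exact helper6_cj_mem_T g x0 hx0T

theorem helper6_exists_of_mem_T_core (hU : helper6_U27) (x : S33) (hx : x ∈ T S33) :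
    ∃ v φ : Fin 3 → ZMod 3, v ≠ 0 ∧ φ ≠ 0 ∧ φ ⬝ᵥ v = 0 ∧
      (x : Matrix (Fin 3) (Fin 3) (ZMod 3)) = tvM v φ := by
  obtain ⟨U, hU27, hUcent, -⟩ := hU
  obtain ⟨hx1, h27⟩ := hx
  obtain ⟨K, hK⟩ := Sylow.exists_subgroup_card_pow_prime 3 (n := 3)
    (G := ↥(Subgroup.centralizer ({x} : Set S33))) (by norm_num; exact h27)
  have hQ27 : Nat.card (K.map (Subgroup.centralizer ({x} : Set S33)).subtype) = 27 := by
    rw [Subgroup.card_map_of_injective (Subgroup.subtype_injective _), hK]; norm_num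
  have hQle : K.map (Subgroup.centralizer ({x} : Set S33)).subtype
      ≤ Subgroup.centralizer ({x} : Set S33) := Subgroup.map_subtype_le K
  generalize K.map (Subgroup.centralizer ({x} : Set S33)).subtype = Q at hQ27 hQle
  have hQp : IsPGroup 3 Q := IsPGroup.of_card (n := 3) (by rw [hQ27]; norm_num)
  have hUp : IsPGroup 3 U := IsPGroup.of_card (n := 3) (by rw [hU27]; norm_num)
  obtain ⟨P1, hP1⟩ := hQp.exists_le_sylow
  obtain ⟨P2, hP2⟩ := hUp.exists_le_sylow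
  have hcardS : Nat.card S33 = 5616 := Cfsg.Agent.Lib.helper34.card_SL33
  have hsyl : ∀ (P : Sylow 3 S33) (V : Subgroup S33), Nat.card V = 27 → V ≤ (P : Subgroup S33) →
      V = (P : Subgroup S33) := by
    intro P V hV hVP
    apply Subgroup.eq_of_le_of_card_ge hVP
    obtain ⟨k, hk⟩ := IsPGroup.iff_card.mp P.isPGroup'
    have hdvd : Nat.card (P : Subgroup S33) ∣ 5616 := by
      rw [← hcardS]; exact Subgroup.card_subgroup_dvd_card _
    rw [hV, hk]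
    rw [hk] at hdvd
    have hk3 : k ≤ 3 := by
      by_contra hk4
      have h81 : 3 ^ 4 ∣ 3 ^ k := pow_dvd_pow 3 (by omega)
      have := h81.trans hdvd
      omega
    interval_cases k <;> norm_num
  have hQP1 := hsyl P1 Q hQ27 hP1
  have hUP2 := hsyl P2 U hU27 hP2
  obtain ⟨c, hc⟩ := MulAction.exists_smul_eq S33 P1 P2
  have hcomm : ∀ u ∈ U, c * x * c⁻¹ * u = u * (c * x * c⁻¹) := by
    intro u hu
    have h1 : u ∈ ((c • P1 : Sylow 3 S33) : Subgroup S33) := by rw [hc, ← hUP2]; exact hu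
    have h2 : ((c • P1 : Sylow 3 S33) : Subgroup S33) = MulAut.conj c • (P1 : Subgroup S33) := rfl
    rw [h2, Subgroup.mem_pointwise_smul_iff_inv_smul_mem] at h1
    have h3 : c⁻¹ * u * c ∈ Q := by
      rw [hQP1]
      have h4 : (MulAut.conj c)⁻¹ • u = c⁻¹ * u * c := by
        rw [← map_inv, MulAut.smul_def, MulAut.conj_apply, inv_inv]
      rw [← h4]; exact h1
    have h5 := hQle h3
    rw [Subgroup.mem_centralizer_iff] at h5
    have h6 : x * (c⁻¹ * u * c) = c⁻¹ * u * c * x := h5 x (Set.mem_singleton x)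
    calc c * x * c⁻¹ * u = c * (x * (c⁻¹ * u * c)) * c⁻¹ := by group
      _ = c * (c⁻¹ * u * c * x) * c⁻¹ := by rw [h6]
      _ = u * (c * x * c⁻¹) := by group
  have hcc : ((c⁻¹ : S33) : Matrix (Fin 3) (Fin 3) (ZMod 3)) * (c : Matrix (Fin 3) (Fin 3) (ZMod 3)) = 1 := by
    rw [← Matrix.SpecialLinearGroup.coe_mul, inv_mul_cancel, Matrix.SpecialLinearGroup.coe_one]
  have hcc' : (c : Matrix (Fin 3) (Fin 3) (ZMod 3)) * ((c⁻¹ : S33) : Matrix (Fin 3) (Fin 3) (ZMod 3)) = 1 := by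
    rw [← Matrix.SpecialLinearGroup.coe_mul, mul_inv_cancel, Matrix.SpecialLinearGroup.coe_one]
  have hxy : (x : Matrix (Fin 3) (Fin 3) (ZMod 3))
      = ((c⁻¹ : S33) : Matrix (Fin 3) (Fin 3) (ZMod 3))
        * ((c * x * c⁻¹ : S33) : Matrix (Fin 3) (Fin 3) (ZMod 3))
        * (c : Matrix (Fin 3) (Fin 3) (ZMod 3)) := by
    rw [← Matrix.SpecialLinearGroup.coe_mul, ← Matrix.SpecialLinearGroup.coe_mul]
    have h0 : c⁻¹ * (c * x * c⁻¹) * c = x := by group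
    rw [h0]
  have key : ∀ ψ : Fin 3 → ZMod 3, ψ ≠ 0 → ψ ⬝ᵥ ![1, 0, 0] = 0 →
      ((c * x * c⁻¹ : S33) : Matrix (Fin 3) (Fin 3) (ZMod 3)) = tvM ![1, 0, 0] ψ →
      ∃ v φ : Fin 3 → ZMod 3, v ≠ 0 ∧ φ ≠ 0 ∧ φ ⬝ᵥ v = 0 ∧
        (x : Matrix (Fin 3) (Fin 3) (ZMod 3)) = tvM v φ := by
    intro ψ hψ hψe hy
    refine ⟨((c⁻¹ : S33) : Matrix (Fin 3) (Fin 3) (ZMod 3)) *ᵥ ![1, 0, 0],
      ψ ᵥ* (c : Matrix (Fin 3) (Fin 3) (ZMod 3)), ?_, ?_, ?_, ?_⟩
    · intro h0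
      have h1 : (c : Matrix (Fin 3) (Fin 3) (ZMod 3)) *ᵥ
          (((c⁻¹ : S33) : Matrix (Fin 3) (Fin 3) (ZMod 3)) *ᵥ ![1, 0, 0]) = ![1, 0, 0] := by
        rw [Matrix.mulVec_mulVec, hcc', Matrix.one_mulVec]
      rw [h0, Matrix.mulVec_zero] at h1
      revert h1
      decide
    · intro h0
      have h1 : (ψ ᵥ* (c : Matrix (Fin 3) (Fin 3) (ZMod 3)))
          ᵥ* ((c⁻¹ : S33) : Matrix (Fin 3) (Fin 3) (ZMod 3)) = ψ := by
        rw [Matrix.vecMul_vecMul, hcc', Matrix.vecMul_one]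
      rw [h0, Matrix.zero_vecMul] at h1
      exact hψ h1.symm
    · rw [← Matrix.dotProduct_mulVec, Matrix.mulVec_mulVec, hcc', Matrix.one_mulVec]
      exact hψe
    · rw [hxy, hy, tvM, Matrix.mul_add, Matrix.add_mul, Matrix.mul_one, hcc,
        Matrix.mul_vecMulVec, Matrix.vecMulVec_mul]
      rfl
  rcases hUcent (c * x * c⁻¹) hcomm with h | h | h
  · exfalso
    apply hx1
    have h1 : c * x * c⁻¹ = 1 := by
      apply Subtype.ext
      rw [h, Matrix.SpecialLinearGroup.coe_one]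
    have h2 : x = c⁻¹ * (c * x * c⁻¹) * c := by group
    rw [h2, h1]; group
  · exact key ![0, 0, 1] (by decide) (by decide) h
  · exact key ![0, 0, 2] (by decide) (by decide) h

theorem helper6_count_perp : ∀ v : Fin 3 → ZMod 3, v ≠ 0 →
    (Finset.univ.filter (fun φ : Fin 3 → ZMod 3 => φ ≠ 0 ∧ φ ⬝ᵥ v = 0)).card = 8 := by
  decide +kernel

theorem helper6_count_perp' : ∀ φ : Fin 3 → ZMod 3, φ ≠ 0 →
    (Finset.univ.filter (fun v : Fin 3 → ZMod 3 => v ≠ 0 ∧ φ ⬝ᵥ v = 0)).card = 8 := by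
  decide +kernel

/-- the statement of piece TVa -/
def helper6_TVa : Prop :=
  ∀ (v φ : Fin 3 → ZMod 3), v ≠ 0 → φ ≠ 0 → φ ⬝ᵥ v = 0 → ∀ x : S33,
    (x : Matrix (Fin 3) (Fin 3) (ZMod 3)) = tvM v φ → x ∈ T S33

theorem helper6_vecMulVec_inj_right (v φ ψ : Fin 3 → ZMod 3) (hv : v ≠ 0)
    (h : vecMulVec v φ = vecMulVec v ψ) : φ = ψ := by
  obtain ⟨i, hi⟩ := Function.ne_iff.mp hv
  funext j
  have h1 := congrFun (congrFun h i) j
  rw [vecMulVec_apply, vecMulVec_apply] at h1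
  exact mul_left_cancel₀ hi h1

theorem helper6_vecMulVec_inj_left (v w φ : Fin 3 → ZMod 3) (hφ : φ ≠ 0)
    (h : vecMulVec v φ = vecMulVec w φ) : v = w := by
  obtain ⟨j, hj⟩ := Function.ne_iff.mp hφ
  funext i
  have h1 := congrFun (congrFun h i) j
  rw [vecMulVec_apply, vecMulVec_apply] at h1
  exact mul_right_cancel₀ hj h1

/-- the element of `S33` with matrix `tvM v φ` (or `1` when `φ ⬝ᵥ v ≠ 0`). -/
noncomputable def helper6_tv (v φ : Fin 3 → ZMod 3) : S33 :=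
  if h : φ ⬝ᵥ v = 0 then ⟨tvM v φ, helper6_det_tvM v φ h⟩ else 1

theorem helper6_tv_eq (v φ : Fin 3 → ZMod 3) (h : φ ⬝ᵥ v = 0) :
    helper6_tv v φ = ⟨tvM v φ, helper6_det_tvM v φ h⟩ := dif_pos h

theorem helper6_tv_coe (v φ : Fin 3 → ZMod 3) (h : φ ⬝ᵥ v = 0) :
    ((helper6_tv v φ : S33) : Matrix (Fin 3) (Fin 3) (ZMod 3)) = tvM v φ :=
  congrArg Subtype.val (helper6_tv_eq v φ h)

theorem helper6_Ept_mem_Fam_core (hT : helper6_TVa) (v : Fin 3 → ZMod 3) (hv : v ≠ 0) :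
    Ept v ∈ Fam S33 := by
  refine ⟨?_, ?_, ?_⟩
  · obtain ⟨m, hm⟩ : ∃ m : (Fin 3 → ZMod 3) → S33, ∀ φ, φ ⬝ᵥ v = 0 →
        ((m φ : S33) : Matrix (Fin 3) (Fin 3) (ZMod 3)) = tvM v φ :=
      ⟨fun φ => helper6_tv v φ, fun φ h => helper6_tv_coe v φ h⟩
    have himg : Ept v = m '' ((Finset.univ.filter
        (fun φ : Fin 3 → ZMod 3 => φ ≠ 0 ∧ φ ⬝ᵥ v = 0) : Finset _) : Set (Fin 3 → ZMod 3)) := by
      ext x
      simp only [Ept, Set.mem_ofPred_eq, Set.mem_image, Finset.coe_filter, Finset.mem_univ,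
        true_and]
      constructor
      · rintro ⟨φ, hφ, hφv, hx⟩
        exact ⟨φ, ⟨hφ, hφv⟩, Subtype.ext (by rw [hm φ hφv, hx])⟩
      · rintro ⟨φ, ⟨hφ, hφv⟩, rfl⟩
        exact ⟨φ, hφ, hφv, hm φ hφv⟩
    have hinj : Set.InjOn m ((Finset.univ.filter
        (fun φ : Fin 3 → ZMod 3 => φ ≠ 0 ∧ φ ⬝ᵥ v = 0) : Finset _) : Set (Fin 3 → ZMod 3)) := by
      intro φ hφ ψ hψ hmm
      simp only [Finset.coe_filter, Finset.mem_univ, true_and, Set.mem_ofPred_eq] at hφ hψ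
      have h1 : tvM v φ = tvM v ψ := by rw [← hm φ hφ.2, ← hm ψ hψ.2, hmm]
      simp only [tvM, add_right_inj] at h1
      exact helper6_vecMulVec_inj_right v φ ψ hv h1
    rw [himg, hinj.ncard_image, Set.ncard_coe_finset]
    exact helper6_count_perp v hv
  · rintro x ⟨φ, hφ, hφv, hx⟩
    exact hT v φ hv hφ hφv x hx
  · rintro x ⟨φ, hφ, hφv, hx⟩ y ⟨ψ, hψ, hψv, hy⟩
    apply Subtype.ext
    rw [Matrix.SpecialLinearGroup.coe_mul, Matrix.SpecialLinearGroup.coe_mul, hx, hy,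
      helper6_tvM_mul v φ v ψ hφv, helper6_tvM_mul v ψ v φ hψv]
    abel

theorem helper6_Eln_mem_Fam_core (hT : helper6_TVa) (φ : Fin 3 → ZMod 3) (hφ : φ ≠ 0) :
    Eln φ ∈ Fam S33 := by
  refine ⟨?_, ?_, ?_⟩
  · obtain ⟨m, hm⟩ : ∃ m : (Fin 3 → ZMod 3) → S33, ∀ v, φ ⬝ᵥ v = 0 →
        ((m v : S33) : Matrix (Fin 3) (Fin 3) (ZMod 3)) = tvM v φ :=
      ⟨fun v => helper6_tv v φ, fun v h => helper6_tv_coe v φ h⟩
    have himg : Eln φ = m '' ((Finset.univ.filter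
        (fun v : Fin 3 → ZMod 3 => v ≠ 0 ∧ φ ⬝ᵥ v = 0) : Finset _) : Set (Fin 3 → ZMod 3)) := by
      ext x
      simp only [Eln, Set.mem_ofPred_eq, Set.mem_image, Finset.coe_filter, Finset.mem_univ,
        true_and]
      constructor
      · rintro ⟨v, hv, hφv, hx⟩
        exact ⟨v, ⟨hv, hφv⟩, Subtype.ext (by rw [hm v hφv, hx])⟩
      · rintro ⟨v, ⟨hv, hφv⟩, rfl⟩
        exact ⟨v, hv, hφv, hm v hφv⟩
    have hinj : Set.InjOn m ((Finset.univ.filter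
        (fun v : Fin 3 → ZMod 3 => v ≠ 0 ∧ φ ⬝ᵥ v = 0) : Finset _) : Set (Fin 3 → ZMod 3)) := by
      intro v hv w hw hmm
      simp only [Finset.coe_filter, Finset.mem_univ, true_and, Set.mem_ofPred_eq] at hv hw
      have h1 : tvM v φ = tvM w φ := by rw [← hm v hv.2, ← hm w hw.2, hmm]
      simp only [tvM, add_right_inj] at h1
      exact helper6_vecMulVec_inj_left v w φ hφ h1
    rw [himg, hinj.ncard_image, Set.ncard_coe_finset]
    exact helper6_count_perp' φ hφ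
  · rintro x ⟨v, hv, hφv, hx⟩
    exact hT v φ hv hφ hφv x hx
  · rintro x ⟨v, hv, hφv, hx⟩ y ⟨w, hw, hφw, hy⟩
    apply Subtype.ext
    rw [Matrix.SpecialLinearGroup.coe_mul, Matrix.SpecialLinearGroup.coe_mul, hx, hy,
      helper6_tvM_mul v φ w φ hφw, helper6_tvM_mul w φ v φ hφv]
    abel

end Cfsg.Agent.Lib.helper6.CG33
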