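import Mathlib
import Cfsg.Agent.Lib.helper16.CG33Defs
import Cfsg.Agent.Lib.helper6.CG33_TVcore
import Cfsg.Agent.Lib.helper29.CG33_U27
import Cfsg.Agent.Lib.helper29.CG33_TRANS

/-!
# S3412 piece TVa
-/

set_option autoImplicit false

open Matrix
open Cfsg.Agent.Lib.helper16.CG33

namespace Cfsg.Agent.Lib.helper6.CG33

/-- PIECE TVa: transvections lie in `T` (conjugate to `x₀`, whose centralizer contains `U`). -/
theorem tvM_mem_T (v φ : Fin 3 → ZMod 3) (hv : v ≠ 0) (hφ : φ ≠ 0) (h : φ ⬝ᵥ v = 0) (x : S33)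
    (hx : (x : Matrix (Fin 3) (Fin 3) (ZMod 3)) = tvM v φ) : x ∈ T S33 :=
  helper6_tvM_mem_T_core Cfsg.Agent.Lib.helper29.CG33.exists_U
    Cfsg.Agent.Lib.helper29.CG33.exists_conj v φ hv hφ h x hx

end Cfsg.Agent.Lib.helper6.CG33
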