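import Mathlib
import Cfsg.Agent.Lib.helper16.CG33Defs
import Cfsg.Agent.Lib.helper6.CG33_TVcore
import Cfsg.Agent.Lib.helper6.CG33_TVa

/-!
# S3412 piece MEM
-/

set_option autoImplicit false

open Matrix
open Cfsg.Agent.Lib.helper16.CG33

namespace Cfsg.Agent.Lib.helper6.CG33

/-- PIECE MEM (1/2). -/
theorem Ept_mem_Fam (v : Fin 3 → ZMod 3) (hv : v ≠ 0) : Ept v ∈ Fam S33 :=
  helper6_Ept_mem_Fam_core tvM_mem_T v hv

/-- PIECE MEM (2/2). -/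
theorem Eln_mem_Fam (φ : Fin 3 → ZMod 3) (hφ : φ ≠ 0) : Eln φ ∈ Fam S33 :=
  helper6_Eln_mem_Fam_core tvM_mem_T φ hφ

end Cfsg.Agent.Lib.helper6.CG33
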