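import Mathlib
import Cfsg.Agent.Lib.helper16.CG33Defs
import Cfsg.Agent.Lib.helper6.CG33_TVcore
import Cfsg.Agent.Lib.helper29.CG33_U27

/-!
# S3412 piece TVb
-/

set_option autoImplicit false

open Matrix
open Cfsg.Agent.Lib.helper16.CG33

namespace Cfsg.Agent.Lib.helper6.CG33

/-- PIECE TVb: `T S33` consists of transvections (Sylow: a subgroup of order 27 of `C(x)` is
conjugate to `U`, so `x` is conjugate to an element of `C(U) = {1, x₀, x₀⁻¹}`). -/
theorem exists_of_mem_T (x : S33) (hx : x ∈ T S33) :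
    ∃ v φ : Fin 3 → ZMod 3, v ≠ 0 ∧ φ ≠ 0 ∧ φ ⬝ᵥ v = 0 ∧
      (x : Matrix (Fin 3) (Fin 3) (ZMod 3)) = tvM v φ :=
  helper6_exists_of_mem_T_core Cfsg.Agent.Lib.helper29.CG33.exists_U x hx

end Cfsg.Agent.Lib.helper6.CG33
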