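import Mathlib

/-!
# Isomorphisms from compatible permutation actions

`nonempty_mulEquiv_of_compat`: let `ρ : G →* Perm A` be injective, `φ : H →* Perm B`, `ι : A → B`
injective, `|H| ≤ |G|`, and assume every `g : G` has a partner `h : H` with
`φ h (ι a) = ι (ρ g a)` for all `a`. Then `G ≃* H`.
The set of `g` having a partner is a subgroup (`compatLeft`), so it is enough to check generators.

Also: `relPermHom X : Perm X →* Perm (X → X → Bool)` (action on binary relations) and
`funPermHom`.
-/

set_option autoImplicit false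

namespace Cfsg.Agent.Lib.helper6

section Compat

variable {G H A B : Type*} [Group G] [Group H]

/-- pairs `(g, h)` acting compatibly through `ι` -/
def compatSubgroup (ρ : G →* Equiv.Perm A) (φ : H →* Equiv.Perm B) (ι : A → B) :
    Subgroup (G × H) where
  carrier := {p | ∀ a, φ p.2 (ι a) = ι (ρ p.1 a)}
  one_mem' := fun a => by simp
  mul_mem' := by
    intro p q hp hq a
    simp only [Prod.snd_mul, Prod.fst_mul, map_mul, Equiv.Perm.coe_mul, Function.comp_apply]
    rw [hq, hp]
  inv_mem' := by
    intro p hp a
    simp only [Prod.snd_inv, Prod.fst_inv, map_inv]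
    rw [Equiv.Perm.inv_eq_iff_eq, hp]
    simp

theorem mem_compatSubgroup (ρ : G →* Equiv.Perm A) (φ : H →* Equiv.Perm B) (ι : A → B)
    (p : G × H) : p ∈ compatSubgroup ρ φ ι ↔ ∀ a, φ p.2 (ι a) = ι (ρ p.1 a) := Iff.rfl

/-- the elements of `G` having a compatible partner in `H` -/
def compatLeft (ρ : G →* Equiv.Perm A) (φ : H →* Equiv.Perm B) (ι : A → B) : Subgroup G :=
  (compatSubgroup ρ φ ι).map (MonoidHom.fst G H)

theorem mem_compatLeft (ρ : G →* Equiv.Perm A) (φ : H →* Equiv.Perm B) (ι : A → B) (g : G) :
    g ∈ compatLeft ρ φ ι ↔ ∃ h : H, ∀ a, φ h (ι a) = ι (ρ g a) := by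
  simp only [compatLeft, Subgroup.mem_map, MonoidHom.coe_fst, Prod.exists, exists_and_right,
    exists_eq_right, mem_compatSubgroup]

theorem nonempty_mulEquiv_of_compat [Finite G] [Finite H]
    (ρ : G →* Equiv.Perm A) (φ : H →* Equiv.Perm B) (ι : A → B)
    (hρ : Function.Injective ρ) (hι : Function.Injective ι)
    (hgen : compatLeft ρ φ ι = ⊤) (hcard : Nat.card H ≤ Nat.card G) :
    Nonempty (G ≃* H) := by
  classical
  set K := compatSubgroup ρ φ ι with hK
  let π1 : K →* G := (MonoidHom.fst G H).comp K.subtype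
  let π2 : K →* H := (MonoidHom.snd G H).comp K.subtype
  have hs1 : Function.Surjective π1 := by
    intro g
    have hg : g ∈ compatLeft ρ φ ι := by rw [hgen]; trivial
    obtain ⟨p, hp, rfl⟩ := Subgroup.mem_map.mp hg
    exact ⟨⟨p, hp⟩, rfl⟩
  have hi2 : Function.Injective π2 := by
    intro p q hpq
    have hpq' : p.1.2 = q.1.2 := hpq
    have h1 : p.1.1 = q.1.1 := by
      apply hρ
      ext a
      apply hι
      rw [← p.2 a, ← q.2 a, hpq']
    exact Subtype.ext (Prod.ext h1 hpq')
  have c1 : Nat.card G ≤ Nat.card K := Nat.card_le_card_of_surjective π1 hs1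
  have c2 : Nat.card K ≤ Nat.card H := Nat.card_le_card_of_injective π2 hi2
  have hb1 : Function.Bijective π1 := by
    rw [Nat.bijective_iff_surjective_and_card]
    exact ⟨hs1, by omega⟩
  have hb2 : Function.Bijective π2 := by
    rw [Nat.bijective_iff_injective_and_card]
    exact ⟨hi2, by omega⟩
  exact ⟨(MulEquiv.ofBijective π1 hb1).symm.trans (MulEquiv.ofBijective π2 hb2)⟩

end Compat

section RelPerm

variable (X : Type*)

/-- `Perm X` acts on binary relations on `X`. -/
def relPermHom (Y : Type*) : Equiv.Perm X →* Equiv.Perm (X → X → Y) where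
  toFun σ :=
    { toFun := fun E i j => E (σ⁻¹ i) (σ⁻¹ j)
      invFun := fun E i j => E (σ i) (σ j)
      left_inv := fun E => by funext i j; simp
      right_inv := fun E => by funext i j; simp }
  map_one' := by ext E i j; simp
  map_mul' σ τ := by ext E i j; simp [mul_inv_rev]

theorem relPermHom_apply (Y : Type*) (σ : Equiv.Perm X) (E : X → X → Y) (i j : X) :
    relPermHom X Y σ E i j = E (σ⁻¹ i) (σ⁻¹ j) := rfl

/-- `Perm X` acts on functions on `X`. -/
def funPermHom (Y : Type*) : Equiv.Perm X →* Equiv.Perm (X → Y) where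
  toFun σ :=
    { toFun := fun E i => E (σ⁻¹ i)
      invFun := fun E i => E (σ i)
      left_inv := fun E => by funext i; simp
      right_inv := fun E => by funext i; simp }
  map_one' := by ext E i; simp
  map_mul' σ τ := by ext E i; simp [mul_inv_rev]

theorem funPermHom_apply (Y : Type*) (σ : Equiv.Perm X) (E : X → Y) (i : X) :
    funPermHom X Y σ E i = E (σ⁻¹ i) := rfl

end RelPerm

section Transv

open Matrix

theorem transvection_nsmul {ι F : Type*} [DecidableEq ι] [Fintype ι] [Field F] {i j : ι}
    (hij : i ≠ j) (k : ℕ) (x : F) :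
    SpecialLinearGroup.transvection hij (k • x) = SpecialLinearGroup.transvection hij x ^ k := by
  induction k with
  | zero => simp [SpecialLinearGroup.transvection_coeff_zero]
  | succ k ih => rw [succ_nsmul, SpecialLinearGroup.transvection_add, ih, pow_succ]

end Transv

end Cfsg.Agent.Lib.helper6
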