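import Mathlib
import Cfsg.Agent.Lib.helper69.SL2Mult

/-!
# The kernel of a stem extension of `SL(2, 9)` is cyclic of order dividing 3

For a field `F` with 9 elements, the kernel of every finite stem extension of `SL(2, F)` is
generated by an element of order dividing 3.  Away from the prime 3 this is the Sylow argument of
`helper69` (cyclic and quaternion Sylow subgroups); at the prime 3 the commutator pairing on the
preimage of the unipotent subgroup is an alternating bi-additive pairing on the two-dimensional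
`F_3`-space `F`, hence has cyclic image of order dividing 3.
-/

set_option autoImplicit false

namespace Cfsg.Agent.Lib.helper6.SL29

open scoped commutatorElement
open Cfsg.Agent.Lib.helper69

/-- A field with 9 elements has characteristic 3. -/
theorem charP_three {F : Type*} [Field F] [Fintype F] (hF : Fintype.card F = 9) : CharP F 3 := by
  obtain ⟨p, hchar⟩ := CharP.exists F
  obtain ⟨n, hp, hq⟩ := @FiniteField.card F _ _ p hchar
  have hp3 : p = 3 := by
    have h1 : p ∣ 9 := by rw [← hF, hq]; exact dvd_pow_self p n.ne_zero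
    have h2 : p ∣ 3 := by
      have e : (9 : ℕ) = 3 ^ 2 := by norm_num
      rw [e] at h1
      exact hp.dvd_of_dvd_pow h1
    exact (Nat.prime_dvd_prime_iff_eq hp Nat.prime_three).mp h2
  rw [← hp3]
  exact hchar

/-- A field with 9 elements is spanned over the natural numbers by two elements, and is killed
by 3. -/
theorem exists_basis9 {F : Type*} [Field F] [Fintype F] (hF : Fintype.card F = 9) :
    (∀ s : F, (3 : ℕ) • s = 0) ∧ ∃ e₁ e₂ : F, ∀ s : F, ∃ a b : ℕ, s = a • e₁ + b • e₂ := by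
  have hchar : CharP F 3 := charP_three hF
  have hfact : Fact (Nat.Prime 3) := ⟨Nat.prime_three⟩
  let alg : Algebra (ZMod 3) F := ZMod.algebra F 3
  have hfr : Module.finrank (ZMod 3) F = 2 := by
    have h := FiniteField.pow_finrank_eq_card 3 F
    rw [hF] at h
    have h' : (3 : ℕ) ^ Module.finrank (ZMod 3) F = 3 ^ 2 := by rw [h]; norm_num
    exact Nat.pow_right_injective (by norm_num) h'
  refine ⟨?_, ?_⟩
  · intro s
    rw [nsmul_eq_mul, CharP.cast_eq_zero F 3, zero_mul]
  · let b := Module.finBasisOfFinrankEq (ZMod 3) F hfr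
    have key : ∀ (c : ZMod 3) (x : F), c • x = c.val • x := by
      intro c x
      rw [← Nat.cast_smul_eq_nsmul (ZMod 3), ZMod.natCast_zmod_val]
    refine ⟨b 0, b 1, fun s => ⟨(b.repr s 0).val, (b.repr s 1).val, ?_⟩⟩
    have h := b.sum_repr s
    rw [Fin.sum_univ_two] at h
    rw [← key, ← key]
    exact h.symm

/-- An alternating bi-additive pairing on a field with 9 elements has cyclic image generated by
a value of order dividing 3. -/
theorem pairing_cyclic {F Γ : Type*} [Field F] [Fintype F] (hF : Fintype.card F = 9) [Group Γ]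
    (B : F → F → Γ)
    (hl : ∀ s s' t, B (s + s') t = B s t * B s' t) (hr : ∀ s t t', B s (t + t') = B s t * B s t')
    (halt : ∀ s, B s s = 1) :
    ∃ s₀ t₀ : F, B s₀ t₀ ^ 3 = 1 ∧ ∀ s t, ∃ j : ℤ, B s t = B s₀ t₀ ^ j := by
  obtain ⟨h3, e₁, e₂, hspan⟩ := exists_basis9 hF
  have hB0l : ∀ t, B 0 t = 1 := by
    intro t
    have h := hl 0 0 t
    rw [add_zero] at h
    have h' : B 0 t * 1 = B 0 t * B 0 t := by rw [mul_one]; exact h
    exact (mul_left_cancel h').symm
  have hB0r : ∀ s, B s 0 = 1 := by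
    intro s
    have h := hr s 0 0
    rw [add_zero] at h
    have h' : B s 0 * 1 = B s 0 * B s 0 := by rw [mul_one]; exact h
    exact (mul_left_cancel h').symm
  have hnl : ∀ (n : ℕ) s t, B (n • s) t = B s t ^ n := by
    intro n s t
    induction n with
    | zero => rw [zero_smul, pow_zero]; exact hB0l t
    | succ n ih => rw [succ_nsmul, hl, ih, pow_succ]
  have hnr : ∀ (n : ℕ) s t, B s (n • t) = B s t ^ n := by
    intro n s t
    induction n with
    | zero => rw [zero_smul, pow_zero]; exact hB0r s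
    | succ n ih => rw [succ_nsmul, hr, ih, pow_succ]
  have h21 : B e₂ e₁ = (B e₁ e₂)⁻¹ := by
    have h := halt (e₁ + e₂)
    rw [hl, hr, hr, halt, halt, one_mul, mul_one] at h
    exact eq_inv_of_mul_eq_one_right h
  refine ⟨e₁, e₂, ?_, ?_⟩
  · rw [← hnl, h3, hB0l]
  · intro s t
    obtain ⟨a, b, rfl⟩ := hspan s
    obtain ⟨c, d, rfl⟩ := hspan t
    refine ⟨((d * a : ℕ) : ℤ) - ((c * b : ℕ) : ℤ), ?_⟩
    have e1 : B (a • e₁ + b • e₂) (c • e₁ + d • e₂) =
        (B e₁ e₂ ^ d) ^ a * ((B e₁ e₂)⁻¹ ^ c) ^ b := by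
      rw [hl, hnl, hnl, hr, hr, hnr, hnr, hnr, hnr, halt, halt, h21]
      simp only [one_pow, one_mul, mul_one]
    rw [e1, zpow_sub, zpow_natCast, zpow_natCast, ← pow_mul, ← pow_mul, inv_pow]

/-- For a prime `r` other than the characteristic: the preimage of a Sylow `r`-subgroup of
`SL(2, F)` has index prime to `r` and its commutator meets the kernel trivially (the Sylow
argument of `helper69`). -/
theorem exists_sylow_preimage {F : Type*} [Field F] [Fintype F] (p : ℕ) [Fact p.Prime] [CharP F p]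
    {Γ : Type*} [Group Γ] [Finite Γ] (σ : Γ →* Matrix.SpecialLinearGroup (Fin 2) F)
    (hσ : Cfsg.IsStemExtension σ) (r : ℕ) (hr : r.Prime) (hrp : r ≠ p) :
    ∃ E : Subgroup Γ, σ.ker ≤ E ∧ ¬ r ∣ E.index ∧ ∀ w ∈ σ.ker, w ∈ ⁅E, E⁆ → w = 1 := by
  classical
  have hrfact : Fact r.Prime := ⟨hr⟩
  have hsurj := hσ.1
  have hcent := hσ.2.1
  have hp : p.Prime := Fact.out
  have hp2F : (2 : F) = 0 ↔ p = 2 := by
    have e : (2 : F) = ((2 : ℕ) : F) := by norm_num
    rw [e, CharP.cast_eq_zero_iff F p 2]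
    exact Nat.prime_dvd_prime_iff_eq hp Nat.prime_two
  obtain ⟨P⟩ : Nonempty (Sylow r (Matrix.SpecialLinearGroup (Fin 2) F)) := inferInstance
  refine ⟨(P : Subgroup (Matrix.SpecialLinearGroup (Fin 2) F)).comap σ, ?_, ?_, ?_⟩
  · intro x hx
    rw [Subgroup.mem_comap, MonoidHom.mem_ker.mp hx]
    exact Subgroup.one_mem _
  · rw [Subgroup.index_comap_of_surjective _ hsurj]
    exact P.not_dvd_index
  · by_cases hr2 : r = 2
    · subst hr2
      have h2F : (2 : F) ≠ 0 := fun h => hrp (hp2F.mp h).symm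
      rcases sl2_two_subgroup h2F (P : Subgroup (Matrix.SpecialLinearGroup (Fin 2) F)) P.2 with
        hcyc | ⟨m, ⟨e⟩⟩
      · exact eq_one_of_mem_commutator_comap_of_isCyclic σ hcent _
      · apply eq_one_of_mem_commutator_comap
        intro z hz hz1
        refine eq_one_of_mem_commutator_of_quaternion (2 ^ m)
          (e.toMonoidHom.comp (σ.subgroupComap (P : Subgroup (Matrix.SpecialLinearGroup (Fin 2) F))))
          ?_ ?_ z hz ?_
        · exact e.surjective.comp (MonoidHom.subgroupComap_surjective_of_surjective σ _ hsurj)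
        · intro x hx
          rw [MonoidHom.mem_ker, MonoidHom.comp_apply] at hx
          have hx1 : (σ.subgroupComap (P : Subgroup (Matrix.SpecialLinearGroup (Fin 2) F))) x = 1 :=
            e.injective (by rw [map_one]; exact hx)
          have hx2 : (x : Γ) ∈ σ.ker := by
            rw [MonoidHom.mem_ker]
            exact congrArg Subtype.val hx1
          have hx3 := hcent hx2
          rw [Subgroup.mem_center_iff] at hx3 ⊢
          intro g
          exact Subtype.ext (hx3 g)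
        · rw [MonoidHom.mem_ker, MonoidHom.comp_apply, hz1]
          exact map_one _
    · have hcyc : IsCyclic (P : Subgroup (Matrix.SpecialLinearGroup (Fin 2) F)) :=
        isCyclic_sl2_of_isPGroup_odd p r hr2 hrp _ P.2
      exact eq_one_of_mem_commutator_comap_of_isCyclic σ hcent _

/-- The kernel of a finite stem extension of `SL(2, F)`, `|F| = 9`, is generated by an element
of order dividing 3. -/
theorem stem_ker_cyclic {F : Type*} [Field F] [Fintype F] (hF : Fintype.card F = 9)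
    {Γ : Type*} [Group Γ] [Finite Γ] (σ : Γ →* Matrix.SpecialLinearGroup (Fin 2) F)
    (hσ : Cfsg.IsStemExtension σ) :
    ∃ κ : Γ, κ ∈ σ.ker ∧ κ ^ 3 = 1 ∧ ∀ x ∈ σ.ker, ∃ j : ℤ, x = κ ^ j := by
  classical
  have hchar : CharP F 3 := charP_three hF
  have hfact : Fact (Nat.Prime 3) := ⟨Nat.prime_three⟩
  obtain ⟨hsurj, hcent, hstem⟩ := hσ
  obtain ⟨ℓ, hℓ⟩ := hsurj.hasRightInverse
  have hucomm : ∀ s t : F, sl2U s * sl2U t = sl2U t * sl2U s := by
    intro s t
    rw [← sl2U_add, ← sl2U_add, add_comm]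
  have hcen : ∀ x y : Γ, σ x ∈ Set.range (sl2U : F → Matrix.SpecialLinearGroup (Fin 2) F) →
      σ y ∈ Set.range (sl2U : F → Matrix.SpecialLinearGroup (Fin 2) F) →
      ⁅x, y⁆ ∈ Subgroup.center Γ := by
    rintro x y ⟨s, hs⟩ ⟨t, ht⟩
    apply commutatorElement_mem_center_of_central σ hcent
    rw [← hs, ← ht]
    exact hucomm s t
  obtain ⟨s₀, t₀, hκ3, hκgen⟩ := pairing_cyclic hF (fun s t : F => ⁅ℓ (sl2U s), ℓ (sl2U t)⁆)
    (by
      intro s s' t
      show ⁅ℓ (sl2U (s + s')), ℓ (sl2U t)⁆ = ⁅ℓ (sl2U s), ℓ (sl2U t)⁆ * ⁅ℓ (sl2U s'), ℓ (sl2U t)⁆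
      rw [← stem_commutatorElement_mul_left _ _ _
        (hcen _ _ ⟨s', (hℓ _).symm⟩ ⟨t, (hℓ _).symm⟩)]
      apply commutatorElement_congr_of_central σ hcent
      · rw [map_mul, hℓ, hℓ, hℓ, sl2U_add]
      · rfl)
    (by
      intro s t t'
      show ⁅ℓ (sl2U s), ℓ (sl2U (t + t'))⁆ = ⁅ℓ (sl2U s), ℓ (sl2U t)⁆ * ⁅ℓ (sl2U s), ℓ (sl2U t')⁆
      rw [← stem_commutatorElement_mul_right _ _ _
        (hcen _ _ ⟨s, (hℓ _).symm⟩ ⟨t', (hℓ _).symm⟩)]
      apply commutatorElement_congr_of_central σ hcent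
      · rfl
      · rw [map_mul, hℓ, hℓ, hℓ, sl2U_add])
    (fun s => commutatorElement_self _)
  have hκker : ⁅ℓ (sl2U s₀), ℓ (sl2U t₀)⁆ ∈ σ.ker := by
    rw [MonoidHom.mem_ker, map_commutatorElement, hℓ, hℓ, commutatorElement_eq_one_iff_mul_comm]
    exact hucomm s₀ t₀
  have hkE : σ.ker ≤ (sl2USub : Subgroup (Matrix.SpecialLinearGroup (Fin 2) F)).comap σ := by
    intro x hx
    rw [Subgroup.mem_comap, MonoidHom.mem_ker.mp hx]
    exact Subgroup.one_mem _
  have hEidx : ¬ 3 ∣ ((sl2USub : Subgroup (Matrix.SpecialLinearGroup (Fin 2) F)).comap σ).index := by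
    rw [Subgroup.index_comap_of_surjective _ hsurj]
    exact not_dvd_index_sl2USub 3 2 Nat.prime_three (by norm_num) (by rw [hF]; norm_num)
  have hEcomm : ⁅(sl2USub : Subgroup (Matrix.SpecialLinearGroup (Fin 2) F)).comap σ,
      (sl2USub : Subgroup (Matrix.SpecialLinearGroup (Fin 2) F)).comap σ⁆ ≤
      Subgroup.zpowers ⁅ℓ (sl2U s₀), ℓ (sl2U t₀)⁆ := by
    rw [Subgroup.commutator_le]
    intro g₁ hg₁ g₂ hg₂
    rw [Subgroup.mem_comap, mem_sl2USub] at hg₁ hg₂
    obtain ⟨s, hs⟩ := hg₁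
    obtain ⟨t, ht⟩ := hg₂
    have e : ⁅g₁, g₂⁆ = ⁅ℓ (sl2U s), ℓ (sl2U t)⁆ := by
      apply commutatorElement_congr_of_central σ hcent
      · rw [hℓ, hs]
      · rw [hℓ, ht]
    obtain ⟨j, hj⟩ := hκgen s t
    rw [e, Subgroup.mem_zpowers_iff]
    exact ⟨j, hj.symm⟩
  refine ⟨⁅ℓ (sl2U s₀), ℓ (sl2U t₀)⁆, hκker, hκ3, ?_⟩
  intro w hw
  have hord : ∀ r : ℕ, r.Prime → r ∣ orderOf w → r = 3 := by
    intro r hr hrd
    by_contra hr3
    obtain ⟨E', hkE', hidx, hE'⟩ := exists_sylow_preimage 3 σ ⟨hsurj, hcent, hstem⟩ r hr hr3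
    have hz1 : w ^ E'.index = 1 :=
      hE' _ (Subgroup.pow_mem _ hw _)
        (pow_index_mem_commutator_of_center E' w (hcent hw) (hstem hw) (hkE' hw))
    exact hidx (hrd.trans (orderOf_dvd_of_pow_eq_one hz1))
  have hcop : (((sl2USub : Subgroup (Matrix.SpecialLinearGroup (Fin 2) F)).comap σ).index).Coprime
      (orderOf w) := by
    have hpos : orderOf w ≠ 0 := (orderOf_pos w).ne'
    have h := Nat.eq_prime_pow_of_unique_prime_dvd hpos (fun {d} hd hdd => hord d hd hdd)
    rw [h]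
    exact Nat.Coprime.pow_right _
      ((Nat.Prime.coprime_iff_not_dvd Nat.prime_three).mpr hEidx).symm
  obtain ⟨m, hm⟩ := exists_pow_eq_self_of_coprime hcop
  have hmem := hEcomm (pow_index_mem_commutator_of_center _ w (hcent hw) (hstem hw) (hkE hw))
  obtain ⟨j, hj⟩ := Subgroup.mem_zpowers_iff.mp hmem
  refine ⟨j * m, ?_⟩
  rw [zpow_mul, hj, zpow_natCast, hm]

end Cfsg.Agent.Lib.helper6.SL29
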