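import Mathlib
import Cfsg.Prelude.Def_KGroupFacts
import Cfsg.Agent.S1611
import Cfsg.Agent.S0254
import Cfsg.Agent.Lib.helper7.CardSL
import Cfsg.Agent.Lib.helper6.SL29Upper

/-!
# A central extension of `SL(2, 9)` with an element of order 3 in kernel ∩ commutator

The monomial automorphism group `hexT` of the hexacode is a triple cover of the alternating group
of degree 6 (`S1611` of `helper34`).  Its fiber product with `SL(2, 9) → PSL(2, 9) ≅ A₆` is a
central extension of `SL(2, 9)` whose kernel meets the commutator subgroup in an element of order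
3.
-/

set_option autoImplicit false

universe u

namespace Cfsg.Agent.Lib.helper6.SL29

open scoped commutatorElement
open Cfsg Cfsg.Agent.Lib.helper34

/-! ### Fiber products -/

section Fiber

variable {G A T : Type*} [Group G] [Group A] [Group T]

/-- The fiber product of two homomorphisms to `A`. -/
def fiber (q : G →* A) (β : T →* A) : Subgroup (G × T) :=
  (q.comp (MonoidHom.fst G T)).eqLocus (β.comp (MonoidHom.snd G T))

theorem mem_fiber (q : G →* A) (β : T →* A) (x : G × T) : x ∈ fiber q β ↔ q x.1 = β x.2 :=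
  Iff.rfl

/-- The projection of the fiber product to the first factor. -/
def fiberFst (q : G →* A) (β : T →* A) : fiber q β →* G :=
  (MonoidHom.fst G T).comp (fiber q β).subtype

theorem fiberFst_surjective (q : G →* A) (β : T →* A) (hβ : Function.Surjective β) :
    Function.Surjective (fiberFst q β) := by
  intro g
  obtain ⟨t, ht⟩ := hβ (q g)
  exact ⟨⟨(g, t), ht.symm⟩, rfl⟩

theorem fiberFst_ker_le_center (q : G →* A) (β : T →* A) (hβk : β.ker ≤ Subgroup.center T) :
    (fiberFst q β).ker ≤ Subgroup.center (fiber q β) := by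
  intro x hx
  have h1 : x.1.1 = 1 := hx
  have h2 : x.1.2 ∈ β.ker := by
    rw [MonoidHom.mem_ker]
    have h := (mem_fiber q β x.1).mp x.2
    rw [h1, map_one] at h
    exact h.symm
  have h3 := hβk h2
  rw [Subgroup.mem_center_iff] at h3 ⊢
  intro y
  apply Subtype.ext
  apply Prod.ext
  · show y.1.1 * x.1.1 = x.1.1 * y.1.1
    rw [h1, mul_one, one_mul]
  · exact h3 y.1.2

theorem exists_order_three (q : G →* A) (hq : Function.Surjective q)
    (hqk : ∀ g, q g = 1 → g ^ 2 = 1) (β : T →* A) (hβ3 : ∀ t ∈ β.ker, t ^ 3 = 1) (b b' : T)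
    (hcomm : β b * β b' = β b' * β b) (hne : b * b' ≠ b' * b) :
    ∃ ω : fiber q β, ω ∈ (fiberFst q β).ker ⊓ commutator (fiber q β) ∧
      ∀ j : ℕ, ω ^ j = 1 → 3 ∣ j := by
  obtain ⟨a, ha⟩ := hq (β b)
  obtain ⟨a', ha'⟩ := hq (β b')
  have hzk : ⁅b, b'⁆ ∈ β.ker := by
    rw [MonoidHom.mem_ker, map_commutatorElement, commutatorElement_eq_one_iff_mul_comm]
    exact hcomm
  have hz3 := hβ3 _ hzk
  have hz1 : ⁅b, b'⁆ ≠ 1 := by
    rw [Ne, commutatorElement_eq_one_iff_mul_comm]
    exact hne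
  have hw : ⁅a, a'⁆ ^ 2 = 1 := by
    apply hqk
    rw [map_commutatorElement, ha, ha', ← map_commutatorElement]
    exact hzk
  have hd : (⁅(⟨(a, b), ha⟩ : fiber q β), (⟨(a', b'), ha'⟩ : fiber q β)⁆) ^ 4 ∈
      commutator (fiber q β) := by
    apply Subgroup.pow_mem
    rw [commutator_def]
    exact Subgroup.commutator_mem_commutator (Subgroup.mem_top _) (Subgroup.mem_top _)
  have hval : (((⁅(⟨(a, b), ha⟩ : fiber q β), (⟨(a', b'), ha'⟩ : fiber q β)⁆) ^ 4 :
      fiber q β) : G × T) = (1, ⁅b, b'⁆) := by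
    have e1 : ((⁅(⟨(a, b), ha⟩ : fiber q β), (⟨(a', b'), ha'⟩ : fiber q β)⁆ : fiber q β) :
        G × T) = (⁅a, a'⁆, ⁅b, b'⁆) := rfl
    have e2 : ⁅a, a'⁆ ^ 4 = 1 := by
      rw [show 4 = 2 * 2 from rfl, pow_mul, hw, one_pow]
    have e3 : ⁅b, b'⁆ ^ 4 = ⁅b, b'⁆ := by
      rw [show 4 = 3 + 1 from rfl, pow_add, hz3, one_mul, pow_one]
    rw [Subgroup.coe_pow, e1, Prod.pow_mk, e2, e3]
  refine ⟨⁅(⟨(a, b), ha⟩ : fiber q β), (⟨(a', b'), ha'⟩ : fiber q β)⁆ ^ 4,
    Subgroup.mem_inf.mpr ⟨?_, hd⟩, ?_⟩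
  · rw [MonoidHom.mem_ker]
    show (((⁅(⟨(a, b), ha⟩ : fiber q β), (⟨(a', b'), ha'⟩ : fiber q β)⁆) ^ 4 :
      fiber q β) : G × T).1 = 1
    rw [hval]
  · intro j hj
    have h1 := congrArg (fun w : fiber q β => (w : G × T).2) hj
    simp only [Subgroup.coe_pow, hval, Prod.pow_mk, Subgroup.coe_one, Prod.snd_one] at h1
    have h3 : orderOf ⁅b, b'⁆ = 3 := orderOf_eq_prime hz3 hz1
    rw [← h3]
    exact orderOf_dvd_of_pow_eq_one h1

end Fiber

/-! ### The monomial automorphism group of the hexacode -/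

section Hex

variable (K : Type) [Field K] [Fintype K] [DecidableEq K] (ω : K)

/-- The group of monomial transformations of `K ^ 6`. -/
abbrev MonoW : Type :=
  (Fin 6 → Kˣ) ⋊[(mulAutArrow : Equiv.Perm (Fin 6) →* MulAut (Fin 6 → Kˣ))] Equiv.Perm (Fin 6)

omit [Fintype K] [DecidableEq K] in
theorem arrow_apply (σ : Equiv.Perm (Fin 6)) (d : Fin 6 → Kˣ) (i : Fin 6) :
    (mulAutArrow (G := Equiv.Perm (Fin 6)) (A := Fin 6) (M := Kˣ) σ d) i = d (σ.symm i) := rfl

/-- The monomial automorphism group of the hexacode. -/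
def hexT : Subgroup (MonoW K) where
  carrier := {w | MValid (hexacode K ω) w.right w.left}
  mul_mem' := by
    intro a b ha hb
    exact mvalid_mul ha hb
  one_mem' := mvalid_one _
  inv_mem' := by
    intro a ha
    exact mvalid_inv ha

variable {K} {ω}

theorem hexT_right_mem (hK : Fintype.card K = 4) (hω : ω ^ 2 + ω + 1 = 0) (t : hexT K ω) :
    t.1.right ∈ alternatingGroup (Fin 6) := by
  have h3 := (Cfsg.Agent.S1611.result K hK ω hω).2.2
  have h : t.1.right ∈ {σ : Equiv.Perm (Fin 6) | ∃ c : Fin 6 → Kˣ,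
      ∀ x ∈ hexacode K ω, monomialMap σ c x ∈ hexacode K ω} := ⟨t.1.left, t.2⟩
  rw [h3] at h
  exact h

/-- The projection of the hexacode group onto the alternating group of degree 6. -/
def hexβ (hK : Fintype.card K = 4) (hω : ω ^ 2 + ω + 1 = 0) :
    hexT K ω →* alternatingGroup (Fin 6) :=
  (SemidirectProduct.rightHom.comp (hexT K ω).subtype).codRestrict (alternatingGroup (Fin 6))
    (hexT_right_mem hK hω)

theorem hexβ_val (hK : Fintype.card K = 4) (hω : ω ^ 2 + ω + 1 = 0) (t : hexT K ω) :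
    ((hexβ hK hω t : alternatingGroup (Fin 6)) : Equiv.Perm (Fin 6)) = t.1.right := rfl

theorem hexβ_surjective (hK : Fintype.card K = 4) (hω : ω ^ 2 + ω + 1 = 0) :
    Function.Surjective (hexβ hK hω) := by
  intro a
  have h3 := (Cfsg.Agent.S1611.result K hK ω hω).2.2
  have h : (a : Equiv.Perm (Fin 6)) ∈ {σ : Equiv.Perm (Fin 6) | ∃ c : Fin 6 → Kˣ,
      ∀ x ∈ hexacode K ω, monomialMap σ c x ∈ hexacode K ω} := by
    rw [h3]
    exact a.2
  obtain ⟨c, hc⟩ := h
  exact ⟨⟨⟨c, a.1⟩, hc⟩, Subtype.ext rfl⟩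

theorem right_of_mem_ker (hK : Fintype.card K = 4) (hω : ω ^ 2 + ω + 1 = 0) {t : hexT K ω}
    (ht : t ∈ (hexβ hK hω).ker) : t.1.right = 1 := by
  rw [MonoidHom.mem_ker] at ht
  have h := congrArg Subtype.val ht
  rw [hexβ_val] at h
  exact h

theorem hexβ_ker_pow (hK : Fintype.card K = 4) (hω : ω ^ 2 + ω + 1 = 0) (t : hexT K ω)
    (ht : t ∈ (hexβ hK hω).ker) : t ^ 3 = 1 := by
  have hr := right_of_mem_ker hK hω ht
  have e : t.1 = SemidirectProduct.inl t.1.left := by
    ext1
    · rfl
    · rw [hr]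
      rfl
  have h3 : t.1.left ^ 3 = 1 := by
    funext i
    have hc : Nat.card Kˣ = 3 := by
      rw [Nat.card_units, Nat.card_eq_fintype_card, hK]
    have h := pow_card_eq_one' (G := Kˣ) (x := t.1.left i)
    rw [hc] at h
    exact h
  apply Subtype.ext
  rw [Subgroup.coe_pow, e, ← map_pow, h3, map_one]
  rfl

theorem hexβ_ker_le_center (hK : Fintype.card K = 4) (hω : ω ^ 2 + ω + 1 = 0) :
    (hexβ hK hω).ker ≤ Subgroup.center (hexT K ω) := by
  intro t ht
  have hr := right_of_mem_ker hK hω ht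
  have hconst : ∀ i j, t.1.left i = t.1.left j := by
    have h2 := (Cfsg.Agent.S1611.result K hK ω hω).2.1
    apply h2
    have h := t.2
    have h' : MValid (hexacode K ω) t.1.right t.1.left := h
    rw [hr] at h'
    exact h'
  rw [Subgroup.mem_center_iff]
  intro s
  apply Subtype.ext
  show s.1 * t.1 = t.1 * s.1
  ext1
  · funext i
    rw [SemidirectProduct.mul_left, SemidirectProduct.mul_left, hr, map_one, Pi.mul_apply,
      Pi.mul_apply, arrow_apply, hconst (s.1.right.symm i) i, mul_comm]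
    rfl
  · rw [SemidirectProduct.mul_right, SemidirectProduct.mul_right, hr, mul_one, one_mul]

end Hex

/-! ### Two non-commuting lifts of commuting 3-cycles -/

section Elements

variable {K : Type} [Field K] [Fintype K] [DecidableEq K] {ω : K}

omit [Fintype K] in
theorem unpackc_val (h2 : (2 : K) = 0) (hω : ω ^ 2 + ω + 1 = 0) {cw : ℕ} (hnz : nzd cw = true)
    (i : Fin 6) : ((unpackc ω cw i : Kˣ) : K) = g4 ω (d4 cw i.1) := by
  have hb := allBelow_spec hnz i.1 i.2
  have hd : d4 cw i.1 ≠ 0 := by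
    intro h0
    rw [h0] at hb
    exact absurd hb (by decide)
  have hne := g4_ne_zero h2 hω (d4_lt cw i.1) hd
  unfold unpackc
  rw [dif_neg hne]
  rfl

/-- The element of the hexacode group with permutation tables `t`, `ti` and packed scalars
`cw`. -/
noncomputable def hexElt (hK : Fintype.card K = 4) (hω : ω ^ 2 + ω + 1 = 0) (t ti cw : ℕ)
    (hok : okTab t ti = true) (hlt : cw < 4096) (hnz : nzd cw = true)
    (hchk : chkV ti cw = true) : hexT K ω :=
  ⟨⟨unpackc ω cw, sig t ti⟩, mvalid_of_chk hK hω (sig t ti) ti (sig_symm_apply hok)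
    (unpackc ω cw) (by rw [packc_unpackc (two_eq_zero_of_card hK) hω hlt hnz]; exact hchk)⟩

theorem exists_noncomm (hK : Fintype.card K = 4) (hω : ω ^ 2 + ω + 1 = 0) :
    ∃ b b' : hexT K ω, hexβ hK hω b * hexβ hK hω b' = hexβ hK hω b' * hexβ hK hω b ∧
      b * b' ≠ b' * b := by
  have h2 := two_eq_zero_of_card hK
  have ok1 : okTab 181777 181826 = true := by decide +kernel
  have ok2 : okTab 120968 146056 = true := by decide +kernel
  have nz1 : nzd 2901 = true := by decide +kernel
  have nz2 : nzd 4089 = true := by decide +kernel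
  have ck1 : chkV 181826 2901 = true := by decide +kernel
  have ck2 : chkV 146056 4089 = true := by decide +kernel
  refine ⟨hexElt hK hω 181777 181826 2901 ok1 (by norm_num) nz1 ck1,
    hexElt hK hω 120968 146056 4089 ok2 (by norm_num) nz2 ck2, ?_, ?_⟩
  · apply Subtype.ext
    show sig 181777 181826 * sig 120968 146056 = sig 120968 146056 * sig 181777 181826
    apply Equiv.ext
    intro i
    apply Fin.ext
    rw [Equiv.Perm.mul_apply, Equiv.Perm.mul_apply, sig_apply ok1, sig_apply ok2, sig_apply ok2,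
      sig_apply ok1]
    revert i
    decide +kernel
  · intro h
    have h1 := congrArg (fun w : hexT K ω => ((w.1.left 0 : Kˣ) : K)) h
    have hs1 : (sig 181777 181826).symm 0 = 2 := by
      apply Fin.ext
      rw [sig_symm_apply ok1]
      decide +kernel
    have hs2 : (sig 120968 146056).symm 0 = 0 := by
      apply Fin.ext
      rw [sig_symm_apply ok2]
      decide +kernel
    have e1 : ((unpackc ω 2901 0 : Kˣ) : K) * ((unpackc ω 4089 ((sig 181777 181826).symm 0) : Kˣ) : K)
        = ((unpackc ω 4089 0 : Kˣ) : K) * ((unpackc ω 2901 ((sig 120968 146056).symm 0) : Kˣ) : K) := by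
      rw [← Units.val_mul, ← Units.val_mul]
      exact h1
    rw [hs1, hs2, unpackc_val h2 hω nz1, unpackc_val h2 hω nz2, unpackc_val h2 hω nz2] at e1
    have d1 : d4 2901 (0 : Fin 6).1 = 1 := by decide +kernel
    have d2 : d4 4089 (2 : Fin 6).1 = 3 := by decide +kernel
    have d3 : d4 4089 (0 : Fin 6).1 = 1 := by decide +kernel
    rw [d1, d2, d3, ← g4_mul h2 hω (by norm_num) (by norm_num),
      ← g4_mul h2 hω (by norm_num) (by norm_num)] at e1
    have e2 := g4_inj h2 hω (mul4_lt _ _) (mul4_lt _ _) e1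
    exact absurd e2 (by decide +kernel)

end Elements

/-- A field with four elements has a root of `X² + X + 1`. -/
theorem exists_omega {K : Type*} [Field K] [Fintype K] (hK : Fintype.card K = 4) :
    ∃ ω : K, ω ^ 2 + ω + 1 = 0 := by
  classical
  have hex : ∃ x : K, x ≠ 0 ∧ x ≠ 1 := by
    by_contra hcon
    have hsub : (Finset.univ : Finset K) ⊆ {0, 1} := by
      intro x _
      by_cases h0 : x = 0
      · simp [h0]
      · have h1 : x = 1 := by
          by_contra h1
          exact hcon ⟨x, h0, h1⟩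
        simp [h1]
    have h1 := Finset.card_le_card hsub
    rw [Finset.card_univ, hK] at h1
    have h2 : ({0, 1} : Finset K).card ≤ 2 := Finset.card_le_two
    omega
  obtain ⟨x, h0, h1⟩ := hex
  refine ⟨x, ?_⟩
  have h3 : x ^ 3 = 1 := by
    have h := FiniteField.pow_card_sub_one_eq_one x h0
    rwa [hK] at h
  have h4 : (x - 1) * (x ^ 2 + x + 1) = 0 := by
    have e : (x - 1) * (x ^ 2 + x + 1) = x ^ 3 - 1 := by ring
    rw [e, h3, sub_self]
  rcases mul_eq_zero.mp h4 with h | h
  · exact absurd (sub_eq_zero.mp h) h1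
  · exact h

/-- A central extension of `SL(2, F)`, `|F| = 9`, with an element of order 3 in the intersection
of the kernel and the commutator subgroup. -/
theorem exists_cover {F : Type u} [Field F] [Fintype F] (hF : Fintype.card F = 9) :
    ∃ (Δ : Type u) (_ : Group Δ) (τ : Δ →* Matrix.SpecialLinearGroup (Fin 2) F),
      Function.Surjective τ ∧ τ.ker ≤ Subgroup.center Δ ∧
      ∃ ω : Δ, ω ∈ τ.ker ⊓ commutator Δ ∧ ∀ j : ℕ, ω ^ j = 1 → 3 ∣ j := by
  classical
  have instFin : Fintype (GaloisField 2 2) := Fintype.ofFinite (GaloisField 2 2)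
  have hK : Fintype.card (GaloisField 2 2) = 4 := by
    rw [← Nat.card_eq_fintype_card, GaloisField.card 2 2 (by norm_num)]
    norm_num
  obtain ⟨ω, hω⟩ := exists_omega hK
  obtain ⟨e⟩ := Cfsg.Agent.S0254.result hF
  have hchar := charP_three hF
  have h2 : (2 : F) ≠ 0 := by
    have e2 : (2 : F) = ((2 : ℕ) : F) := by norm_num
    rw [e2, Ne, CharP.cast_eq_zero_iff F 3 2]
    norm_num
  let q : Matrix.SpecialLinearGroup (Fin 2) F →* alternatingGroup (Fin 6) :=
    e.toMonoidHom.comp (QuotientGroup.mk' (Subgroup.center (Matrix.SpecialLinearGroup (Fin 2) F)))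
  have hq : Function.Surjective q := e.surjective.comp (QuotientGroup.mk'_surjective _)
  have hqk : ∀ g, q g = 1 → g ^ 2 = 1 := by
    intro g hg
    have h1 : (QuotientGroup.mk' (Subgroup.center (Matrix.SpecialLinearGroup (Fin 2) F))) g = 1 :=
      e.injective (by rw [map_one]; exact hg)
    have h3 : g ∈ Subgroup.center (Matrix.SpecialLinearGroup (Fin 2) F) :=
      (QuotientGroup.eq_one_iff g).mp h1
    have h4 := pow_card_eq_one' (G := Subgroup.center (Matrix.SpecialLinearGroup (Fin 2) F))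
      (x := ⟨g, h3⟩)
    rw [Cfsg.Agent.Lib.helper7.card_center_SL2 h2] at h4
    exact congrArg Subtype.val h4
  obtain ⟨b, b', hcomm, hne⟩ := exists_noncomm hK hω
  obtain ⟨ω', hω'1, hω'2⟩ := exists_order_three q hq hqk (hexβ hK hω) (hexβ_ker_pow hK hω) b b'
    hcomm hne
  exact ⟨fiber q (hexβ hK hω), inferInstance, fiberFst q (hexβ hK hω),
    fiberFst_surjective q _ (hexβ_surjective hK hω),
    fiberFst_ker_le_center q _ (hexβ_ker_le_center hK hω), ω', hω'1, hω'2⟩

end Cfsg.Agent.Lib.helper6.SL29
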