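import Mathlib

/-!
# Transfer of a central extension of `A₆` to a central extension of `A₇`

Let `β' : E →* Perm (Fin 7)` be a homomorphism whose image is the group of even permutations
fixing the point `6`, with central kernel.  Inside the wreath product
`(Fin 7 → E) ⋊ Perm (Fin 7)` we form the subgroup `Ghat` of the elements `(d, π)` with
`β' (d j) = (t j)⁻¹ * π * t (π⁻¹ j)` for a fixed transversal `t`; its quotient by the subgroup
of the `(z, 1)` with `∏ z j = 1` is a central extension of the alternating group of degree 7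
(the image of the class of `E` under the transfer).  If the commuting 3-cycles `(0 1 2)` and
`(3 4 5)` have non-commuting lifts in `E`, the same holds in the new extension.
-/

set_option autoImplicit false

universe u

namespace Cfsg.Agent.Lib.helper6.Tr7

open Equiv
open scoped commutatorElement

/-- The wreath product of `E` with the symmetric group of degree 7. -/
abbrev Wr (E : Type u) [Group E] : Type u :=
  (Fin 7 → E) ⋊[(mulAutArrow : Perm (Fin 7) →* MulAut (Fin 7 → E))] Perm (Fin 7)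

theorem arrow7 {E : Type u} [Group E] (σ : Perm (Fin 7)) (d : Fin 7 → E) (i : Fin 7) :
    (mulAutArrow (G := Perm (Fin 7)) (A := Fin 7) (M := E) σ d) i = d (σ⁻¹ i) := rfl

/-- The 3-cycle `(0 1 2)`. -/
def a7 : Perm (Fin 7) := swap 0 1 * swap 1 2

/-- The 3-cycle `(3 4 5)`. -/
def b7 : Perm (Fin 7) := swap 3 4 * swap 4 5

/-- A transversal of the stabiliser of `6`, adapted to `a7` and `b7`. -/
def tv : Fin 7 → Perm (Fin 7) :=
  ![swap 0 6 * swap 1 2, a7 * (swap 0 6 * swap 1 2), a7 * a7 * (swap 0 6 * swap 1 2),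
    swap 3 6 * swap 4 5, b7 * (swap 3 6 * swap 4 5), b7 * b7 * (swap 3 6 * swap 4 5), 1]

/-- The conjugate of `a7` attached to the points `3, 4, 5`. -/
def ua : Perm (Fin 7) := (tv 3)⁻¹ * a7 * tv 3

/-- The conjugate of `b7` attached to the points `0, 1, 2`. -/
def ub : Perm (Fin 7) := (tv 0)⁻¹ * b7 * tv 0

theorem tv_six : ∀ j : Fin 7, tv j 6 = j := by decide

theorem tv_sign : ∀ j : Fin 7, Perm.sign (tv j) = 1 := by decide

theorem tv_a : ∀ j : Fin 7, (tv j)⁻¹ * a7 * tv (a7⁻¹ j) = ![1, 1, 1, ua, ua, ua, a7] j := by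
  decide

theorem tv_b : ∀ j : Fin 7, (tv j)⁻¹ * b7 * tv (b7⁻¹ j) = ![ub, ub, ub, 1, 1, 1, b7] j := by
  decide

theorem ab_comm : a7 * b7 = b7 * a7 := by decide

theorem ua_spec : Perm.sign ua = 1 ∧ ua 6 = 6 := by decide

theorem ub_spec : Perm.sign ub = 1 ∧ ub 6 = 6 := by decide

theorem a7_inv : ∀ j : Fin 7, a7⁻¹ j = ![2, 0, 1, 3, 4, 5, 6] j := by decide

theorem b7_inv : ∀ j : Fin 7, b7⁻¹ j = ![0, 1, 2, 5, 3, 4, 6] j := by decide

theorem perm_inv_apply (f : Perm (Fin 7)) (x : Fin 7) : f⁻¹ (f x) = x := f.symm_apply_apply x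

theorem perm_apply_inv (f : Perm (Fin 7)) (x : Fin 7) : f (f⁻¹ x) = x := f.apply_symm_apply x

/-- The centre as a commutative group. -/
abbrev centerCommGroup (E : Type u) [Group E] : CommGroup (Subgroup.center E) :=
  { (inferInstance : Group (Subgroup.center E)) with
    mul_comm := fun a b => Subtype.ext (Subgroup.mem_center_iff.mp b.2 a.1) }

attribute [local instance] centerCommGroup

section Center

variable {E : Type u} [Group E]

open Classical in
/-- A total version of the inclusion of the centre. -/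
noncomputable def cz (x : E) : Subgroup.center E :=
  if h : x ∈ Subgroup.center E then ⟨x, h⟩ else 1

theorem cz_of_mem {x : E} (h : x ∈ Subgroup.center E) : cz x = ⟨x, h⟩ := by
  unfold cz
  rw [dif_pos h]

theorem cz_one : cz (1 : E) = 1 := by
  rw [cz_of_mem (Subgroup.one_mem _)]
  rfl

theorem cz_mul {x y : E} (hx : x ∈ Subgroup.center E) (hy : y ∈ Subgroup.center E) :
    cz (x * y) = cz x * cz y := by
  rw [cz_of_mem hx, cz_of_mem hy, cz_of_mem (Subgroup.mul_mem _ hx hy)]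
  rfl

theorem cz_inv {x : E} (hx : x ∈ Subgroup.center E) : cz x⁻¹ = (cz x)⁻¹ := by
  rw [cz_of_mem hx, cz_of_mem (Subgroup.inv_mem _ hx)]
  rfl

/-- The product of the entries of a vector of central elements. -/
noncomputable def Pz (d : Fin 7 → E) : Subgroup.center E := ∏ j, cz (d j)

theorem Pz_one : Pz (1 : Fin 7 → E) = 1 := by
  unfold Pz
  apply Finset.prod_eq_one
  intro j _
  exact cz_one

theorem Pz_mul (d₁ d₂ : Fin 7 → E) (h₁ : ∀ j, d₁ j ∈ Subgroup.center E)
    (h₂ : ∀ j, d₂ j ∈ Subgroup.center E) : Pz (d₁ * d₂) = Pz d₁ * Pz d₂ := by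
  unfold Pz
  refine Eq.trans ?_ Finset.prod_mul_distrib
  apply Finset.prod_congr rfl
  intro j _
  rw [Pi.mul_apply, cz_mul (h₁ j) (h₂ j)]

theorem Pz_inv (d : Fin 7 → E) (h : ∀ j, d j ∈ Subgroup.center E) : Pz d⁻¹ = (Pz d)⁻¹ := by
  unfold Pz
  refine Eq.trans ?_ (Finset.prod_inv_distrib _)
  apply Finset.prod_congr rfl
  intro j _
  rw [Pi.inv_apply, cz_inv (h j)]

theorem Pz_comp (d : Fin 7 → E) (σ : Perm (Fin 7)) : Pz (fun j => d (σ j)) = Pz d := by
  unfold Pz
  exact Equiv.prod_comp σ (fun j => cz (d j))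

end Center

section Main

variable {E : Type u} [Group E] (β' : E →* Perm (Fin 7))

/-- The preimage of the alternating group in the wreath product. -/
def Ghat : Subgroup (Wr E) where
  carrier := {w | ∀ j, β' (w.left j) = (tv j)⁻¹ * w.right * tv (w.right⁻¹ j)}
  mul_mem' := by
    intro w₁ w₂ h₁ h₂ j
    have e₁ := h₁ j
    have e₂ := h₂ (w₁.right⁻¹ j)
    show β' ((w₁ * w₂).left j) = (tv j)⁻¹ * (w₁ * w₂).right * tv ((w₁ * w₂).right⁻¹ j)
    rw [SemidirectProduct.mul_left, SemidirectProduct.mul_right, Pi.mul_apply, arrow7, map_mul,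
      e₁, e₂, mul_inv_rev, Perm.mul_apply]
    group
  one_mem' := by
    intro j
    show β' ((1 : Wr E).left j) = (tv j)⁻¹ * (1 : Wr E).right * tv ((1 : Wr E).right⁻¹ j)
    rw [SemidirectProduct.one_left, SemidirectProduct.one_right]
    simp
  inv_mem' := by
    intro w h j
    have e := h (w.right j)
    show β' ((w⁻¹).left j) = (tv j)⁻¹ * (w⁻¹).right * tv ((w⁻¹).right⁻¹ j)
    rw [SemidirectProduct.inv_left, SemidirectProduct.inv_right, arrow7, inv_inv, Pi.inv_apply,
      map_inv, e, perm_inv_apply]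
    group

theorem mem_Ghat (w : Wr E) :
    w ∈ Ghat β' ↔ ∀ j, β' (w.left j) = (tv j)⁻¹ * w.right * tv (w.right⁻¹ j) := Iff.rfl

variable {β'}

theorem right_sign (heven : ∀ e, Perm.sign (β' e) = 1) (w : Ghat β') :
    Perm.sign w.1.right = 1 := by
  have h := w.2 6
  have h2 := congrArg Perm.sign h
  rw [heven, Perm.sign_mul, Perm.sign_mul, Perm.sign_inv, tv_sign, tv_sign, one_mul,
    mul_one] at h2
  exact h2.symm

/-- The projection onto the alternating group. -/
def tauHat (heven : ∀ e, Perm.sign (β' e) = 1) : Ghat β' →* alternatingGroup (Fin 7) :=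
  (SemidirectProduct.rightHom.comp (Ghat β').subtype).codRestrict (alternatingGroup (Fin 7))
    (fun w => Perm.mem_alternatingGroup.mpr (right_sign heven w))

theorem tauHat_val (heven : ∀ e, Perm.sign (β' e) = 1) (w : Ghat β') :
    ((tauHat heven w : alternatingGroup (Fin 7)) : Perm (Fin 7)) = w.1.right := rfl

theorem right_of_mem_ker (heven : ∀ e, Perm.sign (β' e) = 1) {w : Ghat β'}
    (hw : w ∈ (tauHat heven).ker) : w.1.right = 1 := by
  rw [MonoidHom.mem_ker] at hw
  have h := congrArg Subtype.val hw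
  rw [tauHat_val] at h
  exact h

theorem left_mem_ker (w : Ghat β') (hr : w.1.right = 1) (j : Fin 7) : w.1.left j ∈ β'.ker := by
  rw [MonoidHom.mem_ker]
  have h := w.2 j
  rw [hr] at h
  simpa using h

theorem tauHat_surjective (heven : ∀ e, Perm.sign (β' e) = 1)
    (hrange : ∀ π : Perm (Fin 7), Perm.sign π = 1 → π 6 = 6 → ∃ e, β' e = π) :
    Function.Surjective (tauHat heven) := by
  intro π
  have hπ : Perm.sign (π : Perm (Fin 7)) = 1 := Perm.mem_alternatingGroup.mp π.2
  have key : ∀ j : Fin 7, ∃ e, β' e = (tv j)⁻¹ * (π : Perm (Fin 7)) *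
      tv ((π : Perm (Fin 7))⁻¹ j) := by
    intro j
    apply hrange
    · rw [Perm.sign_mul, Perm.sign_mul, Perm.sign_inv, tv_sign, tv_sign, hπ]
      rfl
    · rw [Perm.mul_apply, Perm.mul_apply, tv_six, perm_apply_inv, Perm.inv_eq_iff_eq,
        tv_six]
  choose d hd using key
  exact ⟨⟨⟨d, (π : Perm (Fin 7))⟩, hd⟩, Subtype.ext rfl⟩

/-- Conjugating an element of the kernel permutes its entries. -/
theorem conj_left (hcen : β'.ker ≤ Subgroup.center E) (g n : Ghat β') (hn : n.1.right = 1) :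
    (g * n * g⁻¹).1.left = fun j => n.1.left (g.1.right⁻¹ j) := by
  funext j
  have hc : n.1.left (g.1.right⁻¹ j) ∈ Subgroup.center E := hcen (left_mem_ker n hn _)
  show (g.1 * n.1 * g.1⁻¹).left j = _
  rw [SemidirectProduct.mul_left, SemidirectProduct.mul_left, SemidirectProduct.mul_right,
    SemidirectProduct.inv_left, hn, mul_one, Pi.mul_apply, Pi.mul_apply, arrow7, arrow7, arrow7,
    inv_inv, Pi.inv_apply, perm_apply_inv]
  rw [mul_assoc, ← (Subgroup.mem_center_iff.mp hc) _, mul_inv_cancel_left]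

theorem conj_right (g n : Ghat β') (hn : n.1.right = 1) : (g * n * g⁻¹).1.right = 1 := by
  show (g.1 * n.1 * g.1⁻¹).right = 1
  rw [SemidirectProduct.mul_right, SemidirectProduct.mul_right, SemidirectProduct.inv_right, hn,
    mul_one, mul_inv_cancel]

/-- The subgroup of the kernel with trivial product. -/
def Nsub (hcen : β'.ker ≤ Subgroup.center E) : Subgroup (Ghat β') where
  carrier := {w | w.1.right = 1 ∧ Pz w.1.left = 1}
  mul_mem' := by
    intro w₁ w₂ h₁ h₂
    refine ⟨?_, ?_⟩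
    · show (w₁.1 * w₂.1).right = 1
      rw [SemidirectProduct.mul_right, h₁.1, h₂.1, mul_one]
    · have e : (w₁ * w₂).1.left = w₁.1.left * w₂.1.left := by
        show (w₁.1 * w₂.1).left = _
        rw [SemidirectProduct.mul_left, h₁.1, map_one]
        rfl
      rw [e, Pz_mul _ _ (fun j => hcen (left_mem_ker w₁ h₁.1 j))
        (fun j => hcen (left_mem_ker w₂ h₂.1 j)), h₁.2, h₂.2, mul_one]
  one_mem' := ⟨rfl, Pz_one⟩
  inv_mem' := by
    intro w h
    refine ⟨?_, ?_⟩
    · show (w.1⁻¹).right = 1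
      rw [SemidirectProduct.inv_right, h.1, inv_one]
    · have e : (w⁻¹).1.left = (w.1.left)⁻¹ := by
        show (w.1⁻¹).left = _
        rw [SemidirectProduct.inv_left, h.1, inv_one, map_one]
        rfl
      rw [e, Pz_inv _ (fun j => hcen (left_mem_ker w h.1 j)), h.2, inv_one]

theorem mem_Nsub (hcen : β'.ker ≤ Subgroup.center E) (w : Ghat β') :
    w ∈ Nsub hcen ↔ w.1.right = 1 ∧ Pz w.1.left = 1 := Iff.rfl

theorem Nsub_normal (hcen : β'.ker ≤ Subgroup.center E) : (Nsub hcen).Normal := by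
  constructor
  intro n hn g
  refine ⟨conj_right g n hn.1, ?_⟩
  rw [conj_left hcen g n hn.1, Pz_comp n.1.left (g.1.right⁻¹)]
  exact hn.2

/-- The commutator of an element of the kernel with any element lies in `Nsub`. -/
theorem comm_mem_Nsub (hcen : β'.ker ≤ Subgroup.center E) (g x : Ghat β')
    (hx : x.1.right = 1) : g * x * g⁻¹ * x⁻¹ ∈ Nsub hcen := by
  have hr : (g * x * g⁻¹).1.right = 1 := conj_right g x hx
  have hxi : (x⁻¹).1.right = 1 := by
    show (x.1⁻¹).right = 1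
    rw [SemidirectProduct.inv_right, hx, inv_one]
  have hxl : (x⁻¹).1.left = (x.1.left)⁻¹ := by
    show (x.1⁻¹).left = _
    rw [SemidirectProduct.inv_left, hx, inv_one, map_one]
    rfl
  refine ⟨?_, ?_⟩
  · show ((g * x * g⁻¹).1 * (x⁻¹).1).right = 1
    rw [SemidirectProduct.mul_right, hr, hxi, mul_one]
  · have e : (g * x * g⁻¹ * x⁻¹).1.left = (g * x * g⁻¹).1.left * (x⁻¹).1.left := by
      show ((g * x * g⁻¹).1 * (x⁻¹).1).left = _
      rw [SemidirectProduct.mul_left, hr, map_one]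
      rfl
    have hc : ∀ j, x.1.left j ∈ Subgroup.center E := fun j => hcen (left_mem_ker x hx j)
    rw [e, Pz_mul _ _ (fun j => hcen (left_mem_ker _ hr j))
      (fun j => hcen (left_mem_ker _ hxi j)), hxl, Pz_inv _ hc, conj_left hcen g x hx,
      Pz_comp x.1.left (g.1.right⁻¹), mul_inv_cancel]

theorem pow_three_of_right_one (h3 : ∀ e ∈ β'.ker, e ^ 3 = 1) (x : Ghat β')
    (hx : x.1.right = 1) : x ^ 3 = 1 := by
  have e : x.1 = SemidirectProduct.inl x.1.left := by
    ext1
    · rfl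
    · rw [hx]
      rfl
  have h : x.1.left ^ 3 = 1 := by
    funext j
    exact h3 _ (left_mem_ker x hx j)
  apply Subtype.ext
  rw [Subgroup.coe_pow, e, ← map_pow, h, map_one]
  rfl

/-- **Transfer.**  A central extension of the group of even permutations of `Fin 7` fixing `6`
in which the 3-cycles `(0 1 2)` and `(3 4 5)` have non-commuting lifts gives rise to a central
extension of the alternating group of degree 7 with the same property. -/
theorem exists_transfer (heven : ∀ e, Perm.sign (β' e) = 1)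
    (hrange : ∀ π : Perm (Fin 7), Perm.sign π = 1 → π 6 = 6 → ∃ e, β' e = π)
    (hcen : β'.ker ≤ Subgroup.center E) (h3 : ∀ e ∈ β'.ker, e ^ 3 = 1)
    (b b' : E) (hb : β' b = a7) (hb' : β' b' = b7) (hne : b * b' ≠ b' * b) :
    ∃ (Δ : Type u) (_ : Group Δ) (τ : Δ →* alternatingGroup (Fin 7)),
      Function.Surjective τ ∧ τ.ker ≤ Subgroup.center Δ ∧ (∀ x ∈ τ.ker, x ^ 3 = 1) ∧
      ∃ w ∈ τ.ker ⊓ commutator Δ, w ≠ 1 := by
  have hN : (Nsub hcen).Normal := Nsub_normal hcen
  have hle : Nsub hcen ≤ (tauHat heven).ker := by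
    intro w hw
    rw [MonoidHom.mem_ker]
    apply Subtype.ext
    rw [tauHat_val]
    exact hw.1
  -- the lifts of `a7` and `b7`
  obtain ⟨A', hA'⟩ := hrange ua ua_spec.1 ua_spec.2
  obtain ⟨B', hB'⟩ := hrange ub ub_spec.1 ub_spec.2
  have hx : (⟨![1, 1, 1, A', A', A', b], a7⟩ : Wr E) ∈ Ghat β' := by
    intro j
    show β' ((![1, 1, 1, A', A', A', b] : Fin 7 → E) j) = (tv j)⁻¹ * a7 * tv (a7⁻¹ j)
    rw [tv_a]
    fin_cases j <;> simp [hA', hb]
  have hy : (⟨![B', B', B', 1, 1, 1, b'], b7⟩ : Wr E) ∈ Ghat β' := by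
    intro j
    show β' ((![B', B', B', 1, 1, 1, b'] : Fin 7 → E) j) = (tv j)⁻¹ * b7 * tv (b7⁻¹ j)
    rw [tv_b]
    fin_cases j <;> simp [hB', hb']
  -- the commutator of the two lifts
  have hcomm : (⟨![1, 1, 1, A', A', A', b], a7⟩ : Wr E) * ⟨![B', B', B', 1, 1, 1, b'], b7⟩ =
      (⟨![1, 1, 1, 1, 1, 1, ⁅b, b'⁆], 1⟩ : Wr E) *
        ((⟨![B', B', B', 1, 1, 1, b'], b7⟩ : Wr E) * ⟨![1, 1, 1, A', A', A', b], a7⟩) := by
    ext1
    · funext j
      simp only [SemidirectProduct.mul_left, Pi.mul_apply, arrow7, a7_inv, b7_inv, inv_one,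
        Perm.one_apply]
      fin_cases j <;> simp [commutatorElement_def, mul_assoc]
    · rw [SemidirectProduct.mul_right, SemidirectProduct.mul_right, SemidirectProduct.mul_right]
      show a7 * b7 = 1 * (b7 * a7)
      rw [one_mul, ab_comm]
  obtain ⟨X, hX⟩ : ∃ X : Ghat β', X.1 = (⟨![1, 1, 1, A', A', A', b], a7⟩ : Wr E) :=
    ⟨⟨_, hx⟩, rfl⟩
  obtain ⟨Y, hY⟩ : ∃ Y : Ghat β', Y.1 = (⟨![B', B', B', 1, 1, 1, b'], b7⟩ : Wr E) :=
    ⟨⟨_, hy⟩, rfl⟩
  have hc1 : (⁅X, Y⁆ : Ghat β').1 = (⟨![1, 1, 1, 1, 1, 1, ⁅b, b'⁆], 1⟩ : Wr E) := by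
    have e : (⁅X, Y⁆ : Ghat β').1 = X.1 * Y.1 * X.1⁻¹ * Y.1⁻¹ := rfl
    rw [e, hX, hY, hcomm]
    group
  have hbk : ⁅b, b'⁆ ∈ β'.ker := by
    rw [MonoidHom.mem_ker, map_commutatorElement, hb, hb', commutatorElement_eq_one_iff_mul_comm]
    exact ab_comm
  have hb1 : ⁅b, b'⁆ ≠ 1 := by
    rw [Ne, commutatorElement_eq_one_iff_mul_comm]
    exact hne
  have hnotN : (⁅X, Y⁆ : Ghat β') ∉ Nsub hcen := by
    intro hmem
    have h2 : Pz (![1, 1, 1, 1, 1, 1, ⁅b, b'⁆] : Fin 7 → E) = 1 := by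
      have h := hmem.2
      rw [hc1] at h
      exact h
    have e : Pz (![1, 1, 1, 1, 1, 1, ⁅b, b'⁆] : Fin 7 → E) = cz ⁅b, b'⁆ := by
      unfold Pz
      rw [Fin.prod_univ_seven]
      simp [cz_one]
    rw [e, cz_of_mem (hcen hbk)] at h2
    exact hb1 (congrArg Subtype.val h2)
  refine ⟨Ghat β' ⧸ Nsub hcen, inferInstance, QuotientGroup.lift (Nsub hcen) (tauHat heven) hle,
    ?_, ?_, ?_, ?_⟩
  · intro π
    obtain ⟨w, hw⟩ := tauHat_surjective heven hrange π
    exact ⟨QuotientGroup.mk w, hw⟩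
  · intro x hx'
    obtain ⟨x, rfl⟩ := QuotientGroup.mk_surjective x
    have hxk : x ∈ (tauHat heven).ker := by
      rw [MonoidHom.mem_ker] at hx' ⊢
      exact hx'
    have hxr := right_of_mem_ker heven hxk
    rw [Subgroup.mem_center_iff]
    intro g
    obtain ⟨g, rfl⟩ := QuotientGroup.mk_surjective g
    have h1 := comm_mem_Nsub hcen g x hxr
    have h2 : (QuotientGroup.mk (g * x * g⁻¹ * x⁻¹) : Ghat β' ⧸ Nsub hcen) = 1 :=
      (QuotientGroup.eq_one_iff _).mpr h1
    rw [QuotientGroup.mk_mul, QuotientGroup.mk_mul, QuotientGroup.mk_mul, QuotientGroup.mk_inv,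
      QuotientGroup.mk_inv, mul_inv_eq_one, mul_inv_eq_iff_eq_mul] at h2
    exact h2
  · intro x hx'
    obtain ⟨x, rfl⟩ := QuotientGroup.mk_surjective x
    have hxk : x ∈ (tauHat heven).ker := by
      rw [MonoidHom.mem_ker] at hx' ⊢
      exact hx'
    have hxr := right_of_mem_ker heven hxk
    rw [← QuotientGroup.mk_pow, pow_three_of_right_one h3 x hxr]
    rfl
  · refine ⟨QuotientGroup.mk (⁅X, Y⁆ : Ghat β'), ?_, ?_⟩
    · refine Subgroup.mem_inf.mpr ⟨?_, ?_⟩
      · rw [MonoidHom.mem_ker]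
        show tauHat heven (⁅X, Y⁆ : Ghat β') = 1
        apply Subtype.ext
        rw [tauHat_val, hc1]
        rfl
      · have hmap : (QuotientGroup.mk (⁅X, Y⁆ : Ghat β') : Ghat β' ⧸ Nsub hcen) =
            ⁅(QuotientGroup.mk X : Ghat β' ⧸ Nsub hcen), QuotientGroup.mk Y⁆ := by
          rw [commutatorElement_def, commutatorElement_def]
          rfl
        rw [hmap, commutator_def]
        exact Subgroup.commutator_mem_commutator (Subgroup.mem_top _) (Subgroup.mem_top _)
    · intro h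
      exact hnotN ((QuotientGroup.eq_one_iff _).mp h)

end Main

end Cfsg.Agent.Lib.helper6.Tr7
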