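import Mathlib
import Cfsg.Agent.Lib.helper6.SL29Cover
import Cfsg.Agent.Lib.helper6.Transfer7

/-!
# Triple covers of the alternating groups of degree 6 and 7

The hexacode group `hexT` (a triple cover of `A₆`) and its transfer to `A₇` give central
extensions of `A₆` and `A₇` whose kernels have exponent 3 and contain a nontrivial commutator.
-/

set_option autoImplicit false

namespace Cfsg.Agent.Lib.helper6.Tr7

open Equiv
open scoped commutatorElement
open Cfsg Cfsg.Agent.Lib.helper34 Cfsg.Agent.Lib.helper6.SL29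

/-- The embedding of `Fin 6` as the points of `Fin 7` other than `6`. -/
def f67 : Fin 6 ≃ {x : Fin 7 // x ≠ 6} where
  toFun i := ⟨Fin.castSucc i, fun h => by
    have h1 : i.1 = 6 := congrArg Fin.val h
    have h2 := i.2
    omega⟩
  invFun x := ⟨x.1.1, by
    have h1 := x.1.2
    have h2 : x.1.1 ≠ 6 := fun h => x.2 (Fin.ext h)
    omega⟩
  left_inv i := Fin.ext rfl
  right_inv x := Subtype.ext (Fin.ext rfl)

theorem f67_val (i : Fin 6) : ((f67 i : {x : Fin 7 // x ≠ 6}) : Fin 7) = Fin.castSucc i := rfl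

theorem iota_six (σ : Perm (Fin 6)) : σ.extendDomain f67 6 = 6 :=
  Equiv.Perm.extendDomain_apply_not_subtype σ f67 (fun h => h rfl)

theorem iota_cast (σ : Perm (Fin 6)) (i : Fin 6) :
    σ.extendDomain f67 (Fin.castSucc i) = Fin.castSucc (σ i) :=
  Equiv.Perm.extendDomain_apply_image σ f67 i

theorem exists_cast {x : Fin 7} (hx : x ≠ 6) : ∃ i : Fin 6, x = Fin.castSucc i :=
  ⟨f67.symm ⟨x, hx⟩, congrArg Subtype.val (f67.apply_symm_apply ⟨x, hx⟩).symm⟩

theorem iota_sign (σ : Perm (Fin 6)) : Perm.sign (σ.extendDomain f67) = Perm.sign σ :=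
  Equiv.Perm.sign_extendDomain σ f67

theorem iota_range (π : Perm (Fin 7)) (h6 : π 6 = 6) :
    ∃ σ : Perm (Fin 6), σ.extendDomain f67 = π := by
  have hne : ∀ i : Fin 6, π (Fin.castSucc i) ≠ 6 := by
    intro i h
    rw [← h6] at h
    have h1 := π.injective h
    exact (f67 i).2 h1
  have hne' : ∀ i : Fin 6, π.symm (Fin.castSucc i) ≠ 6 := by
    intro i h
    have h1 : Fin.castSucc i = π 6 := by
      rw [← h, π.apply_symm_apply]
    rw [h6] at h1
    exact (f67 i).2 h1
  refine ⟨⟨fun i => f67.symm ⟨π (Fin.castSucc i), hne i⟩,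
    fun i => f67.symm ⟨π.symm (Fin.castSucc i), hne' i⟩, ?_, ?_⟩, ?_⟩
  · intro i
    apply f67.injective
    apply Subtype.ext
    rw [f67.apply_symm_apply]
    show π.symm (Fin.castSucc (f67.symm ⟨π (Fin.castSucc i), hne i⟩)) = Fin.castSucc i
    have e : Fin.castSucc (f67.symm ⟨π (Fin.castSucc i), hne i⟩) = π (Fin.castSucc i) :=
      congrArg Subtype.val (f67.apply_symm_apply ⟨π (Fin.castSucc i), hne i⟩)
    rw [e, π.symm_apply_apply]
  · intro i
    apply f67.injective
    apply Subtype.ext
    rw [f67.apply_symm_apply]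
    show π (Fin.castSucc (f67.symm ⟨π.symm (Fin.castSucc i), hne' i⟩)) = Fin.castSucc i
    have e : Fin.castSucc (f67.symm ⟨π.symm (Fin.castSucc i), hne' i⟩) =
        π.symm (Fin.castSucc i) :=
      congrArg Subtype.val (f67.apply_symm_apply ⟨π.symm (Fin.castSucc i), hne' i⟩)
    rw [e, π.apply_symm_apply]
  · apply Equiv.ext
    intro x
    by_cases hx : x = 6
    · rw [hx, iota_six, h6]
    · obtain ⟨i, rfl⟩ := exists_cast hx
      rw [iota_cast]
      exact congrArg Subtype.val (f67.apply_symm_apply ⟨π (Fin.castSucc i), hne i⟩)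

theorem iota_a : (sig 181777 181826).extendDomain f67 = a7 := by
  have ok1 : okTab 181777 181826 = true := by decide +kernel
  apply Equiv.ext
  intro x
  by_cases hx : x = 6
  · rw [hx, iota_six]
    decide
  · obtain ⟨i, rfl⟩ := exists_cast hx
    rw [iota_cast]
    apply Fin.ext
    rw [Fin.val_castSucc, sig_apply ok1]
    revert i
    decide +kernel

theorem iota_b : (sig 120968 146056).extendDomain f67 = b7 := by
  have ok2 : okTab 120968 146056 = true := by decide +kernel
  apply Equiv.ext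
  intro x
  by_cases hx : x = 6
  · rw [hx, iota_six]
    decide
  · obtain ⟨i, rfl⟩ := exists_cast hx
    rw [iota_cast]
    apply Fin.ext
    rw [Fin.val_castSucc, sig_apply ok2]
    revert i
    decide +kernel

section Elements

variable {K : Type} [Field K] [Fintype K] [DecidableEq K] {ω : K}

/-- Two non-commuting elements of the hexacode group lying over the 3-cycles `(0 1 2)` and
`(3 4 5)`. -/
theorem exists_noncomm_sig (hK : Fintype.card K = 4) (hω : ω ^ 2 + ω + 1 = 0) :
    ∃ b b' : hexT K ω, b.1.right = sig 181777 181826 ∧ b'.1.right = sig 120968 146056 ∧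
      b * b' ≠ b' * b := by
  have h2 := two_eq_zero_of_card hK
  have ok1 : okTab 181777 181826 = true := by decide +kernel
  have ok2 : okTab 120968 146056 = true := by decide +kernel
  have nz1 : nzd 2901 = true := by decide +kernel
  have nz2 : nzd 4089 = true := by decide +kernel
  have ck1 : chkV 181826 2901 = true := by decide +kernel
  have ck2 : chkV 146056 4089 = true := by decide +kernel
  refine ⟨hexElt hK hω 181777 181826 2901 ok1 (by norm_num) nz1 ck1,
    hexElt hK hω 120968 146056 4089 ok2 (by norm_num) nz2 ck2, rfl, rfl, ?_⟩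
  intro h
  have h1 := congrArg (fun w : hexT K ω => ((w.1.left 0 : Kˣ) : K)) h
  have hs1 : (sig 181777 181826).symm 0 = 2 := by
    apply Fin.ext
    rw [sig_symm_apply ok1]
    decide +kernel
  have hs2 : (sig 120968 146056).symm 0 = 0 := by
    apply Fin.ext
    rw [sig_symm_apply ok2]
    decide +kernel
  have e1 : ((unpackc ω 2901 0 : Kˣ) : K) * ((unpackc ω 4089 ((sig 181777 181826).symm 0) : Kˣ) : K)
      = ((unpackc ω 4089 0 : Kˣ) : K) * ((unpackc ω 2901 ((sig 120968 146056).symm 0) : Kˣ) : K) := by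
    rw [← Units.val_mul, ← Units.val_mul]
    exact h1
  rw [hs1, hs2, unpackc_val h2 hω nz1, unpackc_val h2 hω nz2, unpackc_val h2 hω nz2] at e1
  have d1 : d4 2901 (0 : Fin 6).1 = 1 := by decide +kernel
  have d2 : d4 4089 (2 : Fin 6).1 = 3 := by decide +kernel
  have d3 : d4 4089 (0 : Fin 6).1 = 1 := by decide +kernel
  rw [d1, d2, d3, ← g4_mul h2 hω (by norm_num) (by norm_num),
    ← g4_mul h2 hω (by norm_num) (by norm_num)] at e1
  have e2 := g4_inj h2 hω (mul4_lt _ _) (mul4_lt _ _) e1
  exact absurd e2 (by decide +kernel)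

/-- The hexacode group mapped to the even permutations of seven points fixing the last one. -/
def hexβ7 (hK : Fintype.card K = 4) (hω : ω ^ 2 + ω + 1 = 0) : hexT K ω →* Perm (Fin 7) :=
  (Equiv.Perm.extendDomainHom f67).comp ((alternatingGroup (Fin 6)).subtype.comp (hexβ hK hω))

theorem hexβ7_apply (hK : Fintype.card K = 4) (hω : ω ^ 2 + ω + 1 = 0) (t : hexT K ω) :
    hexβ7 hK hω t = (t.1.right).extendDomain f67 := rfl

theorem hexβ7_ker (hK : Fintype.card K = 4) (hω : ω ^ 2 + ω + 1 = 0) :
    (hexβ7 hK hω).ker ≤ (hexβ hK hω).ker := by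
  intro t ht
  rw [MonoidHom.mem_ker] at ht ⊢
  apply Subtype.ext
  apply Equiv.Perm.extendDomainHom_injective f67
  show Equiv.Perm.extendDomainHom f67 ((hexβ hK hω t : alternatingGroup (Fin 6)) : Perm (Fin 6)) =
    Equiv.Perm.extendDomainHom f67 1
  rw [map_one]
  exact ht

end Elements

/-- A central extension of the alternating group of degree 6 with kernel of exponent 3 and a
nontrivial element in the intersection of the kernel with the commutator subgroup. -/
theorem exists_tripleA6 : ∃ (Δ : Type) (_ : Group Δ) (τ : Δ →* alternatingGroup (Fin 6)),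
    Function.Surjective τ ∧ τ.ker ≤ Subgroup.center Δ ∧ (∀ x ∈ τ.ker, x ^ 3 = 1) ∧
    ∃ w ∈ τ.ker ⊓ commutator Δ, w ≠ 1 := by
  classical
  have instFin : Fintype (GaloisField 2 2) := Fintype.ofFinite (GaloisField 2 2)
  have hK : Fintype.card (GaloisField 2 2) = 4 := by
    rw [← Nat.card_eq_fintype_card, GaloisField.card 2 2 (by norm_num)]
    norm_num
  obtain ⟨ω, hω⟩ := exists_omega hK
  obtain ⟨b, b', hcomm, hne⟩ := exists_noncomm hK hω
  refine ⟨hexT (GaloisField 2 2) ω, inferInstance, hexβ hK hω, hexβ_surjective hK hω,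
    hexβ_ker_le_center hK hω, hexβ_ker_pow hK hω, ⁅b, b'⁆, Subgroup.mem_inf.mpr ⟨?_, ?_⟩, ?_⟩
  · rw [MonoidHom.mem_ker, map_commutatorElement, commutatorElement_eq_one_iff_mul_comm]
    exact hcomm
  · rw [commutator_def]
    exact Subgroup.commutator_mem_commutator (Subgroup.mem_top _) (Subgroup.mem_top _)
  · rw [Ne, commutatorElement_eq_one_iff_mul_comm]
    exact hne

/-- A central extension of the alternating group of degree 7 with kernel of exponent 3 and a
nontrivial element in the intersection of the kernel with the commutator subgroup. -/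
theorem exists_tripleA7 : ∃ (Δ : Type) (_ : Group Δ) (τ : Δ →* alternatingGroup (Fin 7)),
    Function.Surjective τ ∧ τ.ker ≤ Subgroup.center Δ ∧ (∀ x ∈ τ.ker, x ^ 3 = 1) ∧
    ∃ w ∈ τ.ker ⊓ commutator Δ, w ≠ 1 := by
  classical
  have instFin : Fintype (GaloisField 2 2) := Fintype.ofFinite (GaloisField 2 2)
  have hK : Fintype.card (GaloisField 2 2) = 4 := by
    rw [← Nat.card_eq_fintype_card, GaloisField.card 2 2 (by norm_num)]
    norm_num
  obtain ⟨ω, hω⟩ := exists_omega hK
  obtain ⟨b, b', hb, hb', hne⟩ := exists_noncomm_sig hK hω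
  have heven : ∀ e, Perm.sign (hexβ7 hK hω e) = 1 := by
    intro e
    rw [hexβ7_apply, iota_sign]
    exact Equiv.Perm.mem_alternatingGroup.mp (hexT_right_mem hK hω e)
  have hrange : ∀ π : Perm (Fin 7), Perm.sign π = 1 → π 6 = 6 → ∃ e, hexβ7 hK hω e = π := by
    intro π hs h6
    obtain ⟨σ, hσ⟩ := iota_range π h6
    have hσs : Perm.sign σ = 1 := by
      rw [← iota_sign, hσ, hs]
    obtain ⟨e, he⟩ := hexβ_surjective hK hω ⟨σ, Equiv.Perm.mem_alternatingGroup.mpr hσs⟩
    refine ⟨e, ?_⟩
    rw [hexβ7_apply, ← hexβ_val hK hω e, he]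
    exact hσ
  have hcen : (hexβ7 hK hω).ker ≤ Subgroup.center (hexT (GaloisField 2 2) ω) :=
    (hexβ7_ker hK hω).trans (hexβ_ker_le_center hK hω)
  have h3 : ∀ e ∈ (hexβ7 hK hω).ker, e ^ 3 = 1 :=
    fun e he => hexβ_ker_pow hK hω e (hexβ7_ker hK hω he)
  exact exists_transfer heven hrange hcen h3 b b' (by rw [hexβ7_apply, hb, iota_a])
    (by rw [hexβ7_apply, hb', iota_b]) hne

end Cfsg.Agent.Lib.helper6.Tr7
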