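import Mathlib
import Cfsg.Agent.S0891
import Cfsg.Agent.Lib.helper6.TripleA7

/-!
# A central extension of `A₆` and of `A₇` with an element of order 6 in kernel ∩ commutator

The fiber product of the double cover (`S0891`) with the triple cover (`TripleA7`).
-/

set_option autoImplicit false

namespace Cfsg.Agent.Lib.helper6.Tr7

open scoped commutatorElement
open Cfsg Cfsg.Agent.Lib.helper6.SL29

section Six

variable {A G T : Type*} [Group A] [Group G] [Group T]

/-- The projection of the fiber product to the second factor. -/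
def fiberSnd (q : G →* A) (β : T →* A) : fiber q β →* T :=
  (MonoidHom.snd G T).comp (fiber q β).subtype

theorem fiberSnd_surjective (q : G →* A) (β : T →* A) (hq : Function.Surjective q) :
    Function.Surjective (fiberSnd q β) := by
  intro t
  obtain ⟨g, hg⟩ := hq (β t)
  exact ⟨⟨(g, t), hg⟩, rfl⟩

theorem fiber_ker_le_center (q : G →* A) (β : T →* A) (hqc : q.ker ≤ Subgroup.center G)
    (hβc : β.ker ≤ Subgroup.center T) :
    (q.comp (fiberFst q β)).ker ≤ Subgroup.center (fiber q β) := by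
  intro x hx
  have h1 : x.1.1 ∈ q.ker := hx
  have h2 : x.1.2 ∈ β.ker := by
    rw [MonoidHom.mem_ker, ← (mem_fiber q β x.1).mp x.2]
    exact h1
  have c1 := hqc h1
  have c2 := hβc h2
  rw [Subgroup.mem_center_iff] at c1 c2 ⊢
  intro y
  apply Subtype.ext
  apply Prod.ext
  · exact c1 y.1.1
  · exact c2 y.1.2

theorem exists_lift_commutator {H K : Type*} [Group H] [Group K] (f : H →* K)
    (hf : Function.Surjective f) (k : K) (hk : k ∈ commutator K) :
    ∃ h ∈ commutator H, f h = k := by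
  have e : (commutator H).map f = commutator K := by
    rw [commutator_def, Subgroup.map_commutator, ← MonoidHom.range_eq_map,
      MonoidHom.range_eq_top.mpr hf]
    rfl
  rw [← e] at hk
  exact hk

/-- In the fiber product of a central extension with kernel of exponent 2 and one with kernel of
exponent 3, each with a nontrivial element in kernel ∩ commutator, there is an element of
kernel ∩ commutator of order divisible by 6. -/
theorem exists_order_six (q : G →* A) (hq : Function.Surjective q)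
    (hq2 : ∀ g ∈ q.ker, g ^ 2 = 1) (z : G) (hz : z ∈ q.ker ⊓ commutator G) (hz1 : z ≠ 1)
    (β : T →* A) (hβ : Function.Surjective β)
    (hβ3 : ∀ t ∈ β.ker, t ^ 3 = 1) (w : T) (hw : w ∈ β.ker ⊓ commutator T) (hw1 : w ≠ 1) :
    ∃ ω : fiber q β, ω ∈ (q.comp (fiberFst q β)).ker ⊓ commutator (fiber q β) ∧
      ∀ j : ℕ, ω ^ j = 1 → 6 ∣ j := by
  obtain ⟨hzk, hzc⟩ := Subgroup.mem_inf.mp hz
  obtain ⟨hwk, hwc⟩ := Subgroup.mem_inf.mp hw
  obtain ⟨x, hxc, hx⟩ := exists_lift_commutator (fiberFst q β) (fiberFst_surjective q β hβ) z hzc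
  obtain ⟨y, hyc, hy⟩ := exists_lift_commutator (fiberSnd q β) (fiberSnd_surjective q β hq) w hwc
  have hx1 : x.1.1 = z := hx
  have hy2 : y.1.2 = w := hy
  have hx2 : x.1.2 ∈ β.ker := by
    rw [MonoidHom.mem_ker, ← (mem_fiber q β x.1).mp x.2, hx1]
    exact hzk
  have hy1 : y.1.1 ∈ q.ker := by
    rw [MonoidHom.mem_ker, (mem_fiber q β y.1).mp y.2, hy2]
    exact hwk
  have hz2 : z ^ 2 = 1 := hq2 z hzk
  have hw3 : w ^ 3 = 1 := hβ3 w hwk
  have hval : ((x ^ 3 * y ^ 4 : fiber q β) : G × T) = (z, w) := by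
    rw [Subgroup.coe_mul, Subgroup.coe_pow, Subgroup.coe_pow]
    apply Prod.ext
    · show x.1.1 ^ 3 * y.1.1 ^ 4 = z
      rw [hx1, show (4 : ℕ) = 2 * 2 from rfl, pow_mul, hq2 _ hy1, one_pow, mul_one,
        show (3 : ℕ) = 2 + 1 from rfl, pow_add, hz2, one_mul, pow_one]
    · show x.1.2 ^ 3 * y.1.2 ^ 4 = w
      rw [hβ3 _ hx2, one_mul, hy2, show (4 : ℕ) = 3 + 1 from rfl, pow_add, hw3, one_mul, pow_one]
  refine ⟨x ^ 3 * y ^ 4, Subgroup.mem_inf.mpr ⟨?_, ?_⟩, ?_⟩
  · rw [MonoidHom.mem_ker]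
    show q ((x ^ 3 * y ^ 4 : fiber q β) : G × T).1 = 1
    rw [hval]
    exact hzk
  · exact Subgroup.mul_mem _ (Subgroup.pow_mem _ hxc 3) (Subgroup.pow_mem _ hyc 4)
  · intro j hj
    have h1 := congrArg (fun v : fiber q β => (v : G × T)) hj
    simp only [Subgroup.coe_pow, hval, Prod.pow_mk, Subgroup.coe_one] at h1
    have hzj : z ^ j = 1 := congrArg Prod.fst h1
    have hwj : w ^ j = 1 := congrArg Prod.snd h1
    have o2 : orderOf z = 2 := orderOf_eq_prime hz2 hz1
    have o3 : orderOf w = 3 := orderOf_eq_prime hw3 hw1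
    have d2 : 2 ∣ j := o2 ▸ orderOf_dvd_of_pow_eq_one hzj
    have d3 : 3 ∣ j := o3 ▸ orderOf_dvd_of_pow_eq_one hwj
    omega

end Six

/-- A central extension of the alternating group of degree 6 or 7 having an element of order
divisible by 6 in the intersection of its kernel and its commutator subgroup. -/
theorem exists_cover_six (n : ℕ) (hn : n = 6 ∨ n = 7) :
    ∃ (Δ : Type) (_ : Group Δ) (τ : Δ →* alternatingGroup (Fin n)),
      Function.Surjective τ ∧ τ.ker ≤ Subgroup.center Δ ∧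
      ∃ ω : Δ, ω ∈ τ.ker ⊓ commutator Δ ∧ ∀ j : ℕ, ω ^ j = 1 → 6 ∣ j := by
  have h4 : 4 ≤ n := by omega
  obtain ⟨Γ, instG, instF, z, hzc, hz2, hzcomm, hnorm, ⟨e⟩⟩ := Cfsg.Agent.S0891.result n h4
  have hT : ∃ (T : Type) (_ : Group T) (β : T →* alternatingGroup (Fin n)),
      Function.Surjective β ∧ β.ker ≤ Subgroup.center T ∧ (∀ x ∈ β.ker, x ^ 3 = 1) ∧
      ∃ w ∈ β.ker ⊓ commutator T, w ≠ 1 := by
    rcases hn with rfl | rfl
    · exact exists_tripleA6
    · exact exists_tripleA7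
  obtain ⟨T, instT, β, hβ, hβc, hβ3, w, hw, hw1⟩ := hT
  let q : Γ →* alternatingGroup (Fin n) :=
    e.toMonoidHom.comp (QuotientGroup.mk' (Subgroup.zpowers z))
  have hq : Function.Surjective q := e.surjective.comp (QuotientGroup.mk'_surjective _)
  have hqk : q.ker = Subgroup.zpowers z := by
    ext g
    rw [MonoidHom.mem_ker]
    show e (QuotientGroup.mk' (Subgroup.zpowers z) g) = 1 ↔ _
    rw [map_eq_one_iff e e.injective, QuotientGroup.mk'_apply, QuotientGroup.eq_one_iff]
  have hzsq : z ^ 2 = 1 := by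
    rw [← hz2]
    exact pow_orderOf_eq_one z
  have hz1 : z ≠ 1 := by
    intro h
    rw [h, orderOf_one] at hz2
    exact absurd hz2 (by norm_num)
  have hqc : q.ker ≤ Subgroup.center Γ := by
    rw [hqk]
    exact (Subgroup.zpowers_le).mpr hzc
  have hq2 : ∀ g ∈ q.ker, g ^ 2 = 1 := by
    intro g hg
    rw [hqk] at hg
    obtain ⟨k, rfl⟩ := Subgroup.mem_zpowers_iff.mp hg
    rw [← zpow_natCast, ← zpow_mul, mul_comm, zpow_mul, zpow_natCast, hzsq, one_zpow]
  have hzk : z ∈ q.ker := by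
    rw [hqk]
    exact Subgroup.mem_zpowers z
  obtain ⟨ω, hω, hord⟩ := exists_order_six q hq hq2 z (Subgroup.mem_inf.mpr ⟨hzk, hzcomm⟩) hz1
    β hβ hβ3 w hw hw1
  exact ⟨fiber q β, inferInstance, q.comp (fiberFst q β),
    hq.comp (fiberFst_surjective q β hβ), fiber_ker_le_center q β hqc hβc, ω, hω, hord⟩

end Cfsg.Agent.Lib.helper6.Tr7
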