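import Cfsg.Agent.Lib.helper6.InvPairs

/-!
The subgroup generated by two involutions: conjugacy when the product has odd order,
a central involution when the product has even order.
-/

set_option autoImplicit false

namespace Cfsg.Agent.Lib.helper6

variable {G : Type*} [Group G]

/-- `s` inverts `s * t`. -/
theorem inv_left_inverts {s t : G} (hs : orderOf s = 2) (ht : orderOf t = 2) :
    s * (s * t) * s⁻¹ = (s * t)⁻¹ := pair_conj hs ht rfl

/-- `t` inverts `s * t`. -/
theorem inv_right_inverts {s t : G} (hs : orderOf s = 2) (ht : orderOf t = 2) :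
    t * (s * t) * t⁻¹ = (s * t)⁻¹ := by
  rw [mul_inv_rev, inv_eq_self hs, inv_eq_self ht]
  have : t * (s * t) * t = t * s * (t * t) := by group
  rw [this, inv_mul_self' ht, mul_one]

/-- If `c` inverts `r` then `c * r ^ k * c⁻¹ = (r ^ k)⁻¹`. -/
theorem inverts_pow {c r : G} (h : c * r * c⁻¹ = r⁻¹) (k : ℕ) :
    c * r ^ k * c⁻¹ = (r ^ k)⁻¹ := by
  rw [← conj_pow, h, inv_pow]

/-- If `c` inverts `r` then `r ^ k * c * (r ^ k)⁻¹ = r ^ (2 * k) * c`. -/
theorem conj_by_pow {c r : G} (h : c * r * c⁻¹ = r⁻¹) (k : ℕ) :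
    r ^ k * c * (r ^ k)⁻¹ = r ^ (2 * k) * c := by
  have h1 := inverts_pow h k
  have h2 : r ^ k * c * (r ^ k)⁻¹ = r ^ k * (c * r ^ k * c⁻¹)⁻¹ * c := by group
  rw [h2, h1, inv_inv, two_mul, pow_add]

/-- Two involutions whose product has odd order are conjugate. -/
theorem isConj_of_odd_orderOf_mul {s t : G} (hs : orderOf s = 2) (ht : orderOf t = 2)
    (hodd : Odd (orderOf (s * t))) : IsConj s t := by
  obtain ⟨k, hk⟩ := hodd
  rw [isConj_iff]
  refine ⟨(s * t) ^ k, ?_⟩
  rw [conj_by_pow (inv_left_inverts hs ht) k]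
  have h1 : (s * t) ^ (2 * k + 1) = 1 := by rw [← hk]; exact pow_orderOf_eq_one _
  have h2 : (s * t) ^ (2 * k) = (s * t)⁻¹ := by
    rw [pow_succ] at h1
    exact eq_inv_of_mul_eq_one_left h1
  rw [h2, mul_inv_rev, inv_eq_self hs, inv_eq_self ht, mul_assoc, inv_mul_self' hs, mul_one]

/-- If the product of two involutions has even order `2 * k`, then `(s * t) ^ k` is an involution
commuting with both. -/
theorem central_involution_of_even {s t : G} (hs : orderOf s = 2) (ht : orderOf t = 2) {k : ℕ}
    (hk : orderOf (s * t) = 2 * k) (hk0 : 0 < k) :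
    orderOf ((s * t) ^ k) = 2 ∧ Commute ((s * t) ^ k) s ∧ Commute ((s * t) ^ k) t := by
  have hz : orderOf ((s * t) ^ k) = 2 := by
    apply orderOf_two_iff.2
    refine ⟨?_, ?_⟩
    · rw [← pow_mul, mul_comm, ← hk, pow_orderOf_eq_one]
    · intro h
      have := orderOf_dvd_of_pow_eq_one h
      rw [hk] at this
      have := Nat.le_of_dvd hk0 this
      omega
  refine ⟨hz, ?_, ?_⟩
  · have h1 := inverts_pow (inv_left_inverts hs ht) k
    rw [inv_eq_self hz] at h1
    show (s * t) ^ k * s = s * (s * t) ^ k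
    have : s * (s * t) ^ k = (s * (s * t) ^ k * s⁻¹) * s := by group
    rw [this, h1]
  · have h1 := inverts_pow (inv_right_inverts hs ht) k
    rw [inv_eq_self hz] at h1
    show (s * t) ^ k * t = t * (s * t) ^ k
    have : t * (s * t) ^ k = (t * (s * t) ^ k * t⁻¹) * t := by group
    rw [this, h1]

/-- Non-conjugate involutions in a finite group commute with a common involution. -/
theorem exists_central_involution_of_not_isConj [Finite G] {s t : G} (hs : orderOf s = 2)
    (ht : orderOf t = 2) (hns : ¬ IsConj s t) :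
    ∃ z : G, orderOf z = 2 ∧ Commute z s ∧ Commute z t := by
  rcases Nat.even_or_odd (orderOf (s * t)) with he | ho
  · obtain ⟨k, hk⟩ := he
    have hk0 : 0 < k := by
      have := orderOf_pos (s * t)
      omega
    exact ⟨(s * t) ^ k, central_involution_of_even hs ht (by rw [hk]; ring) hk0⟩
  · exact absurd (isConj_of_odd_orderOf_mul hs ht ho) hns

/-- Two commuting involutions lie in a common Sylow 2-subgroup. -/
theorem exists_sylow_of_commute [Finite G] {a b : G} (ha : orderOf a = 2) (hb : orderOf b = 2)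
    (hab : Commute a b) : ∃ P : Sylow 2 G, a ∈ P ∧ b ∈ P := by
  haveI : Fact (Nat.Prime 2) := ⟨Nat.prime_two⟩
  have hcomm : ∀ x ∈ ({a, b} : Set G), ∀ y ∈ ({a, b} : Set G), x * y = y * x := by
    intro x hx y hy
    rcases hx with rfl | rfl <;> rcases hy with rfl | rfl
    · rfl
    · exact hab.eq
    · exact hab.eq.symm
    · rfl
  letI := Subgroup.closureCommGroupOfComm hcomm
  have hsq : ∀ g : Subgroup.closure ({a, b} : Set G), g ^ 2 = 1 := by
    intro g
    obtain ⟨g, hg⟩ := g
    induction hg using Subgroup.closure_induction with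
    | mem x hx =>
      apply Subtype.ext
      show x ^ 2 = 1
      rcases hx with rfl | rfl
      · exact inv_sq ha
      · exact inv_sq hb
    | one => exact one_pow 2
    | mul x y hx hy ihx ihy =>
      have : (⟨x * y, Subgroup.mul_mem _ hx hy⟩ : Subgroup.closure ({a, b} : Set G)) =
          ⟨x, hx⟩ * ⟨y, hy⟩ := rfl
      rw [this, mul_pow, ihx, ihy, one_mul]
    | inv x hx ihx =>
      have : (⟨x⁻¹, Subgroup.inv_mem _ hx⟩ : Subgroup.closure ({a, b} : Set G)) =
          (⟨x, hx⟩ : Subgroup.closure ({a, b} : Set G))⁻¹ := rfl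
      rw [this, inv_pow, ihx, inv_one]
  have hp : IsPGroup 2 (Subgroup.closure ({a, b} : Set G)) := by
    intro g
    exact ⟨1, by rw [pow_one]; exact hsq g⟩
  obtain ⟨P, hP⟩ := hp.exists_le_sylow
  exact ⟨P, hP (Subgroup.subset_closure (by simp)), hP (Subgroup.subset_closure (by simp))⟩

/-- Orbit-stabilizer for conjugation, with `Nat.card`. -/
theorem card_conj_mul_card_centralizer [Finite G] (t : G) :
    Nat.card {v : G // IsConj t v} * Nat.card (Subgroup.centralizer ({t} : Set G)) =
      Nat.card G := by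
  rw [Subgroup.nat_card_centralizer_nat_card_stabilizer, ← Nat.card_prod]
  have e1 : {v : G // IsConj t v} ≃ MulAction.orbit (ConjAct G) t :=
    Equiv.subtypeEquivRight (fun v => by rw [ConjAct.mem_orbit_conjAct, isConj_comm])
  rw [Nat.card_congr (Equiv.prodCongr e1 (Equiv.refl _)),
    Nat.card_congr (MulAction.orbitProdStabilizerEquivGroup (ConjAct G) t)]
  exact Nat.card_congr ConjAct.ofConjAct.toEquiv

end Cfsg.Agent.Lib.helper6
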