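import Mathlib
import Cfsg.Agent.Lib.helper21.Orbits

/-!
# Elementary abelian subgroups of order 8 and the number of involutions

* `four_dvd_card_sq_eq_one`: a finite group containing an elementary abelian subgroup of order 8
  has a number of solutions of `t ^ 2 = 1` divisible by 4.
* `exists_normal_four_data`: a finite 2-group with a central involution `z` whose number of
  solutions of `t ^ 2 = 1` is divisible by 4 has an involution `t ≠ z` all of whose conjugates
  are `t` or `t * z` (so `⟨z, t⟩` is a normal four-subgroup).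
* `sup_zpowers_card`: adjoining a commuting involution to an exponent-2 subgroup.
-/

set_option autoImplicit false

namespace Cfsg.Agent.Lib.helper6

open MulAction

section E8

variable {P : Type*} [Group P]

theorem card_orbit_mul_card_stabilizer {Γ X : Type*} [Group Γ] [MulAction Γ X] (b : X) :
    Nat.card (orbit Γ b) * Nat.card (stabilizer Γ b) = Nat.card Γ := by
  rw [← Nat.card_prod, Nat.card_congr (orbitProdStabilizerEquivGroup Γ b)]

theorem sq_inv_eq {a : P} (h : a ^ 2 = 1) : a⁻¹ = a := by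
  rw [inv_eq_iff_mul_eq_one, ← sq, h]

theorem comm_of_exp_two (E : Subgroup P) (hexp : ∀ e ∈ E, e ^ 2 = 1) {a b : P} (ha : a ∈ E)
    (hb : b ∈ E) : a * b = b * a := by
  have h1 := sq_inv_eq (hexp a ha)
  have h2 := sq_inv_eq (hexp b hb)
  have h3 := sq_inv_eq (hexp (a * b) (E.mul_mem ha hb))
  rw [mul_inv_rev, h1, h2] at h3
  exact h3.symm

theorem mem_centralizer_singleton {t g : P} :
    g ∈ Subgroup.centralizer ({t} : Set P) ↔ t * g = g * t := by
  rw [Subgroup.mem_centralizer_iff]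
  simp

theorem centralizer_mul_right (E : Subgroup P) (hexp : ∀ e ∈ E, e ^ 2 = 1) {t f : P}
    (ht : t ^ 2 = 1) (hf : f ∈ E) (hft : t * f = f * t) :
    (t * f) ^ 2 = 1 ∧ E ⊓ Subgroup.centralizer {t * f} = E ⊓ Subgroup.centralizer {t} := by
  constructor
  · rw [sq, mul_assoc, ← mul_assoc f t f, ← hft, mul_assoc t f f, ← sq f, hexp f hf, mul_one,
      ← sq, ht]
  · ext e
    simp only [Subgroup.mem_inf, mem_centralizer_singleton]
    constructor
    · rintro ⟨he, h⟩
      refine ⟨he, ?_⟩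
      have hc := comm_of_exp_two E hexp hf he
      have h1 : t * e * f = e * t * f := by
        calc t * e * f = t * (e * f) := by group
          _ = t * (f * e) := by rw [hc]
          _ = t * f * e := by group
          _ = e * (t * f) := h
          _ = e * t * f := by group
      exact mul_right_cancel h1
    · rintro ⟨he, h⟩
      refine ⟨he, ?_⟩
      have hc := comm_of_exp_two E hexp hf he
      calc t * f * e = t * (f * e) := by group
        _ = t * (e * f) := by rw [hc]
        _ = t * e * f := by group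
        _ = e * t * f := by rw [h]
        _ = e * (t * f) := by group

theorem centralizer_conj (E : Subgroup P) (hexp : ∀ e ∈ E, e ^ 2 = 1) {t e : P}
    (ht : t ^ 2 = 1) (he : e ∈ E) :
    (e * t * e⁻¹) ^ 2 = 1 ∧
      E ⊓ Subgroup.centralizer {e * t * e⁻¹} = E ⊓ Subgroup.centralizer {t} := by
  constructor
  · rw [sq]
    calc e * t * e⁻¹ * (e * t * e⁻¹) = e * (t * t) * e⁻¹ := by group
      _ = 1 := by rw [← sq, ht]; group
  · ext e'
    simp only [Subgroup.mem_inf, mem_centralizer_singleton]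
    have key : ∀ he' : e' ∈ E, (e * t * e⁻¹ * e' = e' * (e * t * e⁻¹) ↔ t * e' = e' * t) := by
      intro he'
      have hc : e * e' = e' * e := comm_of_exp_two E hexp he he'
      have hc' : e⁻¹ * e' = e' * e⁻¹ := comm_of_exp_two E hexp (E.inv_mem he) he'
      constructor
      · intro h
        calc t * e' = e⁻¹ * (e * t * (e' * e⁻¹)) * e := by group
          _ = e⁻¹ * (e * t * (e⁻¹ * e')) * e := by rw [hc']
          _ = e⁻¹ * (e * t * e⁻¹ * e') * e := by group
          _ = e⁻¹ * (e' * (e * t * e⁻¹)) * e := by rw [h]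
          _ = (e⁻¹ * e') * e * t := by group
          _ = (e' * e⁻¹) * e * t := by rw [hc']
          _ = e' * t := by group
      · intro h
        calc e * t * e⁻¹ * e' = e * t * (e⁻¹ * e') := by group
          _ = e * t * (e' * e⁻¹) := by rw [hc']
          _ = e * (t * e') * e⁻¹ := by group
          _ = e * (e' * t) * e⁻¹ := by rw [h]
          _ = (e * e') * t * e⁻¹ := by group
          _ = (e' * e) * t * e⁻¹ := by rw [hc]
          _ = e' * (e * t * e⁻¹) := by group
    constructor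
    · rintro ⟨he', h⟩
      exact ⟨he', (key he').mp h⟩
    · rintro ⟨he', h⟩
      exact ⟨he', (key he').mpr h⟩

/-- A finite group containing an elementary abelian subgroup of order 8 has a number of
solutions of `t ^ 2 = 1` divisible by 4. -/
theorem four_dvd_card_sq_eq_one [Finite P] (E : Subgroup P) (hE : Nat.card E = 8)
    (hexp : ∀ e ∈ E, e ^ 2 = 1) : 4 ∣ Nat.card {t : P // t ^ 2 = 1} := by
  classical
  have : Fintype (Subgroup P) := Fintype.ofFinite _
  let c : {t : P // t ^ 2 = 1} → Subgroup P := fun t => E ⊓ Subgroup.centralizer {t.1}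
  rw [Nat.card_congr (Equiv.sigmaFiberEquiv c).symm, Nat.card_sigma]
  apply Finset.dvd_sum
  intro F _
  by_cases hne : Nonempty {x : {t : P // t ^ 2 = 1} // c x = F}
  swap
  · rw [not_nonempty_iff] at hne
    simp
  obtain ⟨x₀⟩ := hne
  have hFE : F ≤ E := by rw [← x₀.2]; exact inf_le_left
  have hFc : ∀ x : {x : {t : P // t ^ 2 = 1} // c x = F}, ∀ f ∈ F, x.1.1 * f = f * x.1.1 := by
    intro x f hf
    have h1 : f ∈ E ⊓ Subgroup.centralizer {x.1.1} := by
      rw [show E ⊓ Subgroup.centralizer {x.1.1} = F from x.2]; exact hf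
    exact mem_centralizer_singleton.mp h1.2
  obtain ⟨k, hk3, hk⟩ := (Nat.dvd_prime_pow Nat.prime_two).mp
    (show Nat.card F ∣ 2 ^ 3 by
      rw [show (2 : ℕ) ^ 3 = 8 from rfl, ← hE]; exact Subgroup.card_dvd_of_le hFE)
  by_cases h4 : 2 ≤ k
  · -- `F` acts freely by right multiplication
    letI : MulAction F {x : {t : P // t ^ 2 = 1} // c x = F} :=
      { smul := fun f x => ⟨⟨x.1.1 * (f : P)⁻¹,
            (centralizer_mul_right E hexp x.1.2 (hFE (F.inv_mem f.2))
              (hFc x _ (F.inv_mem f.2))).1⟩, by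
            show E ⊓ Subgroup.centralizer {x.1.1 * (f : P)⁻¹} = F
            rw [(centralizer_mul_right E hexp x.1.2 (hFE (F.inv_mem f.2))
              (hFc x _ (F.inv_mem f.2))).2]
            exact x.2⟩
        one_smul := fun x => by
          apply Subtype.ext; apply Subtype.ext
          show x.1.1 * ((1 : F) : P)⁻¹ = x.1.1
          simp
        mul_smul := fun f g x => by
          apply Subtype.ext; apply Subtype.ext
          show x.1.1 * ((f * g : F) : P)⁻¹ = x.1.1 * (g : P)⁻¹ * (f : P)⁻¹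
          simp [mul_assoc] }
    apply Cfsg.Agent.Lib.helper21.dvd_card_of_dvd_card_orbit (H := F)
    intro x
    have hstab : stabilizer F x = ⊥ := by
      rw [eq_bot_iff]
      intro f hf
      rw [mem_stabilizer_iff] at hf
      have h1 : x.1.1 * (f : P)⁻¹ = x.1.1 := congrArg (fun y => y.1.1) hf
      rw [Subgroup.mem_bot]
      apply Subtype.ext
      simpa using h1
    have h2 := card_orbit_mul_card_stabilizer (Γ := F) x
    rw [hstab, Subgroup.card_bot, mul_one, hk] at h2
    rw [h2]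
    exact (show (4 : ℕ) = 2 ^ 2 from rfl) ▸ pow_dvd_pow 2 h4
  · -- `E` acts by conjugation with stabilizer `F`
    letI : MulAction E {x : {t : P // t ^ 2 = 1} // c x = F} :=
      { smul := fun e x => ⟨⟨(e : P) * x.1.1 * (e : P)⁻¹,
            (centralizer_conj E hexp x.1.2 e.2).1⟩, by
            show E ⊓ Subgroup.centralizer {(e : P) * x.1.1 * (e : P)⁻¹} = F
            rw [(centralizer_conj E hexp x.1.2 e.2).2]
            exact x.2⟩
        one_smul := fun x => by
          apply Subtype.ext; apply Subtype.ext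
          show ((1 : E) : P) * x.1.1 * ((1 : E) : P)⁻¹ = x.1.1
          simp
        mul_smul := fun e e' x => by
          apply Subtype.ext; apply Subtype.ext
          show ((e * e' : E) : P) * x.1.1 * ((e * e' : E) : P)⁻¹
            = (e : P) * ((e' : P) * x.1.1 * (e' : P)⁻¹) * (e : P)⁻¹
          simp [mul_assoc] }
    apply Cfsg.Agent.Lib.helper21.dvd_card_of_dvd_card_orbit (H := E)
    intro x
    have hstab : Nat.card (stabilizer E x) = Nat.card F := by
      have h1 : stabilizer E x = F.subgroupOf E := by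
        ext e
        have hx2 : E ⊓ Subgroup.centralizer {x.1.1} = F := x.2
        have hF : ∀ g : P, g ∈ F ↔ g ∈ E ∧ x.1.1 * g = g * x.1.1 := by
          intro g
          have h0 : g ∈ F ↔ g ∈ E ⊓ Subgroup.centralizer {x.1.1} :=
            (SetLike.ext_iff.mp hx2 g).symm
          rw [h0, Subgroup.mem_inf, mem_centralizer_singleton]
        rw [mem_stabilizer_iff, Subgroup.mem_subgroupOf, hF]
        constructor
        · intro h
          have h1 : (e : P) * x.1.1 * (e : P)⁻¹ = x.1.1 := congrArg (fun y => y.1.1) h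
          refine ⟨e.2, ?_⟩
          calc x.1.1 * (e : P) = ((e : P) * x.1.1 * (e : P)⁻¹) * (e : P) := by rw [h1]
            _ = (e : P) * x.1.1 := by group
        · rintro ⟨_, h⟩
          apply Subtype.ext; apply Subtype.ext
          show (e : P) * x.1.1 * (e : P)⁻¹ = x.1.1
          rw [← h]; group
      rw [h1]
      exact Nat.card_congr (Subgroup.subgroupOfEquivOfLe hFE).toEquiv
    have h2 := card_orbit_mul_card_stabilizer (Γ := E) x
    rw [hstab, hE, hk] at h2
    have hk1 : k ≤ 1 := by omega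
    interval_cases k
    · have h3 : Nat.card (orbit E x) = 8 := by omega
      rw [h3]; norm_num
    · have h3 : Nat.card (orbit E x) = 4 := by omega
      rw [h3]

theorem mem_zpowers_of_sq {z c : P} (hz2 : z ^ 2 = 1) (hc : c ∈ Subgroup.zpowers z) :
    c = 1 ∨ c = z := by
  obtain ⟨k, rfl⟩ := Subgroup.mem_zpowers_iff.mp hc
  rcases Int.emod_two_eq_zero_or_one k with h | h
  · left
    have h1 : k = 2 * (k / 2) := by omega
    rw [h1, zpow_mul, zpow_ofNat, hz2, one_zpow]
  · right
    have h1 : k = 2 * (k / 2) + 1 := by omega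
    rw [h1, zpow_add, zpow_mul, zpow_ofNat, hz2, one_zpow, one_mul, zpow_one]

theorem act_mem_aux {z : P} (hzc : ∀ g : P, g * z = z * g) (hz2 : z ^ 2 = 1) (hz1 : z ≠ 1)
    {t : P} (ht : t ^ 2 = 1 ∧ t ≠ 1 ∧ t ≠ z) (g : P) {c : P} (hc : c = 1 ∨ c = z) :
    (g * t * g⁻¹ * c) ^ 2 = 1 ∧ g * t * g⁻¹ * c ≠ 1 ∧ g * t * g⁻¹ * c ≠ z := by
  have hconj2 : (g * t * g⁻¹) * (g * t * g⁻¹) = 1 := by
    calc (g * t * g⁻¹) * (g * t * g⁻¹) = g * (t * t) * g⁻¹ := by group
      _ = 1 := by rw [← sq, ht.1]; group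
  have hzz : z * z = 1 := by rw [← sq, hz2]
  have hconjz : g * t * g⁻¹ = z → t = z := by
    intro h
    have h1 : t = g⁻¹ * (g * t * g⁻¹) * g := by group
    rw [h1, h, mul_assoc, ← hzc g]; group
  have hconj1 : g * t * g⁻¹ = 1 → t = 1 := by
    intro h
    have h1 : t = g⁻¹ * (g * t * g⁻¹) * g := by group
    rw [h1, h]; group
  rcases hc with rfl | rfl
  · refine ⟨?_, ?_, ?_⟩
    · rw [mul_one, sq, hconj2]
    · rw [mul_one]; exact fun h => ht.2.1 (hconj1 h)
    · rw [mul_one]; exact fun h => ht.2.2 (hconjz h)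
  · refine ⟨?_, ?_, ?_⟩
    · have hca : c * (g * t * g⁻¹) = (g * t * g⁻¹) * c := (hzc _).symm
      rw [sq]
      calc g * t * g⁻¹ * c * (g * t * g⁻¹ * c)
          = (g * t * g⁻¹) * (c * (g * t * g⁻¹)) * c := by group
        _ = (g * t * g⁻¹) * ((g * t * g⁻¹) * c) * c := by rw [hca]
        _ = ((g * t * g⁻¹) * (g * t * g⁻¹)) * (c * c) := by group
        _ = 1 := by rw [hconj2, hzz, one_mul]
    · intro h
      apply ht.2.2
      apply hconjz
      calc g * t * g⁻¹ = g * t * g⁻¹ * c * c := by rw [mul_assoc (g * t * g⁻¹), hzz, mul_one]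
        _ = c := by rw [h, one_mul]
    · intro h
      apply ht.2.1
      apply hconj1
      calc g * t * g⁻¹ = g * t * g⁻¹ * c * c := by rw [mul_assoc (g * t * g⁻¹), hzz, mul_one]
        _ = 1 := by rw [h, hzz]

/-- A finite 2-group with a central involution `z` in which the number of solutions of
`t ^ 2 = 1` is divisible by 4 has an involution `t ≠ z` all of whose conjugates are `t` or
`t * z`. -/
theorem exists_normal_four_data [Finite P] (hP : IsPGroup 2 P) (z : P)
    (hzc : ∀ g : P, g * z = z * g) (hz2 : z ^ 2 = 1) (hz1 : z ≠ 1)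
    (h4 : 4 ∣ Nat.card {t : P // t ^ 2 = 1}) :
    ∃ t : P, t ^ 2 = 1 ∧ t ≠ 1 ∧ t ≠ z ∧ ∀ g : P, g * t * g⁻¹ = t ∨ g * t * g⁻¹ = t * z := by
  classical
  have hX : Nat.card {t : P // t ^ 2 = 1}
      = Nat.card {t : P // t ^ 2 = 1 ∧ t ≠ 1 ∧ t ≠ z} + 2 := by
    have e1 : Nat.card {t : P // t ^ 2 = 1} = Set.ncard {t : P | t ^ 2 = 1} :=
      Nat.card_coe_set_eq _
    have e2 : Nat.card {t : P // t ^ 2 = 1 ∧ t ≠ 1 ∧ t ≠ z}
        = Set.ncard {t : P | t ^ 2 = 1 ∧ t ≠ 1 ∧ t ≠ z} := Nat.card_coe_set_eq _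
    have e3 : {t : P | t ^ 2 = 1} = {t : P | t ^ 2 = 1 ∧ t ≠ 1 ∧ t ≠ z} ∪ {1, z} := by
      ext t
      simp only [Set.mem_setOf_eq, Set.mem_union, Set.mem_insert_iff, Set.mem_singleton_iff]
      constructor
      · intro h
        by_cases h1 : t = 1
        · exact Or.inr (Or.inl h1)
        · by_cases h2 : t = z
          · exact Or.inr (Or.inr h2)
          · exact Or.inl ⟨h, h1, h2⟩
      · rintro (h | h | h)
        · exact h.1
        · rw [h]; simp
        · rw [h]; exact hz2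
    have e4 : Disjoint {t : P | t ^ 2 = 1 ∧ t ≠ 1 ∧ t ≠ z} ({1, z} : Set P) := by
      rw [Set.disjoint_left]
      rintro t ⟨_, h1, h2⟩ (h | h)
      · exact h1 h
      · exact h2 h
    rw [e1, e2, e3, Set.ncard_union_eq e4 (Set.toFinite _) (Set.toFinite _),
      Set.ncard_pair (Ne.symm hz1)]
  have hc : ∀ c : Subgroup.zpowers z, (c : P) = 1 ∨ (c : P) = z :=
    fun c => mem_zpowers_of_sq hz2 c.2
  have hcc : ∀ (c : Subgroup.zpowers z) (g : P), g * (c : P) = (c : P) * g := by
    intro c g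
    rcases hc c with h | h
    · rw [h]; simp
    · rw [h]; exact hzc g
  letI : MulAction (P × Subgroup.zpowers z) {t : P // t ^ 2 = 1 ∧ t ≠ 1 ∧ t ≠ z} :=
    { smul := fun γ t => ⟨γ.1 * t.1 * γ.1⁻¹ * (γ.2 : P),
        act_mem_aux hzc hz2 hz1 t.2 γ.1 (hc γ.2)⟩
      one_smul := fun t => by
        apply Subtype.ext
        show (1 : P) * t.1 * (1 : P)⁻¹ * ((1 : Subgroup.zpowers z) : P) = t.1
        simp
      mul_smul := fun γ δ t => by
        apply Subtype.ext
        show (γ.1 * δ.1) * t.1 * (γ.1 * δ.1)⁻¹ * ((γ.2 * δ.2 : Subgroup.zpowers z) : P)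
          = γ.1 * (δ.1 * t.1 * δ.1⁻¹ * (δ.2 : P)) * γ.1⁻¹ * (γ.2 : P)
        have h1 := hcc δ.2 γ.1⁻¹
        have h2 := hcc δ.2 (γ.2 : P)
        rw [Subgroup.coe_mul, mul_inv_rev]
        calc γ.1 * δ.1 * t.1 * (δ.1⁻¹ * γ.1⁻¹) * ((γ.2 : P) * (δ.2 : P))
            = γ.1 * δ.1 * t.1 * δ.1⁻¹ * γ.1⁻¹ * ((γ.2 : P) * (δ.2 : P)) := by group
          _ = γ.1 * δ.1 * t.1 * δ.1⁻¹ * γ.1⁻¹ * ((δ.2 : P) * (γ.2 : P)) := by rw [h2]
          _ = γ.1 * δ.1 * t.1 * δ.1⁻¹ * (γ.1⁻¹ * (δ.2 : P)) * (γ.2 : P) := by group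
          _ = γ.1 * δ.1 * t.1 * δ.1⁻¹ * ((δ.2 : P) * γ.1⁻¹) * (γ.2 : P) := by rw [h1]
          _ = γ.1 * (δ.1 * t.1 * δ.1⁻¹ * (δ.2 : P)) * γ.1⁻¹ * (γ.2 : P) := by group }
  have hnot : ¬ 4 ∣ Nat.card {t : P // t ^ 2 = 1 ∧ t ≠ 1 ∧ t ≠ z} := by
    obtain ⟨m, hm⟩ := h4
    intro ⟨n, hn⟩
    omega
  have hex : ∃ x : {t : P // t ^ 2 = 1 ∧ t ≠ 1 ∧ t ≠ z},
      ¬ 4 ∣ Nat.card (orbit (P × Subgroup.zpowers z) x) := by
    by_contra hcon
    push Not at hcon
    exact hnot (Cfsg.Agent.Lib.helper21.dvd_card_of_dvd_card_orbit (H := P × Subgroup.zpowers z)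
      4 hcon)
  obtain ⟨x, hx⟩ := hex
  -- the orbit has at most two elements
  have hle : Nat.card (orbit (P × Subgroup.zpowers z) x) ≤ 2 := by
    have h1 := card_orbit_mul_card_stabilizer (Γ := P × Subgroup.zpowers z) x
    obtain ⟨a, ha⟩ := (IsPGroup.iff_card (p := 2)).mp hP
    have hz2' : orderOf z = 2 := orderOf_eq_prime hz2 hz1
    rw [Nat.card_prod, ha, Nat.card_zpowers, hz2', ← pow_succ] at h1
    obtain ⟨j, _, hj⟩ := (Nat.dvd_prime_pow Nat.prime_two).mp (Dvd.intro _ h1)
    rw [hj] at hx ⊢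
    have hj1 : j ≤ 1 := by
      by_contra hj2
      push Not at hj2
      exact hx ((show (4 : ℕ) = 2 ^ 2 from rfl) ▸ pow_dvd_pow 2 hj2)
    interval_cases j <;> norm_num
  set y : {t : P // t ^ 2 = 1 ∧ t ≠ 1 ∧ t ≠ z} :=
    ((1, ⟨z, Subgroup.mem_zpowers z⟩) : P × Subgroup.zpowers z) • x with hy
  have hyval : y.1 = x.1 * z := by
    show (1 : P) * x.1 * (1 : P)⁻¹ * z = x.1 * z
    simp
  have hxy : x ≠ y := by
    intro h
    have h1 : x.1 = x.1 * z := by rw [← hyval, ← h]
    exact hz1 (by simpa using h1.symm)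
  refine ⟨x.1, x.2.1, x.2.2.1, x.2.2.2, fun g => ?_⟩
  set w : {t : P // t ^ 2 = 1 ∧ t ≠ 1 ∧ t ≠ z} :=
    ((g, 1) : P × Subgroup.zpowers z) • x with hw
  have hwval : w.1 = g * x.1 * g⁻¹ := by
    show g * x.1 * g⁻¹ * ((1 : Subgroup.zpowers z) : P) = g * x.1 * g⁻¹
    simp
  by_cases h1 : w = x
  · left; rw [← hwval, h1]
  · by_cases h2 : w = y
    · right; rw [← hwval, h2, hyval]
    · exfalso
      have hsub : ({x, y, w} : Set {t : P // t ^ 2 = 1 ∧ t ≠ 1 ∧ t ≠ z})
          ⊆ orbit (P × Subgroup.zpowers z) x := by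
        intro v hv
        rcases hv with rfl | rfl | rfl
        · exact mem_orbit_self _
        · exact mem_orbit _ _
        · exact mem_orbit _ _
      have h3 : ({x, y, w} : Set {t : P // t ^ 2 = 1 ∧ t ≠ 1 ∧ t ≠ z}).ncard = 3 :=
        Set.ncard_eq_three.mpr ⟨x, y, w, hxy, fun h => h1 h.symm, fun h => h2 h.symm, rfl⟩
      have h4' := Set.ncard_le_ncard hsub (Set.toFinite _)
      rw [h3, ← Nat.card_coe_set_eq] at h4'
      omega

/-- Adjoining a commuting involution `d ∉ A` to a subgroup `A` of exponent 2. -/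
theorem sup_zpowers_card (A : Subgroup P) (hexp : ∀ u ∈ A, u ^ 2 = 1) (d : P)
    (hd : d ^ 2 = 1) (hdA : d ∉ A) (hcomm : ∀ u ∈ A, u * d = d * u) :
    Nat.card ↥(A ⊔ Subgroup.zpowers d) = Nat.card A * 2 ∧
      ∀ e ∈ A ⊔ Subgroup.zpowers d, e ^ 2 = 1 := by
  have hd1 : d ≠ 1 := fun h => hdA (h ▸ A.one_mem)
  have hcomm' : ∀ (u : A) (c : Subgroup.zpowers d),
      Commute (A.subtype u) ((Subgroup.zpowers d).subtype c) := by
    intro u c
    show Commute (u : P) (c : P)
    rcases mem_zpowers_of_sq hd c.2 with h | h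
    · rw [h]; exact Commute.one_right _
    · rw [h]; exact hcomm u u.2
  have hinj : Function.Injective
      (MonoidHom.noncommCoprod A.subtype (Subgroup.zpowers d).subtype hcomm') := by
    rw [MonoidHom.noncommCoprod_injective]
    refine ⟨Subtype.coe_injective, Subtype.coe_injective, ?_⟩
    rw [Subgroup.range_subtype, Subgroup.range_subtype, disjoint_iff_inf_le]
    rintro y ⟨hyA, hyd⟩
    rcases mem_zpowers_of_sq hd hyd with h | h
    · exact Subgroup.mem_bot.mpr h
    · exact absurd (h ▸ hyA) hdA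
  have hrange : (MonoidHom.noncommCoprod A.subtype (Subgroup.zpowers d).subtype hcomm').range
      = A ⊔ Subgroup.zpowers d := by
    rw [MonoidHom.noncommCoprod_range, Subgroup.range_subtype, Subgroup.range_subtype]
  constructor
  · rw [← hrange, ← Nat.card_congr (MonoidHom.ofInjective hinj).toEquiv, Nat.card_prod,
      Nat.card_zpowers, orderOf_eq_prime hd hd1]
  · intro e he
    rw [← hrange] at he
    obtain ⟨⟨u, c⟩, rfl⟩ := he
    show ((u : P) * (c : P)) ^ 2 = 1
    have hc' : Commute (u : P) (c : P) := hcomm' u c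
    rw [hc'.mul_pow, hexp u u.2]
    rcases mem_zpowers_of_sq hd c.2 with h | h
    · rw [h]; simp
    · rw [h, hd, one_mul]

end E8

end Cfsg.Agent.Lib.helper6
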