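import Mathlib
import Cfsg.Agent.Lib.helper11.L27

/-!
# A computational model of the simple group of order 168

Every simple group `G` of order `168` is isomorphic to helper11's `G168 ≤ Perm (Fin 8)`
(`PSL(2,7)` on the projective line).  We enumerate `G168` by octal codes (`dig c` is the
function `Fin 8 → Fin 8` with octal digits of `c`) and obtain, for every simple group `G`
of order `168`, a bijection `f : G → L168` (a `Model`) under which multiplication is the
kernel-computable code multiplication `cmul`.  All structural questions about `G` then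
reduce to `decide +kernel` checks on the list `L168`.
-/

namespace Cfsg.Agent.Lib.helper6.G168Model

open Equiv
open Cfsg.Agent.Lib.helper11.L27

/-- `i`-th octal digit of `n`. -/
def dg (n i : ℕ) : ℕ := (n / 8 ^ i) % 8

/-- Code of the composition `dig a ∘ dig b`. -/
def cmul (a b : ℕ) : ℕ :=
  dg a (dg b 0) + 8 * dg a (dg b 1) + 64 * dg a (dg b 2) + 512 * dg a (dg b 3) +
    4096 * dg a (dg b 4) + 32768 * dg a (dg b 5) + 262144 * dg a (dg b 6) +
    2097152 * dg a (dg b 7)

/-- Code of the identity. -/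
def idC : ℕ := 0o76543210

/-- Powers of a code. -/
def cpow (c : ℕ) : ℕ → ℕ
  | 0 => idC
  | k + 1 => cmul c (cpow c k)

/-- The 168 codes of the elements of `G168`. -/
def L168 : List ℕ := [
  380282, 414967, 442134, 571823, 650853, 727804, 945105, 1012522,
  1033613, 1139551, 1222585, 1269387, 1392076, 1439921, 1549030, 1628130,
  1766492, 1808723, 1886878, 1906485, 1977451, 2189803, 2324133, 2337692,
  2773435, 2811655, 2838360, 2895165, 2968119, 3018414, 3175795, 3313114,
  3397142, 3436244, 3507623, 3618874, 3785173, 3832514, 3913000, 4021472,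
  4041030, 4108468, 4346846, 4390155, 4441969, 4487406, 4557812, 4701221,
  5005217, 5169724, 5179727, 5288318, 5364807, 5414640, 5568388, 5706211,
  5761112, 5786235, 5803805, 5903919, 6152489, 6175624, 6243013, 6347964,
  6365030, 6465655, 6743520, 6779220, 6805890, 6880048, 6954437, 7061614,
  7347095, 7401002, 7537789, 7685048, 7757967, 7810817, 7873516, 7960589,
  8096417, 8148238, 8258418, 8309777, 8435189, 8518230, 8625386, 8741117,
  8761256, 8862343, 8942493, 9111529, 9169419, 9272641, 9347534, 9425584,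
  9705150, 9743391, 9768563, 9977674, 10081337, 10126039, 10282832, 10392963,
  10440794, 10538899, 10643066, 10687775, 10831814, 10910872, 10985779, 11029711,
  11109182, 11157041, 11278834, 11334694, 11504724, 11661706, 11744208, 11789505,
  12101880, 12136551, 12164740, 12346019, 12388761, 12527116, 12663609, 12698287,
  12725965, 12855143, 12934684, 13011131, 13228488, 13299937, 13349700, 13422871,
  13505912, 13553218, 13675459, 13727336, 13865117, 13911513, 14053907, 14124810,
  14432341, 14451948, 14522914, 14804300, 14857122, 14899409, 14969626, 15075221,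
  15156267, 15226484, 15240547, 15374366, 15526021, 15536556, 15673952, 15744169,
  15796942, 15835701, 16040178, 16096528, 16135238, 16339715, 16392537, 16434824]

/-- The codes of a Sylow 2-subgroup. -/
def S8 : List ℕ := [
  650853, 3618874, 4346846, 7347095, 9272641, 10985779, 14451948, 16434824]

theorem dg_lt (n i : ℕ) : dg n i < 8 := Nat.mod_lt _ (by norm_num)

theorem dg_comb (x0 x1 x2 x3 x4 x5 x6 x7 : ℕ) (h0 : x0 < 8) (h1 : x1 < 8) (h2 : x2 < 8)
    (h3 : x3 < 8) (h4 : x4 < 8) (h5 : x5 < 8) (h6 : x6 < 8) (h7 : x7 < 8) :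
    dg (x0 + 8 * x1 + 64 * x2 + 512 * x3 + 4096 * x4 + 32768 * x5 + 262144 * x6 +
      2097152 * x7) 0 = x0 ∧
    dg (x0 + 8 * x1 + 64 * x2 + 512 * x3 + 4096 * x4 + 32768 * x5 + 262144 * x6 +
      2097152 * x7) 1 = x1 ∧
    dg (x0 + 8 * x1 + 64 * x2 + 512 * x3 + 4096 * x4 + 32768 * x5 + 262144 * x6 +
      2097152 * x7) 2 = x2 ∧
    dg (x0 + 8 * x1 + 64 * x2 + 512 * x3 + 4096 * x4 + 32768 * x5 + 262144 * x6 +
      2097152 * x7) 3 = x3 ∧
    dg (x0 + 8 * x1 + 64 * x2 + 512 * x3 + 4096 * x4 + 32768 * x5 + 262144 * x6 +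
      2097152 * x7) 4 = x4 ∧
    dg (x0 + 8 * x1 + 64 * x2 + 512 * x3 + 4096 * x4 + 32768 * x5 + 262144 * x6 +
      2097152 * x7) 5 = x5 ∧
    dg (x0 + 8 * x1 + 64 * x2 + 512 * x3 + 4096 * x4 + 32768 * x5 + 262144 * x6 +
      2097152 * x7) 6 = x6 ∧
    dg (x0 + 8 * x1 + 64 * x2 + 512 * x3 + 4096 * x4 + 32768 * x5 + 262144 * x6 +
      2097152 * x7) 7 = x7 := by
  simp only [dg, Nat.reducePow]
  refine ⟨?_, ?_, ?_, ?_, ?_, ?_, ?_, ?_⟩ <;> omega

theorem dg_cmul (a b i : ℕ) (hi : i < 8) : dg (cmul a b) i = dg a (dg b i) := by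
  obtain ⟨H0, H1, H2, H3, H4, H5, H6, H7⟩ := dg_comb (dg a (dg b 0)) (dg a (dg b 1))
    (dg a (dg b 2)) (dg a (dg b 3)) (dg a (dg b 4)) (dg a (dg b 5)) (dg a (dg b 6))
    (dg a (dg b 7)) (dg_lt _ _) (dg_lt _ _) (dg_lt _ _) (dg_lt _ _) (dg_lt _ _) (dg_lt _ _)
    (dg_lt _ _) (dg_lt _ _)
  interval_cases i
  · exact H0
  · exact H1
  · exact H2
  · exact H3
  · exact H4
  · exact H5
  · exact H6
  · exact H7

theorem cmul_lt (a b : ℕ) : cmul a b < 8 ^ 8 := by
  have h0 := dg_lt a (dg b 0)
  have h1 := dg_lt a (dg b 1)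
  have h2 := dg_lt a (dg b 2)
  have h3 := dg_lt a (dg b 3)
  have h4 := dg_lt a (dg b 4)
  have h5 := dg_lt a (dg b 5)
  have h6 := dg_lt a (dg b 6)
  have h7 := dg_lt a (dg b 7)
  unfold cmul
  norm_num
  omega

theorem dig_val (n : ℕ) (i : Fin 8) : (dig n i).val = dg n i.val := rfl

theorem dig_cmul (a b : ℕ) : dig (cmul a b) = dig a ∘ dig b := by
  funext i
  apply Fin.ext
  rw [dig_val, Function.comp_apply, dig_val, dig_val, dg_cmul _ _ _ i.isLt]

theorem dig_inj {a b : ℕ} (ha : a < 8 ^ 8) (hb : b < 8 ^ 8) (h : dig a = dig b) : a = b := by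
  have e : ∀ i, i < 8 → dg a i = dg b i := fun i hi => by
    have := congrArg Fin.val (congrFun h ⟨i, hi⟩)
    rwa [dig_val, dig_val] at this
  have e0 := e 0 (by norm_num)
  have e1 := e 1 (by norm_num)
  have e2 := e 2 (by norm_num)
  have e3 := e 3 (by norm_num)
  have e4 := e 4 (by norm_num)
  have e5 := e 5 (by norm_num)
  have e6 := e 6 (by norm_num)
  have e7 := e 7 (by norm_num)
  simp only [dg, Nat.reducePow] at e0 e1 e2 e3 e4 e5 e6 e7
  norm_num at ha hb
  omega

theorem dig_idC : dig idC = id := by decide +kernel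

theorem lt_of_mem : ∀ c ∈ L168, c < 8 ^ 8 := by decide +kernel

theorem nodup_L168 : L168.Nodup := by decide +kernel

theorem length_L168 : L168.length = 168 := by decide +kernel

theorem idC_mem : idC ∈ L168 := by decide +kernel

/-- Code of the second generator `t0P * sP * t0P`. -/
def G2 : ℕ := 13505912

theorem G2_eq : G2 = cmul (cmul 0o01452367 0o70654321) 0o01452367 := by decide +kernel

theorem coe_G2 : ⇑(t0P * sP * t0P) = dig G2 := by
  rw [G2_eq, dig_cmul, dig_cmul, Perm.coe_mul, Perm.coe_mul, coe_t0P, coe_sP]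
  rfl

theorem left_closed : ∀ c ∈ L168, cmul 0o70654321 c ∈ L168 ∧ cmul G2 c ∈ L168 := by
  have h : (L168.all fun c => L168.contains (cmul 0o70654321 c) && L168.contains (cmul G2 c))
      = true := by decide +kernel
  intro c hc
  rw [List.all_eq_true] at h
  simpa using h c hc

theorem mem_codeSet_of_mem_G168 : ∀ g ∈ G168, ∃ c ∈ L168, ⇑g = dig c := by
  intro g hg
  unfold G168 at hg
  have step : ∀ x ∈ ({sP, t0P * sP * t0P} : Set (Perm (Fin 8))), ∀ y : Perm (Fin 8),
      (∃ c ∈ L168, ⇑y = dig c) → ∃ c ∈ L168, ⇑(x * y) = dig c := by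
    rintro x (rfl | rfl) y ⟨c, hc, hy⟩
    · refine ⟨cmul 0o70654321 c, (left_closed c hc).1, ?_⟩
      rw [Perm.coe_mul, hy, coe_sP, dig_cmul]
      rfl
    · refine ⟨cmul G2 c, (left_closed c hc).2, ?_⟩
      rw [Perm.coe_mul, hy, coe_G2, dig_cmul]
  have stepk : ∀ x ∈ ({sP, t0P * sP * t0P} : Set (Perm (Fin 8))), ∀ k : ℕ,
      ∀ y : Perm (Fin 8), (∃ c ∈ L168, ⇑y = dig c) → ∃ c ∈ L168, ⇑(x ^ k * y) = dig c := by
    intro x hx k
    induction k with
    | zero => intro y hy; rwa [pow_zero, one_mul]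
    | succ k ih =>
      intro y hy
      rw [pow_succ', mul_assoc]
      exact step x hx _ (ih y hy)
  induction hg using Subgroup.closure_induction_left with
  | one => exact ⟨idC, idC_mem, by rw [Perm.coe_one, dig_idC]⟩
  | mul_left x hx y _ ih => exact step x hx y ih
  | inv_mul_cancel x hx y _ ih =>
    have h1 : x⁻¹ = x ^ (orderOf x - 1) := by
      apply inv_eq_of_mul_eq_one_right
      rw [← pow_succ', Nat.sub_add_cancel (orderOf_pos x), pow_orderOf_eq_one]
    rw [h1]
    exact stepk x hx _ y ih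

/-- A code model of a group: a bijection onto `L168` turning multiplication into `cmul`. -/
structure Model {G : Type*} [Group G] (f : G → ℕ) : Prop where
  inj : Function.Injective f
  mem : ∀ g, f g ∈ L168
  surj : ∀ c ∈ L168, ∃ g, f g = c
  one : f 1 = idC
  mul : ∀ g h, f (g * h) = cmul (f g) (f h)

/-- Every simple group of order `168` has a code model. -/
theorem exists_model {G : Type*} [Group G] [Finite G] [IsSimpleGroup G]
    (h : Nat.card G = 168) : ∃ f : G → ℕ, Model f := by
  classical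
  obtain ⟨e⟩ := nonempty_mulEquiv_G168 h
  have key : ∀ g : G, ∃ c ∈ L168, ⇑(e g : Perm (Fin 8)) = dig c :=
    fun g => mem_codeSet_of_mem_G168 _ (e g).2
  choose f hfL hf using key
  have hinj : Function.Injective f := by
    intro a b hab
    apply e.injective
    apply Subtype.ext
    have h3 : (⇑(e a : Perm (Fin 8)) : Fin 8 → Fin 8) = ⇑(e b : Perm (Fin 8)) := by
      rw [hf a, hf b, hab]
    exact DFunLike.coe_injective h3
  refine ⟨f, hinj, hfL, ?_, ?_, ?_⟩
  · have : Fintype G := Fintype.ofFinite G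
    have himg : (Finset.univ.image f) = L168.toFinset := by
      apply Finset.eq_of_subset_of_card_le
      · intro c hc
        rw [Finset.mem_image] at hc
        obtain ⟨g, -, rfl⟩ := hc
        exact List.mem_toFinset.mpr (hfL g)
      · rw [Finset.card_image_of_injective _ hinj, Finset.card_univ, ← Nat.card_eq_fintype_card,
          h]
        exact le_trans (List.toFinset_card_le _) (le_of_eq length_L168)
    intro c hc
    have h2 := List.mem_toFinset.mpr hc
    rw [← himg, Finset.mem_image] at h2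
    obtain ⟨g, -, hg⟩ := h2
    exact ⟨g, hg⟩
  · apply dig_inj (lt_of_mem _ (hfL 1)) (lt_of_mem _ idC_mem)
    rw [← hf 1, dig_idC, map_one]
    rfl
  · intro a b
    apply dig_inj (lt_of_mem _ (hfL _)) (cmul_lt _ _)
    rw [← hf (a * b), dig_cmul, ← hf a, ← hf b, map_mul]
    rfl

section ModelLemmas

variable {G : Type*} [Group G] {f : G → ℕ}

theorem Model.eq_one_iff (M : Model f) (g : G) : g = 1 ↔ f g = idC := by
  constructor
  · rintro rfl
    exact M.one
  · intro h
    exact M.inj (h.trans M.one.symm)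

theorem Model.pow (M : Model f) (g : G) (k : ℕ) : f (g ^ k) = cpow (f g) k := by
  induction k with
  | zero => rw [pow_zero, M.one]; rfl
  | succ k ih => rw [pow_succ', M.mul, ih]; rfl

/-- Order of a code of `L168`. -/
def cord (c : ℕ) : ℕ :=
  if c = idC then 1 else if cmul c c = idC then 2 else if cpow c 3 = idC then 3
  else if cpow c 4 = idC then 4 else 7

theorem cord_spec : ∀ c ∈ L168, cpow c (cord c) = idC := by decide +kernel

theorem cord_cases : ∀ c ∈ L168,
    cord c = 1 ∨ cord c = 2 ∨ cord c = 3 ∨ cord c = 4 ∨ cord c = 7 := by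
  intro c _
  unfold cord
  split_ifs <;> simp

theorem Model.orderOf_eq (M : Model f) (g : G) : orderOf g = cord (f g) := by
  have hs := cord_spec (f g) (M.mem g)
  unfold cord at hs ⊢
  by_cases h1 : f g = idC
  · rw [if_pos h1]
    rw [(M.eq_one_iff g).mpr h1, orderOf_one]
  · rw [if_neg h1] at hs ⊢
    have hg1 : g ≠ 1 := fun h => h1 ((M.eq_one_iff g).mp h)
    by_cases h2 : cmul (f g) (f g) = idC
    · rw [if_pos h2]
      have : g ^ 2 = 1 := by
        rw [M.eq_one_iff, pow_two, M.mul]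
        exact h2
      exact orderOf_eq_prime this hg1
    · rw [if_neg h2] at hs ⊢
      by_cases h3 : cpow (f g) 3 = idC
      · rw [if_pos h3]
        have hg3 : g ^ 3 = 1 := by
          rw [M.eq_one_iff, M.pow]
          exact h3
        have : Fact (Nat.Prime 3) := ⟨Nat.prime_three⟩
        exact orderOf_eq_prime hg3 hg1
      · rw [if_neg h3] at hs ⊢
        by_cases h4 : cpow (f g) 4 = idC
        · rw [if_pos h4]
          have h44 : g ^ 2 ^ (1 + 1) = 1 := by
            rw [M.eq_one_iff, M.pow]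
            exact h4
          have h22 : ¬ g ^ 2 ^ 1 = 1 := by
            rw [M.eq_one_iff, pow_one, pow_two, M.mul]
            exact h2
          exact orderOf_eq_prime_pow h22 h44
        · rw [if_neg h4] at hs ⊢
          have hg7 : g ^ 7 = 1 := by
            rw [M.eq_one_iff, M.pow]
            exact hs
          have : Fact (Nat.Prime 7) := ⟨by norm_num⟩
          exact orderOf_eq_prime hg7 hg1

/-- Conjugacy of codes. -/
def cconj (a b : ℕ) : Bool := L168.any fun c => cmul c a == cmul b c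

theorem Model.isConj_iff (M : Model f) (s t : G) : IsConj s t ↔ cconj (f s) (f t) = true := by
  rw [_root_.isConj_iff]
  unfold cconj
  rw [List.any_eq_true]
  constructor
  · rintro ⟨c, hc⟩
    refine ⟨f c, M.mem c, ?_⟩
    rw [beq_iff_eq, ← M.mul, ← M.mul, ← hc]
    group
  · rintro ⟨c, hc, hcc⟩
    rw [beq_iff_eq] at hcc
    obtain ⟨g, rfl⟩ := M.surj c hc
    rw [← M.mul, ← M.mul] at hcc
    have := M.inj hcc
    exact ⟨g, by rw [this]; group⟩

theorem Model.card_of_list (M : Model f) (K : List ℕ) (hK : K.Nodup)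
    (hKL : ∀ c ∈ K, c ∈ L168) (P : G → Prop) (hP : ∀ g, P g ↔ f g ∈ K) :
    Nat.card {g // P g} = K.length := by
  classical
  have e : {g // P g} ≃ {c // c ∈ K.toFinset} :=
    Equiv.ofBijective (fun g => ⟨f g.1, List.mem_toFinset.mpr ((hP g.1).mp g.2)⟩)
      ⟨fun a b hab => Subtype.ext (M.inj (congrArg Subtype.val hab)), fun ⟨c, hc⟩ => by
        obtain ⟨g, hg⟩ := M.surj c (hKL c (List.mem_toFinset.mp hc))
        exact ⟨⟨g, (hP g).mpr (hg ▸ List.mem_toFinset.mp hc)⟩, Subtype.ext hg⟩⟩
  rw [Nat.card_congr e, Nat.card_eq_fintype_card, Fintype.card_coe,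
    List.toFinset_card_of_nodup hK]

theorem Model.card_filter (M : Model f) (Q : ℕ → Bool) (P : G → Prop)
    (hP : ∀ g, P g ↔ Q (f g) = true) : Nat.card {g // P g} = (L168.filter Q).length := by
  apply M.card_of_list (L168.filter Q) (nodup_L168.filter _)
    (fun c hc => (List.mem_filter.mp hc).1)
  intro g
  rw [hP, List.mem_filter]
  exact ⟨fun h => ⟨M.mem g, h⟩, fun h => h.2⟩

/-- If all codes of order `n` are conjugate to a fixed code, then all elements of order `n`
are conjugate. -/
theorem Model.isConj_of_rep (M : Model f) (n r : ℕ) (hr : r ∈ L168)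
    (h : ∀ a ∈ L168, cord a = n → cconj r a = true) (s t : G) (hs : orderOf s = n)
    (ht : orderOf t = n) : IsConj s t := by
  obtain ⟨g, rfl⟩ := M.surj r hr
  have h1 : IsConj g s := (M.isConj_iff g s).mpr (h _ (M.mem s) (by rw [← M.orderOf_eq, hs]))
  have h2 : IsConj g t := (M.isConj_iff g t).mpr (h _ (M.mem t) (by rw [← M.orderOf_eq, ht]))
  exact h1.symm.trans h2

theorem rep_check (n r : ℕ) (h : (L168.all fun a => !(cord a == n) || cconj r a) = true) :
    ∀ a ∈ L168, cord a = n → cconj r a = true := by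
  intro a ha hn
  rw [List.all_eq_true] at h
  have := h a ha
  rw [Bool.or_eq_true] at this
  rcases this with h1 | h1
  · rw [Bool.not_eq_true', beq_eq_false_iff_ne] at h1
    exact absurd hn h1
  · exact h1

/-- A conjugation-closed list of codes all conjugate to `r` is a conjugacy class. -/
theorem Model.isConj_iff_mem_class (M : Model f) (C : List ℕ) (r : ℕ) (hr : r ∈ C)
    (hCL : ∀ c ∈ C, c ∈ L168) (hclosed : ∀ a ∈ C, ∀ c ∈ L168, ∃ b ∈ C, cmul c a = cmul b c)
    (hconj : ∀ a ∈ C, cconj r a = true) (x g : G) (hx : f x ∈ C) : IsConj x g ↔ f g ∈ C := by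
  constructor
  · intro hc
    rw [_root_.isConj_iff] at hc
    obtain ⟨c, hc⟩ := hc
    obtain ⟨b, hb, hbe⟩ := hclosed (f x) hx (f c) (M.mem c)
    obtain ⟨g', rfl⟩ := M.surj b (hCL b hb)
    rw [← M.mul, ← M.mul] at hbe
    have h1 := M.inj hbe
    have h2 : g = g' := by rw [← hc, h1]; group
    rw [h2]
    exact hb
  · intro hg
    obtain ⟨g0, rfl⟩ := M.surj r (hCL r hr)
    have h1 : IsConj g0 x := (M.isConj_iff g0 x).mpr (hconj _ hx)
    have h2 : IsConj g0 g := (M.isConj_iff g0 g).mpr (hconj _ hg)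
    exact h1.symm.trans h2

theorem Model.class_card_and_not_conj_inv (M : Model f) (C C' : List ℕ) (r : ℕ) (hr : r ∈ C)
    (hnd : C.Nodup) (hCL : ∀ c ∈ C, c ∈ L168)
    (hclosed : ∀ a ∈ C, ∀ c ∈ L168, ∃ b ∈ C, cmul c a = cmul b c)
    (hconj : ∀ a ∈ C, cconj r a = true)
    (hinv : ∀ a ∈ C, ∀ b ∈ L168, cmul a b = idC → b ∈ C') (hdisj : ∀ a ∈ C, a ∉ C')
    (x : G) (hx : f x ∈ C) : Nat.card {g // IsConj x g} = C.length ∧ ¬ IsConj x x⁻¹ := by
  constructor
  · exact M.card_of_list C hnd hCL (fun g => IsConj x g)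
      (fun g => M.isConj_iff_mem_class C r hr hCL hclosed hconj x g hx)
  · intro hc
    have h1 := (M.isConj_iff_mem_class C r hr hCL hclosed hconj x x⁻¹ hx).mp hc
    have h2 : cmul (f x) (f x⁻¹) = idC := by rw [← M.mul, mul_inv_cancel, M.one]
    exact hdisj _ h1 (hinv _ hx _ (M.mem _) h2)

theorem Model.comp (M : Model f) (φ : G ≃* G) : Model (f ∘ φ) where
  inj := M.inj.comp φ.injective
  mem := fun g => M.mem (φ g)
  surj := fun c hc => by
    obtain ⟨g, hg⟩ := M.surj c hc
    exact ⟨φ.symm g, by rw [Function.comp_apply, MulEquiv.apply_symm_apply, hg]⟩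
  one := by rw [Function.comp_apply, map_one, M.one]
  mul := fun g h => by rw [Function.comp_apply, map_mul, M.mul]; rfl

/-- The subgroup with a given closed list of codes. -/
def Model.sub (M : Model f) (S : List ℕ) (h1 : idC ∈ S)
    (hmul : ∀ a ∈ S, ∀ b ∈ S, cmul a b ∈ S) : Subgroup G where
  carrier := {g | f g ∈ S}
  mul_mem' := by
    intro a b ha hb
    show f (a * b) ∈ S
    rw [M.mul]
    exact hmul _ ha _ hb
  one_mem' := by
    show f 1 ∈ S
    rw [M.one]
    exact h1
  inv_mem' := by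
    intro x hx
    have hpow : ∀ k : ℕ, f (x ^ k) ∈ S := by
      intro k
      induction k with
      | zero => rw [pow_zero, M.one]; exact h1
      | succ k ih => rw [pow_succ', M.mul]; exact hmul _ hx _ ih
    have hpos : 0 < orderOf x := by
      rw [M.orderOf_eq]
      rcases cord_cases (f x) (M.mem x) with h | h | h | h | h <;> rw [h] <;> norm_num
    have h1 : x⁻¹ = x ^ (orderOf x - 1) := by
      apply inv_eq_of_mul_eq_one_right
      rw [← pow_succ', Nat.sub_add_cancel hpos, pow_orderOf_eq_one]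
    show f x⁻¹ ∈ S
    rw [h1]
    exact hpow _

theorem Model.mem_sub (M : Model f) (S : List ℕ) (h1 : idC ∈ S)
    (hmul : ∀ a ∈ S, ∀ b ∈ S, cmul a b ∈ S) (x : G) : x ∈ M.sub S h1 hmul ↔ f x ∈ S :=
  Iff.rfl

end ModelLemmas

theorem S8_closed : ∀ a ∈ S8, ∀ b ∈ S8, cmul a b ∈ S8 := by decide +kernel

theorem S8_sub : ∀ c ∈ S8, c ∈ L168 := by decide +kernel

theorem S8_nodup : S8.Nodup := by decide +kernel

theorem idC_mem_S8 : idC ∈ S8 := by decide +kernel

/-- For every Sylow 2-subgroup `T` there is a model in which `T` is the standard list `S8`. -/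
theorem exists_model_sylow {G : Type*} [Group G] [Finite G] [IsSimpleGroup G]
    (h : Nat.card G = 168) (T : Sylow 2 G) :
    ∃ f : G → ℕ, Model f ∧ ∀ x, x ∈ (T : Subgroup G) ↔ f x ∈ S8 := by
  obtain ⟨f0, M0⟩ := exists_model h
  have hT0card : Nat.card (M0.sub S8 idC_mem_S8 S8_closed) = 8 :=
    M0.card_of_list S8 S8_nodup S8_sub (fun g => g ∈ M0.sub S8 idC_mem_S8 S8_closed)
      (fun g => M0.mem_sub S8 idC_mem_S8 S8_closed g)
  have hp : IsPGroup 2 (M0.sub S8 idC_mem_S8 S8_closed) :=
    IsPGroup.of_card (n := 3) (by rw [hT0card]; norm_num)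
  have hidx : ¬ 2 ∣ (M0.sub S8 idC_mem_S8 S8_closed).index := by
    have := (M0.sub S8 idC_mem_S8 S8_closed).card_mul_index
    rw [hT0card, h] at this
    omega
  obtain ⟨g, hg⟩ := MulAction.exists_smul_eq G (hp.toSylow hidx) T
  refine ⟨f0 ∘ (MulAut.conj g⁻¹), M0.comp _, fun x => ?_⟩
  rw [← hg]
  show x ∈ ((g • hp.toSylow hidx : Sylow 2 G) : Subgroup G) ↔ _
  rw [Sylow.coe_subgroup_smul, Subgroup.mem_pointwise_smul_iff_inv_smul_mem,
    IsPGroup.toSylow_coe, M0.mem_sub]
  simp [MulAut.smul_def]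

end Cfsg.Agent.Lib.helper6.G168Model
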