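import Mathlib
import Cfsg.Agent.Lib.helper6.G168Model

/-!
# Klein four-subgroups of the simple group of order 168 and their normalizers

Continuation of `G168Model`: in a model in which a Sylow 2-subgroup is the standard list `S8`,
the Klein four-subgroups of the Sylow subgroup are the two lists `K1`, `K2`; their normalizers
are the lists `N1`, `N2` (24 codes each), which act faithfully on four blocks of the
projective line, hence are isomorphic to `Perm (Fin 4)`.
-/

namespace Cfsg.Agent.Lib.helper6.G168Model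

open Equiv
open Cfsg.Agent.Lib.helper11.L27

/-- The two Klein four-subgroups of the standard Sylow 2-subgroup `S8`. -/
def K1 : List ℕ := [
  3618874, 10985779, 14451948, 16434824]

def K2 : List ℕ := [
  4346846, 9272641, 10985779, 16434824]

/-- Their normalizers. -/
def N1 : List ℕ := [
  650853, 945105, 1139551, 3618874, 3913000, 4108468, 4346846, 5005217,
  5364807, 6365030, 6954437, 7347095, 8518230, 8942493, 9272641, 10985779,
  12101880, 12527116, 13011131, 14124810, 14451948, 15156267, 16040178, 16434824]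

def N2 : List ℕ := [
  571823, 650853, 727804, 3436244, 3507623, 3618874, 4346846, 4390155,
  4441969, 7347095, 7401002, 7537789, 9272641, 9347534, 9425584, 10831814,
  10910872, 10985779, 14432341, 14451948, 14522914, 16339715, 16392537, 16434824]

theorem klein_table : ∀ K ∈ S8.sublists, K.length = 4 → (∀ a ∈ K, ∀ b ∈ K, cmul a b ∈ K) →
    (∀ a ∈ K, cmul a a = idC) → K = K1 ∨ K = K2 := by decide +kernel

theorem K1_sub_S8 : ∀ c ∈ K1, c ∈ S8 := by decide +kernel
theorem K2_sub_S8 : ∀ c ∈ K2, c ∈ S8 := by decide +kernel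
theorem K1_sub : ∀ c ∈ K1, c ∈ L168 := by decide +kernel
theorem K2_sub : ∀ c ∈ K2, c ∈ L168 := by decide +kernel
theorem K1_nodup : K1.Nodup := by decide +kernel
theorem K2_nodup : K2.Nodup := by decide +kernel
theorem K1_closed : ∀ a ∈ K1, ∀ b ∈ K1, cmul a b ∈ K1 := by decide +kernel
theorem K2_closed : ∀ a ∈ K2, ∀ b ∈ K2, cmul a b ∈ K2 := by decide +kernel
theorem K1_exp : ∀ a ∈ K1, cmul a a = idC := by decide +kernel
theorem K2_exp : ∀ a ∈ K2, cmul a a = idC := by decide +kernel
theorem idC_mem_K1 : idC ∈ K1 := by decide +kernel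
theorem idC_mem_K2 : idC ∈ K2 := by decide +kernel
theorem K1_not_conj_K2 : ∀ c ∈ L168, ¬ (∀ k ∈ K1, ∃ k' ∈ K2, cmul c k = cmul k' c) := by
  decide +kernel
theorem K2_not_conj_K1 : ∀ c ∈ L168, ¬ (∀ k ∈ K2, ∃ k' ∈ K1, cmul c k = cmul k' c) := by
  decide +kernel

section KleinLemmas

variable {G : Type*} [Group G] {f : G → ℕ}

/-- A Klein four-subgroup of the Sylow subgroup `S8` is `K1` or `K2`. -/
theorem Model.klein_cases (M : Model f) (T U : Subgroup G) (hT : ∀ x, x ∈ T ↔ f x ∈ S8)
    (hU : U ≤ T) (hk : IsKleinFour U) :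
    (∀ x, x ∈ U ↔ f x ∈ K1) ∨ (∀ x, x ∈ U ↔ f x ∈ K2) := by
  classical
  have hK : ∀ x, x ∈ U ↔ f x ∈ S8.filter (fun c => decide (∃ x ∈ U, f x = c)) := by
    intro x
    simp only [List.mem_filter, decide_eq_true_eq]
    constructor
    · intro hx
      exact ⟨(hT x).mp (hU hx), x, hx, rfl⟩
    · rintro ⟨-, y, hy, hyx⟩
      rwa [← M.inj hyx]
  have hKS : ∀ c ∈ S8.filter (fun c => decide (∃ x ∈ U, f x = c)), c ∈ L168 :=
    fun c hc => S8_sub c (List.mem_filter.mp hc).1
  have hsub : S8.filter (fun c => decide (∃ x ∈ U, f x = c)) ∈ S8.sublists :=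
    List.mem_sublists.mpr List.filter_sublist
  have hlen : (S8.filter (fun c => decide (∃ x ∈ U, f x = c))).length = 4 := by
    rw [← M.card_of_list _ (S8_nodup.sublist List.filter_sublist) hKS (fun g => g ∈ U) hK]
    exact hk.card_four
  have hcl : ∀ a ∈ S8.filter (fun c => decide (∃ x ∈ U, f x = c)),
      ∀ b ∈ S8.filter (fun c => decide (∃ x ∈ U, f x = c)),
      cmul a b ∈ S8.filter (fun c => decide (∃ x ∈ U, f x = c)) := by
    intro a ha b hb
    obtain ⟨x, rfl⟩ := M.surj a (hKS a ha)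
    obtain ⟨y, rfl⟩ := M.surj b (hKS b hb)
    rw [← M.mul, ← hK]
    exact U.mul_mem ((hK x).mpr ha) ((hK y).mpr hb)
  have hexp : ∀ a ∈ S8.filter (fun c => decide (∃ x ∈ U, f x = c)), cmul a a = idC := by
    intro a ha
    obtain ⟨x, rfl⟩ := M.surj a (hKS a ha)
    have hx : x ∈ U := (hK x).mpr ha
    have h2 : (⟨x, hx⟩ : U) ^ 2 = 1 := by
      have := Monoid.pow_exponent_eq_one (⟨x, hx⟩ : U)
      rwa [hk.exponent_two] at this
    have h3 : x * x = 1 := by
      have := congrArg Subtype.val h2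
      simpa [pow_two] using this
    rw [← M.mul, h3, M.one]
  rcases klein_table _ hsub hlen hcl hexp with h | h
  · left
    intro x
    rw [hK, h]
  · right
    intro x
    rw [hK, h]

theorem Model.isKleinFour_of (M : Model f) (U : Subgroup G) (K : List ℕ) (hKnd : K.Nodup)
    (hKL : ∀ c ∈ K, c ∈ L168) (hlen : K.length = 4) (hexp : ∀ a ∈ K, cmul a a = idC)
    (hU : ∀ x, x ∈ U ↔ f x ∈ K) : IsKleinFour U := by
  have hcard : Nat.card U = 4 := by
    rw [← hlen]
    exact M.card_of_list K hKnd hKL (fun g => g ∈ U) hU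
  refine ⟨hcard, ?_⟩
  have hd : Monoid.exponent U ∣ 2 := by
    apply Monoid.exponent_dvd_of_forall_pow_eq_one
    intro u
    apply Subtype.ext
    show (u : G) ^ 2 = 1
    rw [M.eq_one_iff, pow_two, M.mul]
    exact hexp _ ((hU u).mp u.2)
  rcases (Nat.dvd_prime Nat.prime_two).mp hd with h1 | h2
  · have hs : Subsingleton U := Monoid.exp_eq_one_iff.mp h1
    have : Nat.card U = 1 := Nat.card_unique
    omega
  · exact h2

/-- The Klein four-subgroups inside a Sylow 2-subgroup: exactly two. -/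
theorem Model.klein_count (M : Model f) (T : Subgroup G) (hT : ∀ x, x ∈ T ↔ f x ∈ S8) :
    Nat.card {U : Subgroup G // U ≤ T ∧ IsKleinFour ↥U} = 2 := by
  have hset : {U : Subgroup G | U ≤ T ∧ IsKleinFour ↥U} =
      {M.sub K1 idC_mem_K1 K1_closed, M.sub K2 idC_mem_K2 K2_closed} := by
    ext U
    simp only [Set.mem_ofPred_eq, Set.mem_insert_iff, Set.mem_singleton_iff]
    constructor
    · rintro ⟨hUT, hk⟩
      rcases M.klein_cases T U hT hUT hk with h | h
      · left
        ext x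
        rw [h x, M.mem_sub]
      · right
        ext x
        rw [h x, M.mem_sub]
    · rintro (rfl | rfl)
      · refine ⟨fun x hx => (hT x).mpr (K1_sub_S8 _ hx), ?_⟩
        exact M.isKleinFour_of _ K1 K1_nodup K1_sub (by decide +kernel) K1_exp
          (fun x => M.mem_sub K1 idC_mem_K1 K1_closed x)
      · refine ⟨fun x hx => (hT x).mpr (K2_sub_S8 _ hx), ?_⟩
        exact M.isKleinFour_of _ K2 K2_nodup K2_sub (by decide +kernel) K2_exp
          (fun x => M.mem_sub K2 idC_mem_K2 K2_closed x)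
  have hne : M.sub K1 idC_mem_K1 K1_closed ≠ M.sub K2 idC_mem_K2 K2_closed := by
    intro he
    obtain ⟨x, hx⟩ := M.surj 3618874 (by decide +kernel)
    have h1 : x ∈ M.sub K1 idC_mem_K1 K1_closed := by
      rw [M.mem_sub, hx]
      decide +kernel
    rw [he, M.mem_sub, hx] at h1
    revert h1
    decide +kernel
  have h1 : Nat.card {U : Subgroup G // U ≤ T ∧ IsKleinFour ↥U} =
      Set.ncard {U : Subgroup G | U ≤ T ∧ IsKleinFour ↥U} := Nat.card_coe_set_eq _
  rw [h1, hset, Set.ncard_pair hne]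

/-- Distinct Klein four-subgroups of a Sylow 2-subgroup are not conjugate. -/
theorem Model.klein_not_conj (M : Model f) (T : Subgroup G) (hT : ∀ x, x ∈ T ↔ f x ∈ S8)
    (U W : Subgroup G) (hU : U ≤ T) (hW : W ≤ T) (hkU : IsKleinFour ↥U) (hkW : IsKleinFour ↥W)
    (hne : U ≠ W) (g : G) : U.map (MulAut.conj g).toMonoidHom ≠ W := by
  intro heq
  have key : ∀ (K K' : List ℕ), (∀ c ∈ K, c ∈ L168) → (∀ x, x ∈ U ↔ f x ∈ K) →
      (∀ x, x ∈ W ↔ f x ∈ K') → ∀ k ∈ K, ∃ k' ∈ K', cmul (f g) k = cmul k' (f g) := by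
    intro K K' hKL hUK hWK k hk
    obtain ⟨u, rfl⟩ := M.surj k (hKL k hk)
    have hu : u ∈ U := (hUK u).mpr hk
    have h1 : g * u * g⁻¹ ∈ W := by
      rw [← heq]
      exact ⟨u, hu, rfl⟩
    refine ⟨f (g * u * g⁻¹), (hWK _).mp h1, ?_⟩
    rw [← M.mul, ← M.mul]
    congr 1
    group
  rcases M.klein_cases T U hT hU hkU with h1 | h1 <;>
    rcases M.klein_cases T W hT hW hkW with h2 | h2
  · exact hne (by ext x; rw [h1, h2])
  · exact K1_not_conj_K2 (f g) (M.mem g) (key K1 K2 K1_sub h1 h2)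
  · exact K2_not_conj_K1 (f g) (M.mem g) (key K2 K1 K2_sub h1 h2)
  · exact hne (by ext x; rw [h1, h2])

end KleinLemmas

/-- The function on four blocks induced by a code. -/
def bfun (blk : Fin 8 → Fin 4) (rep : Fin 4 → Fin 8) (c : ℕ) : Fin 4 → Fin 4 :=
  fun k => blk (dig c (rep k))

/-- The permutation of four blocks induced by a code (when it is one). -/
noncomputable def bperm (blk : Fin 8 → Fin 4) (rep : Fin 4 → Fin 8) (c : ℕ) : Perm (Fin 4) :=
  open Classical in
  if h : Function.Bijective (bfun blk rep c) then Equiv.ofBijective _ h else 1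

theorem bperm_coe (blk : Fin 8 → Fin 4) (rep : Fin 4 → Fin 8) (c : ℕ)
    (h : Function.Bijective (bfun blk rep c)) : ⇑(bperm blk rep c) = bfun blk rep c := by
  unfold bperm
  rw [dif_pos h]
  rfl

section S4Lemma

variable {G : Type*} [Group G] [Finite G] {f : G → ℕ}

/-- A subgroup whose code list `K` has normalizer list `N` of 24 codes acting faithfully on
four blocks has normalizer isomorphic to the symmetric group of degree 4. -/
theorem Model.normalizer_S4 (M : Model f) (U : Subgroup G) (K N : List ℕ)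
    (blk : Fin 8 → Fin 4) (rep : Fin 4 → Fin 8)
    (hU : ∀ x, x ∈ U ↔ f x ∈ K) (hKL : ∀ c ∈ K, c ∈ L168)
    (hN1 : ∀ c ∈ L168, (∀ k ∈ K, ∃ k' ∈ K, cmul c k = cmul k' c) → c ∈ N)
    (hN2 : ∀ c ∈ N, ∀ k ∈ K, ∃ k' ∈ K, cmul c k = cmul k' c)
    (hNnd : N.Nodup) (hNL : ∀ c ∈ N, c ∈ L168) (hNlen : N.length = 24)
    (hbij : ∀ c ∈ N, Function.Bijective (bfun blk rep c))
    (hmul : ∀ a ∈ N, ∀ b ∈ N, bfun blk rep (cmul a b) = bfun blk rep a ∘ bfun blk rep b)
    (hinj : ∀ c ∈ N, bfun blk rep c = id → c = idC) :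
    (∀ x, x ∈ Subgroup.normalizer (U : Set G) ↔ f x ∈ N) ∧
    Nonempty (↥(Subgroup.normalizer (U : Set G)) ≃* Perm (Fin 4)) := by
  have hNmem : ∀ x, x ∈ Subgroup.normalizer (U : Set G) ↔ f x ∈ N := by
    intro x
    constructor
    · intro hx
      apply hN1 (f x) (M.mem x)
      intro k hk
      obtain ⟨n, rfl⟩ := M.surj k (hKL k hk)
      have hn : n ∈ U := (hU n).mpr hk
      have h3 : x * n * x⁻¹ ∈ U := (Subgroup.mem_normalizer_iff.mp hx n).mp hn
      refine ⟨f (x * n * x⁻¹), (hU _).mp h3, ?_⟩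
      rw [← M.mul, ← M.mul]
      congr 1
      group
    · intro hx
      apply Subgroup.mem_normalizer_fintype
      intro n hn
      obtain ⟨k', hk', he⟩ := hN2 (f x) hx (f n) ((hU n).mp hn)
      obtain ⟨n', rfl⟩ := M.surj k' (hKL k' hk')
      rw [← M.mul, ← M.mul] at he
      have h4 := M.inj he
      have h5 : x * n * x⁻¹ = n' := by rw [h4]; group
      show x * n * x⁻¹ ∈ U
      rw [h5]
      exact (hU n').mpr hk'
  refine ⟨hNmem, ?_⟩
  have hcard : Nat.card (Subgroup.normalizer (U : Set G)) = 24 := by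
    rw [← hNlen]
    exact M.card_of_list N hNnd hNL (fun g => g ∈ Subgroup.normalizer (U : Set G)) hNmem
  have h1N : idC ∈ N := by
    rw [← M.one, ← hNmem]
    exact Subgroup.one_mem _
  let φ : ↥(Subgroup.normalizer (U : Set G)) →* Perm (Fin 4) :=
    { toFun := fun x => bperm blk rep (f x.1)
      map_one' := by
        apply Equiv.ext
        intro k
        have hx : f ((1 : ↥(Subgroup.normalizer (U : Set G))) : G) ∈ N :=
          (hNmem _).mp (Subgroup.one_mem _)
        rw [bperm_coe blk rep _ (hbij _ hx)]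
        have h2 : f ((1 : ↥(Subgroup.normalizer (U : Set G))) : G) = cmul idC idC := by
          rw [Subgroup.coe_one, ← M.one, ← M.mul, one_mul]
        have h3 := hmul idC h1N idC h1N
        have h4 : bfun blk rep idC = id := by
          have hb := hbij idC h1N
          funext j
          have := congrFun h3 j
          rw [show cmul idC idC = idC by decide +kernel, Function.comp_apply] at this
          exact (hb.1 this).symm
        rw [Subgroup.coe_one, M.one, h4]
        rfl
      map_mul' := by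
        intro x y
        apply Equiv.ext
        intro k
        have hx := (hNmem _).mp x.2
        have hy := (hNmem _).mp y.2
        have hxy := (hNmem _).mp (x * y).2
        rw [Perm.mul_apply, bperm_coe blk rep _ (hbij _ hxy), bperm_coe blk rep _ (hbij _ hx),
          bperm_coe blk rep _ (hbij _ hy), Subgroup.coe_mul, M.mul, hmul _ hx _ hy]
        rfl }
  have hφinj : Function.Injective φ := by
    rw [injective_iff_map_eq_one]
    intro x hx
    have hxN := (hNmem _).mp x.2
    have h2 : bfun blk rep (f x.1) = id := by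
      rw [← bperm_coe blk rep _ (hbij _ hxN)]
      have : bperm blk rep (f x.1) = 1 := hx
      rw [this]
      rfl
    apply Subtype.ext
    rw [Subgroup.coe_one, M.eq_one_iff]
    exact hinj _ hxN h2
  have hbijφ : Function.Bijective φ := by
    apply hφinj.bijective_of_nat_card_le
    rw [hcard, Nat.card_eq_fintype_card, Fintype.card_perm, Fintype.card_fin]
    decide
  exact ⟨MulEquiv.ofBijective φ hbijφ⟩

end S4Lemma

/-- Block data of the normalizer `N1`. -/
def blk1 : Fin 8 → Fin 4 := ![0, 1, 2, 1, 3, 2, 0, 3]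
def rep1 : Fin 4 → Fin 8 := ![0, 1, 2, 4]
/-- Block data of the normalizer `N2`. -/
def blk2 : Fin 8 → Fin 4 := ![0, 1, 0, 2, 2, 1, 3, 3]
def rep2 : Fin 4 → Fin 8 := ![0, 1, 3, 6]

theorem N1_of : ∀ c ∈ L168, (∀ k ∈ K1, ∃ k' ∈ K1, cmul c k = cmul k' c) → c ∈ N1 := by
  decide +kernel
theorem N1_norm : ∀ c ∈ N1, ∀ k ∈ K1, ∃ k' ∈ K1, cmul c k = cmul k' c := by decide +kernel
theorem N1_nodup : N1.Nodup := by decide +kernel
theorem N1_sub : ∀ c ∈ N1, c ∈ L168 := by decide +kernel
theorem N1_bij : ∀ c ∈ N1, Function.Bijective (bfun blk1 rep1 c) := by decide +kernel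
theorem N1_mul : ∀ a ∈ N1, ∀ b ∈ N1,
    bfun blk1 rep1 (cmul a b) = bfun blk1 rep1 a ∘ bfun blk1 rep1 b := by decide +kernel
theorem N1_inj : ∀ c ∈ N1, bfun blk1 rep1 c = id → c = idC := by decide +kernel

theorem N2_of : ∀ c ∈ L168, (∀ k ∈ K2, ∃ k' ∈ K2, cmul c k = cmul k' c) → c ∈ N2 := by
  decide +kernel
theorem N2_norm : ∀ c ∈ N2, ∀ k ∈ K2, ∃ k' ∈ K2, cmul c k = cmul k' c := by decide +kernel
theorem N2_nodup : N2.Nodup := by decide +kernel
theorem N2_sub : ∀ c ∈ N2, c ∈ L168 := by decide +kernel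
theorem N2_bij : ∀ c ∈ N2, Function.Bijective (bfun blk2 rep2 c) := by decide +kernel
theorem N2_mul : ∀ a ∈ N2, ∀ b ∈ N2,
    bfun blk2 rep2 (cmul a b) = bfun blk2 rep2 a ∘ bfun blk2 rep2 b := by decide +kernel
theorem N2_inj : ∀ c ∈ N2, bfun blk2 rep2 c = id → c = idC := by decide +kernel

section Final

variable {G : Type*} [Group G] [Finite G] {f : G → ℕ}

theorem Model.normalizer_K1 (M : Model f) (U : Subgroup G) (hU : ∀ x, x ∈ U ↔ f x ∈ K1) :
    (∀ x, x ∈ Subgroup.normalizer (U : Set G) ↔ f x ∈ N1) ∧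
    Nonempty (↥(Subgroup.normalizer (U : Set G)) ≃* Perm (Fin 4)) :=
  M.normalizer_S4 U K1 N1 blk1 rep1 hU K1_sub N1_of N1_norm N1_nodup N1_sub (by decide +kernel)
    N1_bij N1_mul N1_inj

theorem Model.normalizer_K2 (M : Model f) (U : Subgroup G) (hU : ∀ x, x ∈ U ↔ f x ∈ K2) :
    (∀ x, x ∈ Subgroup.normalizer (U : Set G) ↔ f x ∈ N2) ∧
    Nonempty (↥(Subgroup.normalizer (U : Set G)) ≃* Perm (Fin 4)) :=
  M.normalizer_S4 U K2 N2 blk2 rep2 hU K2_sub N2_of N2_norm N2_nodup N2_sub (by decide +kernel)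
    N2_bij N2_mul N2_inj

end Final

/-- Every Klein four-subgroup of a simple group of order 168 is `K1` or `K2` in a suitable
model. -/
theorem exists_model_klein {G : Type*} [Group G] [Finite G] [IsSimpleGroup G]
    (h : Nat.card G = 168) (U : Subgroup G) (hk : IsKleinFour ↥U) :
    ∃ f : G → ℕ, Model f ∧ ((∀ x, x ∈ U ↔ f x ∈ K1) ∨ (∀ x, x ∈ U ↔ f x ∈ K2)) := by
  have hp : IsPGroup 2 U := IsPGroup.of_card (n := 2) (by rw [hk.card_four]; norm_num)
  obtain ⟨Q, hQ⟩ := hp.exists_le_sylow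
  obtain ⟨f, M, hT⟩ := exists_model_sylow h Q
  exact ⟨f, M, M.klein_cases Q U hT hQ hk⟩

end Cfsg.Agent.Lib.helper6.G168Model
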