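import Mathlib
import Cfsg.Agent.Lib.helper6.G168Klein
import Cfsg.Agent.Lib.helper6.CodeModel

/-!
# Maximal subgroups of the simple group of order 168

In a model `f` of a simple group `G` of order `168`, every coatom `H` is, up to an inner
automorphism, one of the three code lists `N7` (order 21), `N1`, `N2` (order 24, the
normalizers of the Klein four-groups `K1`, `K2`): `coatom_cases`.
-/

namespace Cfsg.Agent.Lib.helper6.G168Model

open Cfsg.Agent.Lib.helper6.CodeModel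

/-- Membership predicate of `L168`. -/
def okC (c : ℕ) : Bool := L168.contains c

theorem okC_of_mem {c : ℕ} (h : c ∈ L168) : okC c = true := by
  simpa [okC] using h

theorem mem_of_okC {c : ℕ} (h : okC c = true) : c ∈ L168 := by
  simpa [okC] using h

/-- An element of order 7, its powers, and the normalizer of the subgroup it generates. -/
def C7 : ℕ := 380282
def P7 : List ℕ := [
  16434824, 380282, 6243013, 10538899, 7061614, 13911513, 2968119]
def P4 : List ℕ := [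
  16434824, 380282, 6243013, 10538899]
def N7 : List ℕ := [
  380282, 1033613, 1886878, 2838360, 2968119, 3785173, 4441969, 5786235,
  6243013, 7061614, 7685048, 8309777, 10538899, 10831814, 11029711, 12698287,
  13553218, 13911513, 15156267, 16040178, 16434824]

/-- An element of order 3, the normalizer of its subgroup, and a subgroup of order 24
containing it. -/
def C3 : ℕ := 1033613
def N3 : List ℕ := [
  1033613, 5706211, 6365030, 11029711, 14522914, 16434824]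
def N3big : List ℕ := [
  414967, 1033613, 1766492, 2189803, 3618874, 4041030, 5288318, 5706211,
  6152489, 6365030, 7401002, 7810817, 8942493, 9425584, 10126039, 10910872,
  11029711, 11504724, 12663609, 13675459, 14522914, 15075221, 15226484, 16434824]

/-- The central involution of `S8`. -/
def Z0 : ℕ := 10985779

/-- The words used in the analysis of two-generated subgroups. -/
def PROG : List (ℕ × ℕ) := [(1, 0), (1, 1), (0, 2), (1, 2), (0, 4), (0, 5), (1, 4), (0, 7), (1, 6), (0, 10), (1, 10)]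

/-- The subgroups of order 12 of `N1`, `N2`. -/
def A41 : List ℕ := [
  3618874, 3913000, 4108468, 10985779, 12101880, 12527116, 13011131, 14124810,
  14451948, 15156267, 16040178, 16434824]
def A42 : List ℕ := [
  4346846, 4390155, 4441969, 9272641, 9347534, 9425584, 10831814, 10910872,
  10985779, 16339715, 16392537, 16434824]

theorem forall_mem_of_chunks {α : Type*} (P : α → Prop) (l : List α) (n : ℕ)
    (h1 : ∀ c ∈ l.take n, P c) (h2 : ∀ c ∈ l.drop n, P c) : ∀ c ∈ l, P c := by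
  intro c hc
  rw [← List.take_append_drop n l, List.mem_append] at hc
  rcases hc with h | h
  · exact h1 c h
  · exact h2 c h

theorem C7_mem : C7 ∈ L168 := by decide +kernel
theorem C3_mem : C3 ∈ L168 := by decide +kernel
theorem Z0_mem : Z0 ∈ L168 := by decide +kernel

theorem c7_norm : ∀ a ∈ L168, cord a = 7 →
    (∃ c ∈ L168, cmul c C7 = cmul a c) ∨ (∃ c ∈ L168, cmul c C7 = cmul (cpow a 6) c) := by
  decide +kernel

theorem P7_pow : ∀ p ∈ P7, ∃ i ∈ List.range 7, p = cpow C7 i := by decide +kernel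
theorem P4_sub : ∀ p ∈ P4, p ∈ P7 := by decide +kernel

theorem caseA_nodup_a : ∀ c ∈ (L168.take 84).take 42, c ∉ N7 →
    (P7.flatMap fun p => P4.map fun q => cmul p (cmul c q)).Nodup := by decide +kernel

theorem caseA_nodup_b : ∀ c ∈ (L168.take 84).drop 42, c ∉ N7 →
    (P7.flatMap fun p => P4.map fun q => cmul p (cmul c q)).Nodup := by decide +kernel

theorem caseA_nodup_c : ∀ c ∈ (L168.drop 84).take 42, c ∉ N7 →
    (P7.flatMap fun p => P4.map fun q => cmul p (cmul c q)).Nodup := by decide +kernel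

theorem caseA_nodup_d : ∀ c ∈ (L168.drop 84).drop 42, c ∉ N7 →
    (P7.flatMap fun p => P4.map fun q => cmul p (cmul c q)).Nodup := by decide +kernel

theorem caseA_nodup : ∀ c ∈ L168, c ∉ N7 →
    (P7.flatMap fun p => P4.map fun q => cmul p (cmul c q)).Nodup :=
  forall_mem_of_chunks _ L168 84 (forall_mem_of_chunks _ _ 42 caseA_nodup_a caseA_nodup_b)
    (forall_mem_of_chunks _ _ 42 caseA_nodup_c caseA_nodup_d)

theorem idC_mem_N7 : idC ∈ N7 := by decide +kernel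
theorem N7_closed : ∀ a ∈ N7, ∀ b ∈ N7, cmul a b ∈ N7 := by decide +kernel
theorem N7_nodup : N7.Nodup := by decide +kernel
theorem N7_sub : ∀ c ∈ N7, c ∈ L168 := by decide +kernel

theorem c3_norm : ∀ a ∈ L168, cord a = 3 → ∃ c ∈ L168, cmul c C3 = cmul a c := by
  decide +kernel

theorem N3_sub_big : ∀ c ∈ N3, c ∈ N3big := by decide +kernel
theorem idC_mem_N3big : idC ∈ N3big := by decide +kernel
theorem N3big_closed : ∀ a ∈ N3big, ∀ b ∈ N3big, cmul a b ∈ N3big := by decide +kernel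
theorem N3big_nodup : N3big.Nodup := by decide +kernel
theorem N3big_sub : ∀ c ∈ N3big, c ∈ L168 := by decide +kernel

theorem caseB_table : ∀ c ∈ L168, c ∉ N3 →
    (∃ w ∈ slp cmul idC PROG [C3, c], cord w = 7) ∨
    (∃ w1 ∈ slp cmul idC PROG [C3, c], ∃ w2 ∈ slp cmul idC PROG [C3, c],
      cord w1 = 2 ∧ cord w2 = 2 ∧ w1 ≠ w2 ∧ cmul w1 w2 = cmul w2 w1 ∧
      (∃ u ∈ [w1, w2, cmul w1 w2], cmul C3 w1 = cmul u C3) ∧
      (∃ v ∈ [w1, w2, cmul w1 w2], cmul C3 w2 = cmul v C3)) := by decide +kernel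

theorem z0_norm : ∀ a ∈ L168, cord a = 2 → ∃ c ∈ L168, cmul c Z0 = cmul a c := by
  decide +kernel

theorem centZ0' : ∀ c ∈ L168, cmul Z0 c = cmul c Z0 → c ∈ S8 := by decide +kernel

theorem tblK : ∀ c ∈ S8, cord c = 2 → c ≠ Z0 → c ∈ K1 ∨ c ∈ K2 := by decide +kernel

theorem Z0_mem_K1 : Z0 ∈ K1 := by decide +kernel
theorem Z0_mem_K2 : Z0 ∈ K2 := by decide +kernel

theorem K1_el : ∀ c ∈ K1, c ≠ idC → c ≠ Z0 →
    ∀ k ∈ K1, k = idC ∨ k = Z0 ∨ k = c ∨ k = cmul Z0 c := by decide +kernel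
theorem K2_el : ∀ c ∈ K2, c ≠ idC → c ≠ Z0 →
    ∀ k ∈ K2, k = idC ∨ k = Z0 ∨ k = c ∨ k = cmul Z0 c := by decide +kernel

theorem tblN1 : ∀ d ∈ L168, (∃ u ∈ K1, cmul d Z0 = cmul u d) → ∀ c ∈ K1, c ≠ idC → c ≠ Z0 →
    (∃ v ∈ K1, cmul d c = cmul v d) → d ∈ N1 := by decide +kernel
theorem tblN2 : ∀ d ∈ L168, (∃ u ∈ K2, cmul d Z0 = cmul u d) → ∀ c ∈ K2, c ≠ idC → c ≠ Z0 →
    (∃ v ∈ K2, cmul d c = cmul v d) → d ∈ N2 := by decide +kernel

theorem tblA41 : ∀ d ∈ N1, cord d = 3 → ∀ m ∈ A41, ∃ k ∈ K1, ∃ j ∈ [0, 1, 2],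
    m = cmul k (cpow d j) := by decide +kernel
theorem tblA42 : ∀ d ∈ N2, cord d = 3 → ∀ m ∈ A42, ∃ k ∈ K2, ∃ j ∈ [0, 1, 2],
    m = cmul k (cpow d j) := by decide +kernel

theorem tblE1_a : ∀ c ∈ (L168.take 84).take 42, c ∉ N1 → 25 ≤ ((A41 ++ A41.map (fun m => cmul m c) ++
    A41.map (fun m => cmul c (cmul m c))).dedup).length := by decide +kernel

theorem tblE1_b : ∀ c ∈ (L168.take 84).drop 42, c ∉ N1 → 25 ≤ ((A41 ++ A41.map (fun m => cmul m c) ++
    A41.map (fun m => cmul c (cmul m c))).dedup).length := by decide +kernel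

theorem tblE1_c : ∀ c ∈ (L168.drop 84).take 42, c ∉ N1 → 25 ≤ ((A41 ++ A41.map (fun m => cmul m c) ++
    A41.map (fun m => cmul c (cmul m c))).dedup).length := by decide +kernel

theorem tblE1_d : ∀ c ∈ (L168.drop 84).drop 42, c ∉ N1 → 25 ≤ ((A41 ++ A41.map (fun m => cmul m c) ++
    A41.map (fun m => cmul c (cmul m c))).dedup).length := by decide +kernel

theorem tblE1 : ∀ c ∈ L168, c ∉ N1 → 25 ≤ ((A41 ++ A41.map (fun m => cmul m c) ++
    A41.map (fun m => cmul c (cmul m c))).dedup).length :=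
  forall_mem_of_chunks _ L168 84 (forall_mem_of_chunks _ _ 42 tblE1_a tblE1_b)
    (forall_mem_of_chunks _ _ 42 tblE1_c tblE1_d)

theorem tblE2_a : ∀ c ∈ (L168.take 84).take 42, c ∉ N2 → 25 ≤ ((A42 ++ A42.map (fun m => cmul m c) ++
    A42.map (fun m => cmul c (cmul m c))).dedup).length := by decide +kernel

theorem tblE2_b : ∀ c ∈ (L168.take 84).drop 42, c ∉ N2 → 25 ≤ ((A42 ++ A42.map (fun m => cmul m c) ++
    A42.map (fun m => cmul c (cmul m c))).dedup).length := by decide +kernel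

theorem tblE2_c : ∀ c ∈ (L168.drop 84).take 42, c ∉ N2 → 25 ≤ ((A42 ++ A42.map (fun m => cmul m c) ++
    A42.map (fun m => cmul c (cmul m c))).dedup).length := by decide +kernel

theorem tblE2_d : ∀ c ∈ (L168.drop 84).drop 42, c ∉ N2 → 25 ≤ ((A42 ++ A42.map (fun m => cmul m c) ++
    A42.map (fun m => cmul c (cmul m c))).dedup).length := by decide +kernel

theorem tblE2 : ∀ c ∈ L168, c ∉ N2 → 25 ≤ ((A42 ++ A42.map (fun m => cmul m c) ++
    A42.map (fun m => cmul c (cmul m c))).dedup).length :=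
  forall_mem_of_chunks _ L168 84 (forall_mem_of_chunks _ _ 42 tblE2_a tblE2_b)
    (forall_mem_of_chunks _ _ 42 tblE2_c tblE2_d)

theorem idC_mem_N1 : idC ∈ N1 := by decide +kernel
theorem idC_mem_N2 : idC ∈ N2 := by decide +kernel
theorem N1_closed : ∀ a ∈ N1, ∀ b ∈ N1, cmul a b ∈ N1 := by decide +kernel
theorem N2_closed : ∀ a ∈ N2, ∀ b ∈ N2, cmul a b ∈ N2 := by decide +kernel
theorem S8_sub_N1 : ∀ c ∈ S8, c ∈ N1 := by decide +kernel

theorem N1_not_conj_N2 : ∀ c ∈ L168, ¬ (∀ n ∈ N1, ∃ n' ∈ N2, cmul c n = cmul n' c) := by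
  decide +kernel

theorem N7_noncomm : cmul 380282 1033613 ≠ cmul 1033613 380282 ∧ 380282 ∈ N7 ∧ 1033613 ∈ N7 := by
  decide +kernel

section Basic

variable {G : Type*} [Group G] {f : G → ℕ}

theorem Model.toG (M : Model f) : GModel okC cmul idC f :=
  ⟨M.inj, fun g => okC_of_mem (M.mem g), fun c hc => M.surj c (mem_of_okC hc), M.one, M.mul⟩

theorem Model.ofG (M : GModel okC cmul idC f) : Model f :=
  ⟨M.inj, fun g => mem_of_okC (M.mem g), fun c hc => M.surj c (okC_of_mem hc), M.one, M.fmul⟩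

/-- The model obtained by composing with an inner automorphism. -/
theorem Model.exists_conj (M : Model f) (g : G) :
    ∃ f1 : G → ℕ, Model f1 ∧ ∀ y, f1 y = f (g * y * g⁻¹) :=
  ⟨fun y => f (g * y * g⁻¹), Model.ofG (M.toG.conj g), fun _ => rfl⟩

variable [Finite G]

theorem Model.sub_ne_top (M : Model f) (h : Nat.card G = 168) (S : List ℕ) (h1 : idC ∈ S)
    (hmul : ∀ a ∈ S, ∀ b ∈ S, cmul a b ∈ S) (hnd : S.Nodup) (hSL : ∀ c ∈ S, c ∈ L168)
    (hlen : S.length ≠ 168) : M.toG.sub S h1 hmul ≠ ⊤ := by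
  intro he
  have hc : Nat.card (M.toG.sub S h1 hmul) = S.length :=
    M.card_of_list S hnd hSL (fun g => g ∈ M.toG.sub S h1 hmul) (fun g => Iff.rfl)
  rw [he, Subgroup.card_top, h] at hc
  exact hlen hc.symm

end Basic

section KL

variable {G : Type*} [Group G] [Finite G] [IsSimpleGroup G]

theorem card_le_24 (h : Nat.card G = 168) (H : Subgroup G) (hH : H ≠ ⊤) : Nat.card H ≤ 24 := by
  have h1 := Cfsg.Agent.Lib.helper11.L27.card_dvd_factorial_index_of_simple H hH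
  have h2 := H.card_mul_index
  rw [h] at h1 h2
  have h3 : 7 ≤ H.index := by
    by_contra hlt
    have h4 : H.index ≤ 6 := by omega
    interval_cases H.index <;> revert h1 <;> decide
  by_contra hgt
  have h5 : 25 ≤ Nat.card H := by omega
  nlinarith

theorem caseA (h : Nat.card G = 168) {f : G → ℕ} (M : Model f) (H : Subgroup G)
    (hH : IsCoatom H) (hc24 : Nat.card H ≤ 24) (x : G) (hxH : x ∈ H) (hx7 : orderOf x = 7) :
    ∃ g : G, ∀ y, y ∈ H ↔ f (g * y * g⁻¹) ∈ N7 := by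
  have hx7c : cord (f x) = 7 := by rw [← M.orderOf_eq, hx7]
  obtain ⟨x', hx'H, g, hg⟩ : ∃ x' ∈ H, ∃ g : G, f (g * x' * g⁻¹) = C7 := by
    rcases c7_norm (f x) (M.mem x) hx7c with ⟨c, hc, hcc⟩ | ⟨c, hc, hcc⟩
    · exact ⟨x, hxH, M.toG.conj_to x C7 c (okC_of_mem C7_mem) (okC_of_mem hc) hcc⟩
    · refine ⟨x ^ 6, H.pow_mem hxH 6, M.toG.conj_to (x ^ 6) C7 c (okC_of_mem C7_mem)
        (okC_of_mem hc) ?_⟩
      rw [M.pow]
      exact hcc
  obtain ⟨f1, M1, hf1⟩ := M.exists_conj g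
  have hg1 : f1 x' = C7 := by rw [hf1]; exact hg
  have key : ∀ y ∈ H, f1 y ∈ N7 := by
    intro y hy
    by_contra hc
    have hnd := caseA_nodup _ (M1.mem y) hc
    have hpre : ∀ w ∈ (P7.flatMap fun p => P4.map fun q => cmul p (cmul (f1 y) q)),
        ∃ z ∈ H, f1 z = w := by
      intro w hw
      rw [List.mem_flatMap] at hw
      obtain ⟨p, hp, hw⟩ := hw
      rw [List.mem_map] at hw
      obtain ⟨q, hq, rfl⟩ := hw
      obtain ⟨i, -, rfl⟩ := P7_pow p hp
      obtain ⟨j, -, rfl⟩ := P7_pow q (P4_sub q hq)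
      refine ⟨x' ^ i * (y * x' ^ j), H.mul_mem (H.pow_mem hx'H i)
        (H.mul_mem hy (H.pow_mem hx'H j)), ?_⟩
      rw [M1.mul, M1.mul, M1.pow, M1.pow, hg1]
    have h28 := M1.toG.card_ge H _ hnd hpre
    have hlen : (P7.flatMap fun p => P4.map fun q => cmul p (cmul (f1 y) q)).length = 28 := rfl
    omega
  have hne := M1.sub_ne_top h N7 idC_mem_N7 N7_closed N7_nodup N7_sub (by decide)
  have hiff := M1.toG.coatom_eq H hH N7 idC_mem_N7 N7_closed hne key
  exact ⟨g, fun y => by rw [← hf1]; exact hiff y⟩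

theorem caseC (h : Nat.card G = 168) {f : G → ℕ} (M : Model f) (H : Subgroup G)
    (hH : IsCoatom H) (hA : ¬ ∃ x ∈ H, orderOf x = 7) (hB : ¬ ∃ x ∈ H, orderOf x = 3) :
    False := by
  have hp : IsPGroup 2 H := by
    intro y
    refine ⟨2, ?_⟩
    apply Subtype.ext
    show (y : G) ^ 2 ^ 2 = 1
    have ho := M.orderOf_eq (y : G)
    rcases cord_cases (f y) (M.mem y) with h1 | h1 | h1 | h1 | h1
    · exact orderOf_dvd_iff_pow_eq_one.mp (by rw [ho, h1]; norm_num)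
    · exact orderOf_dvd_iff_pow_eq_one.mp (by rw [ho, h1]; norm_num)
    · exact absurd ⟨y, y.2, by rw [ho, h1]⟩ hB
    · exact orderOf_dvd_iff_pow_eq_one.mp (by rw [ho, h1]; norm_num)
    · exact absurd ⟨y, y.2, by rw [ho, h1]⟩ hA
  obtain ⟨Q, hQ⟩ := hp.exists_le_sylow
  obtain ⟨f3, M3, hT⟩ := exists_model_sylow h Q
  have hle : ∀ y ∈ H, f3 y ∈ N1 := fun y hy => S8_sub_N1 _ ((hT y).mp (hQ hy))
  have hne := M3.sub_ne_top h N1 idC_mem_N1 N1_closed N1_nodup N1_sub (by decide)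
  have hiff := M3.toG.coatom_eq H hH N1 idC_mem_N1 N1_closed hne hle
  have hcH : Nat.card H = 24 := M3.card_of_list N1 N1_nodup N1_sub (fun g => g ∈ H) hiff
  have hcQ : Nat.card (Q : Subgroup G) = 8 :=
    M3.card_of_list S8 S8_nodup S8_sub (fun g => g ∈ (Q : Subgroup G)) hT
  have hle2 := Subgroup.card_le_of_le hQ
  omega

/-- Group-level output of the analysis of a coatom containing an element of order 3 and no
element of order 7: two commuting involutions normalised by the element of order 3. -/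
theorem caseB_step1 (h : Nat.card G = 168) {f : G → ℕ} (M : Model f) (H : Subgroup G)
    (hH : IsCoatom H) (hA : ¬ ∃ x ∈ H, orderOf x = 7) (x : G) (hxH : x ∈ H)
    (hx3 : orderOf x = 3) :
    ∃ a b : G, a ∈ H ∧ b ∈ H ∧ orderOf a = 2 ∧ orderOf b = 2 ∧ a ≠ b ∧ a * b = b * a ∧
      (x * a = a * x ∨ x * a = b * x ∨ x * a = (a * b) * x) ∧
      (x * b = a * x ∨ x * b = b * x ∨ x * b = (a * b) * x) := by
  have hx3c : cord (f x) = 3 := by rw [← M.orderOf_eq, hx3]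
  obtain ⟨c0, hc0, hcc⟩ := c3_norm (f x) (M.mem x) hx3c
  obtain ⟨g1, hg1⟩ := M.toG.conj_to x C3 c0 (okC_of_mem C3_mem) (okC_of_mem hc0) hcc
  obtain ⟨f1, M1, hf1⟩ := M.exists_conj g1
  have hfx : f1 x = C3 := by rw [hf1]; exact hg1
  by_cases hall : ∀ y ∈ H, f1 y ∈ N3
  · exfalso
    have hle : ∀ y ∈ H, f1 y ∈ N3big := fun y hy => N3_sub_big _ (hall y hy)
    have hne := M1.sub_ne_top h N3big idC_mem_N3big N3big_closed N3big_nodup N3big_sub
      (by decide)
    have hiff := M1.toG.coatom_eq H hH N3big idC_mem_N3big N3big_closed hne hle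
    obtain ⟨y, hy⟩ := M1.surj 414967 (by decide +kernel)
    have hyH : y ∈ H := (hiff y).mpr (by rw [hy]; decide +kernel)
    have h3 := hall y hyH
    rw [hy] at h3
    revert h3
    decide +kernel
  · have hex : ∃ y ∈ H, f1 y ∉ N3 := by
      by_contra hcon
      apply hall
      intro y hy
      by_contra h2
      exact hcon ⟨y, hy, h2⟩
    obtain ⟨y, hyH, hyN⟩ := hex
    have hw : ∀ w ∈ slp cmul idC PROG [C3, f1 y], ∃ z ∈ H, f1 z = w := by
      apply M1.toG.slp_mem H PROG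
      intro c hc
      rw [List.mem_cons, List.mem_singleton] at hc
      rcases hc with rfl | rfl
      · exact ⟨x, hxH, hfx⟩
      · exact ⟨y, hyH, rfl⟩
    rcases caseB_table _ (M1.mem y) hyN with
      ⟨w, hwm, hw7⟩ | ⟨w1, hw1, w2, hw2, ho1, ho2, hne, hcm, hu, hv⟩
    · obtain ⟨z, hz, rfl⟩ := hw w hwm
      exact absurd ⟨z, hz, by rw [M1.orderOf_eq]; exact hw7⟩ hA
    · obtain ⟨a, haH, rfl⟩ := hw w1 hw1
      obtain ⟨b, hbH, rfl⟩ := hw w2 hw2
      have hmem : ∀ u, u ∈ [f1 a, f1 b, cmul (f1 a) (f1 b)] →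
          u = f1 a ∨ u = f1 b ∨ u = f1 (a * b) := by
        intro u hu
        rw [List.mem_cons, List.mem_cons, List.mem_singleton] at hu
        rcases hu with h1 | h1 | h1
        · exact Or.inl h1
        · exact Or.inr (Or.inl h1)
        · exact Or.inr (Or.inr (by rw [M1.mul]; exact h1))
      refine ⟨a, b, haH, hbH, ?_, ?_, ?_, ?_, ?_, ?_⟩
      · rw [M1.orderOf_eq]; exact ho1
      · rw [M1.orderOf_eq]; exact ho2
      · rintro rfl
        exact hne rfl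
      · apply M1.inj
        rw [M1.mul, M1.mul]
        exact hcm
      · obtain ⟨u, hu1, hu2⟩ := hu
        rw [← hfx, ← M1.mul] at hu2
        rcases hmem u hu1 with rfl | rfl | rfl
        · left; apply M1.inj; rw [hu2, M1.mul]
        · right; left; apply M1.inj; rw [hu2, M1.mul]
        · right; right; apply M1.inj; rw [hu2, M1.mul (a * b) x]
      · obtain ⟨v, hv1, hv2⟩ := hv
        rw [← hfx, ← M1.mul] at hv2
        rcases hmem v hv1 with rfl | rfl | rfl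
        · left; apply M1.inj; rw [hv2, M1.mul]
        · right; left; apply M1.inj; rw [hv2, M1.mul]
        · right; right; apply M1.inj; rw [hv2, M1.mul (a * b) x]

theorem caseB_fin (h : Nat.card G = 168) {f2 : G → ℕ} (M2 : Model f2) (H : Subgroup G)
    (hH : IsCoatom H) (hc24 : Nat.card H ≤ 24) (x a b : G) (hxH : x ∈ H) (haH : a ∈ H)
    (hbH : b ∈ H) (hx3 : orderOf x = 3) (hfa : f2 a = Z0)
    (hxa : x * a = a * x ∨ x * a = b * x ∨ x * a = (a * b) * x)
    (hxb : x * b = a * x ∨ x * b = b * x ∨ x * b = (a * b) * x)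
    (K N A4 : List ℕ) (hbK : f2 b ∈ K) (hb1 : f2 b ≠ idC) (hbz : f2 b ≠ Z0) (hz : Z0 ∈ K)
    (hKcl : ∀ a ∈ K, ∀ b ∈ K, cmul a b ∈ K)
    (hKel : ∀ c ∈ K, c ≠ idC → c ≠ Z0 → ∀ k ∈ K, k = idC ∨ k = Z0 ∨ k = c ∨ k = cmul Z0 c)
    (hN : ∀ d ∈ L168, (∃ u ∈ K, cmul d Z0 = cmul u d) → ∀ c ∈ K, c ≠ idC → c ≠ Z0 →
      (∃ v ∈ K, cmul d c = cmul v d) → d ∈ N)
    (hA4 : ∀ d ∈ N, cord d = 3 → ∀ m ∈ A4, ∃ k ∈ K, ∃ j ∈ [0, 1, 2], m = cmul k (cpow d j))
    (hE : ∀ c ∈ L168, c ∉ N → 25 ≤ ((A4 ++ A4.map (fun m => cmul m c) ++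
      A4.map (fun m => cmul c (cmul m c))).dedup).length)
    (h1N : idC ∈ N) (hNcl : ∀ a ∈ N, ∀ b ∈ N, cmul a b ∈ N) (hNnd : N.Nodup)
    (hNL : ∀ c ∈ N, c ∈ L168) (hNlen : N.length ≠ 168) : ∀ y, y ∈ H ↔ f2 y ∈ N := by
  have hab' : f2 (a * b) = cmul Z0 (f2 b) := by rw [M2.mul, hfa]
  have habK : f2 (a * b) ∈ K := by rw [hab']; exact hKcl _ hz _ hbK
  have haK : f2 a ∈ K := by rw [hfa]; exact hz
  have hu : ∃ u ∈ K, cmul (f2 x) Z0 = cmul u (f2 x) := by
    rw [← hfa, ← M2.mul]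
    rcases hxa with e | e | e
    · exact ⟨f2 a, haK, by rw [e, M2.mul]⟩
    · exact ⟨f2 b, hbK, by rw [e, M2.mul]⟩
    · exact ⟨f2 (a * b), habK, by rw [e, M2.mul (a * b) x]⟩
  have hv : ∃ v ∈ K, cmul (f2 x) (f2 b) = cmul v (f2 x) := by
    rw [← M2.mul]
    rcases hxb with e | e | e
    · exact ⟨f2 a, haK, by rw [e, M2.mul]⟩
    · exact ⟨f2 b, hbK, by rw [e, M2.mul]⟩
    · exact ⟨f2 (a * b), habK, by rw [e, M2.mul (a * b) x]⟩
  have hd : f2 x ∈ N := hN (f2 x) (M2.mem x) hu (f2 b) hbK hb1 hbz hv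
  have hd3 : cord (f2 x) = 3 := by rw [← M2.orderOf_eq, hx3]
  have hKpre : ∀ k ∈ K, ∃ y ∈ H, f2 y = k := by
    intro k hk
    rcases hKel (f2 b) hbK hb1 hbz k hk with rfl | rfl | rfl | rfl
    · exact ⟨1, H.one_mem, M2.one⟩
    · exact ⟨a, haH, hfa⟩
    · exact ⟨b, hbH, rfl⟩
    · exact ⟨a * b, H.mul_mem haH hbH, hab'⟩
  have hA4pre : ∀ m ∈ A4, ∃ y ∈ H, f2 y = m := by
    intro m hm
    obtain ⟨k, hk, j, -, rfl⟩ := hA4 (f2 x) hd hd3 m hm
    obtain ⟨y, hy, rfl⟩ := hKpre k hk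
    exact ⟨y * x ^ j, H.mul_mem hy (H.pow_mem hxH j), by rw [M2.mul, M2.pow]⟩
  have key : ∀ y ∈ H, f2 y ∈ N := by
    intro y hy
    by_contra hc
    have h25 := hE (f2 y) (M2.mem y) hc
    have hpre : ∀ w ∈ ((A4 ++ A4.map (fun m => cmul m (f2 y)) ++
        A4.map (fun m => cmul (f2 y) (cmul m (f2 y)))).dedup), ∃ z ∈ H, f2 z = w := by
      intro w hw
      rw [List.mem_dedup, List.mem_append, List.mem_append, List.mem_map, List.mem_map] at hw
      rcases hw with (hw | ⟨m, hm, rfl⟩) | ⟨m, hm, rfl⟩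
      · exact hA4pre w hw
      · obtain ⟨z, hz, rfl⟩ := hA4pre m hm
        exact ⟨z * y, H.mul_mem hz hy, M2.mul z y⟩
      · obtain ⟨z, hz, rfl⟩ := hA4pre m hm
        exact ⟨y * (z * y), H.mul_mem hy (H.mul_mem hz hy), by rw [M2.mul, M2.mul]⟩
    have h3 := M2.toG.card_ge H _ (List.nodup_dedup _) hpre
    omega
  exact M2.toG.coatom_eq H hH N h1N hNcl (M2.sub_ne_top h N h1N hNcl hNnd hNL hNlen) key

theorem caseB (h : Nat.card G = 168) {f : G → ℕ} (M : Model f) (H : Subgroup G)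
    (hH : IsCoatom H) (hc24 : Nat.card H ≤ 24) (hA : ¬ ∃ x ∈ H, orderOf x = 7) (x : G)
    (hxH : x ∈ H) (hx3 : orderOf x = 3) :
    ∃ g : G, (∀ y, y ∈ H ↔ f (g * y * g⁻¹) ∈ N1) ∨ (∀ y, y ∈ H ↔ f (g * y * g⁻¹) ∈ N2) := by
  obtain ⟨a, b, haH, hbH, ha2, hb2, hab, hcomm, hxa, hxb⟩ := caseB_step1 h M H hH hA x hxH hx3
  have ha2c : cord (f a) = 2 := by rw [← M.orderOf_eq, ha2]
  obtain ⟨c0, hc0, hcc⟩ := z0_norm (f a) (M.mem a) ha2c
  obtain ⟨g, hg⟩ := M.toG.conj_to a Z0 c0 (okC_of_mem Z0_mem) (okC_of_mem hc0) hcc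
  obtain ⟨f2, M2, hf2⟩ := M.exists_conj g
  have hfa : f2 a = Z0 := by rw [hf2]; exact hg
  have hb2c : cord (f2 b) = 2 := by rw [← M2.orderOf_eq, hb2]
  have hbS8 : f2 b ∈ S8 :=
    centZ0' (f2 b) (M2.mem b) (by rw [← hfa, ← M2.mul, ← M2.mul, hcomm])
  have hbne : f2 b ≠ Z0 := fun hh => hab (M2.inj (by rw [hfa, hh]))
  have hb1 : f2 b ≠ idC := by
    intro hh
    rw [hh] at hb2c
    revert hb2c
    decide +kernel
  rcases tblK (f2 b) hbS8 hb2c hbne with hK | hK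
  · refine ⟨g, Or.inl (fun y => ?_)⟩
    rw [← hf2]
    exact caseB_fin h M2 H hH hc24 x a b hxH haH hbH hx3 hfa hxa hxb K1 N1 A41 hK hb1 hbne
      Z0_mem_K1 K1_closed K1_el tblN1 tblA41 tblE1 idC_mem_N1 N1_closed N1_nodup N1_sub
      (by decide) y
  · refine ⟨g, Or.inr (fun y => ?_)⟩
    rw [← hf2]
    exact caseB_fin h M2 H hH hc24 x a b hxH haH hbH hx3 hfa hxa hxb K2 N2 A42 hK hb1 hbne
      Z0_mem_K2 K2_closed K2_el tblN2 tblA42 tblE2 idC_mem_N2 N2_closed N2_nodup N2_sub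
      (by decide) y

/-- Every coatom of a simple group of order 168 is, up to an inner automorphism, one of the
three standard subgroups `N7`, `N1`, `N2`. -/
theorem coatom_cases (h : Nat.card G = 168) {f : G → ℕ} (M : Model f) (H : Subgroup G)
    (hH : IsCoatom H) :
    ∃ g : G, (∀ y, y ∈ H ↔ f (g * y * g⁻¹) ∈ N7) ∨ (∀ y, y ∈ H ↔ f (g * y * g⁻¹) ∈ N1) ∨
      (∀ y, y ∈ H ↔ f (g * y * g⁻¹) ∈ N2) := by
  have hc24 : Nat.card H ≤ 24 := card_le_24 h H hH.1
  by_cases hA : ∃ x ∈ H, orderOf x = 7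
  · obtain ⟨x, hxH, hx7⟩ := hA
    obtain ⟨g, hg⟩ := caseA h M H hH hc24 x hxH hx7
    exact ⟨g, Or.inl hg⟩
  · by_cases hB : ∃ x ∈ H, orderOf x = 3
    · obtain ⟨x, hxH, hx3⟩ := hB
      obtain ⟨g, hg⟩ := caseB h M H hH hc24 hA x hxH hx3
      exact ⟨g, Or.inr hg⟩
    · exact (caseC h M H hH hA hB).elim

end KL

end Cfsg.Agent.Lib.helper6.G168Model
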