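import Cfsg.Agent.Lib.helper6.Inv

/-!
Counting pairs of involutions with a given product (Brauer–Fowler style lemmas).
-/

set_option autoImplicit false

namespace Cfsg.Agent.Lib.helper6

variable {G : Type*} [Group G]

/-- If `u`, `v` are involutions with `u * v = x` then `u` inverts `x`. -/
theorem pair_conj {u v x : G} (hu : orderOf u = 2) (hv : orderOf v = 2) (h : u * v = x) :
    u * x * u⁻¹ = x⁻¹ := by
  subst h
  rw [mul_inv_rev, inv_eq_self hu, inv_eq_self hv]
  have : u * (u * v) * u = (u * u) * v * u := by group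
  rw [this, inv_mul_self' hu, one_mul]

/-- If the involution `t` inverts `x` and `x ≠ t` then `t * x` is an involution. -/
theorem orderOf_mul_of_inverts {t x : G} (ht : orderOf t = 2) (h : t * x * t⁻¹ = x⁻¹) (hne : x ≠ t) :
    orderOf (t * x) = 2 := by
  apply orderOf_two_of_mul_self
  · have : t * x * (t * x) = (t * x * t⁻¹) * (t * t) * x := by group
    rw [this, h, inv_mul_self' ht]; group
  · intro h1
    apply hne
    have : x = t⁻¹ * (t * x) := by group
    rw [this, h1, mul_one, inv_eq_self ht]

theorem mul_mul_cancel_inv {t x : G} (ht : orderOf t = 2) : t * (t * x) = x := by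
  rw [← mul_assoc, inv_mul_self' ht, one_mul]

/-- S0235: for `x ^ 2 ≠ 1`, pairs of involutions with product `x` correspond to involutions
inverting `x`. -/
theorem card_pairs_eq_card_inverting (x : G) (hx : x ^ 2 ≠ 1) :
    Nat.card {p : G × G // orderOf p.1 = 2 ∧ orderOf p.2 = 2 ∧ p.1 * p.2 = x} =
      Nat.card {t : G // orderOf t = 2 ∧ t * x * t⁻¹ = x⁻¹} := by
  apply Nat.card_congr
  refine
    { toFun := fun p => ⟨p.1.1, p.2.1, pair_conj p.2.1 p.2.2.1 p.2.2.2⟩
      invFun := fun t => ⟨(t.1, t.1 * x), t.2.1, ?_, mul_mul_cancel_inv t.2.1⟩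
      left_inv := ?_
      right_inv := ?_ }
  · apply orderOf_mul_of_inverts t.2.1 t.2.2
    intro h
    apply hx
    rw [h]; exact inv_sq t.2.1
  · rintro ⟨⟨u, v⟩, hu, hv, h⟩
    apply Subtype.ext
    simp only [Prod.mk.injEq, true_and]
    subst h
    simp only
    rw [mul_mul_cancel_inv hu]
  · rintro ⟨t, ht⟩
    rfl

/-- S0236: for an involution `x`, pairs of involutions with product `x`, plus one, are the
involutions commuting with `x`. -/
theorem card_pairs_add_one (x : G) [Finite G] (hx : orderOf x = 2) :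
    Nat.card {p : G × G // orderOf p.1 = 2 ∧ orderOf p.2 = 2 ∧ p.1 * p.2 = x} + 1 =
      Nat.card {t : G // orderOf t = 2 ∧ Commute t x} := by
  classical
  rw [← Finite.card_option]
  apply Nat.card_congr
  have hcomm : ∀ p : {p : G × G // orderOf p.1 = 2 ∧ orderOf p.2 = 2 ∧ p.1 * p.2 = x},
      Commute p.1.1 x := by
    intro p
    have h := pair_conj p.2.1 p.2.2.1 p.2.2.2
    rw [inv_eq_self hx] at h
    show p.1.1 * x = x * p.1.1
    have : p.1.1 * x = (p.1.1 * x * (p.1.1)⁻¹) * p.1.1 := by group
    rw [this, h]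
  have hne : ∀ p : {p : G × G // orderOf p.1 = 2 ∧ orderOf p.2 = 2 ∧ p.1 * p.2 = x},
      p.1.1 ≠ x := by
    intro p h
    have h2 := p.2.2.2
    rw [h] at h2
    have : p.1.2 = 1 := by simpa using h2
    exact inv_ne_one p.2.2.1 this
  refine
    { toFun := fun o => match o with
        | none => ⟨x, hx, Commute.refl x⟩
        | some p => ⟨p.1.1, p.2.1, hcomm p⟩
      invFun := fun t => if h : t.1 = x then none else some ⟨(t.1, t.1 * x), t.2.1, ?_,
        mul_mul_cancel_inv t.2.1⟩
      left_inv := ?_
      right_inv := ?_ }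
  · apply orderOf_mul_of_inverts t.2.1
    · have := t.2.2
      rw [inv_eq_self hx]
      have h3 : t.1 * x = x * t.1 := this
      rw [h3]; group
    · exact fun h' => h h'.symm
  · intro o
    cases o with
    | none => simp
    | some p =>
      obtain ⟨⟨u, v⟩, hu, hv, h⟩ := p
      have hne' := hne ⟨⟨u, v⟩, hu, hv, h⟩
      simp only at hne'
      simp only [hne', dite_false, Option.some.injEq]
      apply Subtype.ext
      simp only [Prod.mk.injEq, true_and]
      subst h
      rw [mul_mul_cancel_inv hu]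
  · rintro ⟨t, ht⟩
    by_cases h : t = x
    · subst h; simp
    · simp [h]

/-- S0237: if `x` is real, the elements inverting `x` form a coset of the centralizer. -/
theorem card_inverting_eq_card_centralizer (x : G) (hreal : IsConj x x⁻¹) :
    Nat.card {g : G // g * x * g⁻¹ = x⁻¹} = Nat.card (Subgroup.centralizer ({x} : Set G)) := by
  obtain ⟨c, hc⟩ := isConj_iff.1 hreal
  apply Nat.card_congr
  refine
    { toFun := fun g => ⟨c⁻¹ * g.1, ?_⟩
      invFun := fun z => ⟨c * z.1, ?_⟩
      left_inv := ?_
      right_inv := ?_ }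
  · rw [Subgroup.mem_centralizer_singleton_iff]
    obtain ⟨g, h1⟩ := g
    show c⁻¹ * g * x = x * (c⁻¹ * g)
    have h2 : x * (c⁻¹ * g) = c⁻¹ * (c * x * c⁻¹) * g := by group
    have h3 : x⁻¹ * g = g * x := by
      have e : g * x = (g * x * g⁻¹) * g := by group
      rw [e, h1]
    rw [h2, hc, mul_assoc, mul_assoc, h3]
  · obtain ⟨z, h1⟩ := z
    rw [Subgroup.mem_centralizer_singleton_iff] at h1
    show c * z * x * (c * z)⁻¹ = x⁻¹
    have h2 : c * z * x * (c * z)⁻¹ = c * (z * x) * z⁻¹ * c⁻¹ := by group
    rw [h2, h1, ← hc]; group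
  · intro g
    apply Subtype.ext
    simp
  · intro z
    apply Subtype.ext
    simp

/-- Pairs of involutions with product `x` inject into the elements inverting `x`. -/
theorem card_pairs_le_card_inverting [Finite G] (x : G) :
    Nat.card {p : G × G // orderOf p.1 = 2 ∧ orderOf p.2 = 2 ∧ p.1 * p.2 = x} ≤
      Nat.card {g : G // g * x * g⁻¹ = x⁻¹} := by
  apply Nat.card_le_card_of_injective
    (fun p : {p : G × G // orderOf p.1 = 2 ∧ orderOf p.2 = 2 ∧ p.1 * p.2 = x} =>
      (⟨p.1.1, pair_conj p.2.1 p.2.2.1 p.2.2.2⟩ : {g : G // g * x * g⁻¹ = x⁻¹}))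
  rintro ⟨⟨u, v⟩, hu, hv, h⟩ ⟨⟨u', v'⟩, hu', hv', h'⟩ heq
  simp only [Subtype.mk.injEq] at heq
  subst heq
  apply Subtype.ext
  simp only [Prod.mk.injEq, true_and]
  have : u * v = u * v' := by rw [h, h']
  exact mul_left_cancel this

theorem card_pairs_eq_zero_of_not_real [Finite G] (x : G) (h : ¬ IsConj x x⁻¹) :
    Nat.card {p : G × G // orderOf p.1 = 2 ∧ orderOf p.2 = 2 ∧ p.1 * p.2 = x} = 0 := by
  haveI : IsEmpty {p : G × G // orderOf p.1 = 2 ∧ orderOf p.2 = 2 ∧ p.1 * p.2 = x} := by
    constructor
    rintro ⟨⟨u, v⟩, hu, hv, huv⟩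
    exact h (isConj_iff.2 ⟨u, pair_conj hu hv huv⟩)
  exact Nat.card_of_isEmpty

theorem card_pairs_le_card_centralizer [Finite G] (x : G) :
    Nat.card {p : G × G // orderOf p.1 = 2 ∧ orderOf p.2 = 2 ∧ p.1 * p.2 = x} ≤
      Nat.card (Subgroup.centralizer ({x} : Set G)) := by
  by_cases h : IsConj x x⁻¹
  · rw [← card_inverting_eq_card_centralizer x h]
    exact card_pairs_le_card_inverting x
  · rw [card_pairs_eq_zero_of_not_real x h]
    exact Nat.zero_le _

/-- The involutions commuting with `x` are non-identity elements of the centralizer. -/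
theorem card_comm_involutions_add_one_le [Finite G] (x : G) :
    Nat.card {t : G // orderOf t = 2 ∧ Commute t x} + 1 ≤
      Nat.card (Subgroup.centralizer ({x} : Set G)) := by
  rw [← Finite.card_option]
  apply Nat.card_le_card_of_injective
    (fun o : Option {t : G // orderOf t = 2 ∧ Commute t x} =>
      match o with
      | none => (1 : Subgroup.centralizer ({x} : Set G))
      | some t => ⟨t.1, by
          rw [Subgroup.mem_centralizer_singleton_iff]
          exact t.2.2.eq⟩)
  intro a b hab
  cases a with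
  | none =>
    cases b with
    | none => rfl
    | some t =>
      exfalso
      have : (1 : G) = t.1 := congrArg (fun z : Subgroup.centralizer ({x} : Set G) => (z : G)) hab
      exact inv_ne_one t.2.1 this.symm
  | some s =>
    cases b with
    | none =>
      exfalso
      have : s.1 = (1 : G) := congrArg (fun z : Subgroup.centralizer ({x} : Set G) => (z : G)) hab
      exact inv_ne_one s.2.1 this
    | some t =>
      have : s.1 = t.1 := congrArg (fun z : Subgroup.centralizer ({x} : Set G) => (z : G)) hab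
      rw [Subtype.ext this]

theorem card_pairs_add_two_le [Finite G] (x : G) (hx : orderOf x = 2) :
    Nat.card {p : G × G // orderOf p.1 = 2 ∧ orderOf p.2 = 2 ∧ p.1 * p.2 = x} + 2 ≤
      Nat.card (Subgroup.centralizer ({x} : Set G)) := by
  have h1 := card_pairs_add_one x hx
  have h2 := card_comm_involutions_add_one_le x
  omega

end Cfsg.Agent.Lib.helper6
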