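import Mathlib

set_option autoImplicit false

namespace Cfsg.Agent.Lib.helper6.Ito

open Finset

/-- PIECE AR1 (arithmetic: `s = 1`). -/
theorem ito_arith (s p t : ℕ) (hs : 0 < s) (hp : p = 2 * s ^ 2 + 2 * s + 1)
    (h : (2 * s + 1) * t * (2 * p) = p * (p - 1) * (p - 2)) : s = 1 := by
  have hp1 : p - 1 = 2 * (s ^ 2 + s) := by omega
  obtain ⟨w, hw⟩ : ∃ w, 2 * (s ^ 2 + s) = w + 1 := ⟨2 * (s ^ 2 + s) - 1, by omega⟩
  have hp2 : p - 2 = w := by omega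
  rw [hp1, hp2, hw] at h
  have hz : ((2 * s + 1 : ℤ)) * t * (2 * p) = p * (w + 1) * w := by exact_mod_cast h
  have hwz : (w : ℤ) = 2 * ((s:ℤ) ^ 2 + s) - 1 := by
    have : (2 * ((s:ℤ) ^ 2 + s)) = w + 1 := by exact_mod_cast hw
    linarith
  have hpz : (p : ℤ) = 2 * (s:ℤ) ^ 2 + 2 * s + 1 := by exact_mod_cast hp
  have hp0 : (p : ℤ) * 2 ≠ 0 := by
    have : (0:ℤ) < p := by rw [hpz]; positivity
    positivity
  have h1z : (2 * (s:ℤ) + 1) * t = ((s:ℤ) ^ 2 + s) * (2 * ((s:ℤ) ^ 2 + s) - 1) := by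
    rw [hwz] at hz
    refine mul_left_cancel₀ hp0 ?_
    linear_combination hz
  have key : (2 * (s:ℤ) + 1) ∣ 3 :=
    ⟨8 * t - ((2 * (s:ℤ) + 1) ^ 3 - 4 * (2 * (s:ℤ) + 1)), by linear_combination (-8 : ℤ) * h1z⟩
  have hle := Int.le_of_dvd (by norm_num) key
  omega

end Cfsg.Agent.Lib.helper6.Ito
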