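import Mathlib

set_option autoImplicit false

namespace Cfsg.Agent.Lib.helper6.Ito

open Finset

/-- PIECE AR2 (arithmetic: the value `-1`). -/
theorem ito_arith_val (s p : ℕ) (hs : 0 < s) (hp : p = 2 * s ^ 2 + 2 * s + 1) (z : ℤ) (y : ℚ)
    (hz : (z : ℚ) = y)
    (hy : y = 2 * p * (-((s : ℚ) + 1) ^ 2 / (p * (2 * s + 1))) ∨
      y = p * (-((s : ℚ) + 1) ^ 2 / (p * (2 * s + 1)) + (s : ℚ) ^ 2 / (p * (2 * s + 1))) ∨
      y = 2 * p * ((s : ℚ) ^ 2 / (p * (2 * s + 1)))) :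
    y = -1 := by
  have hpq : (p : ℚ) ≠ 0 := by
    have : 0 < p := by omega
    exact_mod_cast this.ne'
  have hm : (2 * (s:ℚ) + 1) ≠ 0 := by positivity
  have hno : ∀ k : ℤ, (2 : ℤ) ≠ (2 * (s:ℤ) + 1) * k := by
    intro k hk
    have hdvd : (2 * (s:ℤ) + 1) ∣ 2 := ⟨k, hk⟩
    have := Int.le_of_dvd (by norm_num) hdvd
    omega
  rcases hy with hy | hy | hy
  · exfalso
    have h1 : (z : ℚ) * (2 * s + 1) = -2 * ((s:ℚ) + 1) ^ 2 := by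
      rw [hz, hy]; field_simp
    have h2 : z * (2 * (s:ℤ) + 1) = -2 * ((s:ℤ) + 1) ^ 2 := by exact_mod_cast h1
    exact hno (-4 * z - 2 * (2 * (s:ℤ) + 1) - 4) (by linear_combination (4:ℤ) * h2)
  · rw [hy]; field_simp; ring
  · exfalso
    have h1 : (z : ℚ) * (2 * s + 1) = 2 * (s:ℚ) ^ 2 := by
      rw [hz, hy]; field_simp
    have h2 : z * (2 * (s:ℤ) + 1) = 2 * (s:ℤ) ^ 2 := by exact_mod_cast h1
    exact hno (4 * z - 2 * (2 * (s:ℤ) + 1) + 4) (by linear_combination (-4:ℤ) * h2)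

end Cfsg.Agent.Lib.helper6.Ito
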