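import Mathlib

set_option autoImplicit false

namespace Cfsg.Agent.Lib.helper6.Ito

open Finset

section action
variable {α : Type*} [Fintype α] [DecidableEq α] {G : Type*} [Group G] [Fintype G] [MulAction G α]

/-- PIECE L (a nonzero invariant vector in the image of an invariant projection). -/
theorem ito_fixed_trace {X : Type*} [Fintype X] [MulAction G X] (E : X → X → ℚ)
    (hsym : ∀ x y, E x y = E y x)
    (hinv : ∀ (g : G) (x y : X), E (g • x) (g • y) = E x y)
    (hidem : ∀ x y, ∑ z, E x z * E z y = E x y)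
    (F : X → ℚ) (hFinv : ∀ (g : G) (x : X), F (g • x) = F x)
    (hFE : ∀ x, ∑ y, E x y * F y = F x) (hF : F ≠ 0) :
    (Fintype.card G : ℚ) ≤ ∑ g : G, ∑ x, E x (g • x) := by
  classical
  set n : ℚ := (Fintype.card G : ℚ) with hn
  have hnpos : 0 < n := by
    rw [hn]; exact_mod_cast Fintype.card_pos
  set Q : X → X → ℚ := fun x y => ∑ g : G, E x (g • y) with hQ
  have hreindex : ∀ (g : G) (φ : X → ℚ), ∑ z, φ (g • z) = ∑ z, φ z := by
    intro g φ
    exact Equiv.sum_comp (MulAction.toPerm g) φ
  have hQsym : ∀ x y, Q x y = Q y x := by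
    intro x y
    simp only [hQ]
    rw [← Equiv.sum_comp (Equiv.inv G)]
    refine Finset.sum_congr rfl fun g _ => ?_
    simp only [Equiv.inv_apply]
    rw [hsym, ← hinv g (g⁻¹ • y) x, smul_inv_smul]
  have hQQ : ∀ x y, ∑ z, Q x z * Q z y = n * Q x y := by
    intro x y
    simp only [hQ]
    have h1 : ∀ z, (∑ g : G, E x (g • z)) * (∑ h : G, E z (h • y))
        = ∑ g : G, ∑ h : G, E x (g • z) * E z (h • y) := by
      intro z; rw [Finset.sum_mul_sum]
    simp only [h1]
    rw [Finset.sum_comm]
    have h2 : ∀ g : G, ∑ z, ∑ h : G, E x (g • z) * E z (h • y) = ∑ h : G, E x (h • y) := by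
      intro g
      rw [Finset.sum_comm]
      have h3 : ∀ h : G, ∑ z, E x (g • z) * E z (h • y) = E x ((g * h) • y) := by
        intro h
        rw [← hidem x ((g * h) • y), ← hreindex g (fun w => E x w * E w ((g * h) • y))]
        refine Finset.sum_congr rfl fun z _ => ?_
        rw [mul_smul, hinv]
      simp only [h3]
      exact Equiv.sum_comp (Equiv.mulLeft g) (fun k => E x (k • y))
    simp only [h2]
    rw [Finset.sum_const, Finset.card_univ, nsmul_eq_mul]
  have hQF : ∀ x, ∑ y, Q x y * F y = n * F x := by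
    intro x
    simp only [hQ, Finset.sum_mul]
    rw [Finset.sum_comm]
    have h2 : ∀ g : G, ∑ y, E x (g • y) * F y = F x := by
      intro g
      rw [← hFE x, ← hreindex g (fun w => E x w * F w)]
      refine Finset.sum_congr rfl fun z _ => ?_
      rw [hFinv]
    simp only [h2]
    rw [Finset.sum_const, Finset.card_univ, nsmul_eq_mul]
  set T : ℚ := ∑ g : G, ∑ x, E x (g • x) with hT
  have hTQ : T = ∑ x, Q x x := by
    rw [hT]; simp only [hQ]; exact Finset.sum_comm
  have hsq : ∑ p : X × X, Q p.1 p.2 ^ 2 = n * T := by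
    rw [Fintype.sum_prod_type, hTQ, Finset.mul_sum]
    refine Finset.sum_congr rfl fun x _ => ?_
    rw [← hQQ x x]
    refine Finset.sum_congr rfl fun y _ => ?_
    rw [sq, hQsym y x]
  set S : ℚ := ∑ x, F x ^ 2 with hS
  have hSpos : 0 < S := by
    obtain ⟨x, hx⟩ : ∃ x, F x ≠ 0 := by
      by_contra hcon
      apply hF
      funext x
      by_contra hx
      exact hcon ⟨x, hx⟩
    have h1 : F x ^ 2 ≤ S :=
      Finset.single_le_sum (f := fun x => F x ^ 2) (fun i _ => sq_nonneg (F i)) (Finset.mem_univ x)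
    have h2 : 0 < F x ^ 2 := by positivity
    linarith
  have hlin : ∑ p : X × X, Q p.1 p.2 * (F p.1 * F p.2) = n * S := by
    rw [Fintype.sum_prod_type, hS, Finset.mul_sum]
    refine Finset.sum_congr rfl fun x _ => ?_
    have : ∀ y, Q x y * (F x * F y) = F x * (Q x y * F y) := by intro y; ring
    simp only [this]
    rw [← Finset.mul_sum, hQF x]; ring
  have hFF : ∑ p : X × X, (F p.1 * F p.2) ^ 2 = S ^ 2 := by
    rw [Fintype.sum_prod_type, hS, sq (∑ x, F x ^ 2), Finset.sum_mul_sum]
    refine Finset.sum_congr rfl fun x _ => ?_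
    refine Finset.sum_congr rfl fun y _ => ?_
    ring
  have hCS := Finset.sum_mul_sq_le_sq_mul_sq (Finset.univ : Finset (X × X))
    (fun p => Q p.1 p.2) (fun p => F p.1 * F p.2)
  simp only [hlin, hsq, hFF] at hCS
  have hpos : 0 < n * S ^ 2 := by positivity
  have h5 : n * S ^ 2 * n ≤ n * S ^ 2 * T := by nlinarith
  exact le_of_mul_le_mul_left h5 hpos

end action

end Cfsg.Agent.Lib.helper6.Ito
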