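import Mathlib

set_option autoImplicit false

namespace Cfsg.Agent.Lib.helper6.Ito

open Finset

section action
variable {α : Type*} [Fintype α] [DecidableEq α] {G : Type*} [Group G] [Fintype G] [MulAction G α]

/-- PIECE M1 (first moment). -/
theorem ito_sum_one [MulAction.IsPretransitive G α] (E : α → α → ℚ)
    (hrow : ∀ a, ∑ b, E a b = 0) :
    ∑ g : G, ∑ a, E a (g • a) = 0 := by
  classical
  rw [Finset.sum_comm]
  refine Finset.sum_eq_zero fun a _ => ?_
  have hc : ∀ b : α, (univ.filter (fun g : G => g • a = b)).card
      = (univ.filter (fun g : G => g • a = a)).card := by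
    intro b
    obtain ⟨h, rfl⟩ := MulAction.exists_smul_eq G a b
    refine Finset.card_bij (fun g _ => h⁻¹ * g) ?_ ?_ ?_
    · intro g hg
      simp only [Finset.mem_filter, Finset.mem_univ, true_and] at hg ⊢
      rw [mul_smul, hg, inv_smul_smul]
    · intro g1 _ g2 _ h12
      exact mul_left_cancel h12
    · intro g hg
      simp only [Finset.mem_filter, Finset.mem_univ, true_and] at hg
      refine ⟨h * g, ?_, by simp⟩
      simp only [Finset.mem_filter, Finset.mem_univ, true_and]
      rw [mul_smul, hg]
  rw [← Finset.sum_fiberwise (Finset.univ : Finset G) (fun g => g • a) (fun g => E a (g • a))]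
  have hfib : ∀ b : α, ∑ g ∈ univ.filter (fun g : G => g • a = b), E a (g • a)
      = ((univ.filter (fun g : G => g • a = a)).card : ℚ) * E a b := by
    intro b
    rw [← hc b, ← nsmul_eq_mul, ← Finset.sum_const]
    refine Finset.sum_congr rfl fun g hg => ?_
    rw [(Finset.mem_filter.mp hg).2]
  simp only [hfib]
  rw [← Finset.mul_sum, hrow, mul_zero]

end action

end Cfsg.Agent.Lib.helper6.Ito
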