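import Mathlib

set_option autoImplicit false

namespace Cfsg.Agent.Lib.helper6.Ito

open Finset

section action
variable {α : Type*} [Fintype α] [DecidableEq α] {G : Type*} [Group G] [Fintype G] [MulAction G α]

/-- PIECE M2 (second moment; Schur orthogonality from the rank 3 hypothesis `hR3`). -/
theorem ito_sum_sq (E : α → α → ℚ)
    (hsym : ∀ a b, E a b = E b a)
    (hinv : ∀ (g : G) (a b : α), E (g • a) (g • b) = E a b)
    (hidem : ∀ a b, ∑ c, E a c * E c b = E a b)
    (hrow : ∀ a, ∑ b, E a b = 0)
    (htr : ∑ a, E a a ≠ 0)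
    (hR3 : ∀ N : α → α → ℚ, (∀ (g : G) (a b : α), N (g • a) (g • b) = N a b) →
      ∃ x y z : ℚ, ∀ a b, N a b = x * (if a = b then 1 else 0) + y + z * E a b) :
    ∑ g : G, (∑ a, E a (g • a)) ^ 2 = (Fintype.card G : ℚ) := by
  classical
  set n : ℚ := (Fintype.card G : ℚ) with hn
  set t : ℚ := ∑ a, E a a with ht
  have key : ∀ a b : α, (∑ g : G, E a (g • a) * E b (g • b)) * t = n * E a b ^ 2 := by
    intro a b
    set N : α → α → ℚ := fun c d =>
      ∑ g : G, (if g • a = c then (1:ℚ) else 0) * (if g • b = d then (1:ℚ) else 0) with hN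
    have hNsum : ∀ φ : α → α → ℚ, ∑ c, ∑ d, N c d * φ c d = ∑ g : G, φ (g • a) (g • b) := by
      intro φ
      calc ∑ c, ∑ d, N c d * φ c d
          = ∑ c, ∑ d, ∑ g : G, (if g • a = c then (1:ℚ) else 0)
              * (if g • b = d then (1:ℚ) else 0) * φ c d := by
            simp only [hN, Finset.sum_mul]
        _ = ∑ c, ∑ g : G, ∑ d, (if g • a = c then (1:ℚ) else 0)
              * (if g • b = d then (1:ℚ) else 0) * φ c d := by
            refine Finset.sum_congr rfl fun c _ => Finset.sum_comm
        _ = ∑ g : G, ∑ c, ∑ d, (if g • a = c then (1:ℚ) else 0)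
              * (if g • b = d then (1:ℚ) else 0) * φ c d := Finset.sum_comm
        _ = ∑ g : G, φ (g • a) (g • b) := by
            refine Finset.sum_congr rfl fun g _ => ?_
            rw [Finset.sum_eq_single (g • a) (fun c _ hc => ?_)
              (fun h => absurd (Finset.mem_univ _) h)]
            · rw [Finset.sum_eq_single (g • b) (fun d _ hd => ?_)
                (fun h => absurd (Finset.mem_univ _) h)]
              · simp
              · simp [Ne.symm hd]
            · exact Finset.sum_eq_zero fun d _ => by simp [Ne.symm hc]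
    have hNinv : ∀ (h : G) (c d : α), N (h • c) (h • d) = N c d := by
      intro h c d
      simp only [hN]
      rw [← Equiv.sum_comp (Equiv.mulLeft h)]
      refine Finset.sum_congr rfl fun g _ => ?_
      simp only [Equiv.coe_mulLeft, mul_smul, (MulAction.injective h).eq_iff]
    obtain ⟨x, y, z, hxyz⟩ := hR3 N hNinv
    have hI : ∀ φ : α → α → ℚ, ∑ c, ∑ d, (if c = d then (1:ℚ) else 0) * φ c d = ∑ c, φ c c := by
      intro φ
      refine Finset.sum_congr rfl fun c _ => ?_
      rw [Finset.sum_eq_single c (fun d _ hd => ?_) (fun h => absurd (Finset.mem_univ _) h)]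
      · simp
      · simp [Ne.symm hd]
    have hsplit : ∀ φ : α → α → ℚ, ∑ c, ∑ d, N c d * φ c d
        = x * (∑ c, φ c c) + y * (∑ c, ∑ d, φ c d) + z * (∑ c, ∑ d, E c d * φ c d) := by
      intro φ
      have h0 : ∀ c d, N c d * φ c d = x * ((if c = d then (1:ℚ) else 0) * φ c d) + y * φ c d
          + z * (E c d * φ c d) := by
        intro c d; rw [hxyz]; ring
      simp only [h0, Finset.sum_add_distrib, ← Finset.mul_sum, hI]
    have h1 : ∑ g : G, E a (g • a) * E b (g • b) = (x + z) * E a b := by
      rw [← hNsum (fun c d => E a c * E b d), hsplit]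
      have A1 : ∑ c, E a c * E b c = E a b := by
        rw [← hidem a b]
        refine Finset.sum_congr rfl fun c _ => ?_
        rw [hsym b c]
      have A2 : ∑ c, ∑ d, E a c * E b d = 0 := by
        simp only [← Finset.mul_sum, hrow, mul_zero, Finset.sum_const_zero]
      have A3 : ∑ c, ∑ d, E c d * (E a c * E b d) = E a b := by
        rw [Finset.sum_comm]
        have h3 : ∀ d, ∑ c, E c d * (E a c * E b d) = E a d * E d b := by
          intro d
          have : ∀ c, E c d * (E a c * E b d) = (E a c * E c d) * E b d := by intro c; ring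
          simp only [this]
          rw [← Finset.sum_mul, hidem, hsym b d]
        simp only [h3]
        exact hidem a b
      rw [A1, A2, A3]; ring
    have h2 : n * E a b = (x + z) * t := by
      have h0 : ∑ g : G, E (g • a) (g • b) = n * E a b := by
        simp only [hinv, Finset.sum_const, Finset.card_univ, nsmul_eq_mul, hn]
      rw [← h0, ← hNsum (fun c d => E c d), hsplit]
      have B2 : ∑ c, ∑ d, E c d = 0 := by
        simp only [hrow, Finset.sum_const_zero]
      have B3 : ∑ c, ∑ d, E c d * E c d = t := by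
        rw [ht]
        refine Finset.sum_congr rfl fun c _ => ?_
        rw [← hidem c c]
        refine Finset.sum_congr rfl fun d _ => ?_
        rw [hsym d c]
      rw [B2, B3]; ring
    rw [h1]
    linear_combination (-(E a b)) * h2
  have hexp : ∀ g : G, (∑ a, E a (g • a)) ^ 2 = ∑ a, ∑ b, E a (g • a) * E b (g • b) := by
    intro g; rw [sq, Finset.sum_mul_sum]
  have hsum2 : ∑ a, ∑ b, E a b ^ 2 = t := by
    rw [ht]
    refine Finset.sum_congr rfl fun a _ => ?_
    rw [← hidem a a]
    refine Finset.sum_congr rfl fun b _ => ?_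
    rw [sq, hsym b a]
  have hfin : (∑ g : G, (∑ a, E a (g • a)) ^ 2) * t = n * t := by
    simp only [hexp]
    rw [Finset.sum_comm]
    calc (∑ a, ∑ g : G, ∑ b, E a (g • a) * E b (g • b)) * t
        = ∑ a, ∑ b, (∑ g : G, E a (g • a) * E b (g • b)) * t := by
          rw [Finset.sum_mul]
          refine Finset.sum_congr rfl fun a _ => ?_
          rw [Finset.sum_comm, Finset.sum_mul]
      _ = ∑ a, ∑ b, n * E a b ^ 2 := by simp only [key]
      _ = n * t := by
          rw [← hsum2]; simp only [Finset.mul_sum]
  exact mul_right_cancel₀ htr hfin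

end action

end Cfsg.Agent.Lib.helper6.Ito
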