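import Mathlib
import Cfsg.Agent.Lib.helper86.IvDefs

/-! Piece ORD of the S3928 split (helper86): an element of `ivI α` has order at most `|ivI α|`. -/

set_option autoImplicit false

namespace Cfsg.Agent.Lib.helper86.IV

/-- ORD : an element of `ivI α` has order at most `|ivI α|` (its powers lie in `ivI α`). -/
theorem iv_order_le {G : Type*} [Group G] [Finite G] (α : MulAut G) (x : G) (hx : x ∈ ivI α) :
    orderOf x ≤ Nat.card (ivI α) := by
  obtain ⟨hodd, hinv⟩ := hx
  have hsub : ((Submonoid.powers x : Submonoid G) : Set G) ⊆ ivI α := by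
    rintro y ⟨n, rfl⟩
    refine ⟨Odd.of_dvd_nat hodd (orderOf_pow_dvd n), ?_⟩
    show α (x ^ n) = (x ^ n)⁻¹
    rw [map_pow, hinv, inv_pow]
  calc orderOf x = Nat.card (Submonoid.powers x) := (Nat.card_submonoidPowers).symm
    _ ≤ Nat.card (ivI α) := Nat.card_mono (Set.toFinite _) hsub

end Cfsg.Agent.Lib.helper86.IV
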