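import Mathlib
import Cfsg.Prelude.Def_LieTypeChar
import Cfsg.Agent.Lib.helper44.LODefs
import Cfsg.Agent.Lib.helper6.LOARITH

set_option autoImplicit false

namespace Cfsg.Agent.Lib.helper44.LO

open Cfsg

/-- `q ^ d - 1 < q ^ d` for `q ≥ 2`. -/
theorem h6_lo_sub_lt (q d : ℕ) (hq : 2 ≤ q) : q ^ d - 1 < q ^ d :=
  Nat.sub_lt (Nat.pow_pos (by omega)) one_pos

/-- `p ∤ q ^ d - 1` when `p ∣ q`, `q ≥ 2`, `d ≥ 1`. -/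
theorem h6_lo_ndvd_sub {p : ℕ} (hp : p.Prime) (q d : ℕ) (hq : 2 ≤ q) (hpq : p ∣ q) (hd : 1 ≤ d) :
    ¬ p ∣ q ^ d - 1 := by
  intro h
  have h1 : p ∣ q ^ d := dvd_trans hpq (dvd_pow_self q (by omega))
  have h2 : p ∣ q ^ d - (q ^ d - 1) := Nat.dvd_sub h1 h
  have h3 : 0 < q ^ d := Nat.pow_pos (by omega)
  have h4 : q ^ d - (q ^ d - 1) = 1 := by omega
  rw [h4] at h2
  exact hp.one_lt.ne' (Nat.dvd_one.mp h2)

/-- `p ∤ q ^ d + 1` when `p ∣ q`, `d ≥ 1`. -/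
theorem h6_lo_ndvd_add {p : ℕ} (hp : p.Prime) (q d : ℕ) (hpq : p ∣ q) (hd : 1 ≤ d) :
    ¬ p ∣ q ^ d + 1 := by
  intro h
  have h1 : p ∣ q ^ d := dvd_trans hpq (dvd_pow_self q (by omega))
  have h2 : p ∣ 1 := (Nat.dvd_add_right h1).mp h
  exact hp.one_lt.ne' (Nat.dvd_one.mp h2)

/-- `(q ^ a - 1) * (q ^ b + 1) < q ^ (a + b)` for `a < b`, `q ≥ 2`. -/
theorem h6_lo_pair_lt (q a b : ℕ) (hq : 2 ≤ q) (hab : a < b) :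
    (q ^ a - 1) * (q ^ b + 1) < q ^ (a + b) := by
  have h1 : 1 ≤ q ^ a := Nat.pow_pos (by omega)
  have h2 : q ^ a < q ^ b := Nat.pow_lt_pow_right (by omega) hab
  obtain ⟨x, hx⟩ : ∃ x, q ^ a = x + 1 := ⟨q ^ a - 1, by omega⟩
  rw [pow_add, hx, Nat.add_sub_cancel]
  rw [hx] at h2
  nlinarith [h2]

/-- The field size data of a finite field of characteristic `p`. -/
theorem h6_lo_field {F : Type} [Field F] [Fintype F] (p : ℕ) [CharP F p] :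
    ∃ f : ℕ, 1 ≤ f ∧ Fintype.card F = p ^ f ∧ 2 ≤ p ^ f ∧ p ∣ p ^ f ∧ p.Prime := by
  obtain ⟨f, hp, hF⟩ := FiniteField.card F p
  refine ⟨f, f.pos, hF, ?_, dvd_pow_self p f.pos.ne', hp⟩
  calc 2 ≤ p := hp.two_le
    _ = p ^ 1 := (pow_one p).symm
    _ ≤ p ^ (f : ℕ) := Nat.pow_le_pow_right hp.pos f.pos

/-- `p ∤ gcd c (q - 1)` when `p ∣ q`, `q ≥ 2`. -/
theorem h6_lo_ndvd_gcd {p : ℕ} (hp : p.Prime) (c q : ℕ) (hq : 2 ≤ q) (hpq : p ∣ q) :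
    ¬ p ∣ Nat.gcd c (q - 1) := by
  intro h
  have h1 : p ∣ q - 1 := dvd_trans h (Nat.gcd_dvd_right _ _)
  exact h6_lo_ndvd_sub hp q 1 hq hpq le_rfl (by simpa using h1)

/-- E7 core: the order formula as a hypothesis. -/
theorem h6_lo_e7_core {p : ℕ} (hp : p.Prime) (f : ℕ) (hf : 1 ≤ f) (n : ℕ)
    (hres : Nat.gcd 2 (p ^ f - 1) * n = (p ^ f) ^ 63 * ((p ^ f) ^ 2 - 1) * ((p ^ f) ^ 6 - 1) *
      ((p ^ f) ^ 8 - 1) * ((p ^ f) ^ 10 - 1) * ((p ^ f) ^ 12 - 1) * ((p ^ f) ^ 14 - 1) *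
      ((p ^ f) ^ 18 - 1)) : LOGood p n := by
  have hq2 : 2 ≤ p ^ f :=
    calc 2 ≤ p := hp.two_le
      _ = p ^ 1 := (pow_one p).symm
      _ ≤ p ^ f := Nat.pow_le_pow_right hp.pos hf
  have hpq : p ∣ p ^ f := dvd_pow_self p (by omega)
  have key := lo_good hp f hf (Nat.gcd 2 (p ^ f - 1)) n 63
    (((p ^ f) ^ 2 - 1) * ((p ^ f) ^ 6 - 1) * ((p ^ f) ^ 8 - 1) * ((p ^ f) ^ 10 - 1) *
      ((p ^ f) ^ 12 - 1) * ((p ^ f) ^ 14 - 1) * ((p ^ f) ^ 18 - 1)) 70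
  generalize p ^ f = q at *
  have hc0 : 1 ≤ Nat.gcd 2 (q - 1) := Nat.gcd_pos_of_pos_left _ (by norm_num)
  refine key ?_ (h6_lo_ndvd_gcd hp 2 q hq2 hpq) ?_ ?_ (by norm_num) (by norm_num)
  · rw [hres]; ring
  · exact Nat.Prime.not_dvd_mul hp (Nat.Prime.not_dvd_mul hp (Nat.Prime.not_dvd_mul hp
      (Nat.Prime.not_dvd_mul hp (Nat.Prime.not_dvd_mul hp (Nat.Prime.not_dvd_mul hp
      (h6_lo_ndvd_sub hp q 2 hq2 hpq (by norm_num)) (h6_lo_ndvd_sub hp q 6 hq2 hpq (by norm_num)))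
      (h6_lo_ndvd_sub hp q 8 hq2 hpq (by norm_num))) (h6_lo_ndvd_sub hp q 10 hq2 hpq (by norm_num)))
      (h6_lo_ndvd_sub hp q 12 hq2 hpq (by norm_num))) (h6_lo_ndvd_sub hp q 14 hq2 hpq (by norm_num)))
      (h6_lo_ndvd_sub hp q 18 hq2 hpq (by norm_num))
  · have h70 : q ^ 70 = q ^ 2 * q ^ 6 * q ^ 8 * q ^ 10 * q ^ 12 * q ^ 14 * q ^ 18 := by ring
    have hlt : (q ^ 2 - 1) * (q ^ 6 - 1) * (q ^ 8 - 1) * (q ^ 10 - 1) * (q ^ 12 - 1) * (q ^ 14 - 1) *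
        (q ^ 18 - 1) < q ^ 70 := by
      rw [h70]
      exact Nat.mul_lt_mul'' (Nat.mul_lt_mul'' (Nat.mul_lt_mul'' (Nat.mul_lt_mul''
        (Nat.mul_lt_mul'' (Nat.mul_lt_mul'' (h6_lo_sub_lt q 2 hq2) (h6_lo_sub_lt q 6 hq2))
        (h6_lo_sub_lt q 8 hq2)) (h6_lo_sub_lt q 10 hq2)) (h6_lo_sub_lt q 12 hq2))
        (h6_lo_sub_lt q 14 hq2)) (h6_lo_sub_lt q 18 hq2)
    calc _ < q ^ 70 := hlt
      _ = 1 * q ^ 70 := (one_mul _).symm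
      _ ≤ Nat.gcd 2 (q - 1) * q ^ 70 := Nat.mul_le_mul_right _ hc0

/-- E8 core: the order formula as a hypothesis. -/
theorem h6_lo_e8_core {p : ℕ} (hp : p.Prime) (f : ℕ) (hf : 1 ≤ f) (n : ℕ)
    (hres : n = (p ^ f) ^ 120 * ((p ^ f) ^ 2 - 1) * ((p ^ f) ^ 8 - 1) *
      ((p ^ f) ^ 12 - 1) * ((p ^ f) ^ 14 - 1) * ((p ^ f) ^ 18 - 1) * ((p ^ f) ^ 20 - 1) *
      ((p ^ f) ^ 24 - 1) * ((p ^ f) ^ 30 - 1)) : LOGood p n := by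
  have hq2 : 2 ≤ p ^ f :=
    calc 2 ≤ p := hp.two_le
      _ = p ^ 1 := (pow_one p).symm
      _ ≤ p ^ f := Nat.pow_le_pow_right hp.pos hf
  have hpq : p ∣ p ^ f := dvd_pow_self p (by omega)
  have key := lo_good hp f hf 1 n 120
    (((p ^ f) ^ 2 - 1) * ((p ^ f) ^ 8 - 1) * ((p ^ f) ^ 12 - 1) * ((p ^ f) ^ 14 - 1) *
      ((p ^ f) ^ 18 - 1) * ((p ^ f) ^ 20 - 1) * ((p ^ f) ^ 24 - 1) * ((p ^ f) ^ 30 - 1)) 128
  generalize p ^ f = q at *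
  refine key ?_ (Nat.Prime.not_dvd_one hp) ?_ ?_ (by norm_num) (by norm_num)
  · rw [hres]; ring
  · exact Nat.Prime.not_dvd_mul hp (Nat.Prime.not_dvd_mul hp (Nat.Prime.not_dvd_mul hp
      (Nat.Prime.not_dvd_mul hp (Nat.Prime.not_dvd_mul hp (Nat.Prime.not_dvd_mul hp
      (Nat.Prime.not_dvd_mul hp
      (h6_lo_ndvd_sub hp q 2 hq2 hpq (by norm_num)) (h6_lo_ndvd_sub hp q 8 hq2 hpq (by norm_num)))
      (h6_lo_ndvd_sub hp q 12 hq2 hpq (by norm_num))) (h6_lo_ndvd_sub hp q 14 hq2 hpq (by norm_num)))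
      (h6_lo_ndvd_sub hp q 18 hq2 hpq (by norm_num))) (h6_lo_ndvd_sub hp q 20 hq2 hpq (by norm_num)))
      (h6_lo_ndvd_sub hp q 24 hq2 hpq (by norm_num))) (h6_lo_ndvd_sub hp q 30 hq2 hpq (by norm_num))
  · have h128 : 1 * q ^ 128 =
        q ^ 2 * q ^ 8 * q ^ 12 * q ^ 14 * q ^ 18 * q ^ 20 * q ^ 24 * q ^ 30 := by ring
    rw [h128]
    exact Nat.mul_lt_mul'' (Nat.mul_lt_mul'' (Nat.mul_lt_mul'' (Nat.mul_lt_mul'' (Nat.mul_lt_mul''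
        (Nat.mul_lt_mul'' (Nat.mul_lt_mul'' (h6_lo_sub_lt q 2 hq2) (h6_lo_sub_lt q 8 hq2))
        (h6_lo_sub_lt q 12 hq2)) (h6_lo_sub_lt q 14 hq2)) (h6_lo_sub_lt q 18 hq2))
        (h6_lo_sub_lt q 20 hq2)) (h6_lo_sub_lt q 24 hq2)) (h6_lo_sub_lt q 30 hq2)

/-- G2 core: the order formula as a hypothesis. -/
theorem h6_lo_g2_core {p : ℕ} (hp : p.Prime) (f : ℕ) (hf : 1 ≤ f) (n : ℕ)
    (hres : n = (p ^ f) ^ 6 * ((p ^ f) ^ 2 - 1) * ((p ^ f) ^ 6 - 1)) : LOGood p n := by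
  have hq2 : 2 ≤ p ^ f :=
    calc 2 ≤ p := hp.two_le
      _ = p ^ 1 := (pow_one p).symm
      _ ≤ p ^ f := Nat.pow_le_pow_right hp.pos hf
  have hpq : p ∣ p ^ f := dvd_pow_self p (by omega)
  have key := lo_good hp f hf 1 n 6 (((p ^ f) ^ 2 - 1) * ((p ^ f) ^ 6 - 1)) 8
  generalize p ^ f = q at *
  refine key ?_ (Nat.Prime.not_dvd_one hp) ?_ ?_ (by norm_num) (by norm_num)
  · rw [hres]; ring
  · exact Nat.Prime.not_dvd_mul hp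
      (h6_lo_ndvd_sub hp q 2 hq2 hpq (by norm_num)) (h6_lo_ndvd_sub hp q 6 hq2 hpq (by norm_num))
  · have h8 : 1 * q ^ 8 = q ^ 2 * q ^ 6 := by ring
    rw [h8]
    exact Nat.mul_lt_mul'' (h6_lo_sub_lt q 2 hq2) (h6_lo_sub_lt q 6 hq2)

/-- F4 core: the order formula as a hypothesis. -/
theorem h6_lo_f4_core {p : ℕ} (hp : p.Prime) (f : ℕ) (hf : 1 ≤ f) (n : ℕ)
    (hres : n = (p ^ f) ^ 24 * ((p ^ f) ^ 2 - 1) * ((p ^ f) ^ 6 - 1) * ((p ^ f) ^ 8 - 1) *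
      ((p ^ f) ^ 12 - 1)) : LOGood p n := by
  have hq2 : 2 ≤ p ^ f :=
    calc 2 ≤ p := hp.two_le
      _ = p ^ 1 := (pow_one p).symm
      _ ≤ p ^ f := Nat.pow_le_pow_right hp.pos hf
  have hpq : p ∣ p ^ f := dvd_pow_self p (by omega)
  have key := lo_good hp f hf 1 n 24
    (((p ^ f) ^ 2 - 1) * ((p ^ f) ^ 6 - 1) * ((p ^ f) ^ 8 - 1) * ((p ^ f) ^ 12 - 1)) 28
  generalize p ^ f = q at *
  refine key ?_ (Nat.Prime.not_dvd_one hp) ?_ ?_ (by norm_num) (by norm_num)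
  · rw [hres]; ring
  · exact Nat.Prime.not_dvd_mul hp (Nat.Prime.not_dvd_mul hp (Nat.Prime.not_dvd_mul hp
      (h6_lo_ndvd_sub hp q 2 hq2 hpq (by norm_num)) (h6_lo_ndvd_sub hp q 6 hq2 hpq (by norm_num)))
      (h6_lo_ndvd_sub hp q 8 hq2 hpq (by norm_num))) (h6_lo_ndvd_sub hp q 12 hq2 hpq (by norm_num))
  · have h28 : 1 * q ^ 28 = q ^ 2 * q ^ 6 * q ^ 8 * q ^ 12 := by ring
    rw [h28]
    exact Nat.mul_lt_mul'' (Nat.mul_lt_mul'' (Nat.mul_lt_mul'' (h6_lo_sub_lt q 2 hq2)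
      (h6_lo_sub_lt q 6 hq2)) (h6_lo_sub_lt q 8 hq2)) (h6_lo_sub_lt q 12 hq2)

end Cfsg.Agent.Lib.helper44.LO
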