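import Mathlib
import Cfsg.Prelude
import Cfsg.Agent.Lib.helper6.AffPerm
import Cfsg.Agent.Lib.helper6.Compat
import Cfsg.Agent.Lib.helper6.SLCard
import Cfsg.Agent.Lib.helper45.SLGen
import Cfsg.Agent.Lib.helper9.M24Trans

/-!
# The three-point stabiliser of `M24` is `PSL_3(4)`

`m21_equiv` : for distinct points `p q r`, the stabiliser of the three points in `M24` is
isomorphic to `PSL_3(F)` for any field `F` with four elements.
`card_stab_three_points` : it has order 20160.  `F4` is the model `F_2[w]/(w^2 = w + 1)`.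
-/

set_option autoImplicit false
open Cfsg

namespace Cfsg.Agent.Lib.helper6.M21

open Matrix Cfsg.Agent.Lib.helper6
open scoped LinearAlgebra.Projectivization

instance fact4 : Fact (∀ r : ZMod 2, r ^ 2 ≠ 1 + 1 * r) := ⟨by decide⟩

/-- the field with 4 elements, `F_2[w]`, `w^2 = 1 + w` -/
abbrev F4 := QuadraticAlgebra (ZMod 2) 1 1

instance fintypeF4 : Fintype F4 :=
  Fintype.ofEquiv (ZMod 2 × ZMod 2) (QuadraticAlgebra.equivProd 1 1).symm

theorem card_F4 : Fintype.card F4 = 4 := by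
  rw [Fintype.card_congr (QuadraticAlgebra.equivProd (1 : ZMod 2) 1)]
  simp [ZMod.card]

/-- `w` -/
def w4 : F4 := ⟨0, 1⟩

/-- index to point (helper9's numbering: residues `0..22`, then the extra point `23`) -/
abbrev hpt : ℕ → GolayPt := Cfsg.Agent.Lib.helper9.pt

/-- point to index -/
abbrev hidx : GolayPt → ℕ := Cfsg.Agent.Lib.helper9.idx

/-- representatives of the 21 points of the projective plane over `F_4` -/
def ppt : Fin 21 → Fin 3 → F4 :=
  ![![⟨0,0⟩, ⟨0,0⟩, ⟨1,0⟩],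
    ![⟨0,0⟩, ⟨1,0⟩, ⟨0,0⟩],
    ![⟨0,0⟩, ⟨1,0⟩, ⟨1,0⟩],
    ![⟨0,0⟩, ⟨1,1⟩, ⟨1,0⟩],
    ![⟨0,0⟩, ⟨0,1⟩, ⟨1,0⟩],
    ![⟨1,0⟩, ⟨0,0⟩, ⟨0,0⟩],
    ![⟨1,0⟩, ⟨0,0⟩, ⟨1,0⟩],
    ![⟨1,1⟩, ⟨0,0⟩, ⟨1,0⟩],
    ![⟨0,1⟩, ⟨0,0⟩, ⟨1,0⟩],
    ![⟨1,0⟩, ⟨1,0⟩, ⟨0,0⟩],
    ![⟨1,0⟩, ⟨1,0⟩, ⟨1,0⟩],
    ![⟨1,1⟩, ⟨1,1⟩, ⟨1,0⟩],
    ![⟨0,1⟩, ⟨0,1⟩, ⟨1,0⟩],
    ![⟨1,1⟩, ⟨1,0⟩, ⟨0,0⟩],
    ![⟨1,0⟩, ⟨0,1⟩, ⟨1,0⟩],
    ![⟨1,1⟩, ⟨1,0⟩, ⟨1,0⟩],
    ![⟨0,1⟩, ⟨1,1⟩, ⟨1,0⟩],
    ![⟨0,1⟩, ⟨1,0⟩, ⟨0,0⟩],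
    ![⟨1,0⟩, ⟨1,1⟩, ⟨1,0⟩],
    ![⟨1,1⟩, ⟨0,1⟩, ⟨1,0⟩],
    ![⟨0,1⟩, ⟨1,0⟩, ⟨1,0⟩]]

/-- the labelling of the plane by the 21 points other than `∞, 0, 1` -/
def labN : Fin 21 → ℕ := ![2, 3, 5, 14, 17, 4, 13, 16, 22, 11, 8, 18, 12, 19, 6, 7, 21, 20, 10, 9, 15]

/-- the labelling of the plane by the 21 points other than `∞, 0, 1` -/
def lab (k : Fin 21) : GolayPt := hpt (labN k)

/-- a permutation of the 24 points from a table of images and a table of preimages -/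
def tblPerm (tbl tbl' : List ℕ)
    (h1 : ∀ p : GolayPt, hpt (tbl'.getD (hidx (hpt (tbl.getD (hidx p) 0))) 0) = p)
    (h2 : ∀ p : GolayPt, hpt (tbl.getD (hidx (hpt (tbl'.getD (hidx p) 0))) 0) = p) :
    Equiv.Perm GolayPt :=
  ⟨fun p => hpt (tbl.getD (hidx p) 0), fun p => hpt (tbl'.getD (hidx p) 0), h1, h2⟩

theorem tblPerm_apply (tbl tbl' : List ℕ) (h1 h2) (p : GolayPt) :
    tblPerm tbl tbl' h1 h2 p = hpt (tbl.getD (hidx p) 0) := rfl

theorem tblPerm_mem (tbl tbl' : List ℕ) (h1 h2)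
    (hb : ∀ p : GolayPt, tbl.getD (hidx p) 0 < 24)
    (hc : Cfsg.Agent.Lib.helper9.chkTbl tbl = true) : tblPerm tbl tbl' h1 h2 ∈ M24 :=
  Cfsg.Agent.Lib.helper9.mem_M24_of_table _ tbl
    (fun p => Cfsg.Agent.Lib.helper9.idx_pt (hb p)) hc

def fT01a : Fin 21 → Fin 21 := ![0, 9, 10, 11, 12, 5, 6, 7, 8, 1, 2, 3, 4, 17, 19, 20, 18, 13, 16, 14, 15]
def tb01a : List ℕ := [0, 1, 2, 11, 4, 8, 9, 15, 5, 6, 21, 3, 17, 13, 18, 7, 16, 12, 14, 20, 19, 10, 22, 23]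
def tb01a' : List ℕ := [0, 1, 2, 11, 4, 8, 9, 15, 5, 6, 21, 3, 17, 13, 18, 7, 16, 12, 14, 20, 19, 10, 22, 23]
def sg01a : Equiv.Perm GolayPt := tblPerm tb01a tb01a' (by decide) (by decide)
theorem sg01a_mem : sg01a ∈ M24 := tblPerm_mem _ _ _ _ (by decide) (by decide +kernel)
theorem pt_T01a : ∀ k, ∃ a : F4, a • ppt (fT01a k)
    = (1 + Matrix.single 0 1 1 : Matrix (Fin 3) (Fin 3) F4) *ᵥ ppt k := by decide
theorem lab_T01a : ∀ k, sg01a (lab k) = lab (fT01a k) := by decide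
theorem fix_T01a : sg01a none = none ∧ sg01a (some 0) = some 0 ∧ sg01a (some 1) = some 1 := by
  decide

def fT01b : Fin 21 → Fin 21 := ![0, 17, 20, 18, 19, 5, 6, 7, 8, 13, 15, 16, 14, 9, 12, 10, 11, 1, 3, 4, 2]
def tb01b : List ℕ := [0, 1, 2, 20, 4, 15, 12, 8, 7, 17, 14, 19, 6, 13, 10, 5, 16, 9, 21, 11, 3, 18, 22, 23]
def tb01b' : List ℕ := [0, 1, 2, 20, 4, 15, 12, 8, 7, 17, 14, 19, 6, 13, 10, 5, 16, 9, 21, 11, 3, 18, 22, 23]
def sg01b : Equiv.Perm GolayPt := tblPerm tb01b tb01b' (by decide) (by decide)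
theorem sg01b_mem : sg01b ∈ M24 := tblPerm_mem _ _ _ _ (by decide) (by decide +kernel)
theorem pt_T01b : ∀ k, ∃ a : F4, a • ppt (fT01b k)
    = (1 + Matrix.single 0 1 w4 : Matrix (Fin 3) (Fin 3) F4) *ᵥ ppt k := by decide
theorem lab_T01b : ∀ k, sg01b (lab k) = lab (fT01b k) := by decide
theorem fix_T01b : sg01b none = none ∧ sg01b (some 0) = some 0 ∧ sg01b (some 1) = some 1 := by
  decide

def fT02a : Fin 21 → Fin 21 := ![6, 1, 10, 18, 14, 5, 0, 8, 7, 9, 2, 16, 19, 13, 4, 20, 11, 17, 3, 12, 15]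
def tb02a : List ℕ := [0, 1, 13, 3, 4, 8, 17, 15, 5, 12, 14, 11, 9, 2, 10, 7, 22, 6, 21, 19, 20, 18, 16, 23]
def tb02a' : List ℕ := [0, 1, 13, 3, 4, 8, 17, 15, 5, 12, 14, 11, 9, 2, 10, 7, 22, 6, 21, 19, 20, 18, 16, 23]
def sg02a : Equiv.Perm GolayPt := tblPerm tb02a tb02a' (by decide) (by decide)
theorem sg02a_mem : sg02a ∈ M24 := tblPerm_mem _ _ _ _ (by decide) (by decide +kernel)
theorem pt_T02a : ∀ k, ∃ a : F4, a • ppt (fT02a k)
    = (1 + Matrix.single 0 2 1 : Matrix (Fin 3) (Fin 3) F4) *ᵥ ppt k := by decide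
theorem lab_T02a : ∀ k, sg02a (lab k) = lab (fT02a k) := by decide
theorem fix_T02a : sg02a none = none ∧ sg02a (some 0) = some 0 ∧ sg02a (some 1) = some 1 := by
  decide

def fT02b : Fin 21 → Fin 21 := ![8, 1, 20, 16, 12, 5, 7, 6, 0, 9, 15, 18, 4, 13, 19, 10, 3, 17, 11, 14, 2]
def tb02b : List ℕ := [0, 1, 22, 3, 4, 15, 9, 8, 7, 6, 18, 11, 17, 16, 21, 5, 13, 12, 10, 19, 20, 14, 2, 23]
def tb02b' : List ℕ := [0, 1, 22, 3, 4, 15, 9, 8, 7, 6, 18, 11, 17, 16, 21, 5, 13, 12, 10, 19, 20, 14, 2, 23]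
def sg02b : Equiv.Perm GolayPt := tblPerm tb02b tb02b' (by decide) (by decide)
theorem sg02b_mem : sg02b ∈ M24 := tblPerm_mem _ _ _ _ (by decide) (by decide +kernel)
theorem pt_T02b : ∀ k, ∃ a : F4, a • ppt (fT02b k)
    = (1 + Matrix.single 0 2 w4 : Matrix (Fin 3) (Fin 3) F4) *ᵥ ppt k := by decide
theorem lab_T02b : ∀ k, sg02b (lab k) = lab (fT02b k) := by decide
theorem fix_T02b : sg02b none = none ∧ sg02b (some 0) = some 0 ∧ sg02b (some 1) = some 1 := by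
  decide

def fT10a : Fin 21 → Fin 21 := ![0, 1, 2, 3, 4, 9, 10, 11, 12, 5, 6, 7, 8, 17, 18, 19, 20, 13, 14, 15, 16]
def tb10a : List ℕ := [0, 1, 2, 3, 11, 5, 10, 9, 13, 7, 6, 4, 22, 8, 14, 21, 18, 17, 16, 20, 19, 15, 12, 23]
def tb10a' : List ℕ := [0, 1, 2, 3, 11, 5, 10, 9, 13, 7, 6, 4, 22, 8, 14, 21, 18, 17, 16, 20, 19, 15, 12, 23]
def sg10a : Equiv.Perm GolayPt := tblPerm tb10a tb10a' (by decide) (by decide)
theorem sg10a_mem : sg10a ∈ M24 := tblPerm_mem _ _ _ _ (by decide) (by decide +kernel)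
theorem pt_T10a : ∀ k, ∃ a : F4, a • ppt (fT10a k)
    = (1 + Matrix.single 1 0 1 : Matrix (Fin 3) (Fin 3) F4) *ᵥ ppt k := by decide
theorem lab_T10a : ∀ k, sg10a (lab k) = lab (fT10a k) := by decide
theorem fix_T10a : sg10a none = none ∧ sg10a (some 0) = some 0 ∧ sg10a (some 1) = some 1 := by
  decide

def fT10b : Fin 21 → Fin 21 := ![0, 1, 2, 3, 4, 13, 14, 15, 16, 17, 18, 19, 20, 5, 6, 7, 8, 9, 10, 11, 12]
def tb10b : List ℕ := [0, 1, 2, 3, 19, 5, 13, 16, 10, 18, 8, 20, 15, 6, 14, 12, 7, 17, 9, 4, 11, 22, 21, 23]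
def tb10b' : List ℕ := [0, 1, 2, 3, 19, 5, 13, 16, 10, 18, 8, 20, 15, 6, 14, 12, 7, 17, 9, 4, 11, 22, 21, 23]
def sg10b : Equiv.Perm GolayPt := tblPerm tb10b tb10b' (by decide) (by decide)
theorem sg10b_mem : sg10b ∈ M24 := tblPerm_mem _ _ _ _ (by decide) (by decide +kernel)
theorem pt_T10b : ∀ k, ∃ a : F4, a • ppt (fT10b k)
    = (1 + Matrix.single 1 0 w4 : Matrix (Fin 3) (Fin 3) F4) *ᵥ ppt k := by decide
theorem lab_T10b : ∀ k, sg10b (lab k) = lab (fT10b k) := by decide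
theorem fix_T10b : sg10b none = none ∧ sg10b (some 0) = some 0 ∧ sg10b (some 1) = some 1 := by
  decide

def fT12a : Fin 21 → Fin 21 := ![2, 1, 0, 4, 3, 5, 10, 15, 20, 9, 6, 19, 16, 13, 18, 7, 12, 17, 14, 11, 8]
def tb12a : List ℕ := [0, 1, 5, 3, 4, 2, 10, 16, 13, 18, 6, 11, 21, 8, 17, 22, 7, 14, 9, 19, 20, 12, 15, 23]
def tb12a' : List ℕ := [0, 1, 5, 3, 4, 2, 10, 16, 13, 18, 6, 11, 21, 8, 17, 22, 7, 14, 9, 19, 20, 12, 15, 23]
def sg12a : Equiv.Perm GolayPt := tblPerm tb12a tb12a' (by decide) (by decide)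
theorem sg12a_mem : sg12a ∈ M24 := tblPerm_mem _ _ _ _ (by decide) (by decide +kernel)
theorem pt_T12a : ∀ k, ∃ a : F4, a • ppt (fT12a k)
    = (1 + Matrix.single 1 2 1 : Matrix (Fin 3) (Fin 3) F4) *ᵥ ppt k := by decide
theorem lab_T12a : ∀ k, sg12a (lab k) = lab (fT12a k) := by decide
theorem fix_T12a : sg12a none = none ∧ sg12a (some 0) = some 0 ∧ sg12a (some 1) = some 1 := by
  decide

def fT12b : Fin 21 → Fin 21 := ![4, 1, 3, 2, 0, 5, 14, 19, 12, 9, 18, 15, 8, 13, 6, 11, 20, 17, 10, 7, 16]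
def tb12b : List ℕ := [0, 1, 17, 3, 4, 14, 13, 18, 10, 16, 8, 11, 22, 6, 5, 21, 9, 2, 7, 19, 20, 15, 12, 23]
def tb12b' : List ℕ := [0, 1, 17, 3, 4, 14, 13, 18, 10, 16, 8, 11, 22, 6, 5, 21, 9, 2, 7, 19, 20, 15, 12, 23]
def sg12b : Equiv.Perm GolayPt := tblPerm tb12b tb12b' (by decide) (by decide)
theorem sg12b_mem : sg12b ∈ M24 := tblPerm_mem _ _ _ _ (by decide) (by decide +kernel)
theorem pt_T12b : ∀ k, ∃ a : F4, a • ppt (fT12b k)
    = (1 + Matrix.single 1 2 w4 : Matrix (Fin 3) (Fin 3) F4) *ᵥ ppt k := by decide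
theorem lab_T12b : ∀ k, sg12b (lab k) = lab (fT12b k) := by decide
theorem fix_T12b : sg12b none = none ∧ sg12b (some 0) = some 0 ∧ sg12b (some 1) = some 1 := by
  decide

def fT20a : Fin 21 → Fin 21 := ![0, 1, 2, 3, 4, 6, 5, 8, 7, 10, 9, 12, 11, 14, 13, 16, 15, 18, 17, 20, 19]
def tb20a : List ℕ := [0, 1, 2, 3, 13, 5, 19, 21, 11, 15, 20, 8, 18, 4, 14, 9, 22, 17, 12, 6, 10, 7, 16, 23]
def tb20a' : List ℕ := [0, 1, 2, 3, 13, 5, 19, 21, 11, 15, 20, 8, 18, 4, 14, 9, 22, 17, 12, 6, 10, 7, 16, 23]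
def sg20a : Equiv.Perm GolayPt := tblPerm tb20a tb20a' (by decide) (by decide)
theorem sg20a_mem : sg20a ∈ M24 := tblPerm_mem _ _ _ _ (by decide) (by decide +kernel)
theorem pt_T20a : ∀ k, ∃ a : F4, a • ppt (fT20a k)
    = (1 + Matrix.single 2 0 1 : Matrix (Fin 3) (Fin 3) F4) *ᵥ ppt k := by decide
theorem lab_T20a : ∀ k, sg20a (lab k) = lab (fT20a k) := by decide
theorem fix_T20a : sg20a none = none ∧ sg20a (some 0) = some 0 ∧ sg20a (some 1) = some 1 := by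
  decide

def fT20b : Fin 21 → Fin 21 := ![0, 1, 2, 3, 4, 7, 8, 5, 6, 11, 12, 9, 10, 15, 16, 13, 14, 19, 20, 17, 18]
def tb20b : List ℕ := [0, 1, 2, 3, 16, 5, 21, 19, 12, 20, 15, 18, 8, 22, 14, 10, 4, 17, 11, 7, 9, 6, 13, 23]
def tb20b' : List ℕ := [0, 1, 2, 3, 16, 5, 21, 19, 12, 20, 15, 18, 8, 22, 14, 10, 4, 17, 11, 7, 9, 6, 13, 23]
def sg20b : Equiv.Perm GolayPt := tblPerm tb20b tb20b' (by decide) (by decide)
theorem sg20b_mem : sg20b ∈ M24 := tblPerm_mem _ _ _ _ (by decide) (by decide +kernel)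
theorem pt_T20b : ∀ k, ∃ a : F4, a • ppt (fT20b k)
    = (1 + Matrix.single 2 0 w4 : Matrix (Fin 3) (Fin 3) F4) *ᵥ ppt k := by decide
theorem lab_T20b : ∀ k, sg20b (lab k) = lab (fT20b k) := by decide
theorem fix_T20b : sg20b none = none ∧ sg20b (some 0) = some 0 ∧ sg20b (some 1) = some 1 := by
  decide

def fT21a : Fin 21 → Fin 21 := ![0, 2, 1, 4, 3, 5, 6, 7, 8, 10, 9, 12, 11, 15, 16, 13, 14, 20, 19, 18, 17]
def tb21a : List ℕ := [0, 1, 2, 5, 4, 3, 21, 19, 11, 10, 9, 8, 18, 13, 17, 20, 16, 14, 12, 7, 15, 6, 22, 23]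
def tb21a' : List ℕ := [0, 1, 2, 5, 4, 3, 21, 19, 11, 10, 9, 8, 18, 13, 17, 20, 16, 14, 12, 7, 15, 6, 22, 23]
def sg21a : Equiv.Perm GolayPt := tblPerm tb21a tb21a' (by decide) (by decide)
theorem sg21a_mem : sg21a ∈ M24 := tblPerm_mem _ _ _ _ (by decide) (by decide +kernel)
theorem pt_T21a : ∀ k, ∃ a : F4, a • ppt (fT21a k)
    = (1 + Matrix.single 2 1 1 : Matrix (Fin 3) (Fin 3) F4) *ᵥ ppt k := by decide
theorem lab_T21a : ∀ k, sg21a (lab k) = lab (fT21a k) := by decide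
theorem fix_T21a : sg21a none = none ∧ sg21a (some 0) = some 0 ∧ sg21a (some 1) = some 1 := by
  decide

def fT21b : Fin 21 → Fin 21 := ![0, 3, 4, 1, 2, 5, 6, 7, 8, 11, 12, 9, 10, 16, 15, 14, 13, 18, 17, 20, 19]
def tb21b : List ℕ := [0, 1, 2, 14, 4, 17, 7, 6, 12, 15, 20, 18, 8, 13, 3, 9, 16, 5, 11, 21, 10, 19, 22, 23]
def tb21b' : List ℕ := [0, 1, 2, 14, 4, 17, 7, 6, 12, 15, 20, 18, 8, 13, 3, 9, 16, 5, 11, 21, 10, 19, 22, 23]
def sg21b : Equiv.Perm GolayPt := tblPerm tb21b tb21b' (by decide) (by decide)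
theorem sg21b_mem : sg21b ∈ M24 := tblPerm_mem _ _ _ _ (by decide) (by decide +kernel)
theorem pt_T21b : ∀ k, ∃ a : F4, a • ppt (fT21b k)
    = (1 + Matrix.single 2 1 w4 : Matrix (Fin 3) (Fin 3) F4) *ᵥ ppt k := by decide
theorem lab_T21b : ∀ k, sg21b (lab k) = lab (fT21b k) := by decide
theorem fix_T21b : sg21b none = none ∧ sg21b (some 0) = some 0 ∧ sg21b (some 1) = some 1 := by
  decide

theorem ppt_ne (k : Fin 21) : ppt k ≠ 0 := by
  revert k; decide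

theorem ppt_inj : ∀ k l : Fin 21, (∃ a : F4, a • ppt l = ppt k) → k = l := by decide

theorem lab_inj : ∀ k l : Fin 21, lab k = lab l → k = l := by decide

theorem F4_decomp : ∀ c : F4, c = c.re.val • (1 : F4) + c.im.val • w4 := by decide

/-- the labelling of the projective plane -/
def e0 (k : Fin 21) : ℙ F4 (Fin 3 → F4) := Projectivization.mk F4 (ppt k) (ppt_ne k)

theorem card_plane : Nat.card (ℙ F4 (Fin 3 → F4)) = 21 := by
  rw [Projectivization.card_of_finrank F4 (Fin 3 → F4) (n := 3) (by simp),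
    Nat.card_eq_fintype_card, card_F4]
  decide

theorem e0_bijective : Function.Bijective e0 := by
  have hinj : Function.Injective e0 := by
    intro v w h
    rw [e0, e0, Projectivization.mk_eq_mk_iff'] at h
    exact ppt_inj v w h
  rw [Nat.bijective_iff_injective_and_card]
  refine ⟨hinj, ?_⟩
  rw [card_plane]
  simp

/-- the labelling as an equivalence -/
noncomputable def eL : Fin 21 ≃ ℙ F4 (Fin 3 → F4) := Equiv.ofBijective e0 e0_bijective

theorem eL_apply (k : Fin 21) : eL k = e0 k := rfl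

theorem smul_eL (g : SpecialLinearGroup (Fin 3) F4) (f : Fin 21 → Fin 21)
    (h : ∀ k, ∃ a : F4, a • ppt (f k) = g.1 *ᵥ ppt k) (k : Fin 21) : g • eL k = eL (f k) := by
  rw [eL_apply, eL_apply, e0, e0, Projectivization.smul_mk, Projectivization.mk_eq_mk_iff']
  obtain ⟨a, ha⟩ := h k
  exact ⟨a, by rw [ha]; rfl⟩

/-- `PSL_3(4)` acting on the projective plane -/
noncomputable def rho : ProjectiveSpecialLinearGroup (Fin 3) F4 →*
    Equiv.Perm (ℙ F4 (Fin 3 → F4)) := Projectivization.PSLAction.toPermHom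

/-- the stabiliser of `∞, 0, 1` in `M24` -/
abbrev H₀ : Subgroup ↥M24 :=
  MulAction.stabilizer M24 (none : GolayPt) ⊓ MulAction.stabilizer M24 (some 0 : GolayPt) ⊓
    MulAction.stabilizer M24 (some 1 : GolayPt)

/-- the stabiliser acting on the 24 points -/
def phi : ↥H₀ →* Equiv.Perm GolayPt := (M24.subtype).comp H₀.subtype

/-- points of the plane to points of the Golay code -/
noncomputable def iota (a : ℙ F4 (Fin 3 → F4)) : GolayPt := lab (eL.symm a)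

theorem iota_injective : Function.Injective iota := by
  intro a b h
  exact eL.symm.injective (lab_inj _ _ h)

theorem compat_of_data (g : SpecialLinearGroup (Fin 3) F4) (σ : Equiv.Perm GolayPt)
    (hσ : σ ∈ M24) (hfix : σ none = none ∧ σ (some 0) = some 0 ∧ σ (some 1) = some 1)
    (f : Fin 21 → Fin 21)
    (h1 : ∀ k, ∃ a : F4, a • ppt (f k) = g.1 *ᵥ ppt k)
    (h2 : ∀ k, σ (lab k) = lab (f k)) :
    (QuotientGroup.mk g : ProjectiveSpecialLinearGroup (Fin 3) F4) ∈ compatLeft rho phi iota := by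
  rw [mem_compatLeft]
  refine ⟨⟨⟨σ, hσ⟩, ⟨⟨hfix.1, hfix.2.1⟩, hfix.2.2⟩⟩, fun a => ?_⟩
  obtain ⟨k, rfl⟩ := eL.surjective a
  have h3 : rho (QuotientGroup.mk g) (eL k) = g • eL k := rfl
  rw [h3, smul_eL g f h1 k]
  simp only [iota, Equiv.symm_apply_apply]
  exact h2 k

theorem transv_mem (i j : Fin 3) (hij : i ≠ j) (c : F4) :
    (QuotientGroup.mk (SpecialLinearGroup.transvection hij c) :
      ProjectiveSpecialLinearGroup (Fin 3) F4) ∈ compatLeft rho phi iota := by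
  rw [F4_decomp c, SpecialLinearGroup.transvection_add, transvection_nsmul, transvection_nsmul,
    QuotientGroup.mk_mul, QuotientGroup.mk_pow, QuotientGroup.mk_pow]
  refine Subgroup.mul_mem _ (Subgroup.pow_mem _ ?_ _) (Subgroup.pow_mem _ ?_ _)
  · fin_cases i <;> fin_cases j
    · exact absurd rfl hij
    · exact compat_of_data _ sg01a sg01a_mem fix_T01a fT01a pt_T01a lab_T01a
    · exact compat_of_data _ sg02a sg02a_mem fix_T02a fT02a pt_T02a lab_T02a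
    · exact compat_of_data _ sg10a sg10a_mem fix_T10a fT10a pt_T10a lab_T10a
    · exact absurd rfl hij
    · exact compat_of_data _ sg12a sg12a_mem fix_T12a fT12a pt_T12a lab_T12a
    · exact compat_of_data _ sg20a sg20a_mem fix_T20a fT20a pt_T20a lab_T20a
    · exact compat_of_data _ sg21a sg21a_mem fix_T21a fT21a pt_T21a lab_T21a
    · exact absurd rfl hij
  · fin_cases i <;> fin_cases j
    · exact absurd rfl hij
    · exact compat_of_data _ sg01b sg01b_mem fix_T01b fT01b pt_T01b lab_T01b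
    · exact compat_of_data _ sg02b sg02b_mem fix_T02b fT02b pt_T02b lab_T02b
    · exact compat_of_data _ sg10b sg10b_mem fix_T10b fT10b pt_T10b lab_T10b
    · exact absurd rfl hij
    · exact compat_of_data _ sg12b sg12b_mem fix_T12b fT12b pt_T12b lab_T12b
    · exact compat_of_data _ sg20b sg20b_mem fix_T20b fT20b pt_T20b lab_T20b
    · exact compat_of_data _ sg21b sg21b_mem fix_T21b fT21b pt_T21b lab_T21b
    · exact absurd rfl hij

theorem compat_top : compatLeft rho phi iota = ⊤ := by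
  have htop : (compatLeft rho phi iota).comap
      (QuotientGroup.mk' (Subgroup.center (SpecialLinearGroup (Fin 3) F4))) = ⊤ := by
    apply Cfsg.Agent.Lib.helper45.eq_top_of_transvection_mem
    intro i j hij a
    exact transv_mem i j hij a
  rw [eq_top_iff]
  intro x _
  obtain ⟨g, rfl⟩ := QuotientGroup.mk_surjective x
  have : g ∈ (compatLeft rho phi iota).comap
      (QuotientGroup.mk' (Subgroup.center (SpecialLinearGroup (Fin 3) F4))) := by
    rw [htop]; trivial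
  exact this

theorem card_psl34 : Nat.card (ProjectiveSpecialLinearGroup (Fin 3) F4) = 20160 := by
  have h := card_PSL (F := F4) 3 (by norm_num)
  rw [card_F4] at h
  have h2 : ∏ i : Fin 3, (4 ^ 3 - 4 ^ (i : ℕ)) = 181440 := by decide
  have h3 : Nat.gcd 3 (4 - 1) = 3 := by decide
  rw [h2, h3] at h
  omega

theorem stab_eq_fixing (p q r : GolayPt) :
    MulAction.stabilizer M24 p ⊓ MulAction.stabilizer M24 q ⊓ MulAction.stabilizer M24 r =
      fixingSubgroup M24 ({p, q, r} : Set GolayPt) := by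
  ext g
  simp [mem_fixingSubgroup_iff, and_assoc]

/-- The order of a three-point stabiliser of `M24`. -/
theorem card_stab_three_points (p q r : GolayPt) (hpq : p ≠ q) (hpr : p ≠ r) (hqr : q ≠ r) :
    Nat.card ↥(MulAction.stabilizer M24 p ⊓ MulAction.stabilizer M24 q ⊓
      MulAction.stabilizer M24 r) = 20160 := by
  rw [stab_eq_fixing]
  have hs : ({p, q, r} : Set GolayPt).ncard = 3 := by
    rw [Set.ncard_eq_three]
    exact ⟨p, q, r, hpq, hpr, hqr, rfl⟩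
  have hc : Nat.card GolayPt = 24 := by
    rw [Nat.card_eq_fintype_card]; decide
  have h3 : MulAction.IsMultiplyPretransitive M24 GolayPt 3 := by
    haveI := Cfsg.Agent.Lib.helper9.m24_isMultiplyPretransitive
    exact MulAction.isMultiplyPretransitive_of_le (n := 5) (by norm_num) (by rw [hc]; norm_num)
  have hidx := MulAction.IsMultiplyPretransitive.index_of_fixingSubgroup_eq (G := M24)
    ({p, q, r} : Set GolayPt) (by rw [hs]; exact h3)
  have hmul := Subgroup.card_mul_index (fixingSubgroup M24 ({p, q, r} : Set GolayPt))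
  rw [hidx, hs, Cfsg.Agent.Lib.helper9.card_M24, hc] at hmul
  have h4 : Nat.choose 24 3 * Nat.factorial 3 = 12144 := by decide
  rw [h4] at hmul
  omega

theorem main : Nonempty (ProjectiveSpecialLinearGroup (Fin 3) F4 ≃* ↥H₀) :=
  nonempty_mulEquiv_of_compat rho phi iota
    Matrix.ProjectiveSpecialLinearGroup.toPermHom_injective iota_injective compat_top
    (by rw [card_psl34, card_stab_three_points _ _ _ (by decide) (by decide) (by decide)])

theorem stab_triple (p q r : GolayPt) :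
    MulAction.stabilizer M24 p ⊓ MulAction.stabilizer M24 q ⊓ MulAction.stabilizer M24 r =
      MulAction.stabilizer M24 ((p, q, r) : GolayPt × GolayPt × GolayPt) := by
  ext g
  simp only [MulAction.mem_stabilizer_iff, Subgroup.mem_inf, Prod.smul_mk, Prod.mk.injEq,
    and_assoc]

theorem exists_m24_three (p q r : GolayPt) (hpq : p ≠ q) (hpr : p ≠ r) (hqr : q ≠ r) :
    ∃ g : M24, ((p, q, r) : GolayPt × GolayPt × GolayPt) =
      g • ((none, some 0, some 1) : GolayPt × GolayPt × GolayPt) := by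
  have hc : Nat.card GolayPt = 24 := by
    rw [Nat.card_eq_fintype_card]; decide
  have h3 : MulAction.IsMultiplyPretransitive M24 GolayPt 3 := by
    haveI := Cfsg.Agent.Lib.helper9.m24_isMultiplyPretransitive
    exact MulAction.isMultiplyPretransitive_of_le (n := 5) (by norm_num) (by rw [hc]; norm_num)
  let x₀ : Fin 3 ↪ GolayPt := ⟨![none, some 0, some 1], by decide⟩
  have hinj : Function.Injective ![p, q, r] := by
    intro i j h
    fin_cases i <;> fin_cases j <;> simp_all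
  let x : Fin 3 ↪ GolayPt := ⟨![p, q, r], hinj⟩
  obtain ⟨g, hg⟩ := MulAction.exists_smul_eq M24 x₀ x
  refine ⟨g, ?_⟩
  have e0 := congrArg (fun e : Fin 3 ↪ GolayPt => e 0) hg
  have e1 := congrArg (fun e : Fin 3 ↪ GolayPt => e 1) hg
  have e2 := congrArg (fun e : Fin 3 ↪ GolayPt => e 2) hg
  simp only [Function.Embedding.smul_apply] at e0 e1 e2
  simp only [Prod.smul_mk, Prod.mk.injEq]
  exact ⟨e0.symm, e1.symm, e2.symm⟩

/-- The stabiliser of three points in `M24` is `PSL_3(4)`. -/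
theorem m21_equiv_F4 (p q r : GolayPt) (hpq : p ≠ q) (hpr : p ≠ r) (hqr : q ≠ r) :
    Nonempty (↥(MulAction.stabilizer M24 p ⊓ MulAction.stabilizer M24 q ⊓
      MulAction.stabilizer M24 r) ≃* ProjectiveSpecialLinearGroup (Fin 3) F4) := by
  obtain ⟨e⟩ := main
  obtain ⟨g, hg⟩ := exists_m24_three p q r hpq hpr hqr
  exact ⟨(MulEquiv.subgroupCongr (stab_triple p q r)).trans
    ((MulAction.stabilizerEquivStabilizer hg).symm.trans
      ((MulEquiv.subgroupCongr (stab_triple none (some 0) (some 1))).symm.trans e.symm))⟩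

/-- The stabiliser of three points in `M24` is `PSL_3(F)`, `|F| = 4`. -/
theorem m21_equiv (p q r : GolayPt) (hpq : p ≠ q) (hpr : p ≠ r) (hqr : q ≠ r)
    (F : Type*) [Field F] [Fintype F] (hF : Fintype.card F = 4) :
    Nonempty (↥(MulAction.stabilizer M24 p ⊓ MulAction.stabilizer M24 q ⊓
      MulAction.stabilizer M24 r) ≃* ProjectiveSpecialLinearGroup (Fin 3) F) := by
  obtain ⟨e⟩ := m21_equiv_F4 p q r hpq hpr hqr
  have eF : F ≃+* F4 := FiniteField.ringEquivOfCardEq (hF.trans card_F4.symm)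
  exact ⟨e.trans (pslCongr eF).symm⟩

end Cfsg.Agent.Lib.helper6.M21
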