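import Mathlib
import Cfsg.Agent.Lib.helper6.CodeModel
import Cfsg.Agent.Lib.helper6.AffPerm
import Cfsg.Agent.Lib.helper7.CardSL

/-!
# A code model of `PSL(2, 11)`

Base-11 codes for 2×2 matrices over `ZMod 11` (the coding of `helper34`'s `PSL11Codes`, restated
here to keep the import closure small), the 660 normalised codes of determinant one, and a
`CodeModel.GModel` of `PSL(2, F)` for every field `F` with 11 elements.
-/

set_option autoImplicit false

namespace Cfsg.Agent.Lib.helper6.PSL11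

open Cfsg.Agent.Lib.helper6.CodeModel

/-- The 2×2 matrix over `ZMod 11` with base-11 code `c` (entries in row-major order). -/
def m11 (c : ℕ) : Matrix (Fin 2) (Fin 2) (ZMod 11) :=
  !![((c % 11 : ℕ) : ZMod 11), ((c / 11 % 11 : ℕ) : ZMod 11);
     ((c / 121 % 11 : ℕ) : ZMod 11), ((c / 1331 % 11 : ℕ) : ZMod 11)]

/-- The determinant of the matrix coded by `c`, as a residue. -/
def det11 (c : ℕ) : ℕ :=
  Nat.mod (Nat.add (Nat.mul (Nat.mod c 11) (Nat.mod (Nat.div c 1331) 11))
    (Nat.mul 10 (Nat.mul (Nat.mod (Nat.div c 11) 11) (Nat.mod (Nat.div c 121) 11)))) 11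

/-- Product of matrix codes. -/
def mul11 (x y : ℕ) : ℕ :=
  Nat.add (Nat.add (Nat.add
    (Nat.mod (Nat.add (Nat.mul (Nat.mod x 11) (Nat.mod y 11))
      (Nat.mul (Nat.mod (Nat.div x 11) 11) (Nat.mod (Nat.div y 121) 11))) 11)
    (Nat.mul 11 (Nat.mod (Nat.add (Nat.mul (Nat.mod x 11) (Nat.mod (Nat.div y 11) 11))
      (Nat.mul (Nat.mod (Nat.div x 11) 11) (Nat.mod (Nat.div y 1331) 11))) 11)))
    (Nat.mul 121 (Nat.mod (Nat.add (Nat.mul (Nat.mod (Nat.div x 121) 11) (Nat.mod y 11))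
      (Nat.mul (Nat.mod (Nat.div x 1331) 11) (Nat.mod (Nat.div y 121) 11))) 11)))
    (Nat.mul 1331 (Nat.mod (Nat.add (Nat.mul (Nat.mod (Nat.div x 121) 11) (Nat.mod (Nat.div y 11) 11))
      (Nat.mul (Nat.mod (Nat.div x 1331) 11) (Nat.mod (Nat.div y 1331) 11))) 11))

/-- Code of the negated matrix. -/
def neg11 (c : ℕ) : ℕ :=
  Nat.add (Nat.add (Nat.add
    (Nat.mod (Nat.sub 11 (Nat.mod c 11)) 11)
    (Nat.mul 11 (Nat.mod (Nat.sub 11 (Nat.mod (Nat.div c 11) 11)) 11)))
    (Nat.mul 121 (Nat.mod (Nat.sub 11 (Nat.mod (Nat.div c 121) 11)) 11)))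
    (Nat.mul 1331 (Nat.mod (Nat.sub 11 (Nat.mod (Nat.div c 1331) 11)) 11))

/-- The smaller of the codes of a matrix and its negative. -/
def norm11 (c : ℕ) : ℕ := bif Nat.ble c (neg11 c) then c else neg11 c

/-- Normalised product of matrix codes. -/
def nmul11 (x y : ℕ) : ℕ := norm11 (mul11 x y)

theorem mul11_eq (x y : ℕ) : mul11 x y =
    (x % 11 * (y % 11) + x / 11 % 11 * (y / 121 % 11)) % 11 +
    11 * ((x % 11 * (y / 11 % 11) + x / 11 % 11 * (y / 1331 % 11)) % 11) +
    121 * ((x / 121 % 11 * (y % 11) + x / 1331 % 11 * (y / 121 % 11)) % 11) +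
    1331 * ((x / 121 % 11 * (y / 11 % 11) + x / 1331 % 11 * (y / 1331 % 11)) % 11) := rfl

theorem neg11_eq (c : ℕ) : neg11 c =
    (11 - c % 11) % 11 + 11 * ((11 - c / 11 % 11) % 11) + 121 * ((11 - c / 121 % 11) % 11) +
    1331 * ((11 - c / 1331 % 11) % 11) := rfl

theorem m11_mul11 (x y : ℕ) : m11 (mul11 x y) = m11 x * m11 y := by
  rw [mul11_eq]
  generalize hp : (x % 11 * (y % 11) + x / 11 % 11 * (y / 121 % 11)) = p
  generalize hq : (x % 11 * (y / 11 % 11) + x / 11 % 11 * (y / 1331 % 11)) = q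
  generalize hr : (x / 121 % 11 * (y % 11) + x / 1331 % 11 * (y / 121 % 11)) = r
  generalize hs : (x / 121 % 11 * (y / 11 % 11) + x / 1331 % 11 * (y / 1331 % 11)) = s
  have e1 : (p % 11 + 11 * (q % 11) + 121 * (r % 11) + 1331 * (s % 11)) % 11 = p % 11 := by omega
  have e2 : (p % 11 + 11 * (q % 11) + 121 * (r % 11) + 1331 * (s % 11)) / 11 % 11 = q % 11 := by
    omega
  have e3 : (p % 11 + 11 * (q % 11) + 121 * (r % 11) + 1331 * (s % 11)) / 121 % 11 = r % 11 := by
    omega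
  have e4 : (p % 11 + 11 * (q % 11) + 121 * (r % 11) + 1331 * (s % 11)) / 1331 % 11 = s % 11 := by
    omega
  unfold m11
  rw [e1, e2, e3, e4, ← hp, ← hq, ← hr, ← hs]
  ext i j
  fin_cases i <;> fin_cases j <;>
    simp [Matrix.mul_apply, Fin.sum_univ_two, ZMod.natCast_mod]

theorem cast_neg11 (a : ℕ) : (((11 - a % 11) % 11 : ℕ) : ZMod 11) = -((a % 11 : ℕ) : ZMod 11) := by
  have h : a % 11 < 11 := Nat.mod_lt _ (by norm_num)
  rw [ZMod.natCast_mod (11 - a % 11) 11, Nat.cast_sub (le_of_lt h)]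
  have e : ((11 : ℕ) : ZMod 11) = 0 := by decide
  rw [e, zero_sub]

theorem m11_neg11 (c : ℕ) : m11 (neg11 c) = -m11 c := by
  rw [neg11_eq]
  generalize hp : (11 - c % 11) = p
  generalize hq : (11 - c / 11 % 11) = q
  generalize hr : (11 - c / 121 % 11) = r
  generalize hs : (11 - c / 1331 % 11) = s
  have e1 : (p % 11 + 11 * (q % 11) + 121 * (r % 11) + 1331 * (s % 11)) % 11 = p % 11 := by omega
  have e2 : (p % 11 + 11 * (q % 11) + 121 * (r % 11) + 1331 * (s % 11)) / 11 % 11 = q % 11 := by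
    omega
  have e3 : (p % 11 + 11 * (q % 11) + 121 * (r % 11) + 1331 * (s % 11)) / 121 % 11 = r % 11 := by
    omega
  have e4 : (p % 11 + 11 * (q % 11) + 121 * (r % 11) + 1331 * (s % 11)) / 1331 % 11 = s % 11 := by
    omega
  unfold m11
  rw [e1, e2, e3, e4, ← hp, ← hq, ← hr, ← hs]
  have f1 := cast_neg11 c
  have f2 := cast_neg11 (c / 11)
  have f3 := cast_neg11 (c / 121)
  have f4 := cast_neg11 (c / 1331)
  ext i j
  fin_cases i <;> fin_cases j <;> simp [f1, f2, f3, f4]

theorem det_m11 (c : ℕ) : (m11 c).det = ((det11 c : ℕ) : ZMod 11) := by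
  have e : det11 c = (c % 11 * (c / 1331 % 11) + 10 * (c / 11 % 11 * (c / 121 % 11))) % 11 := rfl
  rw [e, Matrix.det_fin_two]
  simp only [m11, Matrix.of_apply, Matrix.cons_val', Matrix.cons_val_zero, Matrix.cons_val_one,
    Matrix.cons_val_fin_one, ZMod.natCast_mod]
  push_cast
  simp only [ZMod.natCast_mod]
  have h2 : (10 : ZMod 11) = -1 := by decide
  rw [h2]
  ring

theorem det_one_of_det11 {c : ℕ} (h : Nat.beq (det11 c) 1 = true) : (m11 c).det = 1 := by
  rw [det_m11, Nat.eq_of_beq_eq_true h]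
  rfl

theorem det11_of_det_one {c : ℕ} (h : (m11 c).det = 1) : Nat.beq (det11 c) 1 = true := by
  rw [det_m11] at h
  have hlt : det11 c < 11 := Nat.mod_lt _ (by norm_num)
  have e := congrArg ZMod.val h
  rw [ZMod.val_natCast_of_lt hlt] at e
  rw [e]
  rfl

open scoped MatrixGroups

/-- The special linear matrix with code `c`. -/
def mkSL11 (c : ℕ) (h : (m11 c).det = 1) : SL(2, ZMod 11) := ⟨m11 c, h⟩

theorem mkSL11_val (c : ℕ) (h : (m11 c).det = 1) :
    ((mkSL11 c h : SL(2, ZMod 11)) : Matrix (Fin 2) (Fin 2) (ZMod 11)) = m11 c := rfl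

/-- Decoding of a matrix code into the projective special linear group (`1` on codes of
determinant other than one). -/
noncomputable def dec11 (c : ℕ) : PSL(2, ZMod 11) :=
  if h : (m11 c).det = 1 then (QuotientGroup.mk (mkSL11 c h) : PSL(2, ZMod 11)) else 1

theorem dec11_of {c : ℕ} (h : (m11 c).det = 1) :
    dec11 c = (QuotientGroup.mk (mkSL11 c h) : PSL(2, ZMod 11)) := dif_pos h

theorem det_mul11 {x y : ℕ} (hx : (m11 x).det = 1) (hy : (m11 y).det = 1) :
    (m11 (mul11 x y)).det = 1 := by rw [m11_mul11, Matrix.det_mul, hx, hy, one_mul]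

theorem dec11_mul {x y : ℕ} (hx : (m11 x).det = 1) (hy : (m11 y).det = 1) :
    dec11 (mul11 x y) = dec11 x * dec11 y := by
  have hxy := det_mul11 hx hy
  have e : mkSL11 (mul11 x y) hxy = mkSL11 x hx * mkSL11 y hy := by
    apply Subtype.val_injective
    show m11 (mul11 x y) = m11 x * m11 y
    exact m11_mul11 x y
  rw [dec11_of hx, dec11_of hy, dec11_of hxy, e]
  rfl

/-- The central element `-1`. -/
def negOne11 : SL(2, ZMod 11) := ⟨!![-1, 0; 0, -1], by simp [Matrix.det_fin_two]⟩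

theorem negOne11_mem : negOne11 ∈ Subgroup.center (SL(2, ZMod 11)) := by
  rw [Matrix.SpecialLinearGroup.mem_center_iff]
  refine ⟨-1, by simp, ?_⟩
  show Matrix.scalar (Fin 2) (-1 : ZMod 11) = !![-1, 0; 0, -1]
  ext i j
  fin_cases i <;> fin_cases j <;> simp

theorem det_neg11 {c : ℕ} (h : (m11 c).det = 1) : (m11 (neg11 c)).det = 1 := by
  rw [m11_neg11, Matrix.det_neg, h]
  simp

theorem dec11_neg {c : ℕ} (h : (m11 c).det = 1) : dec11 (neg11 c) = dec11 c := by
  have hn := det_neg11 h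
  have e : mkSL11 (neg11 c) hn = negOne11 * mkSL11 c h := by
    apply Subtype.val_injective
    show m11 (neg11 c) = !![-1, 0; 0, -1] * m11 c
    rw [m11_neg11]
    ext i j
    fin_cases i <;> fin_cases j <;> simp [Matrix.mul_apply, Fin.sum_univ_two]
  rw [dec11_of h, dec11_of hn, e]
  have e2 : (QuotientGroup.mk (negOne11 * mkSL11 c h) : PSL(2, ZMod 11)) =
      QuotientGroup.mk negOne11 * QuotientGroup.mk (mkSL11 c h) := rfl
  rw [e2, (QuotientGroup.eq_one_iff negOne11).mpr negOne11_mem, one_mul]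

theorem det_norm11 {c : ℕ} (h : (m11 c).det = 1) : (m11 (norm11 c)).det = 1 := by
  unfold norm11
  cases Nat.ble c (neg11 c)
  · exact det_neg11 h
  · exact h

theorem dec11_norm {c : ℕ} (h : (m11 c).det = 1) : dec11 (norm11 c) = dec11 c := by
  unfold norm11
  cases Nat.ble c (neg11 c)
  · exact dec11_neg h
  · rfl

theorem dec11_nmul {x y : ℕ} (hx : (m11 x).det = 1) (hy : (m11 y).det = 1) :
    dec11 (nmul11 x y) = dec11 x * dec11 y := by
  unfold nmul11
  rw [dec11_norm (det_mul11 hx hy), dec11_mul hx hy]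

theorem m11_one : m11 1332 = 1 := by
  ext i j
  fin_cases i <;> fin_cases j <;> simp [m11]

theorem dec11_one : dec11 1332 = 1 := by
  have h : (m11 1332).det = 1 := by rw [m11_one, Matrix.det_one]
  rw [dec11_of h]
  have e : mkSL11 1332 h = 1 := by
    apply Subtype.val_injective
    show m11 1332 = 1
    exact m11_one
  rw [e]
  rfl

theorem natCast_inj11 {a b : ℕ} (ha : a < 11) (hb : b < 11)
    (h : ((a : ℕ) : ZMod 11) = ((b : ℕ) : ZMod 11)) : a = b := by
  have e := congrArg ZMod.val h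
  rwa [ZMod.val_natCast_of_lt ha, ZMod.val_natCast_of_lt hb] at e

theorem dec11_eq_one {c : ℕ} (hc : c < 14641) (h : (m11 c).det = 1) (h1 : dec11 c = 1) :
    c = 1332 ∨ c = 13320 := by
  rw [dec11_of h] at h1
  have h1' := (QuotientGroup.eq_one_iff (mkSL11 c h)).mp h1
  rw [Matrix.SpecialLinearGroup.mem_center_iff] at h1'
  obtain ⟨r, hr, hs⟩ := h1'
  have hs' : Matrix.scalar (Fin 2) r = m11 c := hs
  have e00 := congrFun (congrFun hs' 0) 0
  have e01 := congrFun (congrFun hs' 0) 1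
  have e10 := congrFun (congrFun hs' 1) 0
  have e11 := congrFun (congrFun hs' 1) 1
  simp [m11] at e00 e01 e10 e11
  have hr2 : ∀ r : ZMod 11, r ^ 2 = 1 → r = ((1 : ℕ) : ZMod 11) ∨ r = ((10 : ℕ) : ZMod 11) := by
    decide
  have hr' : r ^ 2 = 1 := by simpa using hr
  have h0 : (0 : ZMod 11) = ((0 : ℕ) : ZMod 11) := by simp
  have l1 : c % 11 < 11 := Nat.mod_lt _ (by norm_num)
  have l2 : c / 11 % 11 < 11 := Nat.mod_lt _ (by norm_num)
  have l3 : c / 121 % 11 < 11 := Nat.mod_lt _ (by norm_num)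
  have l4 : c / 1331 % 11 < 11 := Nat.mod_lt _ (by norm_num)
  have f01 : c / 11 % 11 = 0 := natCast_inj11 l2 (by norm_num) (by rw [ZMod.natCast_mod, ← h0]; exact e01.symm)
  have f10 : c / 121 % 11 = 0 := natCast_inj11 l3 (by norm_num) (by rw [ZMod.natCast_mod, ← h0]; exact e10.symm)
  rcases hr2 r hr' with hr1 | hr1
  · have f00 : c % 11 = 1 := natCast_inj11 l1 (by norm_num) (by rw [ZMod.natCast_mod, ← e00, hr1])
    have f11 : c / 1331 % 11 = 1 := natCast_inj11 l4 (by norm_num) (by rw [ZMod.natCast_mod, ← e11, hr1])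
    left
    omega
  · have f00 : c % 11 = 10 := natCast_inj11 l1 (by norm_num) (by rw [ZMod.natCast_mod, ← e00, hr1])
    have f11 : c / 1331 % 11 = 10 := natCast_inj11 l4 (by norm_num) (by rw [ZMod.natCast_mod, ← e11, hr1])
    right
    omega

theorem dec11_surj (y : PSL(2, ZMod 11)) :
    ∃ c, c < 14641 ∧ (m11 c).det = 1 ∧ dec11 c = y := by
  obtain ⟨A, rfl⟩ := QuotientGroup.mk_surjective y
  have hv : ∀ x : ZMod 11, x.val < 11 := fun x => ZMod.val_lt x
  have ha := hv (A.1 0 0)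
  have hb := hv (A.1 0 1)
  have hc := hv (A.1 1 0)
  have hd := hv (A.1 1 1)
  have hm : m11 ((A.1 0 0).val + 11 * (A.1 0 1).val + 121 * (A.1 1 0).val + 1331 * (A.1 1 1).val)
      = A.1 := by
    have e1 : ((A.1 0 0).val + 11 * (A.1 0 1).val + 121 * (A.1 1 0).val + 1331 * (A.1 1 1).val) % 11
        = (A.1 0 0).val := by omega
    have e2 : ((A.1 0 0).val + 11 * (A.1 0 1).val + 121 * (A.1 1 0).val + 1331 * (A.1 1 1).val) / 11
        % 11 = (A.1 0 1).val := by omega
    have e3 : ((A.1 0 0).val + 11 * (A.1 0 1).val + 121 * (A.1 1 0).val + 1331 * (A.1 1 1).val) / 121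
        % 11 = (A.1 1 0).val := by omega
    have e4 : ((A.1 0 0).val + 11 * (A.1 0 1).val + 121 * (A.1 1 0).val + 1331 * (A.1 1 1).val) / 1331
        % 11 = (A.1 1 1).val := by omega
    unfold m11
    rw [e1, e2, e3, e4]
    ext i j
    fin_cases i <;> fin_cases j <;> simp
  have hdet : (m11 ((A.1 0 0).val + 11 * (A.1 0 1).val + 121 * (A.1 1 0).val +
      1331 * (A.1 1 1).val)).det = 1 := by
    rw [hm]
    exact A.2
  refine ⟨_, by omega, hdet, ?_⟩
  rw [dec11_of hdet]
  have e : mkSL11 _ hdet = A := Subtype.val_injective hm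
  rw [e]

/-- Iterated Boolean conjunction below a bound. -/
def allLt (P : ℕ → Bool) : ℕ → Bool
  | 0 => true
  | k+1 => and (P k) (allLt P k)

theorem allLt_spec {P : ℕ → Bool} {n : ℕ} (h : allLt P n = true) : ∀ k < n, P k = true := by
  induction n with
  | zero => intro k hk; omega
  | succ n ih =>
    rw [allLt, Bool.and_eq_true] at h
    intro k hk
    rcases Nat.lt_succ_iff_lt_or_eq.mp hk with hk | rfl
    · exact ih h.2 k hk
    · exact h.1

/-- Code of the inverse (the normalised adjugate). -/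
def inv11 (c : ℕ) : ℕ :=
  norm11 (Nat.add (Nat.add (Nat.add
    (Nat.mod (Nat.div c 1331) 11)
    (Nat.mul 11 (Nat.mod (Nat.sub 11 (Nat.mod (Nat.div c 11) 11)) 11)))
    (Nat.mul 121 (Nat.mod (Nat.sub 11 (Nat.mod (Nat.div c 121) 11)) 11)))
    (Nat.mul 1331 (Nat.mod c 11)))

/-- The normalised codes of determinant one. -/
def ok11 (c : ℕ) : Bool :=
  and (Nat.blt c 14641) (and (Nat.beq (det11 c) 1) (Nat.beq (norm11 c) c))

/-- The list of the 660 normalised codes of determinant one. -/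
def L660 : List ℕ := [231, 232, 233, 234, 235, 236, 237, 238, 239, 240, 241, 297, 298, 299, 300, 301, 302, 303, 304, 305, 306, 307, 440, 441, 442, 443, 444, 445, 446, 447, 448, 449, 450, 572, 573, 574, 575, 576, 577, 578, 579, 580, 581, 582, 627, 628, 629, 630, 631, 632, 633, 634, 635, 636, 637, 1332, 1343, 1354, 1365, 1376, 1387, 1398, 1409, 1420, 1431, 1442, 1453, 1465, 1477, 1489, 1501, 1513, 1525, 1537, 1549, 1561, 1562, 1574, 1587, 1600, 1613, 1626, 1628, 1641, 1654, 1667, 1680, 1693, 1695, 1709, 1723, 1737, 1740, 1754, 1768, 1771, 1785, 1799, 1813, 1816, 1831, 1846, 1850, 1865, 1880, 1884, 1899, 1903, 1918, 1933, 1937, 1953, 1958, 1974, 1990, 1995, 2011, 2016, 2032, 2037, 2053, 2058, 2075, 2081, 2098, 2104, 2121, 2127, 2144, 2150, 2156, 2173, 2179, 2197, 2204, 2211, 2229, 2236, 2254, 2261, 2268, 2286, 2293, 2300, 2319, 2327, 2335, 2343, 2362, 2370, 2378, 2397, 2405, 2413, 2421, 2441, 2450, 2459, 2468, 2477, 2486, 2506, 2515, 2524, 2533, 2542,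 2552, 2573, 2583, 2593, 2603, 2613, 2623, 2633, 2643, 2653, 2668, 2679, 2690, 2701, 2712, 2723, 2734, 2745, 2756, 2767, 2778, 2789, 2795, 2812, 2818, 2835, 2841, 2858, 2864, 2881, 2887, 2893, 2910, 2922, 2934, 2946, 2958, 2959, 2971, 2983, 2995, 3007, 3019, 3031, 3038, 3056, 3063, 3070, 3088, 3095, 3102, 3120, 3127, 3145, 3152, 3165, 3178, 3180, 3193, 3206, 3219, 3232, 3234, 3247, 3260, 3273, 3281, 3289, 3308, 3316, 3324, 3343, 3351, 3359, 3367, 3386, 3394, 3408, 3411, 3425, 3439, 3453, 3456, 3470, 3484, 3487, 3501, 3515, 3524, 3533, 3542, 3562, 3571, 3580, 3589, 3598, 3618, 3627, 3636, 3651, 3655, 3670, 3674, 3689, 3704, 3708, 3723, 3738, 3742, 3757, 3767, 3777, 3787, 3797, 3807, 3817, 3838, 3848, 3858, 3868, 3878, 3883, 3899, 3915, 3920, 3936, 3941, 3957, 3962, 3978, 3983, 3997, 4008, 4019, 4030, 4041, 4052, 4063, 4074, 4085, 4096, 4107, 4118, 4133, 4137, 4152, 4167, 4171, 4186, 4201, 4205, 4220, 4224, 4239, 4247, 4266, 4274, 4282, 4290, 4309, 4317,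 4325, 4344, 4352, 4360, 4372, 4384, 4396, 4408, 4420, 4432, 4433, 4445, 4457, 4469, 4481, 4497, 4502, 4518, 4523, 4539, 4544, 4560, 4565, 4581, 4597, 4602, 4611, 4620, 4640, 4649, 4658, 4667, 4676, 4696, 4705, 4714, 4723, 4736, 4749, 4762, 4764, 4777, 4790, 4803, 4816, 4818, 4831, 4844, 4861, 4867, 4873, 4890, 4896, 4913, 4919, 4936, 4942, 4959, 4965, 4975, 4985, 4995, 5005, 5026, 5036, 5046, 5056, 5066, 5076, 5086, 5100, 5114, 5117, 5131, 5145, 5148, 5162, 5176, 5190, 5193, 5207, 5214, 5232, 5239, 5257, 5264, 5271, 5289, 5296, 5303, 5321, 5327, 5338, 5349, 5360, 5371, 5382, 5393, 5404, 5415, 5426, 5437, 5448, 5462, 5476, 5479, 5493, 5507, 5521, 5524, 5538, 5552, 5555, 5569, 5586, 5592, 5609, 5615, 5621, 5638, 5644, 5661, 5667, 5684, 5690, 5699, 5719, 5728, 5737, 5746, 5755, 5764, 5784, 5793, 5802, 5811, 5823, 5835, 5847, 5859, 5871, 5883, 5895, 5896, 5908, 5920, 5932, 5947, 5951, 5966, 5981, 5985, 6000, 6015, 6019, 6034, 6049, 6053, 6071, 6078, 6085,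 6103, 6110, 6117, 6135, 6142, 6149, 6167, 6174, 6184, 6194, 6204, 6225, 6235, 6245, 6255, 6265, 6275, 6285, 6295, 6308, 6321, 6334, 6336, 6349, 6362, 6375, 6388, 6401, 6403, 6416, 6432, 6437, 6453, 6458, 6474, 6479, 6495, 6511, 6516, 6532, 6537, 6545, 6564, 6572, 6580, 6599, 6607, 6615, 6623, 6642, 6650, 6664, 6675, 6686, 6697, 6708, 6719, 6730, 6741, 6752, 6763, 6774, 6785, 6794, 6803, 6812, 6821, 6841, 6850, 6859, 6868, 6877, 6886, 6906, 6913, 6920, 6938, 6945, 6952, 6970, 6977, 6995, 7002, 7009, 7027, 7032, 7048, 7053, 7069, 7074, 7090, 7095, 7111, 7127, 7132, 7148, 7151, 7165, 7179, 7193, 7196, 7210, 7224, 7227, 7241, 7255, 7269, 7281, 7282, 7294, 7306, 7318, 7330, 7342, 7354, 7366, 7378, 7390, 7400, 7410, 7420, 7430, 7440, 7450, 7460, 7470, 7480, 7501, 7511, 7519, 7527, 7535, 7554, 7562, 7570, 7589, 7597, 7605, 7613, 7632, 7638, 7655, 7661, 7667, 7684, 7690, 7707, 7713, 7730, 7736, 7753, 7757, 7772, 7787, 7791, 7806, 7810, 7825, 7840, 7844, 7859,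 7874, 7876, 7889, 7902, 7915, 7928, 7941, 7943, 7956, 7969, 7982]

theorem ok11_lt {c : ℕ} (h : ok11 c = true) : c < 14641 := by
  unfold ok11 at h
  rw [Bool.and_eq_true, Nat.blt_eq] at h
  exact h.1

theorem ok11_det11 {c : ℕ} (h : ok11 c = true) : Nat.beq (det11 c) 1 = true := by
  unfold ok11 at h
  rw [Bool.and_eq_true, Bool.and_eq_true] at h
  exact h.2.1

theorem ok11_det {c : ℕ} (h : ok11 c = true) : (m11 c).det = 1 :=
  det_one_of_det11 (ok11_det11 h)

theorem ok11_norm {c : ℕ} (h : ok11 c = true) : norm11 c = c := by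
  unfold ok11 at h
  rw [Bool.and_eq_true, Bool.and_eq_true] at h
  exact Nat.eq_of_beq_eq_true h.2.2

theorem norm_tab : allLt (fun c => or (not (Nat.beq (det11 c) 1)) (ok11 (norm11 c))) 14641 = true := by
  decide +kernel

theorem ok11_norm11 {c : ℕ} (hc : c < 14641) (hd : (m11 c).det = 1) : ok11 (norm11 c) = true := by
  have h := allLt_spec norm_tab c hc
  rw [det11_of_det_one hd] at h
  simpa using h

theorem L660_eq : L660 = (List.range 14641).filter ok11 := by decide +kernel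

theorem mem_L660_iff {c : ℕ} : c ∈ L660 ↔ ok11 c = true := by
  rw [L660_eq, List.mem_filter, List.mem_range]
  exact ⟨fun h => h.2, fun h => ⟨ok11_lt h, h⟩⟩

theorem mem_L660 {c : ℕ} (h : ok11 c = true) : c ∈ L660 := mem_L660_iff.mpr h

theorem L660_ok : ∀ c ∈ L660, ok11 c = true := fun _ h => mem_L660_iff.mp h

theorem L660_nodup : L660.Nodup := by
  rw [L660_eq]
  exact List.Nodup.filter _ List.nodup_range

theorem L660_length : L660.length = 660 := by decide +kernel

theorem card_ok : Nat.card {c : ℕ // ok11 c = true} = 660 := by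
  classical
  have e : {c : ℕ // ok11 c = true} ≃ {c : ℕ // c ∈ L660.toFinset} :=
    Equiv.subtypeEquivRight (fun c => by
      rw [List.mem_toFinset]
      exact ⟨mem_L660, L660_ok c⟩)
  rw [Nat.card_congr e, Nat.card_eq_fintype_card, Fintype.card_coe,
    List.toFinset_card_of_nodup L660_nodup, L660_length]

theorem one_tab : norm11 1332 = 1332 ∧ norm11 13320 = 1332 := by decide +kernel

theorem inv_tab : ∀ c ∈ L660, ok11 (inv11 c) = true ∧ nmul11 (inv11 c) c = 1332 := by
  decide +kernel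

theorem ok11_nmul11 {a b : ℕ} (ha : ok11 a = true) (hb : ok11 b = true) :
    ok11 (nmul11 a b) = true := by
  unfold nmul11
  refine ok11_norm11 ?_ (det_mul11 (ok11_det ha) (ok11_det hb))
  rw [mul11_eq]
  omega

/-- Membership in a set of codes given as a bitmap. -/
def memBit (m c : ℕ) : Bool := Nat.beq (Nat.land (Nat.shiftRight m c) 1) 1

/-- Code of a conjugate. -/
def cj11 (k s : ℕ) : ℕ := nmul11 (nmul11 k s) (inv11 k)

/-- Strictly increasing lists. -/
def sortedB : List ℕ → Bool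
  | [] => true
  | [_] => true
  | a :: b :: l => and (Nat.blt a b) (sortedB (b :: l))

theorem sortedB_pairwise : ∀ (l : List ℕ), sortedB l = true → l.Pairwise (· < ·)
  | [], _ => List.Pairwise.nil
  | [_], _ => List.pairwise_singleton _ _
  | a :: b :: l, h => by
    rw [sortedB, Bool.and_eq_true, Nat.blt_eq] at h
    have ih := sortedB_pairwise (b :: l) h.2
    refine List.Pairwise.cons ?_ ih
    intro x hx
    rcases List.mem_cons.mp hx with rfl | hx
    · exact h.1
    · exact lt_trans h.1 (List.rel_of_pairwise_cons ih hx)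

theorem sortedB_nodup {l : List ℕ} (h : sortedB l = true) : l.Nodup :=
  (sortedB_pairwise l h).imp (fun h => ne_of_lt h)

/-- The code of an element of `PSL(2, 11)`. -/
noncomputable def f0 (y : PSL(2, ZMod 11)) : ℕ := norm11 (Classical.choose (dec11_surj y))

theorem f0_ok (y : PSL(2, ZMod 11)) : ok11 (f0 y) = true := by
  obtain ⟨h1, h2, _⟩ := Classical.choose_spec (dec11_surj y)
  exact ok11_norm11 h1 h2

theorem dec11_f0 (y : PSL(2, ZMod 11)) : dec11 (f0 y) = y := by
  obtain ⟨_, h2, h3⟩ := Classical.choose_spec (dec11_surj y)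
  unfold f0
  rw [dec11_norm h2, h3]

theorem f0_injective : Function.Injective f0 := by
  intro y y' h
  rw [← dec11_f0 y, ← dec11_f0 y', h]

theorem card_psl11 : Nat.card (PSL(2, ZMod 11)) = 660 := by
  have h2 : (2 : ZMod 11) ≠ 0 := by decide
  have : Fact (Nat.Prime 11) := ⟨by norm_num⟩
  have h := Cfsg.Agent.Lib.helper7.two_mul_card_PSL2 (F := ZMod 11) (q := 11) (ZMod.card 11) h2
  have e : (11 : ℕ) * (11 ^ 2 - 1) = 2 * 660 := by norm_num
  rw [e] at h
  exact Nat.eq_of_mul_eq_mul_left (by norm_num) h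

theorem f0_surj (c : ℕ) (hc : ok11 c = true) : ∃ y, f0 y = c := by
  have hfin : Finite {c : ℕ // ok11 c = true} :=
    Nat.finite_of_card_ne_zero (by rw [card_ok]; norm_num)
  have hinj : Function.Injective (fun y : PSL(2, ZMod 11) =>
      (⟨f0 y, f0_ok y⟩ : {c : ℕ // ok11 c = true})) := by
    intro y y' h
    exact f0_injective (congrArg Subtype.val h)
  have hbij := hinj.bijective_of_nat_card_le (by rw [card_ok, card_psl11])
  obtain ⟨y, hy⟩ := hbij.2 ⟨c, hc⟩
  exact ⟨y, congrArg Subtype.val hy⟩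

theorem f0_dec11 {c : ℕ} (hc : ok11 c = true) : f0 (dec11 c) = c := by
  obtain ⟨y, rfl⟩ := f0_surj c hc
  rw [dec11_f0]

/-- The code model of `PSL(2, 11)`. -/
theorem model0 : GModel ok11 nmul11 1332 f0 where
  inj := f0_injective
  mem := f0_ok
  surj := f0_surj
  one := by
    obtain ⟨h1, h2, h3⟩ := Classical.choose_spec (dec11_surj 1)
    unfold f0
    rcases dec11_eq_one h1 h2 h3 with h | h
    · rw [h]; exact one_tab.1
    · rw [h]; exact one_tab.2
  fmul := by
    intro g h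
    have hg := ok11_det (f0_ok g)
    have hh := ok11_det (f0_ok h)
    have h1 : dec11 (nmul11 (f0 g) (f0 h)) = g * h := by
      rw [dec11_nmul hg hh, dec11_f0, dec11_f0]
    have h2 : ok11 (nmul11 (f0 g) (f0 h)) = true := ok11_nmul11 (f0_ok g) (f0_ok h)
    rw [← h1, f0_dec11 h2]

open Matrix in
/-- A code model of `PSL(2, F)` for a field `F` with 11 elements. -/
theorem exists_model {F : Type*} [Field F] [Fintype F] (hF : Fintype.card F = 11) :
    ∃ f : Matrix.ProjectiveSpecialLinearGroup (Fin 2) F → ℕ, GModel ok11 nmul11 1332 f :=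
  ⟨_, model0.comp_iso
    (Cfsg.Agent.Lib.helper6.pslCongr (ZMod.ringEquivOfPrime F (by norm_num) hF)).symm⟩

theorem card_of_model {G : Type*} [Group G] {f : G → ℕ} (M : GModel ok11 nmul11 1332 f) :
    Nat.card G = 660 := by
  have h := M.card_of_list L660 L660_nodup L660_ok (fun _ => True)
    (fun g => ⟨fun _ => mem_L660 (M.mem g), fun _ => trivial⟩)
  rw [L660_length] at h
  rw [← h]
  exact (Nat.card_congr (Equiv.subtypeUnivEquiv (fun _ => trivial))).symm

theorem map_inv11 {G : Type*} [Group G] {f : G → ℕ} (M : GModel ok11 nmul11 1332 f) (g : G) :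
    f g⁻¹ = inv11 (f g) := by
  obtain ⟨h1, h2⟩ := inv_tab (f g) (mem_L660 (M.mem g))
  obtain ⟨g', hg'⟩ := M.surj _ h1
  rw [← hg', ← M.fmul] at h2
  have h3 := (M.eq_one_iff _).mpr h2
  rw [← hg', eq_inv_of_mul_eq_one_left h3]

theorem map_cj11 {G : Type*} [Group G] {f : G → ℕ} (M : GModel ok11 nmul11 1332 f) (g y : G) :
    f (g * y * g⁻¹) = cj11 (f g) (f y) := by
  rw [M.fmul, M.fmul, map_inv11 M]
  rfl

end Cfsg.Agent.Lib.helper6.PSL11
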