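import Mathlib
import Cfsg.Agent.Lib.helper6.PSL11Code
import Cfsg.Agent.Lib.helper6.A5Gen

/-!
# The subgroups of `PSL(2, 11)` isomorphic to `Alt(5)`

In terms of a code model `M : GModel ok11 nmul11 1332 f` of a group `G` (so `G ≅ PSL(2, 11)`):

* `Hs M i` (`i : Bool`) : two subgroups of `G` given by explicit lists `AL i` of 60 codes;
* `iso_Hs` : both are isomorphic to `Alt(5)`;
* `key` : every subgroup isomorphic to `Alt(5)` is conjugate to `Hs M false` or to `Hs M true`;
* `conj_ne_Hs` : `Hs M false` and `Hs M true` are not conjugate;
* `stab_Hs` : `Hs M i` is self-normalising;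
* `orbit_ncard` : each of the two conjugacy classes has 11 members;
* `count` : there are 22 subgroups isomorphic to `Alt(5)`.
-/

set_option autoImplicit false

open scoped Pointwise

namespace Cfsg.Agent.Lib.helper6.PSL11

open Cfsg.Agent.Lib.helper6.CodeModel

/-- The codes of the first subgroup. -/
def A1 : List ℕ := [241, 297, 443, 573, 635, 1332, 1562, 1587, 1799, 1884, 1990, 2121, 2211, 2397, 2506, 2573, 2734, 2818, 2910, 3056, 3165, 3386, 3453, 3562, 3738, 3838, 3962, 4074, 4220, 4309, 4396, 4497, 4620, 4723, 4896, 5005, 5193, 5296, 5371, 5552, 5661, 5728, 5823, 5932, 6078, 6285, 6375, 6474, 6607, 6730, 6812, 6906, 7127, 7255, 7354, 7410, 7519, 7707, 7806, 7915]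

/-- The codes of the second subgroup. -/
def A2 : List ℕ := [241, 301, 444, 572, 628, 1332, 1562, 1626, 1723, 1850, 1953, 2156, 2254, 2397, 2506, 2603, 2778, 2887, 2958, 3056, 3165, 3308, 3394, 3598, 3704, 3838, 3936, 4085, 4220, 4317, 4408, 4497, 4640, 4749, 4844, 5036, 5145, 5321, 5360, 5552, 5661, 5719, 5811, 5947, 6167, 6255, 6336, 6479, 6599, 6774, 6859, 7002, 7111, 7210, 7281, 7390, 7562, 7661, 7791, 7889]

/-- Bitmap of `A1`. -/
def B1 : ℕ := 44917510749646618826645660519838889229415476195995379184068221816513989078838622848584329992068479132672468496543797750685161693064222469312977851454944960309730519426026539841905740853536964616347190194242682102628289026569483649779327841977931614930691896262625253353248883219223737502616316587603759756013119625928294589448270936913673917725627715930487603921363679412437635167678179856111639027239110844111031407488067604736112742758230152401567071798978306951910177854718836343355217316209934903836336187066617199427446559957662614991448687436261933167428164632558944769704631003652395005007612271475209317375133597685414159692841630610578637283604844001673411081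12216026729177211628849951023966599943682962751504882752270213229419006929154325304877389140615901424447912748383821546314779680941911225426640271348557414348907494879100385606383191789263917436985991646516800240619534848485405435689014288455688203505224463394930477728124943253344061872638456308935078019273338098846075396569180283775181819696505868953603855721248599366083684441702066395924427290268209296056908844179497648626327966563666479603282840919275442522499197370518109278433722298604817436126404734525195179808099908510658423287686011081584511322152870238812259478713561007755779690725927325089180391624227053265942028016271782058499299232592913981681257429523939404931193751964609505336920944475155840191273896060549475547096671247918281770798216627828811960684160368826721261506902178517421844139144672124593177694720029330884265490108755685131339640667827224917469191192434129934108837850264713208908589131905095450441795480130595440946686596892493331430201031302631323495356513253675108223539533670206346616663363305749521561357634225912942809784491956121020423329780708431838815646099404954550538730879814791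204827144589908746222087170149287694546982688854437547251162773700360315378065192635526415440828988668952574307988418244682965017135780376881883534993066333628302613600060308143853994751658153616194533131458881976343511697892765144906154636794443988134011944326633996768633269309023137090223056582951622623378696849566838984602546457311563310759611182887697829750847544844117287420318810153093106202771709376072821202872753111438499295474495541453979952118154849575570458537224316853582303794768329652026638771829469674060762347784791146501677417371502201645651625359806054027568870384992256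

/-- Bitmap of `A2`. -/
def B2 : ℕ := 66932306810686914364465565264196030342270814140473371018093992558494835130121394122234745257745135939109895689927002133130976208228408025225164650320582897708207777882533730466704040880830391651539956138168379210757553296391953734128004094033943554073158118465848144346736272369540424786834255742717013597535000748027369639701596762814011503415078416068324056597168284301858000838091902199034134800490349464322402150683526406349244517012357525192483665134216098244693134770790117213546538883610674239277434411189506080964391874436985328876547129923979135634593397740447586109429492411071027664002105148445446538868710200985331973151384907565069399205927609727083158252155096125026465428611813094603184416204576320292141094490292130219688466163280960110724190072075473486060183462743693652433658953296771361797514588203298225194846963993100539495993365932386628872301663003900793377102321423650881707674467217762041421361084544691143146673558100312091064246273341102203437721982738741805291965818443977394319956595289809524305677411024414724340619895233589441784188003501232529672342118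853353168715105032149723499755005357878547159508471363960129896061102331799166083576165952925867679712271828216828868809956129501141081348112922566508723906984548506999477079092792385599205252650072216513974424161698855064441087183254116983963393914547569201397593777936737569938059595096601638921281652903326395501017992537359963932645867592132810987988498436001373070004960863876347453215669194520600609932451518107616664884090076936007822687540667628495298048000839256666252757863903897887566097773512419732739238914821155361425641176084196608079623198325740472536698283599933519723456326984930108468023062466198317423279261249793630182878531530992176620846942740254717094147468763492424428501936645105597945998671457447956495120263945779466908815193169679525580629180558549415382073557107927248954499895226019950112434410436824920171798416870954145170348946165469279445912047194949091908964281536759294156108817934734261874816054165521670878030163092335309084524317507750437076631555849301820019343232804804145700785294700295755477061066922246433692255227822652444657245692601588589952466193740662616094358236363934355864888499876982139507090249967814208918179408883766095560106863202829041284730677666501595870655995647489884774858533779789497578811420500900520240428297948649232531456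

/-- The two code lists. -/
def AL (i : Bool) : List ℕ := bif i then A2 else A1

/-- The two bitmaps. -/
def BM (i : Bool) : ℕ := bif i then B2 else B1

/-- The generator of order 5 (the generator of order 3 has code `1562` in both cases). -/
def GB (i : Bool) : ℕ := bif i then 1723 else 6730

/-- Conjugators moving each element of order 3 to the code `1562`. -/
def W3 : List (ℕ × ℕ) := [(232, 231), (241, 1990), (298, 1865), (307, 440), (441, 627), (450, 3281), (573, 297), (582, 1768), (628, 572), (637, 3425), (1549, 1974), (1562, 241), (1626, 444), (1628, 1918), (1771, 629), (1813, 3316), (1846, 1737), (1903, 302), (1958, 580), (2011, 3470), (2121, 575), (2156, 3501), (2211, 1799), (2286, 303), (2319, 636), (2343, 3367), (2486, 447), (2506, 1933), (2552, 1995), (2583, 232), (2835, 1958), (2881, 240), (2934, 448), (2958, 1850), (3088, 3351), (3145, 631), (3165, 1695), (3178, 307), (3308, 3394), (3343, 577), (3453, 3456), (3484, 578), (3618, 1709), (3627, 298), (3651, 3343), (3704, 634), (3838, 443), (3858, 1880), (3915, 2011), (3957, 233), (4167, 239), (4220, 1953), (4266, 1903), (4352, 441), (4396, 3386),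 (4420, 633), (4497, 301), (4539, 1785), (4640, 574), (4649, 3439), (4803, 581), (4816, 3411), (4913, 304), (4959, 1740), (5036, 3308), (5056, 632), (5100, 1816), (5190, 450), (5232, 234), (5289, 2016), (5462, 1937), (5552, 238), (5638, 445), (5684, 1846), (5728, 635), (5737, 3289), (5847, 1754), (5871, 306), (5981, 582), (6034, 3484), (6078, 573), (6135, 3487), (6245, 1771), (6265, 299), (6375, 630), (6388, 3273), (6432, 446), (6474, 1884), (6564, 2032), (6650, 235), (6794, 237), (6803, 2053), (6913, 449), (6970, 1899), (7069, 637), (7111, 3324), (7179, 300), (7210, 1723), (7342, 3408), (7366, 579), (7410, 3453), (7430, 576), (7562, 305), (7597, 1813), (7661, 628), (7707, 3359), (7806, 442), (7859, 1831), (7969, 236), (7982, 2037)]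

/-- For each `β` of order 5 with `1562 * β` an involution: a conjugator moving the pair
`(1562, β)` into one of the two subgroups. -/
def CT : List (ℕ × ℕ × Bool) := [(1587, 241, false), (1723, 241, true), (1850, 241, true), (2378, 238, false), (2515, 238, false), (2643, 238, true), (2767, 238, true), (2910, 241, false), (3038, 238, true), (3962, 241, false), (4085, 241, true), (4360, 238, false), (4620, 241, false), (5148, 238, true), (5404, 238, false), (5811, 241, true), (6204, 238, false), (6336, 241, true), (6730, 241, false), (6995, 238, true), (7127, 241, false), (7269, 238, true), (7527, 238, false), (7791, 241, true)]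

theorem AL_ok (i : Bool) : ∀ c ∈ AL i, ok11 c = true ∧ memBit (BM i) c = true := by
  cases i <;> decide +kernel

theorem AL_bit (i : Bool) :
    allLt (fun c => or (not (memBit (BM i) c)) ((AL i).contains c)) 14641 = true := by
  cases i <;> decide +kernel

theorem mem_AL_iff (i : Bool) {c : ℕ} (hc : ok11 c = true) :
    c ∈ AL i ↔ memBit (BM i) c = true := by
  constructor
  · intro h
    exact (AL_ok i c h).2
  · intro h
    have h1 := allLt_spec (AL_bit i) c (ok11_lt hc)
    rw [h] at h1
    simpa using h1

theorem AL_closed (i : Bool) : ∀ a ∈ AL i, ∀ b ∈ AL i, memBit (BM i) (nmul11 a b) = true := by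
  cases i <;> decide +kernel

theorem AL_mul (i : Bool) : ∀ a ∈ AL i, ∀ b ∈ AL i, nmul11 a b ∈ AL i := fun a ha b hb =>
  (mem_AL_iff i (ok11_nmul11 (AL_ok i a ha).1 (AL_ok i b hb).1)).mpr (AL_closed i a ha b hb)

theorem AL_one (i : Bool) : 1332 ∈ AL i := by cases i <;> decide +kernel

theorem AL_sorted (i : Bool) : sortedB (AL i) = true := by cases i <;> decide +kernel

theorem AL_nodup (i : Bool) : (AL i).Nodup := sortedB_nodup (AL_sorted i)

theorem AL_length (i : Bool) : (AL i).length = 60 := by cases i <;> decide +kernel

theorem gens_tab (i : Bool) : ok11 1562 = true ∧ ok11 (GB i) = true ∧ 1562 ∈ AL i ∧ GB i ∈ AL i ∧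
    gpow nmul11 1332 1562 3 = 1332 ∧ gpow nmul11 1332 (GB i) 5 = 1332 ∧
    gpow nmul11 1332 (nmul11 1562 (GB i)) 2 = 1332 := by
  cases i <;> decide +kernel

theorem W3_ok : ∀ p ∈ W3, ok11 p.2 = true ∧ nmul11 p.2 1562 = nmul11 p.1 p.2 := by
  decide +kernel

theorem W3_all : ∀ c ∈ L660, gpow nmul11 1332 c 3 = 1332 → c = 1332 ∨ c ∈ W3.map Prod.fst := by
  decide +kernel

theorem CT_ok : ∀ p ∈ CT, ok11 p.2.1 = true ∧ memBit (BM p.2.2) (cj11 p.2.1 1562) = true ∧
    memBit (BM p.2.2) (cj11 p.2.1 p.1) = true := by
  decide +kernel

theorem CT_all : ∀ c ∈ L660, gpow nmul11 1332 c 5 = 1332 →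
    gpow nmul11 1332 (nmul11 1562 c) 2 = 1332 → c = 1332 ∨ c ∈ CT.map Prod.fst := by
  decide +kernel

theorem stab_tab (i j : Bool) : ∀ k ∈ L660, (i = j ∧ memBit (BM i) k = true) ∨
    ∃ s ∈ AL i, memBit (BM j) (cj11 k s) = false := by
  cases i <;> cases j <;> decide +kernel

section

variable {G : Type*} [Group G] [Finite G] {f : G → ℕ}

/-- The two subgroups. -/
def Hs (M : GModel ok11 nmul11 1332 f) (i : Bool) : Subgroup G :=
  M.sub (AL i) (AL_one i) (AL_mul i)

theorem mem_Hs (M : GModel ok11 nmul11 1332 f) (i : Bool) (x : G) : x ∈ Hs M i ↔ f x ∈ AL i :=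
  Iff.rfl

theorem card_Hs (M : GModel ok11 nmul11 1332 f) (i : Bool) : Nat.card (Hs M i) = 60 := by
  have h := M.card_of_list (AL i) (AL_nodup i) (fun c hc => (AL_ok i c hc).1) (· ∈ Hs M i)
    (fun g => Iff.rfl)
  rw [AL_length] at h
  exact h

theorem iso_Hs (M : GModel ok11 nmul11 1332 f) (i : Bool) :
    Nonempty (Hs M i ≃* alternatingGroup (Fin 5)) := by
  obtain ⟨h1, h2, h3, h4, h5, h6, h7⟩ := gens_tab i
  obtain ⟨a, ha⟩ := M.surj 1562 h1
  obtain ⟨b, hb⟩ := M.surj (GB i) h2
  refine A5Gen.iso_of_gens (Hs M i) (card_Hs M i) a b ?_ ?_ ?_ ?_ ?_ ?_
  · rw [mem_Hs, ha]; exact h3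
  · rw [mem_Hs, hb]; exact h4
  · rw [M.eq_one_iff, M.map_pow, ha]; exact h5
  · rw [M.eq_one_iff, M.map_pow, hb]; exact h6
  · rw [M.eq_one_iff, M.map_pow, M.fmul, ha, hb]; exact h7
  · intro h
    rw [M.eq_one_iff, ha] at h
    exact absurd h (by decide)

/-- Every subgroup isomorphic to `Alt(5)` is conjugate to one of the two. -/
theorem key (M : GModel ok11 nmul11 1332 f) (L : Subgroup G)
    (hL : Nonempty (L ≃* alternatingGroup (Fin 5))) :
    ∃ g : G, ∃ i : Bool, MulAut.conj g • L = Hs M i := by
  obtain ⟨hcard, a, b, haL, hbL, ha3, hb5, hab, ha1, hb1, hgen⟩ := A5Gen.exists_gens L hL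
  have h3 : gpow nmul11 1332 (f a) 3 = 1332 := by rw [← M.map_pow, ha3, M.one]
  rcases W3_all (f a) (mem_L660 (M.mem a)) h3 with h | h
  · exact absurd ((M.eq_one_iff a).mpr h) ha1
  obtain ⟨⟨c, k⟩, hp, hc⟩ := List.mem_map.mp h
  obtain ⟨hk, hw⟩ := W3_ok _ hp
  have hc' : c = f a := hc
  obtain ⟨g1, hg1⟩ := M.conj_to a 1562 k (by decide) hk (by rw [← hc']; exact hw)
  have M' := M.conj g1
  have h5 : gpow nmul11 1332 (f (g1 * b * g1⁻¹)) 5 = 1332 := by
    rw [← M'.map_pow b 5, hb5]; exact M'.one
  have h2 : gpow nmul11 1332 (nmul11 1562 (f (g1 * b * g1⁻¹))) 2 = 1332 := by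
    rw [← hg1, ← M'.fmul a b, ← M'.map_pow (a * b) 2, hab]; exact M'.one
  rcases CT_all _ (mem_L660 (M'.mem b)) h5 h2 with h | h
  · exact absurd ((M'.eq_one_iff b).mpr h) hb1
  obtain ⟨⟨β, k2, i⟩, hp2, hβ⟩ := List.mem_map.mp h
  have hβ' : β = f (g1 * b * g1⁻¹) := hβ
  obtain ⟨hk2, hca, hcb⟩ := CT_ok _ hp2
  obtain ⟨g2, hg2⟩ := M'.surj k2 hk2
  have hg2' : f (g1 * g2 * g1⁻¹) = k2 := hg2
  refine ⟨g1 * g2, i, ?_⟩
  have e1 : ∀ y : G, f (g1 * g2 * y * (g1 * g2)⁻¹) = cj11 k2 (f (g1 * y * g1⁻¹)) := by
    intro y
    rw [← hg2', ← map_cj11 M]
    congr 1
    group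
  have hle : L ≤ (Hs M i).comap (MulAut.conj (g1 * g2)).toMonoidHom := by
    apply hgen
    · rw [Subgroup.mem_comap]
      show f (g1 * g2 * a * (g1 * g2)⁻¹) ∈ AL i
      rw [e1, hg1, mem_AL_iff i (by rw [← hg1, ← e1]; exact M.mem _)]
      exact hca
    · rw [Subgroup.mem_comap]
      show f (g1 * g2 * b * (g1 * g2)⁻¹) ∈ AL i
      rw [e1, ← hβ', mem_AL_iff i (by rw [hβ', ← e1]; exact M.mem _)]
      exact hcb
  have hle2 : MulAut.conj (g1 * g2) • L ≤ Hs M i := by
    intro x hx
    rw [Subgroup.mem_smul_pointwise_iff_exists] at hx
    obtain ⟨y, hy, rfl⟩ := hx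
    exact hle hy
  apply Subgroup.eq_of_le_of_card_ge hle2
  rw [card_Hs, ← Nat.card_congr (Subgroup.equivSMul (MulAut.conj (g1 * g2)) L).toEquiv, hcard]

theorem conj_ne_of (M : GModel ok11 nmul11 1332 f) (i j : Bool) (g : G)
    (h : ∃ s ∈ AL i, memBit (BM j) (cj11 (f g) s) = false) : MulAut.conj g • Hs M i ≠ Hs M j := by
  intro heq
  obtain ⟨s, hs, hb⟩ := h
  obtain ⟨y, hy⟩ := M.surj s (AL_ok i s hs).1
  have h1 : g * y * g⁻¹ ∈ MulAut.conj g • Hs M i := by
    rw [Subgroup.mem_smul_pointwise_iff_exists]
    exact ⟨y, by rw [mem_Hs, hy]; exact hs, rfl⟩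
  rw [heq, mem_Hs, mem_AL_iff j (M.mem _), map_cj11 M, hy, hb] at h1
  exact absurd h1 (by decide)

/-- The two subgroups are not conjugate. -/
theorem conj_ne_Hs (M : GModel ok11 nmul11 1332 f) (g : G) :
    MulAut.conj g • Hs M false ≠ Hs M true := by
  apply conj_ne_of
  rcases stab_tab false true (f g) (mem_L660 (M.mem g)) with h | h
  · exact absurd h.1 (by decide)
  · exact h

/-- Each of the two subgroups is self-normalising. -/
theorem stab_Hs (M : GModel ok11 nmul11 1332 f) (i : Bool) (g : G)
    (h : MulAut.conj g • Hs M i = Hs M i) : g ∈ Hs M i := by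
  rcases stab_tab i i (f g) (mem_L660 (M.mem g)) with h1 | h1
  · rw [mem_Hs, mem_AL_iff i (M.mem g)]
    exact h1.2
  · exact absurd h (conj_ne_of M i i g h1)

/-- Each of the two conjugacy classes has 11 members. -/
theorem orbit_ncard (M : GModel ok11 nmul11 1332 f) (i : Bool) :
    Set.ncard {L : Subgroup G | ∃ g : G, MulAut.conj g • L = Hs M i} = 11 := by
  let act : MulAction G (Subgroup G) := MulAction.compHom (Subgroup G) (MulAut.conj : G →* MulAut G)
  have hsm : ∀ (g : G) (K : Subgroup G), g • K = MulAut.conj g • K := fun _ _ => rfl
  have hst : MulAction.stabilizer G (Hs M i) = Hs M i := by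
    ext g
    rw [MulAction.mem_stabilizer_iff, hsm]
    exact ⟨stab_Hs M i g, fun hg => Subgroup.conj_smul_eq_self_of_mem hg⟩
  have horb : {L : Subgroup G | ∃ g : G, MulAut.conj g • L = Hs M i} =
      MulAction.orbit G (Hs M i) := by
    ext L
    constructor
    · rintro ⟨g, hg⟩
      refine ⟨g⁻¹, ?_⟩
      show MulAut.conj g⁻¹ • Hs M i = L
      rw [← hg, map_inv, inv_smul_smul]
    · rintro ⟨g, rfl⟩
      refine ⟨g⁻¹, ?_⟩
      show MulAut.conj g⁻¹ • (MulAut.conj g • Hs M i) = Hs M i
      rw [map_inv, inv_smul_smul]
  rw [horb, ← Nat.card_coe_set_eq,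
    Nat.card_congr (MulAction.orbitEquivQuotientStabilizer G (Hs M i)), hst]
  have h1 := (Hs M i).card_mul_index
  rw [card_Hs, card_of_model M] at h1
  have h2 : (Hs M i).index = Nat.card (G ⧸ Hs M i) := rfl
  omega

/-- There are 22 subgroups isomorphic to `Alt(5)`. -/
theorem count (M : GModel ok11 nmul11 1332 f) :
    Nat.card {H : Subgroup G // Nonempty (H ≃* alternatingGroup (Fin 5))} = 22 := by
  have hset : {H : Subgroup G | Nonempty (H ≃* alternatingGroup (Fin 5))} =
      {L : Subgroup G | ∃ g : G, MulAut.conj g • L = Hs M false} ∪
        {L : Subgroup G | ∃ g : G, MulAut.conj g • L = Hs M true} := by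
    ext L
    constructor
    · intro hL
      obtain ⟨g, i, h⟩ := key M L hL
      cases i
      · exact Or.inl ⟨g, h⟩
      · exact Or.inr ⟨g, h⟩
    · have hiso : ∀ i : Bool, (∃ g : G, MulAut.conj g • L = Hs M i) →
          Nonempty (L ≃* alternatingGroup (Fin 5)) := by
        rintro i ⟨g, hg⟩
        obtain ⟨φ⟩ := iso_Hs M i
        exact ⟨((Subgroup.equivSMul (MulAut.conj g) L).trans (MulEquiv.subgroupCongr hg)).trans φ⟩
      rintro (h | h)
      · exact hiso false h
      · exact hiso true h
  have hdisj : Disjoint {L : Subgroup G | ∃ g : G, MulAut.conj g • L = Hs M false}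
      {L : Subgroup G | ∃ g : G, MulAut.conj g • L = Hs M true} := by
    rw [Set.disjoint_left]
    rintro L ⟨g, hg⟩ ⟨g', hg'⟩
    apply conj_ne_Hs M (g' * g⁻¹)
    rw [← hg, ← hg', map_mul, mul_smul, map_inv, inv_smul_smul]
  show Nat.card ↥{H : Subgroup G | Nonempty (H ≃* alternatingGroup (Fin 5))} = 22
  rw [Nat.card_coe_set_eq, hset, Set.ncard_union_eq hdisj (Set.toFinite _) (Set.toFinite _),
    orbit_ncard, orbit_ncard]

end

end Cfsg.Agent.Lib.helper6.PSL11
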