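import Mathlib

namespace Cfsg.Agent.Lib.helper45.PearlC

/-- C6 CLASS BOUND (S/M): if all commutators of `w` lie in `Z(G)` of order `p`, then
`|G : C_G(w)| ≤ p`. -/
theorem h6_class_bound {G : Type*} [Group G] [Finite G] (p : ℕ)
    (hZ : Nat.card ↥(Subgroup.center G) = p) (w : G)
    (hw : ∀ g : G, w * g * w⁻¹ * g⁻¹ ∈ Subgroup.center G) :
    Nat.card G ≤ p * Nat.card ↥(Subgroup.centralizer ({w} : Set G)) := by
  classical
  have hmem : ∀ g : G, g ∈ Subgroup.centralizer ({w} : Set G) ↔ w * g = g * w := by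
    intro g
    rw [Subgroup.mem_centralizer_singleton_iff]
    exact eq_comm
  have key : ∀ a b : G, w * a * w⁻¹ * a⁻¹ = w * b * w⁻¹ * b⁻¹ ↔
      a⁻¹ * b ∈ Subgroup.centralizer ({w} : Set G) := by
    intro a b
    rw [hmem]
    constructor
    · intro h
      have h1 : a * w⁻¹ * a⁻¹ = b * w⁻¹ * b⁻¹ := by
        have := congrArg (fun t => w⁻¹ * t) h
        simpa [mul_assoc] using this
      have h2 : a⁻¹ * b * w⁻¹ = w⁻¹ * (a⁻¹ * b) := by
        have e1 : a⁻¹ * b * w⁻¹ = a⁻¹ * (b * w⁻¹ * b⁻¹) * b := by group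
        have e2 : w⁻¹ * (a⁻¹ * b) = a⁻¹ * (a * w⁻¹ * a⁻¹) * b := by group
        rw [e1, e2, h1]
      have e3 : w * (a⁻¹ * b) = w * (a⁻¹ * b * w⁻¹) * w := by group
      rw [e3, h2]
      group
    · intro h
      have h2 : a⁻¹ * b * w⁻¹ = w⁻¹ * (a⁻¹ * b) := by
        have e1 : a⁻¹ * b * w⁻¹ = w⁻¹ * (w * (a⁻¹ * b)) * w⁻¹ := by group
        rw [e1, h]
        group
      have h1 : a * w⁻¹ * a⁻¹ = b * w⁻¹ * b⁻¹ := by
        have e1 : b * w⁻¹ * b⁻¹ = a * (a⁻¹ * b * w⁻¹) * b⁻¹ := by group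
        rw [e1, h2]
        group
      have e4 : w * a * w⁻¹ * a⁻¹ = w * (a * w⁻¹ * a⁻¹) := by group
      have e5 : w * b * w⁻¹ * b⁻¹ = w * (b * w⁻¹ * b⁻¹) := by group
      rw [e4, e5, h1]
  let f : G ⧸ Subgroup.centralizer ({w} : Set G) → Subgroup.center G :=
    Quotient.lift (fun g : G => (⟨w * g * w⁻¹ * g⁻¹, hw g⟩ : Subgroup.center G)) (by
      intro a b hab
      apply Subtype.ext
      exact (key a b).mpr (QuotientGroup.leftRel_apply.mp hab))
  have hf : Function.Injective f := by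
    intro a b
    refine Quotient.inductionOn₂ a b ?_
    intro a b h
    have h' : w * a * w⁻¹ * a⁻¹ = w * b * w⁻¹ * b⁻¹ := congrArg Subtype.val h
    exact Quotient.sound (QuotientGroup.leftRel_apply.mpr ((key a b).mp h'))
  have h1 : Nat.card (G ⧸ Subgroup.centralizer ({w} : Set G)) ≤ p := by
    rw [← hZ]
    exact Nat.card_le_card_of_injective f hf
  rw [Subgroup.card_eq_card_quotient_mul_card_subgroup (Subgroup.centralizer ({w} : Set G))]
  exact Nat.mul_le_mul_right _ h1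

end Cfsg.Agent.Lib.helper45.PearlC
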