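import Mathlib

namespace Cfsg.Agent.Lib.helper45.PearlC

/-- C8 POWERS (S): a group of prime order is generated by any nontrivial element. -/
theorem h6_pow_of_center {G : Type*} [Group G] [Finite G] (p : ℕ) [Fact p.Prime]
    (hZ : Nat.card ↥(Subgroup.center G) = p) (c : G) (hc : c ∈ Subgroup.center G) (hc1 : c ≠ 1)
    (z : G) (hz : z ∈ Subgroup.center G) : ∃ k : ℕ, z = c ^ k := by
  have hp : p.Prime := Fact.out
  have hle : Subgroup.zpowers c ≤ Subgroup.center G := by
    rw [Subgroup.zpowers_le]
    exact hc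
  have hdvd : Nat.card (Subgroup.zpowers c) ∣ p := by
    rw [← hZ]
    exact Subgroup.card_dvd_of_le hle
  have hne1 : Nat.card (Subgroup.zpowers c) ≠ 1 := by
    rw [Nat.card_zpowers]
    intro h
    exact hc1 (orderOf_eq_one_iff.mp h)
  have hcard : Nat.card (Subgroup.zpowers c) = p := by
    rcases (Nat.dvd_prime hp).mp hdvd with h | h
    · exact absurd h hne1
    · exact h
  have heq : Subgroup.zpowers c = Subgroup.center G :=
    Subgroup.eq_of_le_of_card_ge hle (by rw [hcard, hZ])
  have hzc : z ∈ Subgroup.zpowers c := by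
    rw [heq]
    exact hz
  rw [← mem_powers_iff_mem_zpowers] at hzc
  obtain ⟨k, hk⟩ := (Submonoid.mem_powers_iff z c).mp hzc
  exact ⟨k, hk.symm⟩

end Cfsg.Agent.Lib.helper45.PearlC
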