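import Mathlib

namespace Cfsg.Agent.Lib.helper45.PearlC

/-- C9 ADJUST (S/M, pure identity in any group): if `[d, e] = c` is central, `[w, e] = c ^ k` and
`d` commutes with `w`, then `w * (d ^ k)⁻¹` commutes with `e`. -/
theorem h6_comm_adjust {G : Type*} [Group G] (d e w c : G) (k : ℕ)
    (hc : ∀ g : G, c * g = g * c) (hde : d * e * d⁻¹ * e⁻¹ = c)
    (hwe : w * e * w⁻¹ * e⁻¹ = c ^ k) (hdw : d * w = w * d) :
    e * (w * (d ^ k)⁻¹) = (w * (d ^ k)⁻¹) * e := by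
  have hck : ∀ j : ℕ, ∀ g : G, c ^ j * g = g * c ^ j := by
    intro j g
    exact (Commute.pow_left (show Commute c g from hc g) j).eq
  have h1 : d * e * d⁻¹ = c * e := by
    rw [← hde]
    group
  have h2 : ∀ j : ℕ, d ^ j * e * (d ^ j)⁻¹ = c ^ j * e := by
    intro j
    induction j with
    | zero => simp
    | succ j ih =>
      have e1 : d ^ (j + 1) * e * (d ^ (j + 1))⁻¹ = d * (d ^ j * e * (d ^ j)⁻¹) * d⁻¹ := by
        rw [pow_succ']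
        group
      have e2 : d * (c ^ j * e) * d⁻¹ = (d * c ^ j) * (e * d⁻¹) := by group
      have e3 : c ^ j * d * (e * d⁻¹) = c ^ j * (d * e * d⁻¹) := by group
      rw [e1, ih, e2, ← hck j d, e3, h1, pow_succ, mul_assoc]
  have h3 : w * e * w⁻¹ = c ^ k * e := by
    rw [← hwe]
    group
  have h4 : d ^ k * e * (d ^ k)⁻¹ = w * e * w⁻¹ := by rw [h2, h3]
  have hdkw : d ^ k * w = w * d ^ k := (Commute.pow_left (show Commute d w from hdw) k).eq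
  have h5 : e = (d ^ k)⁻¹ * (w * e * w⁻¹) * d ^ k := by
    rw [← h4]
    group
  have hw' : w * (d ^ k)⁻¹ = (d ^ k)⁻¹ * w := by
    have e1 : w * (d ^ k)⁻¹ = (d ^ k)⁻¹ * (d ^ k * w) * (d ^ k)⁻¹ := by group
    have e2 : (d ^ k)⁻¹ * w = (d ^ k)⁻¹ * (w * d ^ k) * (d ^ k)⁻¹ := by group
    rw [e1, e2, hdkw]
  have e6 : e * (w * (d ^ k)⁻¹) = e * ((d ^ k)⁻¹ * w) := by rw [hw']
  have e7 : (d ^ k)⁻¹ * (w * e * w⁻¹) * d ^ k * ((d ^ k)⁻¹ * w) = (d ^ k)⁻¹ * w * e := by group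
  rw [e6, hw']
  calc e * ((d ^ k)⁻¹ * w) = (d ^ k)⁻¹ * (w * e * w⁻¹) * d ^ k * ((d ^ k)⁻¹ * w) := by rw [← h5]
    _ = (d ^ k)⁻¹ * w * e := e7

end Cfsg.Agent.Lib.helper45.PearlC
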