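import Mathlib
import Cfsg.Agent.Lib.helper68.HallPet
import Cfsg.Agent.Lib.helper65.PearlPow

set_option autoImplicit false

namespace Cfsg.Agent.Lib.helper65.PearlG

open Cfsg.Agent.Lib.helper68 Cfsg.Agent.Lib.helper65.PearlPow

variable {G : Type*} [Group G] [Finite G]

/-- `com x a = com x b` iff `b * a⁻¹` centralizes `x`. -/
theorem h6_com_eq_iff (x a b : G) :
    com x a = com x b ↔ b * a⁻¹ ∈ Subgroup.centralizer ({x} : Set G) := by
  rw [Subgroup.mem_centralizer_singleton_iff]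
  unfold com
  constructor
  · intro h
    have h1 : a⁻¹ * x * a = b⁻¹ * x * b := by
      have := congrArg (fun t => x * t) h
      simpa [mul_assoc] using this
    have e1 : b * a⁻¹ * x = b * (a⁻¹ * x * a) * a⁻¹ := by group
    have e2 : x * (b * a⁻¹) = b * (b⁻¹ * x * b) * a⁻¹ := by group
    rw [e1, e2, h1]
  · intro h
    have h1 : a⁻¹ * x * a = b⁻¹ * x * b := by
      have e1 : a⁻¹ * x * a = b⁻¹ * (b * a⁻¹ * x) * a := by group
      have e2 : b⁻¹ * x * b = b⁻¹ * (x * (b * a⁻¹)) * a := by group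
      rw [e1, e2, h]
    have e3 : x⁻¹ * a⁻¹ * x * a = x⁻¹ * (a⁻¹ * x * a) := by group
    have e4 : x⁻¹ * b⁻¹ * x * b = x⁻¹ * (b⁻¹ * x * b) := by group
    rw [e3, e4, h1]

/-- K0 (M). Orbit counting: for `g g' ∈ W`, `com x g = com x g'` iff `g' * g⁻¹ ∈ C(x)`; the fibres of
`g ↦ com x g` on `W` are the right cosets of `W ⊓ C(x)`. -/
theorem pg_count (x : G) (W : Subgroup G) :
    Nat.card {m : G | ∃ g ∈ W, m = com x g} *
      Nat.card (W ⊓ Subgroup.centralizer ({x} : Set G) : Subgroup G) = Nat.card W := by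
  classical
  set K : Subgroup W := (W ⊓ Subgroup.centralizer ({x} : Set G)).subgroupOf W with hK
  have hKcard : Nat.card K = Nat.card (W ⊓ Subgroup.centralizer ({x} : Set G) : Subgroup G) :=
    Nat.card_congr (Subgroup.subgroupOfEquivOfLe inf_le_left).toEquiv
  have hmemK : ∀ a b : W, a⁻¹ * b ∈ K ↔
      (b : G)⁻¹ * (a : G) ∈ Subgroup.centralizer ({x} : Set G) := by
    intro a b
    rw [hK, Subgroup.mem_subgroupOf]
    constructor
    · intro h
      have h1 := Subgroup.inv_mem _ (Subgroup.mem_inf.mp h).2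
      simpa [mul_inv_rev] using h1
    · intro h
      refine Subgroup.mem_inf.mpr ⟨(a⁻¹ * b).2, ?_⟩
      have h1 := Subgroup.inv_mem _ h
      simpa [mul_inv_rev] using h1
  let f : W ⧸ K → {m : G | ∃ g ∈ W, m = com x g} :=
    Quotient.lift (fun h : W => (⟨com x ((h : G)⁻¹), ⟨(h : G)⁻¹, W.inv_mem h.2, rfl⟩⟩ :
      {m : G | ∃ g ∈ W, m = com x g})) (by
      intro a b hab
      have hab' : a⁻¹ * b ∈ K := QuotientGroup.leftRel_apply.mp hab
      apply Subtype.ext
      show com x ((a : G)⁻¹) = com x ((b : G)⁻¹)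
      rw [h6_com_eq_iff, inv_inv]
      exact (hmemK a b).mp hab')
  have hf : Function.Bijective f := by
    constructor
    · intro a b
      refine Quotient.inductionOn₂ a b ?_
      intro a b h
      have h' : com x ((a : G)⁻¹) = com x ((b : G)⁻¹) := congrArg Subtype.val h
      rw [h6_com_eq_iff, inv_inv] at h'
      exact Quotient.sound (QuotientGroup.leftRel_apply.mpr ((hmemK a b).mpr h'))
    · rintro ⟨m, g, hg, rfl⟩
      refine ⟨QuotientGroup.mk (⟨g⁻¹, W.inv_mem hg⟩ : W), ?_⟩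
      apply Subtype.ext
      show com x ((g⁻¹ : G)⁻¹) = com x g
      rw [inv_inv]
  rw [← hKcard, ← Nat.card_congr (Equiv.ofBijective f hf)]
  exact (Subgroup.card_eq_card_quotient_mul_card_subgroup K).symm

end Cfsg.Agent.Lib.helper65.PearlG
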