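import Mathlib
import Cfsg.Agent.Lib.helper65.PearlBasic

set_option autoImplicit false

namespace Cfsg.Agent.Lib.helper65.PearlPow

open Cfsg.Agent.Lib.helper68

variable {H : Type*} [Group H]

/-- TOP core: `top` with the needed instance of `q_claim` as a hypothesis. -/
theorem h6_top_core (x g : H) {w : ℕ} (p : ℕ) (hp : 1 ≤ p)
    (hnil : gam H (w + 1 + p) = ⊥)
    (hq : Rel (w + (p - 1) + 2) (fun n => (ph x)^[p - 1 + 1] (tt x g) n * yk x (com x g) (p - 1))
      (dl^[p - 1 + 1] (tt x g))) : dl^[p] (tt x g) 0 = yk x (com x g) (p - 1) := by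
  have hp1 : p - 1 + 1 = p := by omega
  rw [hp1] at hq
  have hm : ((ph x)^[p] (tt x g) 0 * yk x (com x g) (p - 1))⁻¹ * dl^[p] (tt x g) 0 ∈
      gam H (w + (p - 1) + 2) := PolySeq.mem hq 0
  have hw' : w + (p - 1) + 2 = w + 1 + p := by omega
  rw [hw', hnil, Subgroup.mem_bot, ph_iter_zero x (tt_zero x g) p, one_mul] at hm
  exact (inv_mul_eq_one.mp hm).symm

end Cfsg.Agent.Lib.helper65.PearlPow
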