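import Mathlib
import Cfsg.Agent.Lib.helper65.PearlBasic
import Cfsg.Agent.Lib.helper6.PearlTOPcore
import Cfsg.Agent.Lib.helper6.PearlQcore
import Cfsg.Agent.Lib.helper43.PearlD1
import Cfsg.Agent.Lib.helper98.PearlI1
import Cfsg.Agent.Lib.helper73.PearlS
import Cfsg.Agent.Lib.helper11.PearlU

set_option autoImplicit false

namespace Cfsg.Agent.Lib.helper65.PearlPow

open Cfsg.Agent.Lib.helper68

variable {H : Type*} [Group H]

/-- Q (racer copy of `q_claim`, verbatim statement under a prefixed name). -/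
theorem h6_q_claim (x g : H) {w : ℕ} (hw : 1 ≤ w) (hg : g ∈ gam H w) (k : ℕ) :
    Rel (w + k + 2) (fun n => (ph x)^[k + 1] (tt x g) n * yk x (com x g) k)
      (dl^[k + 1] (tt x g)) :=
  h6_q_core x g hg rel_dl rel_dl_mul_const (h73_s_claim x g hw hg) (u_claim x g hw hg) k

/-- TOP (M). From `q_claim (p - 1)`: the quotient sequence has weight `w + 1 + p`, so its value
at `0` is in `gam (w + 1 + p) = ⊥` (`PolySeq.mem`); `ph_iter_zero` and `tt_zero`. -/
theorem top (x g : H) {w : ℕ} (hw : 1 ≤ w) (hg : g ∈ gam H w) (p : ℕ) (hp : 1 ≤ p)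
    (hnil : gam H (w + 1 + p) = ⊥) : dl^[p] (tt x g) 0 = yk x (com x g) (p - 1) :=
  h6_top_core x g p hp hnil (h6_q_claim x g hw hg (p - 1))

end Cfsg.Agent.Lib.helper65.PearlPow
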