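import Mathlib
import Cfsg.Agent.Lib.helper44.PresDefs

/-!
# S2286 piece PARB: core (with the statement of ADJ as a hypothesis)
-/

set_option autoImplicit false

namespace Cfsg.Agent.Lib.helper6.Pres

open Polynomial

theorem helper6_exists_pair_core {F : Type*} [Field F] [Fintype F] {p : ℕ} [Fact p.Prime]
    [Algebra (ZMod p) F] (hp2 : p ≠ 2) (e : ℕ) (he : Fintype.card F = p ^ e) (he2 : 2 ≤ e)
    (h9 : Fintype.card F ≠ 9) (ζ : Fˣ) (hζ : ∀ y : Fˣ, y ∈ Subgroup.zpowers ζ)
    (hadj : ∀ μ : F, (∀ d : ℕ, 0 < d → d < e → μ ^ (p ^ d) ≠ μ) →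
      Algebra.adjoin (ZMod p) {μ} = ⊤) :
    ∃ i j : ℕ, ((ζ : F) ^ 2) ^ j = 1 + ((ζ : F) ^ 2) ^ i ∧
      Algebra.adjoin (ZMod p) {((ζ : F) ^ 2) ^ i} = ⊤ := by
  classical
  have hp : p.Prime := Fact.out
  have hp3 : 3 ≤ p := by
    have := hp.two_le
    omega
  haveI : CharP F p :=
    charP_of_injective_algebraMap (algebraMap (ZMod p) F).injective p
  have h2F : (2 : F) ≠ 0 := by
    intro h
    have h1 : ((2 : ℕ) : F) = 0 := by exact_mod_cast h
    rw [CharP.cast_eq_zero_iff F p] at h1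
    have := Nat.le_of_dvd (by norm_num) h1
    omega
  -- the order of ζ
  have hq9 : 9 ≤ Fintype.card F := by
    rw [he]
    calc 9 = 3 ^ 2 := by norm_num
      _ ≤ p ^ 2 := Nat.pow_le_pow_left hp3 2
      _ ≤ p ^ e := Nat.pow_le_pow_right hp.pos he2
  have hord : orderOf ζ = Fintype.card F - 1 := by
    rw [orderOf_eq_card_of_forall_mem_zpowers hζ, Nat.card_eq_fintype_card, Fintype.card_units]
  have hz0 : (ζ : F) ≠ 0 := ζ.ne_zero
  have hno : ∀ N : ℕ, 0 < N → N < Fintype.card F - 1 → (ζ : F) ^ N ≠ 1 := by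
    intro N hN0 hN h
    have h1 : ζ ^ N = 1 := by
      apply Units.ext
      rw [Units.val_pow_eq_pow_val, h, Units.val_one]
    have h2 := orderOf_dvd_of_pow_eq_one h1
    rw [hord] at h2
    have := Nat.le_of_dvd hN0 h2
    omega
  obtain ⟨z, hz⟩ : ∃ z : F, z = (ζ : F) := ⟨_, rfl⟩
  rw [← hz] at hz0 hno ⊢
  -- a and b
  obtain ⟨a, ha⟩ : ∃ a : F, a = (z - z⁻¹) / 2 := ⟨_, rfl⟩
  obtain ⟨b, hb⟩ : ∃ b : F, b = (z + z⁻¹) / 2 := ⟨_, rfl⟩
  have hab : b ^ 2 = 1 + a ^ 2 := by
    rw [ha, hb]; field_simp; ring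
  have ha0 : a ≠ 0 := by
    intro h
    rw [ha] at h
    have h1 : z - z⁻¹ = 0 := by
      rcases div_eq_zero_iff.mp h with h' | h'
      · exact h'
      · exact absurd h' h2F
    have h3 : z ^ 2 = 1 := by
      have h4 : z = z⁻¹ := sub_eq_zero.mp h1
      calc z ^ 2 = z * z := by ring
        _ = z * z⁻¹ := by rw [← h4]
        _ = 1 := mul_inv_cancel₀ hz0
    exact hno 2 (by norm_num) (by omega) h3
  have hb0 : b ≠ 0 := by
    intro h
    rw [hb] at h
    have h1 : z + z⁻¹ = 0 := by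
      rcases div_eq_zero_iff.mp h with h' | h'
      · exact h'
      · exact absurd h' h2F
    have h3 : z ^ 2 = -1 := by
      have h4 : z⁻¹ = -z := by linear_combination h1
      have h5 : z * z⁻¹ = 1 := mul_inv_cancel₀ hz0
      rw [h4] at h5
      linear_combination -h5
    have h6 : z ^ 4 = 1 := by
      calc z ^ 4 = (z ^ 2) ^ 2 := by ring
        _ = 1 := by rw [h3]; ring
    exact hno 4 (by norm_num) (by omega) h6
  -- a and b are powers of ζ
  have hpowers : ∀ c : F, c ≠ 0 → ∃ k : ℕ, z ^ k = c := by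
    intro c hc
    have h1 : Units.mk0 c hc ∈ Subgroup.zpowers ζ := hζ _
    rw [← mem_powers_iff_mem_zpowers] at h1
    obtain ⟨k, hk⟩ := h1
    refine ⟨k, ?_⟩
    have h2 := congrArg (fun u : Fˣ => (u : F)) hk
    simp only [Units.val_pow_eq_pow_val, Units.val_mk0] at h2
    rw [hz]; exact h2
  obtain ⟨i, hi⟩ := hpowers a ha0
  obtain ⟨j, hj⟩ := hpowers b hb0
  have hi2 : (z ^ 2) ^ i = a ^ 2 := by rw [← hi]; ring
  have hj2 : (z ^ 2) ^ j = b ^ 2 := by rw [← hj]; ring
  refine ⟨i, j, by rw [hi2, hj2, hab], ?_⟩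
  rw [hi2]
  apply hadj
  intro d hd0 hde hμ
  -- arithmetic on P = p ^ d
  obtain ⟨P, hP⟩ : ∃ P : ℕ, P = p ^ d := ⟨_, rfl⟩
  rw [← hP] at hμ
  have hP3 : 3 ≤ P := by
    rw [hP]
    calc 3 ≤ p := hp3
      _ = p ^ 1 := (pow_one p).symm
      _ ≤ p ^ d := Nat.pow_le_pow_right hp.pos hd0
  have hqP : p * P ≤ Fintype.card F := by
    rw [he, hP, ← pow_succ']
    exact Nat.pow_le_pow_right hp.pos hde
  have hq3P : 3 * P ≤ Fintype.card F := le_trans (Nat.mul_le_mul_right P hp3) hqP
  have hq2P : 2 * P + 4 ≤ Fintype.card F := by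
    rcases Nat.lt_or_ge p 5 with h5 | h5
    · have hp3' : p = 3 := by
        have h4 : p ≠ 4 := by
          intro h4; rw [h4] at hp; exact absurd hp (by norm_num)
        omega
      rcases Nat.lt_or_ge d 2 with hd1 | hd2
      · have hd1' : d = 1 := by omega
        have hP' : P = 3 := by rw [hP, hp3', hd1']; norm_num
        have he3 : 3 ≤ e := by
          by_contra hlt
          have he2' : e = 2 := by omega
          apply h9
          rw [he, hp3', he2']; norm_num
        have : 27 ≤ Fintype.card F := by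
          rw [he, hp3']
          calc 27 = 3 ^ 3 := by norm_num
            _ ≤ 3 ^ e := Nat.pow_le_pow_right (by norm_num) he3
        omega
      · have hP9 : 9 ≤ P := by
          rw [hP, hp3']
          calc 9 = 3 ^ 2 := by norm_num
            _ ≤ 3 ^ d := Nat.pow_le_pow_right (by norm_num) hd2
        omega
    · have : 5 * P ≤ Fintype.card F := le_trans (Nat.mul_le_mul_right P h5) hqP
      omega
  -- Frobenius
  have h2pow : (2 : F) ^ P = 2 := by
    rw [hP, ← one_add_one_eq_two, add_pow_char_pow, one_pow]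
  have haP : a ^ P = (z ^ P - (z ^ P)⁻¹) / 2 := by
    rw [ha, div_pow, h2pow, hP, sub_pow_char_pow, inv_pow]
  obtain ⟨w, hw⟩ : ∃ w : F, w = z ^ P := ⟨_, rfl⟩
  rw [← hw] at haP
  have hw0 : w ≠ 0 := by rw [hw]; exact pow_ne_zero _ hz0
  have hsq : (a ^ P) ^ 2 = a ^ 2 := by
    rw [← hμ]; ring
  rcases sq_eq_sq_iff_eq_or_eq_neg.mp hsq with h | h
  · -- w - w⁻¹ = z - z⁻¹
    rw [haP, ha] at h
    have h1 : (w - z) * (w * z + 1) = 0 := by
      have h3 : w - w⁻¹ = z - z⁻¹ := by
        have := congrArg (fun t => t * 2) h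
        simpa [div_mul_cancel₀ _ h2F] using this
      have hwi : w * w⁻¹ = 1 := mul_inv_cancel₀ hw0
      have hzi : z * z⁻¹ = 1 := mul_inv_cancel₀ hz0
      linear_combination (w * z) * h3 + z * hwi - w * hzi
    rcases mul_eq_zero.mp h1 with h4 | h4
    · -- w = z : z^(P-1) = 1
      have h5 : z ^ (P - 1) = 1 := by
        have h6 : z ^ (P - 1) * z = z := by
          rw [← pow_succ, Nat.sub_add_cancel (by omega), ← hw]; exact sub_eq_zero.mp h4
        have h7 : z ^ (P - 1) * z = 1 * z := by rw [h6, one_mul]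
        exact mul_right_cancel₀ hz0 h7
      exact hno (P - 1) (by omega) (by omega) h5
    · -- w z = -1 : z^(2(P+1)) = 1
      have h5 : z ^ (2 * (P + 1)) = 1 := by
        have h6 : z ^ (P + 1) = -1 := by
          rw [pow_succ, ← hw]; linear_combination h4
        rw [mul_comm, pow_mul, h6]; ring
      exact hno (2 * (P + 1)) (by omega) (by omega) h5
  · -- w - w⁻¹ = -(z - z⁻¹)
    rw [haP, ha] at h
    have h1 : (w + z) * (w * z - 1) = 0 := by
      have h3 : w - w⁻¹ = -(z - z⁻¹) := by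
        have := congrArg (fun t => t * 2) h
        simpa [div_mul_cancel₀ _ h2F, neg_div] using this
      have hwi : w * w⁻¹ = 1 := mul_inv_cancel₀ hw0
      have hzi : z * z⁻¹ = 1 := mul_inv_cancel₀ hz0
      linear_combination (w * z) * h3 + z * hwi + w * hzi
    rcases mul_eq_zero.mp h1 with h4 | h4
    · -- w = -z : z^(2(P-1)) = 1
      have h5 : z ^ (P - 1) = -1 := by
        have h6 : z ^ (P - 1) * z = (-1) * z := by
          rw [← pow_succ, Nat.sub_add_cancel (by omega), ← hw]; linear_combination h4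
        exact mul_right_cancel₀ hz0 h6
      have h7 : z ^ (2 * (P - 1)) = 1 := by
        rw [mul_comm, pow_mul, h5]; ring
      exact hno (2 * (P - 1)) (by omega) (by omega) h7
    · -- w z = 1 : z^(P+1) = 1
      have h5 : z ^ (P + 1) = 1 := by
        rw [pow_succ, ← hw]; linear_combination h4
      exact hno (P + 1) (by omega) (by omega) h5

end Cfsg.Agent.Lib.helper6.Pres
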