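import Mathlib
import Cfsg.Agent.Lib.helper44.PresDefs
import Cfsg.Agent.Lib.helper56.PresADJ
import Cfsg.Agent.Lib.helper6.PresPARBcore

/-!
# S2286 piece PARB
-/

set_option autoImplicit false

namespace Cfsg.Agent.Lib.helper44.Pres

open Polynomial

-- PARB
theorem exists_pair {F : Type*} [Field F] [Fintype F] {p : ℕ} [Fact p.Prime]
    [Algebra (ZMod p) F] (hp2 : p ≠ 2) (e : ℕ) (he : Fintype.card F = p ^ e) (he2 : 2 ≤ e)
    (h9 : Fintype.card F ≠ 9) (ζ : Fˣ) (hζ : ∀ y : Fˣ, y ∈ Subgroup.zpowers ζ) :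
    ∃ i j : ℕ, ((ζ : F) ^ 2) ^ j = 1 + ((ζ : F) ^ 2) ^ i ∧
      Algebra.adjoin (ZMod p) {((ζ : F) ^ 2) ^ i} = ⊤ :=
  Cfsg.Agent.Lib.helper6.Pres.helper6_exists_pair_core hp2 e he he2 h9 ζ hζ
    (fun μ h => adjoin_eq_top_of_frob μ e he h)

end Cfsg.Agent.Lib.helper44.Pres
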