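import Mathlib
import Cfsg.Prelude.Def_Transfer
import Cfsg.Agent.Lib.helper74.QODefs

set_option autoImplicit false

/-!
# S1935, piece TR: transport from subgroups of `Ω` to `End (Additive V)`.
-/

open Cfsg.Agent.Lib.helper74.QO
open scoped commutatorElement

namespace Cfsg.Agent.Lib.helper6.QO

universe u

section PartI

variable {M : Type u} [CommGroup M]

/-- `MulAut M → End (Additive M)`. -/
def endHomTR (M : Type u) [CommGroup M] : MulAut M →* AddMonoid.End (Additive M) where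
  toFun f := MonoidHom.toAdditive f.toMonoidHom
  map_one' := AddMonoidHom.ext fun _ => rfl
  map_mul' _ _ := AddMonoidHom.ext fun _ => rfl

/-- The induced representation on `Additive M`. -/
def rhoTR {Γ : Type u} [Group Γ] (φ : Γ →* MulAut M) : Γ →* (AddMonoid.End (Additive M))ˣ :=
  ((endHomTR M).comp φ).toHomUnits

theorem rhoTR_apply {Γ : Type u} [Group Γ] (φ : Γ →* MulAut M) (g : Γ) (m : M) :
    ((rhoTR φ g : (AddMonoid.End (Additive M))ˣ) : AddMonoid.End (Additive M))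
      (Additive.ofMul m) = Additive.ofMul (φ g m) := rfl

theorem rhoTR_injective {Γ : Type u} [Group Γ] (φ : Γ →* MulAut M)
    (hφ : Function.Injective φ) : Function.Injective (rhoTR φ) := by
  intro g h hgh
  apply hφ
  ext m
  have h1 := rhoTR_apply φ g m
  rw [hgh, rhoTR_apply] at h1
  exact (Additive.ofMul.injective h1).symm

theorem fix_card_TR {Γ : Type u} [Group Γ] (φ : Γ →* MulAut M) (B : Subgroup Γ) :
    Nat.card (Cfsg.Agent.Lib.helper74.QO.Fix (B.map (rhoTR φ))) = Nat.card {m : M // ∀ a ∈ B, φ a m = m} := by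
  refine Nat.card_congr (Equiv.subtypeEquiv Additive.ofMul ?_).symm
  intro m
  constructor
  · intro h a' ha'
    obtain ⟨a, ha, rfl⟩ := ha'
    show Additive.ofMul (φ a m) = Additive.ofMul m
    rw [h a ha]
  · intro h a ha
    have h1 := h (rhoTR φ a) (Subgroup.mem_map_of_mem _ ha)
    exact Additive.ofMul.injective h1

theorem quad_pow_TR {R : Type*} [Ring R] (x : R) (hx : (x - 1) * (x - 1) = 0) (k : ℕ) :
    x ^ k = 1 + k • (x - 1) := by
  induction k with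
  | zero => simp
  | succ k ih =>
    rw [pow_succ, ih]
    have e : (1 + k • (x - 1)) * x = 1 + (k + 1) • (x - 1) + k • ((x - 1) * (x - 1)) := by
      rw [add_smul, one_smul]
      have e2 : (1 + k • (x - 1)) * x = x + k • ((x - 1) * x) := by
        rw [add_mul, one_mul, smul_mul_assoc]
      rw [e2]
      have e3 : (x - 1) * x = (x - 1) * (x - 1) + (x - 1) := by noncomm_ring
      rw [e3, smul_add]
      abel
    rw [e, hx, smul_zero, add_zero]

theorem part1_TR [Finite M] {Γ : Type u} [Group Γ] (p : ℕ) [Fact p.Prime] (hp2 : p ≠ 2)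
    (hlin : ∀ {V : Type u} [AddCommGroup V] [Finite V] (p : ℕ) [Fact p.Prime]
      (_ : p ≠ 2) (_ : ∀ v : V, p • v = 0) (𝔾 : Subgroup (AddMonoid.End V)ˣ)
      (_ : IsPGroup p 𝔾) (E : Subgroup (AddMonoid.End V)ˣ) (_ : E ≤ 𝔾) (_ : E ≠ ⊥)
      (_ : ∀ a ∈ E, ∀ b ∈ E, a * b = b * a) (_ : ∀ a ∈ E, a ^ p = 1)
      (_ : Nat.card V ≤ Nat.card E * Nat.card (Cfsg.Agent.Lib.helper74.QO.Fix E)),
      ∃ A : Subgroup (AddMonoid.End V)ˣ, A ≤ 𝔾 ∧ A ≠ ⊥ ∧ Quad A ∧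
        Nat.card V ≤ Nat.card A * Nat.card (Cfsg.Agent.Lib.helper74.QO.Fix A) ∧
        ∀ g ∈ 𝔾, ∀ a ∈ A, g * a * g⁻¹ ∈ Subgroup.normalizer (A : Set (AddMonoid.End V)ˣ))
    (φ : Γ →* MulAut M) (hφ : Function.Injective φ) (hM : ∀ m : M, m ^ p = 1)
    (hΓ : IsPGroup p Γ) (E : Subgroup Γ) (hE1 : E ≠ ⊥)
    (hEc : ∀ a ∈ E, ∀ b ∈ E, a * b = b * a) (hEp : ∀ a ∈ E, a ^ p = 1)
    (hoff : Nat.card M ≤ Nat.card E * Nat.card {m : M // ∀ a ∈ E, φ a m = m}) :
    ∃ A : Subgroup Γ, A ≠ ⊥ ∧ (∀ a ∈ A, ∀ b ∈ A, a * b = b * a) ∧ (∀ a ∈ A, a ^ p = 1) ∧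
      Nat.card M ≤ Nat.card A * Nat.card {m : M // ∀ a ∈ A, φ a m = m} ∧
      (∀ a ∈ A, ∀ b ∈ A, ∀ m : M, φ b (φ a m / m) = φ a m / m) ∧
      ∀ g : Γ, ∀ a ∈ A, g * a * g⁻¹ ∈ Subgroup.normalizer (A : Set Γ) := by
  classical
  set ρ := rhoTR φ with hρdef
  have hρ : Function.Injective ρ := rhoTR_injective φ hφ
  have hV : ∀ v : Additive M, p • v = 0 := by
    intro v
    have h1 := hM (Additive.toMul v)
    have h2 : Additive.ofMul (Additive.toMul v ^ p) = Additive.ofMul 1 := by rw [h1]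
    exact h2
  have h𝔾 : IsPGroup p ρ.range := hΓ.of_surjective ρ.rangeRestrict ρ.rangeRestrict_surjective
  have hcardM : Nat.card (Additive M) = Nat.card M := Nat.card_congr Additive.toMul
  have hcardmap : ∀ B : Subgroup Γ, Nat.card (B.map ρ) = Nat.card B := fun B =>
    Nat.card_congr (Subgroup.equivMapOfInjective B ρ hρ).toEquiv.symm
  obtain ⟨A', hA'𝔾, hA'1, hA'q, hA'off, hA'n⟩ := hlin (V := Additive M) p hp2 hV ρ.range h𝔾
    (E.map ρ) (Subgroup.map_le_range ρ E)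
    ((Subgroup.map_eq_bot_iff_of_injective E hρ).not.mpr hE1)
    (by
      rintro _ ⟨a, ha, rfl⟩ _ ⟨b, hb, rfl⟩
      rw [← map_mul, hEc a ha b hb, map_mul])
    (by
      rintro _ ⟨a, ha, rfl⟩
      rw [← map_pow, hEp a ha, map_one])
    (by
      rw [hcardM, hcardmap, fix_card_TR]
      exact hoff)
  have hmap : (A'.comap ρ).map ρ = A' := Subgroup.map_comap_eq_self hA'𝔾
  refine ⟨A'.comap ρ, ?_, ?_, ?_, ?_, ?_, ?_⟩
  · intro h
    apply hA'1
    rw [← hmap, h, Subgroup.map_bot]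
  · intro a ha b hb
    apply hρ
    apply Units.ext
    have h1 := hA'q _ ha _ hb
    have h2 := hA'q _ hb _ ha
    rw [map_mul, map_mul, Units.val_mul, Units.val_mul]
    have e1 : ∀ x y : AddMonoid.End (Additive M), x * y = (x - 1) * (y - 1) + x + y - 1 := by
      intro x y
      simp only [mul_sub, sub_mul, one_mul, mul_one]
      abel
    have e2 : ∀ x y : AddMonoid.End (Additive M), x * y = (y - 1) * (x - 1) + x + y - 1 →
        y * x = x * y := by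
      intro x y h
      rw [h, e1 y x]
      abel
    apply (e2 _ _ _).symm
    rw [h2, zero_add]
    have e3 := e1 (ρ a : AddMonoid.End (Additive M)) (ρ b : AddMonoid.End (Additive M))
    rw [h1, zero_add] at e3
    exact e3
  · intro a ha
    apply hρ
    apply Units.ext
    rw [map_pow, map_one, Units.val_pow_eq_pow_val, Units.val_one,
      quad_pow_TR _ (hA'q _ ha _ ha) p]
    have hp0 : ((p : ℕ) : AddMonoid.End (Additive M)) = 0 :=
      AddMonoidHom.ext fun v => (AddMonoid.End.natCast_apply p v).trans (hV v)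
    have h0 : p • ((ρ a : AddMonoid.End (Additive M)) - 1) = 0 := by
      rw [nsmul_eq_mul, hp0, zero_mul]
    rw [h0, add_zero]
  · have h1 : Nat.card ↥(A'.comap ρ) = Nat.card ↥A' := by
      rw [← hcardmap (A'.comap ρ), hmap]
    have h2 : Nat.card {m : M // ∀ a ∈ A'.comap ρ, φ a m = m}
        = Nat.card (Cfsg.Agent.Lib.helper74.QO.Fix A') := by
      rw [← fix_card_TR, hmap]
    rw [h1, h2, ← hcardM]
    exact hA'off
  · intro a ha b hb m
    have h1 := hA'q _ hb _ ha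
    have h2 : (((ρ b : AddMonoid.End (Additive M)) - 1) * ((ρ a : AddMonoid.End (Additive M)) - 1))
        (Additive.ofMul m) = 0 := by rw [h1]; rfl
    have h3 : (ρ b : AddMonoid.End (Additive M))
          ((ρ a : AddMonoid.End (Additive M)) (Additive.ofMul m) - Additive.ofMul m)
        - ((ρ a : AddMonoid.End (Additive M)) (Additive.ofMul m) - Additive.ofMul m) = 0 := h2
    have h4 := sub_eq_zero.mp h3
    exact Additive.ofMul.injective h4
  · intro g a ha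
    have h1 := hA'n (ρ g) ⟨g, rfl⟩ (ρ a) ha
    rw [Subgroup.mem_normalizer_iff] at h1 ⊢
    intro h
    have h2 := h1 (ρ h)
    simp only [Subgroup.mem_comap, map_mul, map_inv]
    exact h2

end PartI

section PartII

variable {Ω : Type u} [Group Ω]

/-- conjugation action of `G ≤ N(V)` on `V` -/
def conjTR (V G : Subgroup Ω) (hGV : G ≤ Subgroup.normalizer (V : Set Ω)) :
    ↥G →* MulAut ↥V where
  toFun g :=
    { toFun := fun v => ⟨(g : Ω) * v * (g : Ω)⁻¹,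
        (Subgroup.mem_normalizer_iff.mp (hGV g.2) v).mp v.2⟩
      invFun := fun v => ⟨(g : Ω)⁻¹ * v * (g : Ω),
        (Subgroup.mem_normalizer_iff''.mp (hGV g.2) v).mp v.2⟩
      left_inv := fun v => Subtype.ext (by simp [mul_assoc])
      right_inv := fun v => Subtype.ext (by simp [mul_assoc])
      map_mul' := fun v w => Subtype.ext (by simp [mul_assoc]) }
  map_one' := by ext v; simp
  map_mul' g h := by ext v; simp [mul_assoc]

theorem conjTR_apply (V G : Subgroup Ω) (hGV : G ≤ Subgroup.normalizer (V : Set Ω))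
    (g : ↥G) (v : ↥V) :
    ((conjTR V G hGV g v : ↥V) : Ω) = (g : Ω) * v * (g : Ω)⁻¹ := rfl

theorem fixcard_TR2 (V G : Subgroup Ω) (hGV : G ≤ Subgroup.normalizer (V : Set Ω))
    (B : Subgroup ↥G) :
    Nat.card {m : ↥V // ∀ a ∈ B, conjTR V G hGV a m = m}
      = Nat.card ↥(V ⊓ Subgroup.centralizer ((B.map G.subtype : Subgroup Ω) : Set Ω)) := by
  refine Nat.card_congr
    { toFun := fun m => ⟨(m.1 : Ω), ⟨m.1.2, ?_⟩⟩
      invFun := fun x => ⟨⟨x.1, x.2.1⟩, ?_⟩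
      left_inv := fun m => rfl
      right_inv := fun x => rfl }
  · refine Subgroup.mem_centralizer_iff.mpr ?_
    rintro _ ⟨a, ha, rfl⟩
    have h := congrArg (fun z : ↥V => (z : Ω)) (m.2 a ha)
    have h' : (a : Ω) * (m.1 : Ω) * (a : Ω)⁻¹ = (m.1 : Ω) := h
    show (a : Ω) * (m.1 : Ω) = (m.1 : Ω) * (a : Ω)
    exact mul_inv_eq_iff_eq_mul.mp h'
  · intro a ha
    apply Subtype.ext
    rw [conjTR_apply]
    have h := (Subgroup.mem_centralizer_iff.mp x.2.2) (a : Ω) ⟨a, ha, rfl⟩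
    show (a : Ω) * (x : Ω) * (a : Ω)⁻¹ = (x : Ω)
    rw [h, mul_inv_cancel_right]

theorem comm_inv_TR {b x : Ω} (h : b * x * b⁻¹ = x) : b * x⁻¹ = x⁻¹ * b := by
  have h2 : b * x = x * b := mul_inv_eq_iff_eq_mul.mp h
  calc b * x⁻¹ = x⁻¹ * (x * b) * x⁻¹ := by group
    _ = x⁻¹ * (b * x) * x⁻¹ := by rw [h2]
    _ = x⁻¹ * b := by group

/-- S1935 from the linear statement `lin`. -/
theorem s1935_of_lin
    (hlin : ∀ {V : Type u} [AddCommGroup V] [Finite V] (p : ℕ) [Fact p.Prime]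
      (_ : p ≠ 2) (_ : ∀ v : V, p • v = 0) (𝔾 : Subgroup (AddMonoid.End V)ˣ)
      (_ : IsPGroup p 𝔾) (E : Subgroup (AddMonoid.End V)ˣ) (_ : E ≤ 𝔾) (_ : E ≠ ⊥)
      (_ : ∀ a ∈ E, ∀ b ∈ E, a * b = b * a) (_ : ∀ a ∈ E, a ^ p = 1)
      (_ : Nat.card V ≤ Nat.card E * Nat.card (Cfsg.Agent.Lib.helper74.QO.Fix E)),
      ∃ A : Subgroup (AddMonoid.End V)ˣ, A ≤ 𝔾 ∧ A ≠ ⊥ ∧ Quad A ∧
        Nat.card V ≤ Nat.card A * Nat.card (Cfsg.Agent.Lib.helper74.QO.Fix A) ∧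
        ∀ g ∈ 𝔾, ∀ a ∈ A, g * a * g⁻¹ ∈ Subgroup.normalizer (A : Set (AddMonoid.End V)ˣ))
    {Ω : Type u} [Group Ω] [Finite Ω] (p : ℕ) [Fact p.Prime] (hp : 5 ≤ p) (V G : Subgroup Ω) (hV : Cfsg.IsElementaryAbelian p V) (hG : IsPGroup p ↥G) (hGV : G ≤ Subgroup.normalizer (V : Set Ω)) (hfaith : G ⊓ Subgroup.centralizer (V : Set Ω) = ⊥) (hF : ∃ E : Subgroup Ω, E ≤ G ∧ E ≠ ⊥ ∧ Cfsg.IsElementaryAbelian p E ∧ Nat.card ↥V ≤ Nat.card ↥E * Nat.card ↥(V ⊓ Subgroup.centralizer (E : Set Ω))) : ∃ A : Subgroup Ω, A ≤ G ∧ A ≠ ⊥ ∧ Cfsg.IsElementaryAbelian p A ∧ Nat.card ↥V ≤ Nat.card ↥A * Nat.card ↥(V ⊓ Subgroup.centralizer (A : Set Ω)) ∧ ⁅⁅V, A⁆, A⁆ = ⊥ ∧ ∀ g ∈ Subgroup.closure {x : Ω | ∃ h ∈ G, ∃ a ∈ A, x = h * a * h⁻¹}, ∀ a ∈ A, g * a * g⁻¹ ∈ A := by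
  classical
  obtain ⟨E, hEG, hE1, hEea, hEoff⟩ := hF
  have hM : ∀ m : ↥V, m ^ p = 1 := fun m => Subtype.ext (hV.2 m.1 m.2)
  have hp2 : p ≠ 2 := by omega
  have hEmap : (E.subgroupOf G).map G.subtype = E := by
    rw [Subgroup.subgroupOf_map_subtype, inf_eq_left.mpr hEG]
  have hφ : Function.Injective (conjTR V G hGV) := by
    rw [injective_iff_map_eq_one]
    intro g hg
    have hmem : (g : Ω) ∈ G ⊓ Subgroup.centralizer (V : Set Ω) := by
      refine ⟨g.2, Subgroup.mem_centralizer_iff.mpr ?_⟩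
      intro v hv
      have h := congrArg (fun f : MulAut ↥V => ((f ⟨v, hv⟩ : ↥V) : Ω)) hg
      have h' : (g : Ω) * v * (g : Ω)⁻¹ = v := h
      exact (mul_inv_eq_iff_eq_mul.mp h').symm
    rw [hfaith, Subgroup.mem_bot] at hmem
    exact Subtype.ext hmem
  have hE01 : E.subgroupOf G ≠ ⊥ := by
    intro h
    apply hE1
    rw [← hEmap, h, Subgroup.map_bot]
  have hE0c : ∀ a ∈ E.subgroupOf G, ∀ b ∈ E.subgroupOf G, a * b = b * a := by
    intro a ha b hb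
    have h := hEea.1.is_comm.comm ⟨(a : Ω), ha⟩ ⟨(b : Ω), hb⟩
    exact Subtype.ext (congrArg (fun z : ↥E => (z : Ω)) h)
  have hE0p : ∀ a ∈ E.subgroupOf G, a ^ p = 1 := by
    intro a ha
    exact Subtype.ext (hEea.2 (a : Ω) ha)
  have hE0off : Nat.card ↥V ≤ Nat.card ↥(E.subgroupOf G)
      * Nat.card {m : ↥V // ∀ a ∈ E.subgroupOf G, conjTR V G hGV a m = m} := by
    rw [fixcard_TR2, hEmap, Nat.card_congr (Subgroup.subgroupOfEquivOfLe hEG).toEquiv]
    exact hEoff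
  letI : CommGroup ↥V :=
    { (inferInstance : Group ↥V) with mul_comm := fun a b => hV.1.is_comm.comm a b }
  obtain ⟨A₀, hA1, hAc, hAp, hAoff, hAq, hAn⟩ :=
    part1_TR (M := ↥V) (Γ := ↥G) p hp2 hlin (conjTR V G hGV) hφ hM hG (E.subgroupOf G)
      hE01 hE0c hE0p hE0off
  refine ⟨A₀.map G.subtype, Subgroup.map_subtype_le A₀, ?_, ⟨?_, ?_⟩, ?_, ?_, ?_⟩
  · exact (Subgroup.map_eq_bot_iff_of_injective A₀ G.subtype_injective).not.mpr hA1
  · refine ⟨⟨?_⟩⟩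
    rintro ⟨_, a, ha, rfl⟩ ⟨_, b, hb, rfl⟩
    apply Subtype.ext
    have h := hAc a ha b hb
    exact congrArg (fun z : ↥G => (z : Ω)) h
  · rintro _ ⟨a, ha, rfl⟩
    have h := hAp a ha
    exact congrArg (fun z : ↥G => (z : Ω)) h
  · rw [← fixcard_TR2 V G hGV A₀,
      Nat.card_congr (Subgroup.equivMapOfInjective A₀ G.subtype G.subtype_injective).toEquiv.symm]
    exact hAoff
  · rw [Subgroup.commutator_eq_bot_iff_le_centralizer, Subgroup.commutator_le]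
    rintro v hv _ ⟨a, ha, rfl⟩
    rw [Subgroup.mem_centralizer_iff]
    rintro _ ⟨b, hb, rfl⟩
    have h := hAq a ha b hb ⟨v, hv⟩
    have h' : (b : Ω) * ((a : Ω) * v * (a : Ω)⁻¹ / v) * (b : Ω)⁻¹
        = (a : Ω) * v * (a : Ω)⁻¹ / v := congrArg (fun z : ↥V => (z : Ω)) h
    rw [div_eq_mul_inv] at h'
    show (b : Ω) * ⁅v, (a : Ω)⁆ = ⁅v, (a : Ω)⁆ * (b : Ω)
    rw [← commutatorElement_inv (a : Ω) v, commutatorElement_def]
    exact comm_inv_TR h'
  · intro g hg a ha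
    have hcl : Subgroup.closure {x : Ω | ∃ h ∈ G, ∃ a ∈ A₀.map G.subtype, x = h * a * h⁻¹}
        ≤ (Subgroup.normalizer (A₀ : Set ↥G)).map G.subtype := by
      rw [Subgroup.closure_le]
      rintro x ⟨h, hh, _, ⟨a, ha, rfl⟩, rfl⟩
      exact ⟨⟨h, hh⟩ * a * ⟨h, hh⟩⁻¹, hAn ⟨h, hh⟩ a ha, rfl⟩
    obtain ⟨g₀, hg₀, rfl⟩ := hcl hg
    obtain ⟨a₀, ha₀, rfl⟩ := ha
    exact ⟨g₀ * a₀ * g₀⁻¹, (Subgroup.mem_normalizer_iff.mp hg₀ a₀).mp ha₀, rfl⟩

end PartII

end Cfsg.Agent.Lib.helper6.QO
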