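import Mathlib
import Cfsg.Agent.Lib.helper45.RUDefs

/-!
# S2279 piece A1 (racing copy): `three_comm`
-/

set_option autoImplicit false

namespace Cfsg.Agent.Lib.helper45.RU

open Matrix Cfsg.Agent.Lib.helper44

variable {n : ℕ} {F : Type*} [Field F] {S : Set (Matrix (Fin n) (Fin n) F)}

/-- A1 -/
theorem h6_three_comm (hS : MatGrp S) (a₁ a₂ a₃ φ₁ φ₂ φ₃ : Fin n → F) (ε ν c : F) (hε : ε * ε = 1)
    (h11 : φ₁ ⬝ᵥ a₁ = 0) (h12 : φ₁ ⬝ᵥ a₂ = 0) (h13 : φ₁ ⬝ᵥ a₃ = 0)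
    (h21 : φ₂ ⬝ᵥ a₁ = ε) (h22 : φ₂ ⬝ᵥ a₂ = 0) (h23 : φ₂ ⬝ᵥ a₃ = 0)
    (h31 : φ₃ ⬝ᵥ a₁ = ν) (h32 : φ₃ ⬝ᵥ a₂ = ε) (h33 : φ₃ ⬝ᵥ a₃ = 0)
    (hD1 : 1 + vecMulVec a₁ (c • φ₁) - vecMulVec a₂ (c • φ₂) ∈ S)
    (hD2 : 1 + vecMulVec a₂ (c • φ₂) - vecMulVec a₃ (c • φ₃) ∈ S) :
    1 + vecMulVec a₃ ((-(c ^ 3)) • φ₁) ∈ S := by
  classical
  have hε2 : ε ^ 2 = 1 := by rw [pow_two]; exact hε
  obtain ⟨A, hA⟩ : ∃ A : Matrix (Fin n) (Fin 3) F, A = Matrix.of fun i j => ![a₁, a₂, a₃] j i :=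
    ⟨_, rfl⟩
  obtain ⟨Φ, hΦ⟩ : ∃ Φ : Matrix (Fin 3) (Fin n) F, Φ = Matrix.of fun k j => ![φ₁, φ₂, φ₃] k j :=
    ⟨_, rfl⟩
  have hP : Φ * A = !![0, 0, 0; ε, 0, 0; ν, ε, 0] := by
    ext k l
    have hkl : (Φ * A) k l = ![φ₁, φ₂, φ₃] k ⬝ᵥ ![a₁, a₂, a₃] l := by
      rw [hA, hΦ]
      rfl
    rw [hkl]
    fin_cases k <;> fin_cases l <;> simp [h11, h12, h13, h21, h22, h23, h31, h32, h33]
  have hmul : ∀ M N : Matrix (Fin 3) (Fin 3) F,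
      (1 + A * M * Φ) * (1 + A * N * Φ) = 1 + A * (M + N + M * (Φ * A) * N) * Φ := by
    intro M N
    simp only [Matrix.mul_add, Matrix.add_mul, Matrix.mul_one, Matrix.one_mul, Matrix.mul_assoc]
    abel
  have hD1' : 1 + vecMulVec a₁ (c • φ₁) - vecMulVec a₂ (c • φ₂)
      = 1 + A * !![c, 0, 0; 0, -c, 0; 0, 0, 0] * Φ := by
    ext i j
    simp [hA, hΦ, Matrix.mul_apply, Fin.sum_univ_three, vecMulVec_apply]
    ring
  have hD2' : 1 + vecMulVec a₂ (c • φ₂) - vecMulVec a₃ (c • φ₃)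
      = 1 + A * !![0, 0, 0; 0, c, 0; 0, 0, -c] * Φ := by
    ext i j
    simp [hA, hΦ, Matrix.mul_apply, Fin.sum_univ_three, vecMulVec_apply]
    ring
  have hT' : 1 + vecMulVec a₃ ((-(c ^ 3)) • φ₁)
      = 1 + A * !![0, 0, 0; 0, 0, 0; -(c ^ 3), 0, 0] * Φ := by
    ext i j
    simp [hA, hΦ, Matrix.mul_apply, Fin.sum_univ_three, vecMulVec_apply]
    ring
  rw [hD1'] at hD1
  rw [hD2'] at hD2
  rw [hT']
  -- first commutator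
  have hC : 1 + A * !![0, 0, 0; -(c ^ 2 * ε), 0, 0; c ^ 2 * ν + c ^ 3, -(c ^ 2 * ε), 0] * Φ ∈ S := by
    apply MatGrp_comm_mem hS hD1 hD2
    rw [hmul, hmul, hmul, hP]
    refine congrArg (fun M : Matrix (Fin 3) (Fin 3) F => (1 : Matrix (Fin n) (Fin n) F) + A * M * Φ) ?_
    ext i j
    fin_cases i <;> fin_cases j <;>
      simp [Matrix.mul_apply, Fin.sum_univ_three] <;>
      first
        | done
        | ring1
        | linear_combination (c ^ 3) * hε2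
        | linear_combination (-(c ^ 3)) * hε2
  apply MatGrp_comm_mem hS hC hD1
  rw [hmul, hmul, hmul, hP]
  refine congrArg (fun M : Matrix (Fin 3) (Fin 3) F => (1 : Matrix (Fin n) (Fin n) F) + A * M * Φ) ?_
  ext i j
  fin_cases i <;> fin_cases j <;>
    simp [Matrix.mul_apply, Fin.sum_univ_three] <;>
    first
      | done
      | ring1
      | linear_combination (c ^ 3) * hε2
      | linear_combination (-(c ^ 3)) * hε2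

end Cfsg.Agent.Lib.helper45.RU
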