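import Mathlib

/-!
# S3313: facts about subgroups isomorphic to `A₅` (helper6; AF2: the 195 pairs)
-/

set_option autoImplicit false

namespace Cfsg.Agent.Lib.helper6.S3313AF

open Subgroup

set_option maxRecDepth 100000 in
theorem af_card : Fintype.card (alternatingGroup (Fin 5)) = 60 := by decide +kernel

set_option maxRecDepth 100000 in
theorem af_inv : (Finset.univ.filter
    (fun a : alternatingGroup (Fin 5) => a ≠ 1 ∧ a * a = 1)).card = 15 := by decide +kernel

set_option maxRecDepth 100000 in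
theorem af_cent : ∀ a : alternatingGroup (Fin 5), a ≠ 1 → a * a = 1 →
    (Finset.univ.filter (fun c : alternatingGroup (Fin 5) => c * a = a * c)).card = 4 ∧
    ∀ c : alternatingGroup (Fin 5), c * a = a * c → c * c = 1 := by decide +kernel

set_option maxRecDepth 100000 in
theorem af_pairs : (Finset.univ.filter
    (fun p : alternatingGroup (Fin 5) × alternatingGroup (Fin 5) =>
      p.1 ≠ 1 ∧ p.1 * p.1 = 1 ∧ p.2 * p.2 = 1 ∧
        (p.1 * p.2 = 1 ∨ (p.1 * p.2) * (p.1 * p.2) ≠ 1))).card = 195 := by decide +kernel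

set_option maxRecDepth 100000 in
theorem af_orders : ∀ a : alternatingGroup (Fin 5),
    a * a = 1 ∨ a * a * a = 1 ∨ a * a * a * a * a = 1 := by decide +kernel

set_option maxRecDepth 100000 in
theorem af_five : ∃ a : alternatingGroup (Fin 5), a ≠ 1 ∧ a * a * a * a * a = 1 := by
  decide +kernel

theorem orderOf_two_iff {H : Type*} [Group H] (a : H) : orderOf a = 2 ↔ a ≠ 1 ∧ a * a = 1 := by
  haveI : Fact (Nat.Prime 2) := ⟨Nat.prime_two⟩
  rw [orderOf_eq_prime_iff, pow_two]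
  exact and_comm

theorem odd_orderOf_iff (a : alternatingGroup (Fin 5)) :
    Odd (orderOf a) ↔ (a = 1 ∨ a * a ≠ 1) := by
  constructor
  · intro h
    by_cases h1 : a = 1
    · exact Or.inl h1
    · right
      intro h2
      have : orderOf a = 2 := (orderOf_two_iff a).2 ⟨h1, h2⟩
      rw [this] at h
      exact absurd h (by decide)
  · rintro (rfl | h)
    · rw [orderOf_one]; exact odd_one
    · rcases af_orders a with h2 | h3 | h5
      · exact absurd h2 h
      · have hd : orderOf a ∣ 3 := orderOf_dvd_of_pow_eq_one (by rw [pow_succ, pow_two]; exact h3)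
        rcases (Nat.dvd_prime Nat.prime_three).1 hd with h1 | h1 <;> rw [h1] <;> decide
      · have hd : orderOf a ∣ 5 := orderOf_dvd_of_pow_eq_one (by
          rw [pow_succ, pow_succ, pow_succ, pow_two]; exact h5)
        rcases (Nat.dvd_prime Nat.prime_five).1 hd with h1 | h1 <;> rw [h1] <;> decide

variable {G : Type*} [Group G] [Finite G]

theorem orderOf_transport (K : Subgroup G) (e : K ≃* alternatingGroup (Fin 5)) (k : K) :
    orderOf (k : G) = orderOf (e k) := by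
  rw [MulEquiv.orderOf_eq, Subgroup.orderOf_coe]

/-- AF2 -/
theorem a5_pairs (B : Subgroup G) (hB : Nonempty (B ≃* alternatingGroup (Fin 5))) :
    Nat.card {p : G × G // p.1 ∈ B ∧ orderOf p.1 = 2 ∧ p.2 ∈ B ∧ p.2 ^ 2 = 1 ∧
      Odd (orderOf (p.1 * p.2))} = 195 := by
  classical
  obtain ⟨e⟩ := hB
  have e1 : {p : G × G // p.1 ∈ B ∧ orderOf p.1 = 2 ∧ p.2 ∈ B ∧ p.2 ^ 2 = 1 ∧
      Odd (orderOf (p.1 * p.2))} ≃
      {p : B × B // orderOf (p.1 : G) = 2 ∧ (p.2 : G) ^ 2 = 1 ∧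
        Odd (orderOf ((p.1 : G) * (p.2 : G)))} :=
    { toFun := fun p => ⟨(⟨p.1.1, p.2.1⟩, ⟨p.1.2, p.2.2.2.1⟩),
        p.2.2.1, p.2.2.2.2.1, p.2.2.2.2.2⟩
      invFun := fun q => ⟨((q.1.1 : G), (q.1.2 : G)),
        q.1.1.2, q.2.1, q.1.2.2, q.2.2.1, q.2.2.2⟩
      left_inv := fun p => rfl
      right_inv := fun q => rfl }
  have e2 : {p : B × B // orderOf (p.1 : G) = 2 ∧ (p.2 : G) ^ 2 = 1 ∧
        Odd (orderOf ((p.1 : G) * (p.2 : G)))} ≃
      {p : alternatingGroup (Fin 5) × alternatingGroup (Fin 5) //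
        p.1 ≠ 1 ∧ p.1 * p.1 = 1 ∧ p.2 * p.2 = 1 ∧
          (p.1 * p.2 = 1 ∨ (p.1 * p.2) * (p.1 * p.2) ≠ 1)} :=
    Equiv.subtypeEquiv (e.toEquiv.prodCongr e.toEquiv) (fun p => by
      show _ ↔ (e p.1 ≠ 1 ∧ e p.1 * e p.1 = 1 ∧ e p.2 * e p.2 = 1 ∧
        (e p.1 * e p.2 = 1 ∨ (e p.1 * e p.2) * (e p.1 * e p.2) ≠ 1))
      rw [orderOf_transport B e p.1, orderOf_two_iff, ← odd_orderOf_iff, ← map_mul e p.1 p.2,
        ← orderOf_transport B e (p.1 * p.2), ← map_mul e p.2 p.2, ← map_one e,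
        e.injective.eq_iff, and_assoc]
      have : (p.2 : G) ^ 2 = 1 ↔ p.2 * p.2 = 1 := by
        rw [pow_two, Subtype.ext_iff]; rfl
      rw [this, map_one]
      rfl)
  rw [Nat.card_congr (e1.trans e2), Nat.card_eq_fintype_card, Fintype.card_subtype, af_pairs]

end Cfsg.Agent.Lib.helper6.S3313AF
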