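import Mathlib
import Cfsg.Prelude.Def_Local
import Cfsg.Prelude.Def_TwoFusion
import Cfsg.Agent.Lib.helper3.Extraspecial
import Cfsg.Agent.Lib.helper27.Radical
import Cfsg.Agent.Lib.helper6.S3313Defs

/-!
# S3313: from the raw hypotheses to the abstract setting (helper6)
-/

set_option autoImplicit false

namespace Cfsg.Agent.Lib.helper6.S3313

open Subgroup

/-- Elements of `K ⊔ Q` when `K` normalises `Q`. -/
theorem mem_sup_decomp {G : Type*} [Group G] (Q K : Subgroup G)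
    (hnorm : ∀ k ∈ K, ∀ q ∈ Q, k * q * k⁻¹ ∈ Q) (c : G) (hc : c ∈ K ⊔ Q) :
    ∃ q ∈ Q, ∃ k ∈ K, c = q * k := by
  let S : Subgroup G :=
    { carrier := {c | ∃ q ∈ Q, ∃ k ∈ K, c = q * k}
      mul_mem' := by
        rintro _ _ ⟨q, hq, k, hk, rfl⟩ ⟨q', hq', k', hk', rfl⟩
        refine ⟨q * (k * q' * k⁻¹), Q.mul_mem hq (hnorm k hk q' hq'), k * k', K.mul_mem hk hk', ?_⟩
        group
      one_mem' := ⟨1, Q.one_mem, 1, K.one_mem, by simp⟩
      inv_mem' := by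
        rintro _ ⟨q, hq, k, hk, rfl⟩
        refine ⟨k⁻¹ * q⁻¹ * k⁻¹⁻¹, hnorm k⁻¹ (K.inv_mem hk) q⁻¹ (Q.inv_mem hq), k⁻¹,
          K.inv_mem hk, ?_⟩
        group }
  have h1 : K ≤ S := fun k hk => ⟨1, Q.one_mem, k, hk, by simp⟩
  have h2 : Q ≤ S := fun q hq => ⟨q, hq, 1, K.one_mem, by simp⟩
  exact (sup_le h1 h2) hc

/-- The order of `K ⊔ Q` when `K` normalises `Q` and `K ∩ Q = 1`. -/
theorem card_sup_of_norm {G : Type*} [Group G] (Q K : Subgroup G)
    (hnorm : ∀ k ∈ K, ∀ q ∈ Q, k * q * k⁻¹ ∈ Q) (hinf : ∀ k ∈ K, k ∈ Q → k = 1) :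
    Nat.card (K ⊔ Q : Subgroup G) = Nat.card Q * Nat.card K := by
  rw [← Nat.card_prod]
  symm
  refine Nat.card_congr (Equiv.ofBijective
    (fun p : Q × K => (⟨(p.1 : G) * (p.2 : G),
      (K ⊔ Q).mul_mem ((le_sup_right : Q ≤ K ⊔ Q) p.1.2) ((le_sup_left : K ≤ K ⊔ Q) p.2.2)⟩ :
        (K ⊔ Q : Subgroup G))) ⟨?_, ?_⟩)
  · rintro ⟨⟨q, hq⟩, ⟨k, hk⟩⟩ ⟨⟨q', hq'⟩, ⟨k', hk'⟩⟩ h
    have h' : q * k = q' * k' := congrArg Subtype.val h
    have e : k * k'⁻¹ = q⁻¹ * q' := by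
      have : k = q⁻¹ * (q' * k') := by rw [← h']; group
      rw [this]; group
    have hkk : k * k'⁻¹ = 1 :=
      hinf _ (K.mul_mem hk (K.inv_mem hk')) (by rw [e]; exact Q.mul_mem (Q.inv_mem hq) hq')
    have hk_eq : k = k' := by
      have := mul_inv_eq_one.1 hkk
      exact this
    have hq_eq : q = q' := by
      rw [hkk] at e
      have : q⁻¹ * q' = 1 := e.symm
      exact (inv_mul_eq_one.1 this)
    subst hk_eq; subst hq_eq; rfl
  · rintro ⟨c, hc⟩
    obtain ⟨q, hq, k, hk, rfl⟩ := mem_sup_decomp Q K hnorm c hc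
    exact ⟨⟨⟨q, hq⟩, ⟨k, hk⟩⟩, rfl⟩

theorem mem_zpowers_two {E : Type*} [Group E] {w g : E} (hw : orderOf w = 2)
    (hg : g ∈ zpowers w) : g = 1 ∨ g = w := by
  obtain ⟨n, rfl⟩ := mem_zpowers_iff.1 hg
  have hw2 : w ^ (2 : ℤ) = 1 := by
    have := pow_orderOf_eq_one w
    rw [hw] at this
    exact_mod_cast this
  rcases Int.even_or_odd' n with ⟨m, rfl | rfl⟩
  · left; rw [zpow_mul, hw2, one_zpow]
  · right; rw [zpow_add, zpow_mul, hw2, one_zpow, one_mul, zpow_one]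

/-- Extraspecial facts for the `2`-core of a group `C` with a central involution, when `F*(C)` is
extraspecial. -/
theorem es_facts {C : Type*} [Group C] [Finite C] (zc : C) (hzc : orderOf zc = 2)
    (hcen : ∀ c : C, c * zc = zc * c)
    (hex : Cfsg.IsExtraspecial 2 ↥(Cfsg.generalizedFittingSubgroup C)) :
    zc ∈ Cfsg.pCore 2 C ∧
    (∀ q ∈ Cfsg.pCore 2 C, q ^ 2 = 1 ∨ q ^ 2 = zc) ∧
    (∀ q ∈ Cfsg.pCore 2 C, ∀ q' ∈ Cfsg.pCore 2 C, q * q' = q' * q ∨ q * q' = q' * q * zc) ∧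
    (∀ q ∈ Cfsg.pCore 2 C, (∀ q' ∈ Cfsg.pCore 2 C, q * q' = q' * q) → q = 1 ∨ q = zc) := by
  haveI : Fact (Nat.Prime 2) := ⟨Nat.prime_two⟩
  have hFP : Cfsg.generalizedFittingSubgroup C = Cfsg.pCore 2 C := by
    apply le_antisymm
    · exact Cfsg.Agent.Lib.helper27.normal_pGroup_le_pCore 2 _ hex.1.1
    · have h1 : Cfsg.pCore 2 C ≤ Cfsg.fittingSubgroup C := by
        apply le_sSup
        refine ⟨inferInstance, ?_⟩
        exact (Cfsg.Agent.Lib.helper27.pCore_isPGroup (G := C) 2).isNilpotent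
      exact h1.trans (by unfold Cfsg.generalizedFittingSubgroup; exact le_sup_right)
  have hex' : Cfsg.IsExtraspecial 2 ↥(Cfsg.pCore 2 C) := hFP ▸ hex
  obtain ⟨z₀, hz₀⟩ := Cfsg.Agent.Lib.helper3.exists_esdata hex'
  have hzmem : zc ∈ Cfsg.pCore 2 C := by
    haveI : (zpowers zc).Normal := by
      refine ⟨fun n hn g => ?_⟩
      obtain ⟨i, rfl⟩ := mem_zpowers_iff.1 hn
      have hc : Commute g (zc ^ i) := (show Commute g zc from hcen g).zpow_right i
      have : g * zc ^ i * g⁻¹ = zc ^ i := by rw [hc.eq]; group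
      rw [this]; exact zpow_mem_zpowers zc i
    have hp : IsPGroup 2 (zpowers zc) := by
      refine IsPGroup.of_card (n := 1) ?_
      rw [Nat.card_zpowers, hzc]; rfl
    exact (Cfsg.Agent.Lib.helper27.normal_pGroup_le_pCore 2 (zpowers zc) hp) (mem_zpowers zc)
  have hz1 : zc ≠ 1 := by
    intro h; rw [h, orderOf_one] at hzc; exact absurd hzc (by norm_num)
  have hz0 : (⟨zc, hzmem⟩ : Cfsg.pCore 2 C) = z₀ := by
    have h1 : (⟨zc, hzmem⟩ : Cfsg.pCore 2 C) ∈ zpowers z₀ :=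
      hz₀.center _ (fun h => Subtype.ext (by simpa using (hcen (h : C)).symm))
    rcases mem_zpowers_two hz₀.order h1 with h | h
    · exact absurd (congrArg Subtype.val h) hz1
    · exact h
  have key : ∀ g : Cfsg.pCore 2 C, g ∈ zpowers z₀ → (g : C) = 1 ∨ (g : C) = zc := by
    intro g hg
    rcases mem_zpowers_two hz₀.order hg with h | h
    · left; rw [h]; rfl
    · right; rw [h, ← hz0]
  refine ⟨hzmem, ?_, ?_, ?_⟩
  · intro q hq
    have := key _ (hz₀.pow_p_mem ⟨q, hq⟩)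
    simpa using this
  · intro q hq q' hq'
    have := key _ (hz₀.comm ⟨q, hq⟩ ⟨q', hq'⟩)
    rw [commutatorElement_def] at this
    rcases this with h | h
    · left
      have h' : q * q' * q⁻¹ * q'⁻¹ = 1 := by simpa using h
      have : q * q' = (q * q' * q⁻¹ * q'⁻¹) * (q' * q) := by group
      rw [this, h', one_mul]
    · right
      have h' : q * q' * q⁻¹ * q'⁻¹ = zc := by simpa using h
      have : q * q' = (q * q' * q⁻¹ * q'⁻¹) * (q' * q) := by group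
      rw [this, h', ← hcen (q' * q)]
  · intro q hq hcent
    exact key ⟨q, hq⟩ (hz₀.center _ (fun h => Subtype.ext (by simpa using hcent h h.2)))

/-- The raw facts about `Q := O₂(C(z))` as a subgroup of `G`. -/
theorem raw_facts {G : Type*} [Group G] [Finite G] (z : G) (hz : orderOf z = 2)
    (hex : Cfsg.IsExtraspecial 2
      ↥(Cfsg.generalizedFittingSubgroup ↥(centralizer ({z} : Set G))))
    (hQ : Nat.card ↥(Cfsg.pCore 2 ↥(centralizer ({z} : Set G))) = 32)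
    (Q : Subgroup G)
    (hQdef : Q = (Cfsg.pCore 2 ↥(centralizer ({z} : Set G))).map
      (centralizer ({z} : Set G)).subtype) :
    z ∈ Q ∧ Nat.card Q = 32 ∧ Q ≤ centralizer ({z} : Set G) ∧
    (∀ c ∈ centralizer ({z} : Set G), ∀ q ∈ Q, c * q * c⁻¹ ∈ Q) ∧
    (∀ q ∈ Q, q ^ 2 = 1 ∨ q ^ 2 = z) ∧
    (∀ q ∈ Q, ∀ q' ∈ Q, q * q' = q' * q ∨ q * q' = q' * q * z) ∧
    (∀ q ∈ Q, (∀ q' ∈ Q, q * q' = q' * q) → q = 1 ∨ q = z) := by
  subst hQdef
  set C := centralizer ({z} : Set G) with hC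
  have hzC : z ∈ C := by rw [hC, mem_centralizer_iff]; intro h hh; rw [Set.mem_singleton_iff.1 hh]
  have hord : orderOf (⟨z, hzC⟩ : C) = 2 := by
    rw [← hz]; exact (Subgroup.orderOf_mk z hzC)
  have hcen : ∀ c : C, c * (⟨z, hzC⟩ : C) = ⟨z, hzC⟩ * c := by
    intro c
    apply Subtype.ext
    have := (mem_centralizer_iff.1 c.2) z (Set.mem_singleton z)
    simpa using this.symm
  obtain ⟨h1, h2, h3, h4⟩ := es_facts (⟨z, hzC⟩ : C) hord hcen hex
  have hmem : ∀ q : G, q ∈ (Cfsg.pCore 2 ↥C).map C.subtype ↔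
      ∃ hq : q ∈ C, (⟨q, hq⟩ : C) ∈ Cfsg.pCore 2 ↥C := by
    intro q
    constructor
    · rintro ⟨c, hc, rfl⟩
      exact ⟨c.2, hc⟩
    · rintro ⟨hq, hc⟩
      exact ⟨⟨q, hq⟩, hc, rfl⟩
  refine ⟨(hmem z).2 ⟨hzC, h1⟩, ?_, map_subtype_le _, ?_, ?_, ?_, ?_⟩
  · rw [card_map_of_injective (subtype_injective C), hQ]
  · intro c hc q hq
    obtain ⟨hqC, hq'⟩ := (hmem q).1 hq
    refine (hmem _).2 ⟨C.mul_mem (C.mul_mem hc hqC) (C.inv_mem hc), ?_⟩
    have hn : (Cfsg.pCore 2 ↥C).Normal := inferInstance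
    exact hn.conj_mem _ hq' ⟨c, hc⟩
  · intro q hq
    obtain ⟨hqC, hq'⟩ := (hmem q).1 hq
    rcases h2 _ hq' with h | h
    · left; simpa using congrArg Subtype.val h
    · right; simpa using congrArg Subtype.val h
  · intro q hq q' hq'
    obtain ⟨hqC, hq1⟩ := (hmem q).1 hq
    obtain ⟨hqC', hq1'⟩ := (hmem q').1 hq'
    rcases h3 _ hq1 _ hq1' with h | h
    · left; simpa using congrArg Subtype.val h
    · right; simpa using congrArg Subtype.val h
  · intro q hq hcent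
    obtain ⟨hqC, hq1⟩ := (hmem q).1 hq
    have := h4 _ hq1 (fun q' hq' => Subtype.ext (by
      have := hcent (q' : G) ((hmem _).2 ⟨q'.2, hq'⟩)
      simpa using this))
    rcases this with h | h
    · left; simpa using congrArg Subtype.val h
    · right; simpa using congrArg Subtype.val h

end Cfsg.Agent.Lib.helper6.S3313
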