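import Mathlib
import Cfsg.Prelude.Def_TwoFusion
import Cfsg.Agent.Lib.helper6.S3313Defs
import Cfsg.Agent.Lib.helper6.S3313Set
import Cfsg.Agent.S0213
import Cfsg.Agent.Lib.helper46.S3313AF1
import Cfsg.Agent.Lib.helper6.S3313AF
import Cfsg.Agent.Lib.helper72.S3313E1
import Cfsg.Agent.Lib.helper26.S3313E2a
import Cfsg.Agent.Lib.helper26.S3313E2b
import Cfsg.Agent.Lib.helper72.S3313E4
import Cfsg.Agent.Lib.helper17.S3313T1a
import Cfsg.Agent.Lib.helper82.S3313T1b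
import Cfsg.Agent.Lib.helper91.S3313N1a
import Cfsg.Agent.Lib.helper91.S3313N1b
import Cfsg.Agent.Lib.helper17.S3313S1
import Cfsg.Agent.Lib.helper65.S3313R2a
import Cfsg.Agent.Lib.helper65.S3313R2b
import Cfsg.Agent.Lib.helper65.S3313R3

/-!
# S3313: assembly (helper6)
-/

set_option autoImplicit false

namespace Cfsg.Agent.Lib.helper6.S3313

open Subgroup

variable {G : Type*} [Group G] [Finite G]

theorem comm_of_mem_zpowers {x y u : G} (hx : x ^ 2 = 1) (hy : y ^ 2 = 1) (hu2 : u ^ 2 = 1)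
    (hu : u ∈ zpowers (x * y)) : x * u = u * x ∧ y * u = u * y := by
  obtain ⟨n, rfl⟩ := mem_zpowers_iff.1 hu
  have hxx : x * x = 1 := by rw [← pow_two]; exact hx
  have hyy : y * y = 1 := by rw [← pow_two]; exact hy
  have hxi : x⁻¹ = x := inv_eq_of_mul_eq_one_right hxx
  have hyi : y⁻¹ = y := inv_eq_of_mul_eq_one_right hyy
  have hinv : (x * y)⁻¹ = y * x := by rw [mul_inv_rev, hyi, hxi]
  have huu : ((x * y) ^ n)⁻¹ = (x * y) ^ n := by
    apply inv_eq_of_mul_eq_one_right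
    rw [← pow_two]; exact hu2
  have h1 : x * (x * y) ^ n * x⁻¹ = (x * y) ^ n := by
    rw [← conj_zpow]
    have : x * (x * y) * x⁻¹ = (x * y)⁻¹ := by rw [hinv, hxi, ← mul_assoc, hxx, one_mul]
    rw [this, inv_zpow, huu]
  have h2 : y * (x * y) ^ n * y⁻¹ = (x * y) ^ n := by
    rw [← conj_zpow]
    have : y * (x * y) * y⁻¹ = (x * y)⁻¹ := by rw [hinv, hyi, mul_assoc, mul_assoc, hyy, mul_one]
    rw [this, inv_zpow, huu]
  exact ⟨mul_inv_eq_iff_eq_mul.1 h1, mul_inv_eq_iff_eq_mul.1 h2⟩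

theorem orderOf_of_isConj {a b : G} (h : IsConj a b) : orderOf b = orderOf a := by
  obtain ⟨c, rfl⟩ := isConj_iff.1 h
  exact orderOf_injective (MulAut.conj c).toMonoidHom (MulAut.conj c).injective a

/-- The count in `C(z)`. -/
theorem qk_count {z : G} {Q K : Subgroup G} (h : QK z Q K) :
    Nat.card {p : G × G // p.1 ∈ Q ∧ orderOf p.1 = 2 ∧ (∃ q ∈ Q, ∃ k ∈ K, p.2 = q * k) ∧
      p.2 ∉ Q ∧ orderOf p.2 = 2 ∧ z ∈ Subgroup.zpowers (p.1 * p.2)} = 960 := by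
  haveI : Fact (Nat.Prime 2) := ⟨Nat.prime_two⟩
  obtain ⟨-, h15, ⟨g, hg, hg5⟩, -, hsimple⟩ := Cfsg.Agent.Lib.helper46.S3313.a5_facts K h.K_iso
  have hinv : ∃ k ∈ K, orderOf k = 2 := by
    by_contra hne
    have hemp : IsEmpty {k : G // k ∈ K ∧ orderOf k = 2} :=
      ⟨fun k => hne ⟨k.1, k.2.1, k.2.2⟩⟩
    rw [Nat.card_of_isEmpty] at h15
    omega
  obtain ⟨⟨x0, hx0, hx0z⟩, m, hm⟩ := Cfsg.Agent.Lib.helper72.S3313.card_sq_one_form h
  have hfix := fun q hq hgq => Cfsg.Agent.Lib.helper26.S3313.cent_five h hinv hsimple g hg hg5 q hq hgq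
  have h5 := Cfsg.Agent.Lib.helper26.S3313.five_dvd h g hg hg5 hfix
  have hsplit : Nat.card {v : G // v ∈ Q ∧ v ^ 2 = 1}
      = Nat.card {v : G // v ∈ Q ∧ v ^ 2 = 1 ∧ v ≠ 1 ∧ v ≠ z} + 2 := by
    show Nat.card ↥{v : G | v ∈ Q ∧ v ^ 2 = 1}
      = Nat.card ↥{v : G | v ∈ Q ∧ v ^ 2 = 1 ∧ v ≠ 1 ∧ v ≠ z} + 2
    rw [Nat.card_coe_set_eq, Nat.card_coe_set_eq]
    have hdisj : Disjoint {v : G | v ∈ Q ∧ v ^ 2 = 1 ∧ v ≠ 1 ∧ v ≠ z} ({1, z} : Set G) := by
      rw [Set.disjoint_left]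
      rintro v ⟨-, -, h1, h2⟩ hv
      simp only [Set.mem_insert_iff, Set.mem_singleton_iff] at hv
      rcases hv with hv | hv
      · exact h1 hv
      · exact h2 hv
    have hu := Set.ncard_union_eq hdisj (Set.toFinite _) (Set.toFinite _)
    rw [Set.ncard_pair h.z_ne.symm] at hu
    rw [← hu]
    congr 1
    ext v
    simp only [Set.mem_setOf_eq, Set.mem_union, Set.mem_insert_iff, Set.mem_singleton_iff]
    constructor
    · rintro ⟨hv, hv2⟩
      by_cases h1 : v = 1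
      · right; left; exact h1
      · by_cases h2 : v = z
        · right; right; exact h2
        · left; exact ⟨hv, hv2, h1, h2⟩
    · rintro (⟨hv, hv2, -, -⟩ | rfl | rfl)
      · exact ⟨hv, hv2⟩
      · exact ⟨Q.one_mem, one_pow 2⟩
      · exact ⟨h.z_mem, h.z_sq⟩
  have hle : Nat.card {v : G // v ∈ Q ∧ v ^ 2 = 1} < 32 := by
    rw [← h.card_Q]
    show Nat.card ↥{v : G | v ∈ Q ∧ v ^ 2 = 1} < Nat.card ↥(Q : Set G)
    rw [Nat.card_coe_set_eq, Nat.card_coe_set_eq]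
    apply Set.ncard_lt_ncard _ (Set.toFinite _)
    constructor
    · intro v hv; exact hv.1
    · intro hsub
      have := (hsub hx0).2
      rw [hx0z] at this
      exact h.z_ne this
  have h12 : Nat.card {v : G // v ∈ Q ∧ v ^ 2 = 1} = 12 := by omega
  have h11 : Nat.card {x : G // x ∈ Q ∧ orderOf x = 2} = 11 := by
    have : Nat.card {v : G // v ∈ Q ∧ v ^ 2 = 1}
        = Nat.card {x : G // x ∈ Q ∧ orderOf x = 2} + 1 := by
      show Nat.card ↥{v : G | v ∈ Q ∧ v ^ 2 = 1}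
        = Nat.card ↥{x : G | x ∈ Q ∧ orderOf x = 2} + 1
      rw [Nat.card_coe_set_eq, Nat.card_coe_set_eq,
        ← Set.ncard_insert_of_notMem (a := (1 : G)) (s := {x : G | x ∈ Q ∧ orderOf x = 2})]
      · congr 1
        ext v
        simp only [Set.mem_setOf_eq, Set.mem_insert_iff, orderOf_eq_prime_iff]
        constructor
        · rintro ⟨hv, hv2⟩
          by_cases h1 : v = 1
          · left; exact h1
          · right; exact ⟨hv, hv2, h1⟩
        · rintro (rfl | ⟨hv, hv2, -⟩)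
          · exact ⟨Q.one_mem, one_pow 2⟩
          · exact ⟨hv, hv2⟩
      · simp
    omega
  have hE4 := fun a ha ha2 ha1 haz v hv hv2 hva =>
    Cfsg.Agent.Lib.helper72.S3313.invol_comm h h12 a ha ha2 ha1 haz v hv hv2 hva
  have hT : ∀ k ∈ K, orderOf k = 2 → Nat.card {q : G // q ∈ Q ∧ (q * k) ^ 2 = 1} = 8 :=
    fun k hk hk2 => (Cfsg.Agent.Lib.helper17.S3313.card_T h k hk hk2).1
  have hN : ∀ k ∈ K, orderOf k = 2 → ∀ w ∈ Q, (w * k) ^ 2 = 1 →
      Nat.card {x : G // x ∈ Q ∧ orderOf x = 2 ∧ z ∈ Subgroup.zpowers (x * (w * k))} = 8 := by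
    intro k hk hk2 w hw hwk
    have hC := (Cfsg.Agent.Lib.helper17.S3313.card_T h k hk hk2).2
    have hE := fun w hw hwk a ha hak => Cfsg.Agent.Lib.helper82.S3313.T_comm h k hk hk2 hC w hw hwk a ha hak
    rw [← Cfsg.Agent.Lib.helper91.S3313.card_noncomm h h11 k hk hk2]
    refine Nat.card_congr (Equiv.subtypeEquivRight fun x => ?_)
    constructor
    · rintro ⟨hx, hx2, hzz⟩
      exact ⟨hx, hx2, (Cfsg.Agent.Lib.helper91.S3313.mem_zpowers_iff h hE4 k hk hk2 hC hE w hw hwk x hx hx2).1 hzz⟩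
    · rintro ⟨hx, hx2, hne⟩
      exact ⟨hx, hx2, (Cfsg.Agent.Lib.helper91.S3313.mem_zpowers_iff h hE4 k hk hk2 hC hE w hw hwk x hx hx2).2 hne⟩
  exact Cfsg.Agent.Lib.helper17.S3313.card_pairs_z h h15 hT hN

/-- The main theorem with the `2`-core replaced by a subgroup `Q` with the extracted facts. -/
theorem main (z t : G) (hz : orderOf z = 2) (ht : orderOf t = 2) (hzt : ¬ IsConj z t)
    (hcl : ∀ x : G, orderOf x = 2 → IsConj x z ∨ IsConj x t)
    (Q K : Subgroup G) (hzQ : z ∈ Q) (hQcard : Nat.card Q = 32)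
    (hQC : Q ≤ centralizer ({z} : Set G))
    (hQnorm : ∀ c ∈ centralizer ({z} : Set G), ∀ q ∈ Q, c * q * c⁻¹ ∈ Q)
    (hsq : ∀ q ∈ Q, q ^ 2 = 1 ∨ q ^ 2 = z)
    (hcomm : ∀ q ∈ Q, ∀ q' ∈ Q, q * q' = q' * q ∨ q * q' = q' * q * z)
    (hcenter : ∀ q ∈ Q, (∀ q' ∈ Q, q * q' = q' * q) → q = 1 ∨ q = z)
    (hK : Nonempty (↥K ≃* alternatingGroup (Fin 5)))
    (hKC : K ⊔ Q = centralizer ({z} : Set G)) (hKQ : K ⊓ Q = ⊥)
    (hQz : ∀ x ∈ Q, orderOf x = 2 → IsConj x z)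
    (hCz : ∀ x ∈ centralizer ({z} : Set G), orderOf x = 2 → x ∉ Q → IsConj x t)
    (V B : Subgroup G)
    (hVB : Cfsg.IsInternalDirectProduct V B (centralizer ({t} : Set G)))
    (hV : Nat.card ↥V = 4) (hV2 : ∀ v ∈ V, v ^ 2 = 1) (htV : t ∈ V)
    (hB : Nonempty (↥B ≃* alternatingGroup (Fin 5)))
    (hBz : ∀ x ∈ B, orderOf x = 2 → IsConj x z)
    (hCt : ∀ x ∈ centralizer ({t} : Set G), orderOf x = 2 → x ∉ B → IsConj x t) :
    Nat.card G = 604800 := by
  haveI : Fact (Nat.Prime 2) := ⟨Nat.prime_two⟩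
  have hKC' : K ≤ centralizer ({z} : Set G) := hKC ▸ le_sup_left
  have hmemC : ∀ c : G, c ∈ centralizer ({z} : Set G) ↔ c * z = z * c := by
    intro c
    rw [mem_centralizer_iff]
    constructor
    · intro hc; exact (hc z rfl).symm
    · intro hc x hx; rw [Set.mem_singleton_iff.1 hx]; exact hc.symm
  have hKz : ∀ k ∈ K, k * z = z * k := fun k hk => (hmemC k).1 (hKC' hk)
  have hQz' : ∀ q ∈ Q, q * z = z * q := fun q hq => (hmemC q).1 (hQC hq)
  have hnorm : ∀ k ∈ K, ∀ q ∈ Q, k * q * k⁻¹ ∈ Q := fun k hk => hQnorm k (hKC' hk)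
  have hinf : ∀ k ∈ K, k ∈ Q → k = 1 := by
    intro k hk hq
    have : k ∈ K ⊓ Q := ⟨hk, hq⟩
    rw [hKQ] at this
    exact mem_bot.1 this
  have hCdec : ∀ c : G, c * z = z * c → ∃ q ∈ Q, ∃ k ∈ K, c = q * k := by
    intro c hc
    exact mem_sup_decomp Q K hnorm c (by rw [hKC]; exact (hmemC c).2 hc)
  obtain ⟨hK60, -, -, hKcent, -⟩ := Cfsg.Agent.Lib.helper46.S3313.a5_facts K hK
  obtain ⟨hB60, -, -, hBcent, -⟩ := Cfsg.Agent.Lib.helper46.S3313.a5_facts B hB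
  have hz1 : z ≠ 1 := by
    intro h; rw [h, orderOf_one] at hz; exact absurd hz (by norm_num)
  have hz2 : z ^ 2 = 1 := by rw [← hz]; exact pow_orderOf_eq_one z
  have hcent : ∀ k ∈ K, orderOf k = 2 →
      Nat.card {q : G // q ∈ Q ∧ q * k = k * q} = 4 ∧ ∀ q ∈ Q, q * k = k * q → q ^ 2 = 1 := by
    intro k hk hk2
    have hk1 : k ≠ 1 := by
      intro h; rw [h, orderOf_one] at hk2; exact absurd hk2 (by norm_num)
    have hkQ : k ∉ Q := fun h => hk1 (hinf k hk h)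
    have hkt : IsConj k t := hCz k (hKC' hk) hk2 hkQ
    obtain ⟨h16, hexp⟩ := Cfsg.Agent.Lib.helper65.S3313.cent_pair z t V B hz hzt hVB hV hV2 hCt hBcent k (hKz k hk) hkt
    exact ⟨Cfsg.Agent.Lib.helper65.S3313.cent_of_pair z Q K hQz' hKz hnorm hinf hCdec k hk (hKcent k hk hk2).1 h16,
      fun q hq hqk => hexp q (hQz' q hq) hqk⟩
  have hQK : QK z Q K :=
    { z_ne := hz1, z_sq := hz2, z_mem := hzQ, z_comm := hQz', card_Q := hQcard, sq := hsq,
      comm := hcomm, center := hcenter, K_z := hKz, K_norm := hnorm, K_inf := hinf, K_iso := hK,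
      cent := hcent }
  have h960 := qk_count hQK
  have haz : Nat.card {p : G × G // IsConj z p.1 ∧ IsConj t p.2 ∧
      z ∈ zpowers (p.1 * p.2)} = 960 := by
    rw [← h960]
    refine Nat.card_congr (Equiv.subtypeEquivRight fun p => ?_)
    constructor
    · rintro ⟨h1, h2, h3⟩
      have ho1 : orderOf p.1 = 2 := by rw [orderOf_of_isConj h1, hz]
      have ho2 : orderOf p.2 = 2 := by rw [orderOf_of_isConj h2, ht]
      have hp1 : p.1 ^ 2 = 1 := by rw [← ho1]; exact pow_orderOf_eq_one _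
      have hp2 : p.2 ^ 2 = 1 := by rw [← ho2]; exact pow_orderOf_eq_one _
      obtain ⟨hc1, hc2⟩ := comm_of_mem_zpowers hp1 hp2 hz2 h3
      have hm1 : p.1 ∈ Q := by
        by_contra hn
        exact hzt (h1.trans (hCz p.1 ((hmemC _).2 hc1) ho1 hn))
      have hm2 : p.2 ∉ Q := by
        intro hn
        exact hzt ((hQz p.2 hn ho2).symm.trans h2.symm)
      exact ⟨hm1, ho1, hCdec p.2 hc2, hm2, ho2, h3⟩
    · rintro ⟨h1, h2, ⟨q, hq, k, hk, hqk⟩, h4, h5, h6⟩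
      refine ⟨(hQz p.1 h1 h2).symm, (hCz p.2 ?_ h5 h4).symm, h6⟩
      rw [hqk]
      exact (centralizer ({z} : Set G)).mul_mem (hQC hq) (hKC' hk)
  have hat := Cfsg.Agent.Lib.helper65.S3313.card_pairs_t z t V B hz ht hzt hVB hV2 htV hBz hCt (Cfsg.Agent.Lib.helper6.S3313AF.a5_pairs B hB)
  have hCz_card : Nat.card (centralizer ({z} : Set G)) = 1920 := by
    rw [← hKC, card_sup_of_norm Q K hnorm hinf, hQcard, hK60]
  have hCt_card : Nat.card (centralizer ({t} : Set G)) = 240 := by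
    obtain ⟨-, -, hcm, hVBinf, hVBsup⟩ := hVB
    rw [← hVBsup, card_sup_of_norm B V ?_ ?_, hB60, hV]
    · intro v hv b hb
      have : v * b * v⁻¹ = b := by rw [hcm v hv b hb]; group
      rw [this]; exact hb
    · intro v hv hb
      have : v ∈ V ⊓ B := ⟨hv, hb⟩
      rw [hVBinf] at this
      exact mem_bot.1 this
  have hform := Cfsg.Agent.S0213.result z t hz ht hzt
    (fun x hx => (hcl x hx).imp IsConj.symm IsConj.symm)
  rw [hform, hCt_card, haz, hCz_card, hat]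

end Cfsg.Agent.Lib.helper6.S3313
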