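import Mathlib
import Cfsg.Prelude.Def_Classical
import Cfsg.Agent.Lib.helper6.S3366Defs
import Cfsg.Agent.Lib.helper17.U42Main

/-!
The concrete side of S3366: the centraliser in `PSp₄(3)` of the image of a symplectic transvection
is isomorphic to the model `M = H3 ⋊ SL(2,3)`.
-/

set_option autoImplicit false

namespace Cfsg.Agent.Lib.helper6.S3366

/-- The index type of `Sp₄`. -/
abbrev I4 := Fin 2 ⊕ Fin 2

/-- `Sp₄(3)`. -/
abbrev Sp4 := ↥(Matrix.symplecticGroup (Fin 2) (ZMod 3))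

/-- The unipotent matrices. -/
def Umat (h : H3) : Matrix I4 I4 (ZMod 3) :=
  Matrix.fromBlocks !![1, -h.y; 0, 1] !![-h.k, h.x; h.x, 0] 0 !![1, 0; h.y, 1]

/-- The Levi matrices, from the four entries. -/
def Dmat' (p q r s : ZMod 3) : Matrix I4 I4 (ZMod 3) :=
  Matrix.fromBlocks !![1, 0; 0, p] !![0, 0; 0, q] !![0, 0; 0, r] !![1, 0; 0, s]

/-- The Levi matrices. -/
def Dmat (A : SL23) : Matrix I4 I4 (ZMod 3) := Dmat' (A 0 0) (A 0 1) (A 1 0) (A 1 1)

theorem Umat_mem' : ∀ h : H3,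
    Umat h * Matrix.J (Fin 2) (ZMod 3) * (Umat h).transpose = Matrix.J (Fin 2) (ZMod 3) := by
  decide +kernel

theorem Dmat_mem' : ∀ A : SL23,
    Dmat A * Matrix.J (Fin 2) (ZMod 3) * (Dmat A).transpose = Matrix.J (Fin 2) (ZMod 3) := by
  decide +kernel

theorem Umat_one : Umat 1 = 1 := by decide +kernel

theorem Dmat_one : Dmat 1 = 1 := by decide +kernel

theorem Umat_mul (h h' : H3) : Umat (h * h') = Umat h * Umat h' := by
  simp only [Umat, H3.mul_def, Matrix.fromBlocks_multiply]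
  congr 1 <;> ext i j <;> fin_cases i <;> fin_cases j <;> simp <;> ring

theorem Dmat'_mul (p q r s p' q' r' s' : ZMod 3) : Dmat' p q r s * Dmat' p' q' r' s' =
    Dmat' (p * p' + q * r') (p * q' + q * s') (r * p' + s * r') (r * q' + s * s') := by
  simp only [Dmat', Matrix.fromBlocks_multiply]
  congr 1 <;> ext i j <;> fin_cases i <;> fin_cases j <;> simp

theorem Dmat_mul (A B : SL23) : Dmat (A * B) = Dmat A * Dmat B := by
  rw [Dmat, Dmat, Dmat, Dmat'_mul]
  simp [Matrix.mul_apply, Fin.sum_univ_two]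

theorem DU_comm' (p q r s : ZMod 3) (hdet : p * s - q * r = 1) (h : H3) :
    Dmat' p q r s * Umat h =
      Umat ⟨p * h.x + q * h.y, r * h.x + s * h.y, h.k⟩ * Dmat' p q r s := by
  simp only [Umat, Dmat', Matrix.fromBlocks_multiply]
  congr 1 <;> ext i j <;> fin_cases i <;> fin_cases j <;>
    simp [Matrix.mul_apply, Fin.sum_univ_two] <;>
    first | ring1 | (linear_combination (h.x) * hdet) | (linear_combination (h.y) * hdet) | (linear_combination (-h.x) * hdet) | (linear_combination (-h.y) * hdet)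

theorem DU_comm (A : SL23) (h : H3) : Dmat A * Umat h = Umat (H3.act A h) * Dmat A := by
  have hdet : A 0 0 * A 1 1 - A 0 1 * A 1 0 = 1 := by
    have := A.2
    rw [Matrix.det_fin_two] at this
    exact this
  exact DU_comm' _ _ _ _ hdet h

theorem UD_inj : ∀ (h : H3) (A : SL23),
    Umat h * Dmat A = 1 ∨ Umat h * Dmat A = -1 → h = 1 ∧ A = 1 := by decide +kernel

theorem tau_facts : Umat ⟨0, 0, 1⟩ ≠ 1 ∧ Umat ⟨0, 0, 1⟩ ≠ -1 ∧
    Matrix.trace (Umat ⟨0, 0, 1⟩) = 1 ∧ (⟨0, 0, 1⟩ : H3) ^ 3 = 1 := by decide +kernel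

theorem UD_comm_tau (h : H3) (A : SL23) :
    Umat h * Dmat A * Umat ⟨0, 0, 1⟩ = Umat ⟨0, 0, 1⟩ * (Umat h * Dmat A) := by
  have h1 : H3.act A ⟨0, 0, 1⟩ = ⟨0, 0, 1⟩ := by simp [H3.act]
  have h2 : ∀ h : H3, h * ⟨0, 0, 1⟩ = (⟨0, 0, 1⟩ : H3) * h := by decide
  rw [mul_assoc, DU_comm, h1, ← mul_assoc, ← mul_assoc, ← Umat_mul, ← Umat_mul, h2]

theorem UD_form (p q r s d e b : ZMod 3) : Umat ⟨d, e, -b⟩ * Dmat' p q r s =
    Matrix.fromBlocks !![1, r * d - p * e; 0, p] !![b, s * d - q * e; d, q] !![0, 0; 0, r]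
      !![1, 0; e, s] := by
  simp only [Umat, Dmat', Matrix.fromBlocks_multiply]
  congr 1 <;> ext i j <;> fin_cases i <;> fin_cases j <;> simp <;> ring

/-- The unipotent radical. -/
def iota1 : H3 →* Sp4 where
  toFun h := ⟨Umat h, SymplecticGroup.mem_iff.mpr (Umat_mem' h)⟩
  map_one' := Subtype.ext Umat_one
  map_mul' h h' := Subtype.ext (Umat_mul h h')

/-- The Levi complement. -/
def lam1 : SL23 →* Sp4 where
  toFun A := ⟨Dmat A, SymplecticGroup.mem_iff.mpr (Dmat_mem' A)⟩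
  map_one' := Subtype.ext Dmat_one
  map_mul' A B := Subtype.ext (Dmat_mul A B)

theorem lam1_iota1 (A : SL23) (h : H3) : lam1 A * iota1 h * (lam1 A)⁻¹ = iota1 (phi A h) := by
  rw [mul_inv_eq_iff_eq_mul]
  exact Subtype.ext (DU_comm A h)

/-- The model group inside `Sp₄(3)`. -/
def f1 : M →* Sp4 := SemidirectProduct.lift iota1 lam1 (by
  intro A
  ext h : 1
  simp only [MonoidHom.coe_comp, MulEquiv.coe_toMonoidHom, Function.comp_apply,
    MulAut.conj_apply]
  exact (lam1_iota1 A h).symm)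

theorem f1_apply (m : M) : ((f1 m : Sp4) : Matrix I4 I4 (ZMod 3)) =
    Umat m.left * Dmat m.right := rfl

end Cfsg.Agent.Lib.helper6.S3366
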