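import Mathlib
import Cfsg.Prelude.Def_Classical
import Cfsg.Agent.Lib.helper6.S3366Conc
import Cfsg.Agent.Lib.helper17.U42Main

/-!
The concrete side of S3366, continued: the centraliser of the transvection class in `PSp₄(3)`.
-/

set_option autoImplicit false

namespace Cfsg.Agent.Lib.helper6.S3366

/-- The entries of `gᵀ J g`. -/
theorem form_entry (g : Matrix I4 I4 (ZMod 3)) (i j : I4) :
    (g.transpose * Matrix.J (Fin 2) (ZMod 3) * g) i j =
      - (g (Sum.inl 0) i * g (Sum.inr 0) j) - g (Sum.inl 1) i * g (Sum.inr 1) j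
      + g (Sum.inr 0) i * g (Sum.inl 0) j + g (Sum.inr 1) i * g (Sum.inl 1) j := by
  simp [Matrix.mul_apply, Matrix.J, Matrix.fromBlocks, Fintype.sum_sum_type, Fin.sum_univ_two,
    Matrix.one_apply]
  ring

/-- A symplectic matrix fixing the first basis vector is `Umat h * Dmat A`. -/
theorem stab_form (g : Matrix I4 I4 (ZMod 3))
    (hg : g ∈ Matrix.symplecticGroup (Fin 2) (ZMod 3))
    (h00 : g (Sum.inl 0) (Sum.inl 0) = 1) (h10 : g (Sum.inl 1) (Sum.inl 0) = 0)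
    (h20 : g (Sum.inr 0) (Sum.inl 0) = 0) (h30 : g (Sum.inr 1) (Sum.inl 0) = 0) :
    ∃ (h : H3) (A : SL23), g = Umat h * Dmat A := by
  have hT : g.transpose * Matrix.J (Fin 2) (ZMod 3) * g = Matrix.J (Fin 2) (ZMod 3) :=
    SymplecticGroup.mem_iff'.mp hg
  have hJ01 : Matrix.J (Fin 2) (ZMod 3) (Sum.inl 0) (Sum.inl 1) = 0 := by decide
  have hJ02 : Matrix.J (Fin 2) (ZMod 3) (Sum.inl 0) (Sum.inr 0) = -1 := by decide
  have hJ03 : Matrix.J (Fin 2) (ZMod 3) (Sum.inl 0) (Sum.inr 1) = 0 := by decide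
  have hJ12 : Matrix.J (Fin 2) (ZMod 3) (Sum.inl 1) (Sum.inr 0) = 0 := by decide
  have hJ13 : Matrix.J (Fin 2) (ZMod 3) (Sum.inl 1) (Sum.inr 1) = -1 := by decide
  have hJ32 : Matrix.J (Fin 2) (ZMod 3) (Sum.inr 1) (Sum.inr 0) = 0 := by decide
  have h21 : g (Sum.inr 0) (Sum.inl 1) = 0 := by
    have e := form_entry g (Sum.inl 0) (Sum.inl 1)
    rw [hT, hJ01, h00, h10, h20, h30] at e
    linear_combination e
  have h22 : g (Sum.inr 0) (Sum.inr 0) = 1 := by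
    have e := form_entry g (Sum.inl 0) (Sum.inr 0)
    rw [hT, hJ02, h00, h10, h20, h30] at e
    linear_combination e
  have h23 : g (Sum.inr 0) (Sum.inr 1) = 0 := by
    have e := form_entry g (Sum.inl 0) (Sum.inr 1)
    rw [hT, hJ03, h00, h10, h20, h30] at e
    linear_combination e
  have h01 : g (Sum.inl 0) (Sum.inl 1) = g (Sum.inr 1) (Sum.inl 1) * g (Sum.inl 1) (Sum.inr 0)
      - g (Sum.inl 1) (Sum.inl 1) * g (Sum.inr 1) (Sum.inr 0) := by
    have e := form_entry g (Sum.inl 1) (Sum.inr 0)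
    rw [hT, hJ12, h21, h22] at e
    linear_combination e
  have h03 : g (Sum.inl 0) (Sum.inr 1) = g (Sum.inr 1) (Sum.inr 1) * g (Sum.inl 1) (Sum.inr 0)
      - g (Sum.inl 1) (Sum.inr 1) * g (Sum.inr 1) (Sum.inr 0) := by
    have e := form_entry g (Sum.inr 1) (Sum.inr 0)
    rw [hT, hJ32, h23, h22] at e
    linear_combination e
  have hdet : g (Sum.inl 1) (Sum.inl 1) * g (Sum.inr 1) (Sum.inr 1)
      - g (Sum.inl 1) (Sum.inr 1) * g (Sum.inr 1) (Sum.inl 1) = 1 := by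
    have e := form_entry g (Sum.inl 1) (Sum.inr 1)
    rw [hT, hJ13, h21, h23] at e
    linear_combination e
  let A : SL23 := ⟨!![g (Sum.inl 1) (Sum.inl 1), g (Sum.inl 1) (Sum.inr 1);
    g (Sum.inr 1) (Sum.inl 1), g (Sum.inr 1) (Sum.inr 1)], by
      rw [Matrix.det_fin_two_of]
      exact hdet⟩
  refine ⟨⟨g (Sum.inl 1) (Sum.inr 0), g (Sum.inr 1) (Sum.inr 0), -g (Sum.inl 0) (Sum.inr 0)⟩,
    A, ?_⟩
  have hD : Dmat A = Dmat' (g (Sum.inl 1) (Sum.inl 1)) (g (Sum.inl 1) (Sum.inr 1))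
      (g (Sum.inr 1) (Sum.inl 1)) (g (Sum.inr 1) (Sum.inr 1)) := rfl
  rw [hD, UD_form]
  ext (i | i) (j | j) <;> fin_cases i <;> fin_cases j <;>
    simp [Matrix.fromBlocks] <;>
    first | exact h00 | exact h10 | exact h20 | exact h30 | exact h21 | exact h22 | exact h23 | exact h01 | exact h03

/-- The map from the model to `PSp₄(3)`. -/
def F1 : M →* Cfsg.PSp 2 (ZMod 3) := (QuotientGroup.mk' (Subgroup.center Sp4)).comp f1

/-- The 3-central element. -/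
def c1 : Cfsg.PSp 2 (ZMod 3) := F1 (SemidirectProduct.inl ⟨0, 0, 1⟩)

theorem F1_injective : Function.Injective F1 := by
  rw [injective_iff_map_eq_one]
  intro m hm
  have h1 : f1 m ∈ Subgroup.center Sp4 := (QuotientGroup.eq_one_iff _).mp hm
  have h2 := Cfsg.Agent.Lib.helper17.u42_center_cases (f1 m) h1
  have h3 : Umat m.left * Dmat m.right = 1 ∨ Umat m.left * Dmat m.right = -1 := h2
  obtain ⟨h4, h5⟩ := UD_inj _ _ h3
  exact SemidirectProduct.ext h4 h5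

theorem neg_one_center :
    (⟨-1, SymplecticGroup.neg_mem (Submonoid.one_mem _)⟩ : Sp4) ∈ Subgroup.center Sp4 := by
  rw [Subgroup.mem_center_iff]
  intro g
  apply Subtype.ext
  show (g : Matrix I4 I4 (ZMod 3)) * (-1) = (-1) * (g : Matrix I4 I4 (ZMod 3))
  simp

theorem tau_coe : ((f1 (SemidirectProduct.inl ⟨0, 0, 1⟩) : Sp4) : Matrix I4 I4 (ZMod 3)) =
    Umat ⟨0, 0, 1⟩ := by
  rw [f1_apply, SemidirectProduct.left_inl, SemidirectProduct.right_inl, Dmat_one, mul_one]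

theorem F1_range_le : F1.range ≤ Subgroup.centralizer ({c1} : Set (Cfsg.PSp 2 (ZMod 3))) := by
  rintro _ ⟨m, rfl⟩
  rw [Subgroup.mem_centralizer_iff]
  intro y hy
  rw [Set.mem_singleton_iff] at hy
  subst hy
  have h1 : f1 (SemidirectProduct.inl ⟨0, 0, 1⟩) * f1 m = f1 m * f1 (SemidirectProduct.inl ⟨0, 0, 1⟩) := by
    apply Subtype.ext
    show ((f1 (SemidirectProduct.inl ⟨0, 0, 1⟩) : Sp4) : Matrix I4 I4 (ZMod 3)) *
        ((f1 m : Sp4) : Matrix I4 I4 (ZMod 3)) =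
      ((f1 m : Sp4) : Matrix I4 I4 (ZMod 3)) *
        ((f1 (SemidirectProduct.inl ⟨0, 0, 1⟩) : Sp4) : Matrix I4 I4 (ZMod 3))
    rw [tau_coe, f1_apply]
    exact (UD_comm_tau _ _).symm
  exact congrArg (QuotientGroup.mk' (Subgroup.center Sp4)) h1

theorem tau_mul_entry (G : Matrix I4 I4 (ZMod 3)) (i : I4) :
    (Umat ⟨0, 0, 1⟩ * G) i (Sum.inr 0) =
      G i (Sum.inr 0) - (if i = Sum.inl 0 then G (Sum.inr 0) (Sum.inr 0) else 0) := by
  rcases i with i | i <;> fin_cases i <;>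
    simp [Umat, Matrix.mul_apply, Matrix.fromBlocks, Fintype.sum_sum_type, Fin.sum_univ_two] <;>
    ring

theorem mul_tau_entry (G : Matrix I4 I4 (ZMod 3)) (i : I4) :
    (G * Umat ⟨0, 0, 1⟩) i (Sum.inr 0) = G i (Sum.inr 0) - G i (Sum.inl 0) := by
  simp [Umat, Matrix.mul_apply, Matrix.fromBlocks, Fintype.sum_sum_type, Fin.sum_univ_two]
  ring

theorem zmod3_cases : ∀ a : ZMod 3, a ≠ 0 → a = 1 ∨ a = -1 := by decide

theorem cent_le_range : Subgroup.centralizer ({c1} : Set (Cfsg.PSp 2 (ZMod 3))) ≤ F1.range := by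
  intro x hx
  obtain ⟨g, rfl⟩ := QuotientGroup.mk_surjective x
  have hx' := (Subgroup.mem_centralizer_iff.mp hx) c1 rfl
  have h1 : ((f1 (SemidirectProduct.inl ⟨0, 0, 1⟩) * g)⁻¹ *
      (g * f1 (SemidirectProduct.inl ⟨0, 0, 1⟩)) : Sp4) ∈ Subgroup.center Sp4 :=
    QuotientGroup.eq.mp hx'
  have h3 : (f1 (SemidirectProduct.inl ⟨0, 0, 1⟩) * g) *
      ((f1 (SemidirectProduct.inl ⟨0, 0, 1⟩) * g)⁻¹ *
        (g * f1 (SemidirectProduct.inl ⟨0, 0, 1⟩))) =
      g * f1 (SemidirectProduct.inl ⟨0, 0, 1⟩) := mul_inv_cancel_left _ _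
  have h3' := congrArg (fun t : Sp4 => (t : Matrix I4 I4 (ZMod 3))) h3
  have h3'' : Umat ⟨0, 0, 1⟩ * (g : Matrix I4 I4 (ZMod 3)) *
      (((f1 (SemidirectProduct.inl ⟨0, 0, 1⟩) * g)⁻¹ *
        (g * f1 (SemidirectProduct.inl ⟨0, 0, 1⟩)) : Sp4) : Matrix I4 I4 (ZMod 3)) =
      (g : Matrix I4 I4 (ZMod 3)) * Umat ⟨0, 0, 1⟩ := by
    rw [← tau_coe]
    exact h3'
  have hinvl : ((g⁻¹ : Sp4) : Matrix I4 I4 (ZMod 3)) * (g : Matrix I4 I4 (ZMod 3)) = 1 :=
    congrArg (fun t : Sp4 => (t : Matrix I4 I4 (ZMod 3))) (inv_mul_cancel g)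
  have hinvr : (g : Matrix I4 I4 (ZMod 3)) * ((g⁻¹ : Sp4) : Matrix I4 I4 (ZMod 3)) = 1 :=
    congrArg (fun t : Sp4 => (t : Matrix I4 I4 (ZMod 3))) (mul_inv_cancel g)
  rcases Cfsg.Agent.Lib.helper17.u42_center_cases _ h1 with h2 | h2
  · -- the commuting case
    have h2' : (((f1 (SemidirectProduct.inl ⟨0, 0, 1⟩) * g)⁻¹ *
        (g * f1 (SemidirectProduct.inl ⟨0, 0, 1⟩)) : Sp4) : Matrix I4 I4 (ZMod 3)) = 1 := h2
    rw [h2', mul_one] at h3''
    have hcol : ∀ i : I4, (g : Matrix I4 I4 (ZMod 3)) i (Sum.inl 0) =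
        if i = Sum.inl 0 then (g : Matrix I4 I4 (ZMod 3)) (Sum.inr 0) (Sum.inr 0) else 0 := by
      intro i
      have e := congrFun (congrFun h3'' i) (Sum.inr 0)
      rw [tau_mul_entry, mul_tau_entry] at e
      linear_combination e
    have h10 : (g : Matrix I4 I4 (ZMod 3)) (Sum.inl 1) (Sum.inl 0) = 0 := by
      simpa using hcol (Sum.inl 1)
    have h20 : (g : Matrix I4 I4 (ZMod 3)) (Sum.inr 0) (Sum.inl 0) = 0 := by
      simpa using hcol (Sum.inr 0)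
    have h30 : (g : Matrix I4 I4 (ZMod 3)) (Sum.inr 1) (Sum.inl 0) = 0 := by
      simpa using hcol (Sum.inr 1)
    have h00ne : (g : Matrix I4 I4 (ZMod 3)) (Sum.inl 0) (Sum.inl 0) ≠ 0 := by
      intro h0
      have e := congrFun (congrFun hinvl (Sum.inl 0)) (Sum.inl 0)
      rw [Matrix.mul_apply, Fintype.sum_sum_type, Fin.sum_univ_two, Fin.sum_univ_two, h0, h10,
        h20, h30] at e
      simp at e
    rcases zmod3_cases _ h00ne with h00 | h00
    · obtain ⟨h, A, hg⟩ := stab_form _ g.2 h00 h10 h20 h30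
      refine ⟨⟨h, A⟩, ?_⟩
      have : f1 ⟨h, A⟩ = g := Subtype.ext (by rw [f1_apply]; exact hg.symm)
      show (QuotientGroup.mk' (Subgroup.center Sp4)) (f1 ⟨h, A⟩) = _
      rw [this]
      rfl
    · obtain ⟨h, A, hg⟩ := stab_form (-(g : Matrix I4 I4 (ZMod 3)))
        (SymplecticGroup.neg_mem g.2) (by rw [Matrix.neg_apply, h00, neg_neg])
        (by rw [Matrix.neg_apply, h10, neg_zero]) (by rw [Matrix.neg_apply, h20, neg_zero])
        (by rw [Matrix.neg_apply, h30, neg_zero])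
      refine ⟨⟨h, A⟩, ?_⟩
      have : f1 ⟨h, A⟩ = g * ⟨-1, SymplecticGroup.neg_mem (Submonoid.one_mem _)⟩ := by
        apply Subtype.ext
        show ((f1 ⟨h, A⟩ : Sp4) : Matrix I4 I4 (ZMod 3)) = (g : Matrix I4 I4 (ZMod 3)) * (-1)
        rw [f1_apply, mul_neg, mul_one]
        exact hg.symm
      show (QuotientGroup.mk' (Subgroup.center Sp4)) (f1 ⟨h, A⟩) = _
      rw [this]
      symm
      apply QuotientGroup.eq.mpr
      rw [inv_mul_cancel_left]
      exact neg_one_center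
  · -- the anticommuting case is impossible
    exfalso
    have h2' : (((f1 (SemidirectProduct.inl ⟨0, 0, 1⟩) * g)⁻¹ *
        (g * f1 (SemidirectProduct.inl ⟨0, 0, 1⟩)) : Sp4) : Matrix I4 I4 (ZMod 3)) = -1 := h2
    rw [h2', mul_neg, mul_one] at h3''
    have e2 : ((g⁻¹ : Sp4) : Matrix I4 I4 (ZMod 3)) *
        ((g : Matrix I4 I4 (ZMod 3)) * Umat ⟨0, 0, 1⟩) = Umat ⟨0, 0, 1⟩ := by
      rw [← mul_assoc, hinvl, one_mul]
    have e1 : Umat ⟨0, 0, 1⟩ = -(((g⁻¹ : Sp4) : Matrix I4 I4 (ZMod 3)) * Umat ⟨0, 0, 1⟩ *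
        (g : Matrix I4 I4 (ZMod 3))) := by
      calc Umat ⟨0, 0, 1⟩ = ((g⁻¹ : Sp4) : Matrix I4 I4 (ZMod 3)) *
            ((g : Matrix I4 I4 (ZMod 3)) * Umat ⟨0, 0, 1⟩) := e2.symm
        _ = ((g⁻¹ : Sp4) : Matrix I4 I4 (ZMod 3)) *
            (-(Umat ⟨0, 0, 1⟩ * (g : Matrix I4 I4 (ZMod 3)))) := by rw [h3'']
        _ = -(((g⁻¹ : Sp4) : Matrix I4 I4 (ZMod 3)) * Umat ⟨0, 0, 1⟩ *
            (g : Matrix I4 I4 (ZMod 3))) := by rw [mul_neg, mul_assoc]
    have e3 := congrArg Matrix.trace e1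
    rw [Matrix.trace_neg, Matrix.trace_mul_comm, ← mul_assoc, hinvr, one_mul, tau_facts.2.2.1]
      at e3
    revert e3
    decide

theorem F1_range : F1.range = Subgroup.centralizer ({c1} : Set (Cfsg.PSp 2 (ZMod 3))) :=
  le_antisymm F1_range_le cent_le_range

theorem concrete_iso :
    Nonempty (M ≃* Subgroup.centralizer ({c1} : Set (Cfsg.PSp 2 (ZMod 3)))) :=
  ⟨(MonoidHom.ofInjective F1_injective).trans (MulEquiv.subgroupCongr F1_range)⟩

theorem orderOf_c1 : orderOf c1 = 3 := by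
  have hp3 : Fact (Nat.Prime 3) := ⟨Nat.prime_three⟩
  apply orderOf_eq_prime
  · unfold c1
    rw [← map_pow, ← map_pow, tau_facts.2.2.2, map_one, map_one]
  · intro h
    have h1 := F1_injective (h.trans (map_one F1).symm)
    have h2 := congrArg SemidirectProduct.left h1
    rw [SemidirectProduct.left_inl, SemidirectProduct.one_left] at h2
    revert h2
    decide

end Cfsg.Agent.Lib.helper6.S3366
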