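import Mathlib
import Cfsg.Prelude.Def_Classical
import Cfsg.Agent.Lib.helper6.S3366Cent
import Cfsg.Agent.Lib.helper17.U42Main
import Cfsg.Agent.Lib.helper17.U42Transport

/-!
The concrete side of S3366, concluded: a group isomorphic to the model `M` is isomorphic to the
centraliser of a 3-central element of order 3 of `PSp₄(F)`, `|F| = 3`.
-/

set_option autoImplicit false

namespace Cfsg.Agent.Lib.helper6.S3366

theorem concrete_sylow : ∃ P : Subgroup (Cfsg.PSp 2 (ZMod 3)), Nat.card P = 81 ∧ c1 ∈ P ∧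
    P ≤ Subgroup.centralizer ({c1} : Set (Cfsg.PSp 2 (ZMod 3))) := by
  have hp3 : Fact (Nat.Prime 3) := ⟨Nat.prime_three⟩
  obtain ⟨φ⟩ := concrete_iso
  have hcard : Nat.card (Subgroup.centralizer ({c1} : Set (Cfsg.PSp 2 (ZMod 3)))) = 648 := by
    rw [← Nat.card_congr φ.toEquiv, card_M]
  have hc1 : c1 ∈ Subgroup.centralizer ({c1} : Set (Cfsg.PSp 2 (ZMod 3))) := by
    rw [Subgroup.mem_centralizer_iff]
    intro y hy
    rw [Set.mem_singleton_iff] at hy
    rw [hy]
  have hH : Nat.card (Subgroup.zpowers (⟨c1, hc1⟩ :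
      Subgroup.centralizer ({c1} : Set (Cfsg.PSp 2 (ZMod 3))))) = 3 ^ 1 := by
    rw [Nat.card_zpowers, pow_one, Subgroup.orderOf_mk]
    exact orderOf_c1
  obtain ⟨Q, hQ, hle⟩ := Sylow.exists_subgroup_card_pow_prime_le 3 (m := 4)
    (by rw [hcard]; norm_num) (Subgroup.zpowers (⟨c1, hc1⟩ :
      Subgroup.centralizer ({c1} : Set (Cfsg.PSp 2 (ZMod 3))))) hH (by norm_num)
  refine ⟨Q.map (Subgroup.subtype _), ?_, ?_, ?_⟩
  · rw [← Nat.card_congr (Q.equivMapOfInjective _ (Subgroup.subtype_injective _)).toEquiv, hQ]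
    norm_num
  · exact ⟨⟨c1, hc1⟩, hle (Subgroup.mem_zpowers _), rfl⟩
  · exact Subgroup.map_subtype_le Q

theorem final_of_abstract {X : Type*} [Group X] (hX : Nonempty (M ≃* X))
    (F : Type*) [Field F] [Fintype F] (hF : Fintype.card F = 3) :
    ∃ (c : Cfsg.PSp 2 F) (S : Sylow 3 (Cfsg.PSp 2 F)), orderOf c = 3 ∧
      c ∈ (S : Subgroup (Cfsg.PSp 2 F)) ∧
      c ∈ Subgroup.centralizer ((S : Subgroup (Cfsg.PSp 2 F)) : Set (Cfsg.PSp 2 F)) ∧
      Nonempty (X ≃* Subgroup.centralizer ({c} : Set (Cfsg.PSp 2 F))) := by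
  have hp3 : Fact (Nat.Prime 3) := ⟨Nat.prime_three⟩
  have e : ZMod 3 ≃+* F := ZMod.ringEquivOfPrime F Nat.prime_three hF
  obtain ⟨E⟩ := Cfsg.Agent.Lib.helper17.u42_psp_congr e 2
  obtain ⟨P, hP, hcP, hPle⟩ := concrete_sylow
  obtain ⟨φ⟩ := concrete_iso
  obtain ⟨ψ⟩ := hX
  have hG : Nat.card (Cfsg.PSp 2 F) = 25920 := by
    rw [← Nat.card_congr E.toEquiv]
    exact Cfsg.Agent.Lib.helper17.u42_card2
  have hP' : Nat.card (P.map E.toMonoidHom) = 3 ^ 4 := by
    rw [← Nat.card_congr (P.equivMapOfInjective _ E.injective).toEquiv, hP]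
    norm_num
  obtain ⟨S, hS⟩ := (IsPGroup.of_card hP').exists_le_sylow
  have hSc := S.card_eq_multiplicity
  have hSdvd : Nat.card S ∣ Nat.card (Cfsg.PSp 2 F) := Subgroup.card_subgroup_dvd_card _
  have hle : (Nat.card (Cfsg.PSp 2 F)).factorization 3 ≤ 4 := by
    by_contra h
    have h5 : 3 ^ 5 ∣ Nat.card (Cfsg.PSp 2 F) := by
      refine dvd_trans ?_ hSdvd
      rw [hSc]
      exact pow_dvd_pow 3 (by omega)
    rw [hG] at h5
    revert h5
    norm_num
  have hSP : P.map E.toMonoidHom = S := Subgroup.eq_of_le_of_card_ge hS (by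
    rw [hSc, hP']
    exact Nat.pow_le_pow_right (by norm_num) hle)
  have hcomm : ∀ y ∈ P.map E.toMonoidHom, y * E c1 = E c1 * y := by
    rintro _ ⟨p, hp, rfl⟩
    have h1 := (Subgroup.mem_centralizer_iff.mp (hPle hp)) c1 rfl
    show E p * E c1 = E c1 * E p
    rw [← map_mul, ← map_mul, h1]
  have hmap : (Subgroup.centralizer ({c1} : Set (Cfsg.PSp 2 (ZMod 3)))).map E.toMonoidHom =
      Subgroup.centralizer ({E c1} : Set (Cfsg.PSp 2 F)) := by
    ext y
    constructor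
    · rintro ⟨x, hx, rfl⟩
      rw [Subgroup.mem_centralizer_iff]
      intro h hh
      rw [Set.mem_singleton_iff] at hh
      subst hh
      have h1 := (Subgroup.mem_centralizer_iff.mp hx) c1 rfl
      show E c1 * E x = E x * E c1
      rw [← map_mul, ← map_mul, h1]
    · intro hy
      have h1 := (Subgroup.mem_centralizer_iff.mp hy) (E c1) rfl
      refine ⟨E.symm y, ?_, E.apply_symm_apply y⟩
      rw [SetLike.mem_coe, Subgroup.mem_centralizer_iff]
      intro h hh
      rw [Set.mem_singleton_iff] at hh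
      subst hh
      apply E.injective
      rw [map_mul, map_mul, E.apply_symm_apply]
      exact h1
  refine ⟨E c1, S, ?_, ?_, ?_, ?_⟩
  · rw [MulEquiv.orderOf_eq]
    exact orderOf_c1
  · rw [← hSP]
    exact ⟨c1, hcP, rfl⟩
  · rw [Subgroup.mem_centralizer_iff]
    intro y hy
    have hy' : y ∈ P.map E.toMonoidHom := by
      rw [hSP]
      exact hy
    exact hcomm y hy'
  · exact ⟨ψ.symm.trans (φ.trans ((E.subgroupMap _).trans (MulEquiv.subgroupCongr hmap)))⟩

end Cfsg.Agent.Lib.helper6.S3366
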