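import Mathlib
import Cfsg.Prelude.Def_Solvable
import Cfsg.Prelude.Def_Transfer
import Cfsg.Prelude.Def_CaseTheorems
import Cfsg.Agent.Lib.helper6.S3366Defs

/-!
S3366: the hypotheses of the statement give the elementwise `Setting`, and `|X| = 648`.
-/

set_option autoImplicit false

namespace Cfsg.Agent.Lib.helper6.S3366

theorem setting_of_hyp {X : Type*} [Group X] [Finite X]
    (hR : Cfsg.IsExtraspecial 3 (Cfsg.pCore 3 X)) (hRcard : Nat.card (Cfsg.pCore 3 X) = 27)
    (hRexp : ∀ r ∈ Cfsg.pCore 3 X, r ^ 3 = 1)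
    (e : X ⧸ Cfsg.pCore 3 X ≃* SL23) (hO2 : Cfsg.pCore 2 X = ⊥) :
    ∃ z : X, Setting X (Cfsg.pCore 3 X)
      (e.toMonoidHom.comp (QuotientGroup.mk' (Cfsg.pCore 3 X))) z := by
  obtain ⟨⟨-, -, hcomm⟩, hcen⟩ := hR
  have hp3 : Fact (Nat.Prime 3) := ⟨Nat.prime_three⟩
  have hnt : Nontrivial (Subgroup.center (Cfsg.pCore 3 X)) :=
    (Finite.one_lt_card_iff_nontrivial).mp (by rw [hcen]; norm_num)
  obtain ⟨z', hz'⟩ := exists_ne (1 : Subgroup.center (Cfsg.pCore 3 X))
  have hzp : Subgroup.zpowers z' = ⊤ := zpowers_eq_top_of_prime_card hcen hz'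
  -- membership in the centre of R, in terms of powers of z
  have key : ∀ (r : X) (hr : r ∈ Cfsg.pCore 3 X),
      (⟨r, hr⟩ : Cfsg.pCore 3 X) ∈ Subgroup.center (Cfsg.pCore 3 X) ↔
        r ∈ Subgroup.zpowers ((z' : Cfsg.pCore 3 X) : X) := by
    intro r hr
    constructor
    · intro h
      have h1 : (⟨⟨r, hr⟩, h⟩ : Subgroup.center (Cfsg.pCore 3 X)) ∈ Subgroup.zpowers z' := by
        rw [hzp]
        exact Subgroup.mem_top _
      obtain ⟨k, hk⟩ := Subgroup.mem_zpowers_iff.mp h1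
      refine Subgroup.mem_zpowers_iff.mpr ⟨k, ?_⟩
      have h2 := congrArg (fun t : Subgroup.center (Cfsg.pCore 3 X) =>
        ((t : Cfsg.pCore 3 X) : X)) hk
      simpa using h2
    · intro h
      obtain ⟨k, hk⟩ := Subgroup.mem_zpowers_iff.mp h
      have h2 : (⟨r, hr⟩ : Cfsg.pCore 3 X) = ((z' ^ k : Subgroup.center (Cfsg.pCore 3 X)) :
          Cfsg.pCore 3 X) := by
        apply Subtype.ext
        simpa using hk.symm
      rw [h2]
      exact (z' ^ k).2
  refine ⟨((z' : Cfsg.pCore 3 X) : X), ?_, ?_, hRcard, hRexp, ?_, ?_, ?_, ?_, ?_⟩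
  · exact e.surjective.comp (QuotientGroup.mk'_surjective _)
  · intro x
    simp only [MonoidHom.coe_comp, MulEquiv.coe_toMonoidHom, Function.comp_apply,
      QuotientGroup.mk'_apply]
    rw [MulEquiv.map_eq_one_iff, QuotientGroup.eq_one_iff]
  · exact (z' : Cfsg.pCore 3 X).2
  · intro h
    apply hz'
    apply Subtype.ext
    apply Subtype.ext
    simpa using h
  · intro r hr
    rw [← key r hr, Subgroup.mem_center_iff]
    constructor
    · intro h g
      apply Subtype.ext
      exact (h g.1 g.2).symm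
    · intro h s hs
      exact (congrArg Subtype.val (h ⟨s, hs⟩)).symm
  · intro r hr s hs
    rw [← key _ (mul_mem (mul_mem (mul_mem hr hs) (inv_mem hr)) (inv_mem hs))]
    have h1 : (⟨r, hr⟩ : ↥(Cfsg.pCore 3 X)) * ⟨s, hs⟩ * (⟨r, hr⟩ : ↥(Cfsg.pCore 3 X))⁻¹ *
        (⟨s, hs⟩ : ↥(Cfsg.pCore 3 X))⁻¹ ∈ commutator ↥(Cfsg.pCore 3 X) := by
      rw [commutator_def, ← commutatorElement_def]
      exact Subgroup.commutator_mem_commutator (Subgroup.mem_top _) (Subgroup.mem_top _)
    rw [hcomm] at h1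
    exact h1
  · intro u hu2 hucent
    have hN : (Subgroup.zpowers u).Normal := by
      constructor
      intro n hn g
      have : g * n * g⁻¹ = n := by
        obtain ⟨k, rfl⟩ := Subgroup.mem_zpowers_iff.mp hn
        have h1 : Commute g u := hucent g
        have h2 : Commute g (u ^ k) := h1.zpow_right k
        rw [h2.eq, mul_inv_cancel_right]
      rw [this]
      exact hn
    have hP : IsPGroup 2 (Subgroup.zpowers u) := by
      intro g
      refine ⟨1, ?_⟩
      obtain ⟨g, hg⟩ := g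
      obtain ⟨k, rfl⟩ := Subgroup.mem_zpowers_iff.mp hg
      apply Subtype.ext
      simp only [pow_one, Subgroup.coe_pow, Subgroup.coe_one]
      rw [← zpow_natCast, ← zpow_mul, mul_comm, zpow_mul, zpow_natCast, hu2, one_zpow]
    have hle : Subgroup.zpowers u ≤ Cfsg.pCore 2 X := le_sSup ⟨hN, hP⟩
    rw [hO2] at hle
    exact (Subgroup.mem_bot).mp (hle (Subgroup.mem_zpowers u))

theorem card_X {X : Type*} [Group X] [Finite X] {R : Subgroup X} {π : X →* SL23} {z : X}
    (S : Setting X R π z) : Nat.card X = 648 := by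
  have hker : π.ker = R := by
    ext x
    rw [MonoidHom.mem_ker]
    exact S.ker x
  have h1 := Subgroup.card_eq_card_quotient_mul_card_subgroup π.ker
  have h2 : Nat.card (X ⧸ π.ker) = 24 := by
    rw [Nat.card_congr (QuotientGroup.quotientKerEquivOfSurjective π S.surj).toEquiv, card_SL23]
  rw [h2, hker, S.card] at h1
  rw [h1]

end Cfsg.Agent.Lib.helper6.S3366
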