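import Mathlib

set_option autoImplicit false

namespace Cfsg.Agent.Lib.helper6.S3663

open scoped Pointwise

/-- PIECE T2 (Mathlib only).  `H = (Fin k → A) ⋊ G`. -/
theorem pg_of_module {G : Type} [Group G] [Finite G] (p r : ℕ) (hp : p.Prime) (hr : r.Prime)
    (hpr : p ≠ r) (hpG : p ∣ Nat.card G) (hr2 : ¬ r ^ 2 ∣ Nat.card G)
    (hedge : ∀ s : ℕ, s.Prime → s ≠ p → s ≠ r → s ∣ Nat.card G → ∃ g : G, orderOf g = p * s)
    (A : Type) [AddCommGroup A] [Finite A] [Nontrivial A] (hA : ∀ a : A, p • a = 0)
    (α : G → A → A) (hα1 : ∀ a : A, α 1 a = a)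
    (hαmul : ∀ (g h : G) (a : A), α (g * h) a = α g (α h a))
    (hαadd : ∀ (g : G) (a b : A), α g (a + b) = α g a + α g b)
    (x : G) (hx : orderOf x = r) (hfpf : ∀ a : A, α x a = a → a = 0)
    (N : ℕ) :
    ∃ (H : Type) (_ : Group H) (_ : Finite H), N < Nat.card H ∧
      ((∀ q : ℕ, q.Prime → (q ∣ Nat.card G ↔ q ∣ Nat.card H)) ∧
       (∀ q s : ℕ, q.Prime → s.Prime → q ≠ s →
         ((∃ g : G, orderOf g = q * s) ↔ (∃ g : H, orderOf g = q * s)))) := by
  classical
  haveI : Fact p.Prime := ⟨hp⟩
  haveI : Fact r.Prime := ⟨hr⟩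
  have hα0 : ∀ g, α g 0 = 0 := by
    intro g
    have h := hαadd g 0 0
    rw [add_zero] at h
    exact left_eq_add.mp h
  have hαinv : ∀ g a, α g⁻¹ (α g a) = a := by
    intro g a; rw [← hαmul, inv_mul_cancel, hα1]
  have hαinv' : ∀ g a, α g (α g⁻¹ a) = a := by
    intro g a; rw [← hαmul, mul_inv_cancel, hα1]
  let St : A → Subgroup G := fun b =>
    { carrier := {g | α g b = b}
      mul_mem' := fun {g h} hg hh => by
        show α (g * h) b = b
        rw [hαmul, (hh : α h b = b), (hg : α g b = b)]
      one_mem' := hα1 b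
      inv_mem' := fun {g} hg => by
        show α g⁻¹ b = b
        have h0 := hαinv g b
        rw [(hg : α g b = b)] at h0
        exact h0 }
  have hcardG : Nat.card G ≠ 0 := Nat.card_pos.ne'
  -- every element of order `r` acts without fixed points
  have hfpf' : ∀ y : G, orderOf y = r → ∀ a : A, α y a = a → a = 0 := by
    intro y hy a hya
    have hrG : r ∣ Nat.card G := hx ▸ orderOf_dvd_natCard x
    have hfac : (Nat.card G).factorization r = 1 := by
      have h1 : 1 ≤ (Nat.card G).factorization r :=
        (hr.pow_dvd_iff_le_factorization hcardG).mp (by simpa using hrG)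
      have h2 : ¬ 2 ≤ (Nat.card G).factorization r := fun h =>
        hr2 ((hr.pow_dvd_iff_le_factorization hcardG).mpr h)
      omega
    have hcardP : ∀ P : Sylow r G, Nat.card P = r := by
      intro P
      rw [Sylow.card_eq_multiplicity, hfac, pow_one]
    have hpx : IsPGroup r (Subgroup.zpowers x) :=
      IsPGroup.of_card (n := 1) (by rw [Nat.card_zpowers, hx, pow_one])
    have hpy : IsPGroup r (Subgroup.zpowers y) :=
      IsPGroup.of_card (n := 1) (by rw [Nat.card_zpowers, hy, pow_one])
    obtain ⟨P, hP⟩ := hpx.exists_le_sylow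
    obtain ⟨Q, hQ⟩ := hpy.exists_le_sylow
    obtain ⟨c, hc⟩ := MulAction.exists_smul_eq G Q P
    have hxP : Subgroup.zpowers x = (P : Subgroup G) :=
      Subgroup.eq_of_le_of_card_ge hP (by rw [Nat.card_zpowers, hx, hcardP P])
    have hyQ : y ∈ (Q : Subgroup G) := hQ (Subgroup.mem_zpowers y)
    have hcy : c * y * c⁻¹ ∈ (P : Subgroup G) := by
      have h1 : MulAut.conj c • y ∈ MulAut.conj c • (Q : Subgroup G) :=
        Subgroup.smul_mem_pointwise_smul y (MulAut.conj c) Q hyQ
      have h2 : ((c • Q : Sylow r G) : Subgroup G) = MulAut.conj c • (Q : Subgroup G) := rfl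
      rw [← hc, h2]
      exact h1
    have hord : orderOf (c * y * c⁻¹) = r := by
      have := (MulAut.conj c).orderOf_eq y
      rw [MulAut.conj_apply] at this
      rw [this, hy]
    have hzP : Subgroup.zpowers (c * y * c⁻¹) = (P : Subgroup G) :=
      Subgroup.eq_of_le_of_card_ge ((Subgroup.zpowers_le).mpr hcy)
        (by rw [Nat.card_zpowers, hord, hcardP P])
    have hxz : x ∈ Subgroup.zpowers (c * y * c⁻¹) := by
      rw [hzP, ← hxP]; exact Subgroup.mem_zpowers x
    have hfix : c * y * c⁻¹ ∈ St (α c a) := by
      show α (c * y * c⁻¹) (α c a) = α c a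
      rw [hαmul, hαmul, hαinv c a, hya]
    have hxSt : x ∈ St (α c a) := (Subgroup.zpowers_le.mpr hfix) hxz
    have h0 : α c a = 0 := hfpf _ hxSt
    have h1 := hαinv c a
    rw [h0, hα0] at h1
    exact h1.symm
  -- the semidirect product
  let β : G → ((Fin (N + 1) → A) ≃+ (Fin (N + 1) → A)) := fun g =>
    { toFun := fun f i => α g (f i)
      invFun := fun f i => α g⁻¹ (f i)
      left_inv := fun f => by funext i; exact hαinv g (f i)
      right_inv := fun f => by funext i; exact hαinv' g (f i)
      map_add' := fun f f' => by funext i; exact hαadd g (f i) (f' i) }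
  let φ : G →* MulAut (Multiplicative (Fin (N + 1) → A)) :=
    { toFun := fun g => AddEquiv.toMultiplicative (β g)
      map_one' := by
        refine MulEquiv.ext fun f => ?_
        show Multiplicative.ofAdd (fun i => α 1 (Multiplicative.toAdd f i)) = f
        simp only [hα1]
        rfl
      map_mul' := fun g h => by
        refine MulEquiv.ext fun f => ?_
        show Multiplicative.ofAdd (fun i => α (g * h) (Multiplicative.toAdd f i))
          = Multiplicative.ofAdd (fun i => α g (α h (Multiplicative.toAdd f i)))
        simp only [hαmul] }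
  have hφ : ∀ (g : G) (n : Multiplicative (Fin (N + 1) → A)) (i : Fin (N + 1)),
      Multiplicative.toAdd (φ g n) i = α g (Multiplicative.toAdd n i) := fun g n i => rfl
  have hexp : ∀ n : Multiplicative (Fin (N + 1) → A), n ^ p = 1 := by
    intro n
    apply Multiplicative.toAdd.injective
    rw [toAdd_pow, toAdd_one]
    funext i
    rw [Pi.smul_apply, hA, Pi.zero_apply]
  haveI hfin : Finite (Multiplicative (Fin (N + 1) → A) ⋊[φ] G) :=
    Finite.of_equiv (Multiplicative (Fin (N + 1) → A) × G) SemidirectProduct.equivProd.symm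
  have hcardMV : Nat.card (Multiplicative (Fin (N + 1) → A)) = Nat.card A ^ (N + 1) := by
    rw [Nat.card_congr (Multiplicative.toAdd : Multiplicative (Fin (N + 1) → A) ≃ _),
      Nat.card_fun, Nat.card_fin]
  have hcardH : Nat.card (Multiplicative (Fin (N + 1) → A) ⋊[φ] G)
      = Nat.card A ^ (N + 1) * Nat.card G := by
    rw [SemidirectProduct.card, hcardMV]
  -- `A` is a `p`-group
  obtain ⟨m, hm⟩ : ∃ m, Nat.card A = p ^ m := by
    have hpA : IsPGroup p (Multiplicative A) := by
      intro a
      refine ⟨1, ?_⟩
      apply Multiplicative.toAdd.injective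
      rw [pow_one, toAdd_pow, toAdd_one, hA]
    obtain ⟨m, hm⟩ := IsPGroup.iff_card.mp hpA
    refine ⟨m, ?_⟩
    rw [← hm]
    exact (Nat.card_congr (Multiplicative.toAdd : Multiplicative A ≃ A)).symm
  refine ⟨Multiplicative (Fin (N + 1) → A) ⋊[φ] G, inferInstance, hfin, ?_, ?_, ?_⟩
  · -- size
    rw [hcardH]
    have h1 : 2 ≤ Nat.card A := Finite.one_lt_card
    have h2 : 1 ≤ Nat.card G := Nat.card_pos
    calc N < 2 ^ (N + 1) := lt_of_lt_of_le Nat.lt_two_pow_self
            (Nat.pow_le_pow_right (by norm_num) (Nat.le_succ N))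
      _ ≤ Nat.card A ^ (N + 1) := Nat.pow_le_pow_left h1 _
      _ = Nat.card A ^ (N + 1) * 1 := (mul_one _).symm
      _ ≤ Nat.card A ^ (N + 1) * Nat.card G := Nat.mul_le_mul_left _ h2
  · -- prime divisors
    intro q hq
    rw [hcardH]
    constructor
    · intro h
      exact Dvd.dvd.mul_left h _
    · intro h
      rcases (Nat.Prime.dvd_mul hq).mp h with h1 | h1
      · rw [hm, ← pow_mul] at h1
        have h2 := hq.dvd_of_dvd_pow h1
        rw [(Nat.prime_dvd_prime_iff_eq hq hp).mp h2]
        exact hpG
      · exact h1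
  · -- element orders
    intro q s hq hs hqs
    constructor
    · rintro ⟨g, hg⟩
      refine ⟨SemidirectProduct.inr g, ?_⟩
      rw [orderOf_injective (SemidirectProduct.inr : G →* Multiplicative (Fin (N + 1) → A) ⋊[φ] G)
        SemidirectProduct.inr_injective g, hg]
    · rintro ⟨h, hh⟩
      have hd : orderOf h.right ∣ q * s := by
        rw [← hh]
        exact orderOf_map_dvd (SemidirectProduct.rightHom :
          Multiplicative (Fin (N + 1) → A) ⋊[φ] G →* G) h
      have hdpos : 0 < orderOf h.right := orderOf_pos h.right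
      -- `h ^ d` lies in the kernel
      have hpowr : ∀ k : ℕ, (h ^ k).right = h.right ^ k := fun k =>
        map_pow (SemidirectProduct.rightHom :
          Multiplicative (Fin (N + 1) → A) ⋊[φ] G →* G) h k
      have hker : h ^ orderOf h.right = SemidirectProduct.inl (h ^ orderOf h.right).left := by
        refine SemidirectProduct.ext ?_ ?_
        · rw [SemidirectProduct.left_inl]
        · rw [SemidirectProduct.right_inl, hpowr, pow_orderOf_eq_one]
      have hdp : h ^ (orderOf h.right * p) = 1 := by
        rw [pow_mul, hker, ← map_pow, hexp, map_one]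
      have hdvd2 : q * s ∣ orderOf h.right * p := by
        rw [← hh]; exact orderOf_dvd_of_pow_eq_one hdp
      obtain ⟨e, he⟩ := hd
      have hep : e ∣ p := by
        rw [he] at hdvd2
        exact Nat.dvd_of_mul_dvd_mul_left hdpos hdvd2
      rcases (Nat.dvd_prime hp).mp hep with he1 | he1
      · exact ⟨h.right, by rw [he, he1, mul_one]⟩
      · -- `q * s = d * p`
        rw [he1] at he
        have key : ∃ t : ℕ, t.Prime ∧ t ≠ p ∧ orderOf h.right = t ∧ p * t = q * s := by
          have hpqs : p ∣ q * s := ⟨orderOf h.right, by rw [he, mul_comm]⟩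
          rcases (Nat.Prime.dvd_mul hp).mp hpqs with h1 | h1
          · have hpq : p = q := (Nat.prime_dvd_prime_iff_eq hp hq).mp h1
            have h2 : orderOf h.right = s := by
              rw [← hpq] at he
              exact (Nat.eq_of_mul_eq_mul_left hp.pos (by rw [he, mul_comm])).symm
            exact ⟨s, hs, fun h3 => hqs (by rw [← hpq, h3]), h2, by rw [hpq]⟩
          · have hps : p = s := (Nat.prime_dvd_prime_iff_eq hp hs).mp h1
            have h2 : orderOf h.right = q := by
              rw [← hps] at he
              exact (Nat.eq_of_mul_eq_mul_right hp.pos he).symm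
            exact ⟨q, hq, fun h3 => hqs (by rw [h3, hps]), h2, by rw [hps, mul_comm]⟩
        obtain ⟨t, ht, htp, hdt, hpt⟩ := key
        by_cases htr : t = r
        · exfalso
          rw [htr] at hdt hpt
          rw [hdt] at hker
          -- the element `n`
          have hn1 : (h ^ r).left ≠ 1 := by
            intro h1
            rw [h1, map_one] at hker
            have h2 : q * s ∣ r := by rw [← hh]; exact orderOf_dvd_of_pow_eq_one hker
            rw [← hpt] at h2
            have h3 := Nat.le_of_dvd hr.pos h2
            have h4 : 2 * r ≤ p * r := Nat.mul_le_mul_right r hp.two_le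
            have h5 := hr.pos
            omega
          have hcomm : h * h ^ r = h ^ r * h := (pow_mul_comm' h r).symm
          have hleft := congrArg SemidirectProduct.left hcomm
          rw [SemidirectProduct.mul_left, SemidirectProduct.mul_left] at hleft
          have hr1 : (h ^ r).right = 1 := by rw [hpowr, ← hdt, pow_orderOf_eq_one]
          rw [hr1, map_one, MulAut.one_apply, mul_comm (h ^ r).left h.left] at hleft
          have hfixn : φ h.right (h ^ r).left = (h ^ r).left := mul_left_cancel hleft
          have hex : ∃ i, Multiplicative.toAdd (h ^ r).left i ≠ 0 := by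
            by_contra hcon
            apply hn1
            apply Multiplicative.toAdd.injective
            funext i
            by_contra hi
            exact hcon ⟨i, hi⟩
          obtain ⟨i, hi⟩ := hex
          apply hi
          apply hfpf' h.right hdt
          rw [← hφ, hfixn]
        · have htG : t ∣ Nat.card G := hdt ▸ orderOf_dvd_natCard h.right
          obtain ⟨g', hg'⟩ := hedge t ht htp htr htG
          exact ⟨g', by rw [hg', hpt]⟩

end Cfsg.Agent.Lib.helper6.S3663
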