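import Mathlib

set_option autoImplicit false

namespace Cfsg.Agent.Lib.helper6.S4067

open Subgroup MulAction

variable {G : Type*} [Group G] [Finite G]

/-- T1: the transvection automorphism. -/
theorem exists_transvection {p : ℕ} (hp : p.Prime) (hc : commutator G ≤ center G)
    (hcard : Nat.card (commutator G) = p) (u y : G) (hyu : y * u ≠ u * y)
    (hpow : (y * u) ^ p = y ^ p) :
    ∃ τ : MulAut G, (∀ k : G, k * u = u * k → τ k = k) ∧ τ y = y * u := by
  classical
  haveI : Fact p.Prime := ⟨hp⟩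
  have hcm : ∀ a b : G, a * b * a⁻¹ * b⁻¹ ∈ commutator G := fun a b => by
    rw [commutator_def, ← commutatorElement_def]
    exact commutator_mem_commutator (mem_top a) (mem_top b)
  have hz : ∀ a b : G, a * b * a⁻¹ * b⁻¹ ∈ center G := fun a b => hc (hcm a b)
  -- the homomorphism x ↦ ⁅x, u⁆
  obtain ⟨χ, hχ⟩ : ∃ χ : G →* G, ∀ x, χ x = x * u * x⁻¹ * u⁻¹ := by
    refine ⟨{ toFun := fun x => x * u * x⁻¹ * u⁻¹, map_one' := by group, map_mul' := ?_ },
      fun _ => rfl⟩
    intro a b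
    have h1 := (mem_center_iff.1 (hz b u)) a
    have h3 := (mem_center_iff.1 (hz b u)) (a * u * a⁻¹ * u⁻¹)
    have h2 : (a * b) * u * (a * b)⁻¹ * u⁻¹
        = a * (b * u * b⁻¹ * u⁻¹) * (u * a⁻¹ * u⁻¹) := by group
    show (a * b) * u * (a * b)⁻¹ * u⁻¹ = (a * u * a⁻¹ * u⁻¹) * (b * u * b⁻¹ * u⁻¹)
    rw [h2, h1, h3]; group
  have hχu : χ u = 1 := by rw [hχ]; group
  have hχK : ∀ k : G, k * u = u * k ↔ χ k = 1 := by
    intro k
    rw [hχ]
    constructor
    · intro h; rw [h]; group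
    · intro h
      have : k * u = (k * u * k⁻¹ * u⁻¹) * (u * k) := by group
      rw [this, h, one_mul]
  obtain ⟨c, hcdef⟩ : ∃ c : G, c = χ y := ⟨_, rfl⟩
  have hc1 : c ≠ 1 := by
    rw [hcdef]; intro h; exact hyu ((hχK y).2 h)
  have hcmem : c ∈ commutator G := by rw [hcdef, hχ]; exact hcm y u
  have hχmem : ∀ x, χ x ∈ commutator G := fun x => by rw [hχ]; exact hcm x u
  have hcc1 : (⟨c, hcmem⟩ : commutator G) ≠ 1 := fun h => hc1 (congrArg Subtype.val h)
  have hex : ∀ x, ∃ i : ℤ, χ x = c ^ i := by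
    intro x
    have hm : (⟨χ x, hχmem x⟩ : commutator G) ∈ zpowers (⟨c, hcmem⟩ : commutator G) :=
      mem_zpowers_of_prime_card hcard hcc1
    obtain ⟨i, hi⟩ := mem_zpowers_iff.1 hm
    refine ⟨i, ?_⟩
    have := congrArg Subtype.val hi
    simpa using this.symm
  have hcp : c ^ p = 1 := by
    have h := pow_card_eq_one' (G := commutator G) (x := ⟨c, hcmem⟩)
    rw [hcard] at h
    have := congrArg Subtype.val h
    simpa using this
  have hord : orderOf c = p := orderOf_eq_prime hcp hc1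
  -- the correction term
  obtain ⟨v, hv⟩ : ∃ v : G, v = y * u := ⟨_, rfl⟩
  have hvp : v ^ (p : ℤ) = y ^ (p : ℤ) := by
    rw [zpow_natCast, zpow_natCast, hv, hpow]
  obtain ⟨d, hd⟩ : ∃ d : ℤ → G, ∀ i, d i = v ^ i * y ^ (-i) := ⟨_, fun _ => rfl⟩
  have hd0 : d 0 = 1 := by rw [hd]; simp
  have hd1 : d 1 * y = v := by rw [hd]; simp
  have F1 : ∀ i j : ℤ, c ^ i = c ^ j → d i = d j := by
    intro i j h
    have h' := (zpow_eq_zpow_iff_modEq.1 h)
    rw [hord] at h'
    obtain ⟨m, hm⟩ := (Int.modEq_iff_dvd.1 h')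
    have hj : j = i + (p : ℤ) * m := by linarith
    rw [hd, hd, hj]
    have e1 : v ^ (i + (p : ℤ) * m) = v ^ i * (y ^ (p : ℤ)) ^ m := by
      rw [zpow_add, zpow_mul, hvp]
    have e2 : y ^ (-(i + (p : ℤ) * m)) = ((y ^ (p : ℤ)) ^ m)⁻¹ * y ^ (-i) := by
      rw [neg_add_rev, zpow_add, zpow_neg, zpow_mul]
    rw [e1, e2]; group
  have Fa : ∀ i j : ℤ, d (i + j) = d i * (y ^ i * d j * y ^ (-i)) := by
    intro i j
    rw [hd, hd, hd, zpow_add, neg_add_rev, zpow_add]; group
  -- d j centralizes the centralizer of u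
  have hχv : χ v = c := by rw [hv, map_mul, hχu, mul_one, hcdef]
  have hχd : ∀ i, χ (d i) = 1 := by
    intro i
    rw [hd, map_mul, map_zpow, map_zpow, hχv, ← hcdef, ← zpow_add]; simp
  have F2 : ∀ (j : ℤ) (k : G), χ k = 1 → d j * k = k * d j := by
    have huN : u ∈ centralizer (χ.ker : Set G) := by
      rw [mem_centralizer_iff]
      intro k hk
      exact (hχK k).2 (MonoidHom.mem_ker.1 hk)
    have hdN : ∀ j : ℤ, d j ∈ centralizer (χ.ker : Set G) := by
      intro j
      rw [hd, ← QuotientGroup.eq_one_iff]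
      have hvy : ((v : G) : G ⧸ centralizer (χ.ker : Set G)) = (y : G) := by
        rw [hv, QuotientGroup.mk_mul, (QuotientGroup.eq_one_iff u).2 huN, mul_one]
      rw [QuotientGroup.mk_mul, QuotientGroup.mk_zpow, QuotientGroup.mk_zpow, hvy, ← zpow_add]
      simp
    intro j k hk
    have := (mem_centralizer_iff.1 (hdN j)) k (MonoidHom.mem_ker.2 hk)
    exact this.symm
  choose ι hι using hex
  have hdι : ∀ x (i : ℤ), χ x = c ^ i → d (ι x) = d i := fun x i h =>
    F1 _ _ ((hι x).symm.trans h)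
  -- the endomorphism
  obtain ⟨τ₀, hτ₀⟩ : ∃ τ₀ : G →* G, ∀ x, τ₀ x = d (ι x) * x := by
    refine ⟨{ toFun := fun x => d (ι x) * x, map_one' := ?_, map_mul' := ?_ }, fun _ => rfl⟩
    · show d (ι 1) * 1 = 1
      rw [hdι 1 0 (by simp), hd0, mul_one]
    · intro x x'
      show d (ι (x * x')) * (x * x') = d (ι x) * x * (d (ι x') * x')
      have h1 : d (ι (x * x')) = d (ι x + ι x') :=
        hdι _ _ (by rw [map_mul, hι x, hι x', zpow_add])
      have hk : χ (y ^ (-ι x) * x) = 1 := by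
        rw [map_mul, map_zpow, ← hcdef, hι x, ← zpow_add]; simp
      have h2 := F2 (ι x') (y ^ (-ι x) * x) hk
      rw [h1, Fa]
      calc d (ι x) * (y ^ (ι x) * d (ι x') * y ^ (-ι x)) * (x * x')
          = d (ι x) * y ^ (ι x) * (d (ι x') * (y ^ (-ι x) * x)) * x' := by group
        _ = d (ι x) * y ^ (ι x) * ((y ^ (-ι x) * x) * d (ι x')) * x' := by rw [h2]
        _ = d (ι x) * x * (d (ι x') * x') := by group
  have hinj : Function.Injective τ₀ := by
    rw [injective_iff_map_eq_one]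
    intro x hx
    rw [hτ₀] at hx
    have h1 : χ x = 1 := by
      have := congrArg χ hx
      rwa [map_mul, hχd, one_mul, map_one] at this
    have h2 : d (ι x) = 1 := by rw [hdι x 0 (by simp [h1]), hd0]
    rwa [h2, one_mul] at hx
  refine ⟨MulEquiv.ofBijective τ₀ ⟨hinj, Finite.surjective_of_injective hinj⟩, ?_, ?_⟩
  · intro k hk
    show τ₀ k = k
    rw [hτ₀, hdι k 0 (by simp [(hχK k).1 hk]), hd0, one_mul]
  · show τ₀ y = y * u
    rw [hτ₀, hdι y 1 (by simp [hcdef]), hd1, hv]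

end Cfsg.Agent.Lib.helper6.S4067
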