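import Cfsg.Agent.Lib.helper26.S4409Defs

/-!
# S4409 piece KFN1 (`kfn1`), helper6
-/

set_option autoImplicit false

namespace Cfsg.Agent.Lib.helper26.S4409

open scoped Pointwise

theorem kfn1 {P : Type*} [Group P] [Finite P] (hP : IsPGroup 2 P)
    (hN : ∀ A : Subgroup P, IsMulCommutative ↥A → Nat.card ↥A = 8 → IsCyclic ↥A)
    (t z : P) (ht : orderOf t = 2) (hz : orderOf z = 2) (hzc : z ∈ Subgroup.center P)
    (htz : t ∉ Subgroup.zpowers z) : Nat.card ↥(Subgroup.centralizer ({t} : Set P)) = 4 := by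
  classical
  haveI : Fact (Nat.Prime 2) := ⟨Nat.prime_two⟩
  set C := Subgroup.centralizer ({t} : Set P) with hC
  have htC : t ∈ C :=
    Subgroup.mem_centralizer_iff.mpr (fun h hh => by rw [Set.mem_singleton_iff.mp hh])
  have hzcomm : ∀ g : P, g * z = z * g := fun g => (Subgroup.mem_center_iff.mp hzc g)
  have hzC : z ∈ C :=
    Subgroup.mem_centralizer_iff.mpr (fun h hh => by
      rw [Set.mem_singleton_iff.mp hh]; exact hzcomm t)
  have hCcomm : ∀ c ∈ C, t * c = c * t := fun c hc => Subgroup.mem_centralizer_iff.mp hc t rfl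
  have hCp : IsPGroup 2 ↥C := hP.to_subgroup C
  obtain ⟨k, hk⟩ := IsPGroup.iff_card.mp hCp
  have hzpC : Subgroup.zpowers z ≤ C := Subgroup.zpowers_le.mpr hzC
  have hcz : Nat.card ↥(Subgroup.zpowers z) = 2 := by rw [Nat.card_zpowers, hz]
  have hk2 : 2 ≤ k := by
    by_contra hcon
    have hk1 : k ≤ 1 := by omega
    have hle : Nat.card ↥C ≤ Nat.card ↥(Subgroup.zpowers z) := by
      rw [hk, hcz]
      calc 2 ^ k ≤ 2 ^ 1 := Nat.pow_le_pow_right (by norm_num) hk1
        _ = 2 := by norm_num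
    have heq : Subgroup.zpowers z = C := Subgroup.eq_of_le_of_card_ge hzpC hle
    exact htz (heq ▸ htC)
  have hk3 : k < 3 := by
    by_contra hcon
    have hk3 : 3 ≤ k := by omega
    have hdvd : 2 ^ 3 ∣ Nat.card ↥C := by rw [hk]; exact pow_dvd_pow 2 hk3
    have hNz : (Subgroup.zpowers (⟨z, hzC⟩ : ↥C)).Normal := by
      refine ⟨fun a ha g => ?_⟩
      have hga : g * a * g⁻¹ = a := by
        obtain ⟨i, rfl⟩ := Subgroup.mem_zpowers_iff.mp ha
        have hc : Commute g (⟨z, hzC⟩ : ↥C) := Subtype.ext (hzcomm g.1)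
        rw [(hc.zpow_right i).eq, mul_inv_cancel_right]
      rw [hga]; exact ha
    have hV4 : Nat.card ↥(Subgroup.zpowers (⟨t, htC⟩ : ↥C) ⊔ Subgroup.zpowers (⟨z, hzC⟩ : ↥C)) ≤ 4 := by
      have h1 : ((Subgroup.zpowers (⟨t, htC⟩ : ↥C) ⊔ Subgroup.zpowers (⟨z, hzC⟩ : ↥C) :
          Subgroup ↥C) : Set ↥C) =
          (Subgroup.zpowers (⟨t, htC⟩ : ↥C) : Set ↥C) * (Subgroup.zpowers (⟨z, hzC⟩ : ↥C) : Set ↥C) :=
        Subgroup.mul_normal _ _
      have h2 : Nat.card ((Subgroup.zpowers (⟨t, htC⟩ : ↥C) : Set ↥C)) = 2 := by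
        show Nat.card ↥(Subgroup.zpowers (⟨t, htC⟩ : ↥C)) = 2
        rw [Nat.card_zpowers, Subgroup.orderOf_mk, ht]
      have h3 : Nat.card ((Subgroup.zpowers (⟨z, hzC⟩ : ↥C) : Set ↥C)) = 2 := by
        show Nat.card ↥(Subgroup.zpowers (⟨z, hzC⟩ : ↥C)) = 2
        rw [Nat.card_zpowers, Subgroup.orderOf_mk, hz]
      calc Nat.card ↥(Subgroup.zpowers (⟨t, htC⟩ : ↥C) ⊔ Subgroup.zpowers (⟨z, hzC⟩ : ↥C))
          = Nat.card (((Subgroup.zpowers (⟨t, htC⟩ : ↥C) ⊔ Subgroup.zpowers (⟨z, hzC⟩ : ↥C) :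
              Subgroup ↥C) : Set ↥C)) := rfl
        _ = Nat.card (((Subgroup.zpowers (⟨t, htC⟩ : ↥C) : Set ↥C) *
              (Subgroup.zpowers (⟨z, hzC⟩ : ↥C) : Set ↥C) : Set ↥C)) := by rw [h1]
        _ ≤ Nat.card ((Subgroup.zpowers (⟨t, htC⟩ : ↥C) : Set ↥C)) *
              Nat.card ((Subgroup.zpowers (⟨z, hzC⟩ : ↥C) : Set ↥C)) := Set.natCard_mul_le
        _ = 4 := by rw [h2, h3]
    obtain ⟨n, hn⟩ := IsPGroup.iff_card.mp
      (hCp.to_subgroup (Subgroup.zpowers (⟨t, htC⟩ : ↥C) ⊔ Subgroup.zpowers (⟨z, hzC⟩ : ↥C)))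
    have hn3 : n ≤ 3 := by
      by_contra hc
      have h4 : 4 ≤ n := by omega
      have h5 : 2 ^ 4 ≤ 2 ^ n := Nat.pow_le_pow_right (by norm_num) h4
      rw [hn] at hV4
      omega
    obtain ⟨K, hK8, hVK⟩ := Sylow.exists_subgroup_card_pow_prime_le 2 hdvd _ hn hn3
    have hA8 : Nat.card ↥(K.map C.subtype) = 8 := by
      rw [Subgroup.card_map_of_injective C.subtype_injective, hK8]; norm_num
    have htA : t ∈ K.map C.subtype :=
      ⟨⟨t, htC⟩, hVK (Subgroup.mem_sup_left (Subgroup.mem_zpowers _)), rfl⟩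
    have hzA : z ∈ K.map C.subtype :=
      ⟨⟨z, hzC⟩, hVK (Subgroup.mem_sup_right (Subgroup.mem_zpowers _)), rfl⟩
    have hAC : K.map C.subtype ≤ C := by
      rintro _ ⟨c, -, rfl⟩; exact c.2
    have htAc : (⟨t, htA⟩ : ↥(K.map C.subtype)) ∈ Subgroup.center ↥(K.map C.subtype) :=
      Subgroup.mem_center_iff.mpr (fun g => Subtype.ext (hCcomm g.1 (hAC g.2)).symm)
    have hzAc : (⟨z, hzA⟩ : ↥(K.map C.subtype)) ∈ Subgroup.center ↥(K.map C.subtype) :=
      Subgroup.mem_center_iff.mpr (fun g => Subtype.ext (hzcomm g.1))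
    have hcZ : Nat.card ↥(Subgroup.zpowers (⟨z, hzA⟩ : ↥(K.map C.subtype))) = 2 := by
      rw [Nat.card_zpowers, Subgroup.orderOf_mk, hz]
    have hZle : Subgroup.zpowers (⟨z, hzA⟩ : ↥(K.map C.subtype)) ≤
        Subgroup.center ↥(K.map C.subtype) := Subgroup.zpowers_le.mpr hzAc
    have hZ3 : 2 < Nat.card ↥(Subgroup.center ↥(K.map C.subtype)) := by
      by_contra hcon
      have heq : Subgroup.zpowers (⟨z, hzA⟩ : ↥(K.map C.subtype)) =
          Subgroup.center ↥(K.map C.subtype) :=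
        Subgroup.eq_of_le_of_card_ge hZle (by rw [hcZ]; omega)
      have hmem : (⟨t, htA⟩ : ↥(K.map C.subtype)) ∈
          Subgroup.zpowers (⟨z, hzA⟩ : ↥(K.map C.subtype)) := heq ▸ htAc
      obtain ⟨i, hi⟩ := Subgroup.mem_zpowers_iff.mp hmem
      apply htz
      refine Subgroup.mem_zpowers_iff.mpr ⟨i, ?_⟩
      have h6 := congrArg Subtype.val hi
      simpa using h6
    have hidx : (Subgroup.center ↥(K.map C.subtype)).index ∣ 2 := by
      have h1 : Nat.card ↥(Subgroup.center ↥(K.map C.subtype)) *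
          (Subgroup.center ↥(K.map C.subtype)).index = 8 := by
        rw [Subgroup.card_mul_index, hA8]
      have h2 : Nat.card ↥(Subgroup.center ↥(K.map C.subtype)) ∣ 8 := Dvd.intro _ h1
      have h3 : Nat.card ↥(Subgroup.center ↥(K.map C.subtype)) ≤ 8 :=
        Nat.le_of_dvd (by norm_num) h2
      generalize Nat.card ↥(Subgroup.center ↥(K.map C.subtype)) = c at h1 h2 h3 hZ3
      generalize (Subgroup.center ↥(K.map C.subtype)).index = d at h1 ⊢
      interval_cases c <;> first | omega | exact ⟨1, by omega⟩ | exact ⟨2, by omega⟩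
    have hcq : IsCyclic (↥(K.map C.subtype) ⧸ Subgroup.center ↥(K.map C.subtype)) :=
      isCyclic_of_card_dvd_prime (p := 2) (by rw [← Subgroup.index_eq_card]; exact hidx)
    have hAcomm : IsMulCommutative ↥(K.map C.subtype) :=
      MonoidHom.isMulCommutative_of_isCyclic_of_ker_le_center
        (QuotientGroup.mk' (Subgroup.center ↥(K.map C.subtype)))
        (by rw [QuotientGroup.ker_mk'])
    have hcyc : IsCyclic ↥(K.map C.subtype) := hN _ hAcomm hA8
    obtain ⟨g, hg⟩ := (Subgroup.isCyclic_iff_exists_zpowers_eq_top (K.map C.subtype)).mp hcyc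
    have hog : orderOf g = 8 := by rw [← Nat.card_zpowers, hg, hA8]
    have hg8 : g ^ (8 : ℤ) = 1 := by
      have h0 := pow_orderOf_eq_one g
      rw [hog] at h0
      exact_mod_cast h0
    have key : ∀ x : P, x ∈ Subgroup.zpowers g → orderOf x = 2 → x = g ^ (4 : ℤ) := by
      intro x hx hox
      obtain ⟨i, rfl⟩ := Subgroup.mem_zpowers_iff.mp hx
      have h1 : (g ^ i) ^ (2 : ℤ) = 1 := by
        have h0 := pow_orderOf_eq_one (g ^ i)
        rw [hox] at h0
        exact_mod_cast h0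
      rw [← zpow_mul] at h1
      have h2 : ((orderOf g : ℕ) : ℤ) ∣ i * 2 := orderOf_dvd_iff_zpow_eq_one.mpr h1
      rw [hog] at h2
      obtain ⟨c, hc⟩ := h2
      push_cast at hc
      rcases Int.even_or_odd' c with ⟨m, hm | hm⟩
      · exfalso
        have hi : i = 8 * m := by omega
        have h3 : g ^ i = 1 := by rw [hi, zpow_mul, hg8, one_zpow]
        rw [h3, orderOf_one] at hox
        omega
      · have hi : i = 8 * m + 4 := by omega
        rw [hi, zpow_add, zpow_mul, hg8, one_zpow, one_mul]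
    have e1 := key t (by rw [hg]; exact htA) ht
    have e2 := key z (by rw [hg]; exact hzA) hz
    exact htz (by rw [e1, ← e2]; exact Subgroup.mem_zpowers z)
  have hk' : k = 2 := by omega
  rw [hk, hk']
  norm_num

end Cfsg.Agent.Lib.helper26.S4409
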