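import Mathlib
import Cfsg.Agent.Lib.helper89.S60Defs

set_option autoImplicit false

namespace Cfsg.Agent.Lib.helper89.S60

open Matrix Cfsg Cfsg.Geo

/-- ASQ (S). s*s = c•1 (hT), s^4 = 1 (exponent 4), so c^2 = 1, c = ±1. -/
theorem s60_sq {F : Type*} [Field F] [Fintype F] (h2 : (2 : F) ≠ 0) (R : Subgroup (GL (Fin 4) F))
    (hRs : IsSymplecticTypeGroup 2 R) (hT : ∀ s ∈ R, TLike R s) :
    ∀ s ∈ R, (s : Matrix (Fin 4) (Fin 4) F) * (s : Matrix (Fin 4) (Fin 4) F) = 1 ∨ (s : Matrix (Fin 4) (Fin 4) F) * (s : Matrix (Fin 4) (Fin 4) F) = -1 := by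
  intro s hs
  obtain ⟨⟨c, hc⟩, -⟩ := hT s hs
  have hexp : Monoid.exponent R = 4 := by rw [hRs.exponent_eq]; rfl
  have h4 : (⟨s, hs⟩ : R) ^ 4 = 1 := by
    have := Monoid.pow_exponent_eq_one (⟨s, hs⟩ : R)
    rwa [hexp] at this
  have h4' : s ^ 4 = 1 := by
    have := congrArg (Subtype.val) h4
    simpa using this
  have h4m : (s : Matrix (Fin 4) (Fin 4) F) ^ 4 = 1 := by
    have := congrArg (fun g : GL (Fin 4) F => (g : Matrix (Fin 4) (Fin 4) F)) h4'
    simpa using this
  have hcc : (c * c) • (1 : Matrix (Fin 4) (Fin 4) F) = 1 := by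
    have e : (s : Matrix (Fin 4) (Fin 4) F) ^ 4 =
        ((s : Matrix (Fin 4) (Fin 4) F) * (s : Matrix (Fin 4) (Fin 4) F)) *
          ((s : Matrix (Fin 4) (Fin 4) F) * (s : Matrix (Fin 4) (Fin 4) F)) := by
      simp only [pow_succ, pow_zero, one_mul, mul_assoc]
    rw [e, hc] at h4m
    simpa [smul_smul] using h4m
  have hc1 : c * c = 1 := by
    have := congrFun (congrFun hcc 0) 0
    simpa using this
  have hc2 : c = 1 ∨ c = -1 := by
    have h0 : (c - 1) * (c + 1) = 0 := by linear_combination hc1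
    rcases mul_eq_zero.mp h0 with h | h
    · left; linear_combination h
    · right; linear_combination h
  rcases hc2 with h | h
  · left; rw [hc, h, one_smul]
  · right; rw [hc, h]; simp

end Cfsg.Agent.Lib.helper89.S60
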