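import Mathlib
import Cfsg.Agent.Lib.helper6.CodeModel

/-!
# A code model of the symmetric group of degree 8

A permutation `σ` of `Fin 8` is coded by the number with base-8 digits `σ 0, …, σ 7`.
-/

namespace Cfsg.Agent.Lib.helper6.S8Model

open Cfsg.Agent.Lib.helper6.CodeModel

/-- `i`-th base-8 digit of `n`. -/
def dg8 (n i : ℕ) : ℕ := Nat.mod (Nat.div n (Nat.pow 8 i)) 8

/-- Composition of permutation codes. -/
def cm8 (a b : ℕ) : ℕ :=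
  Nat.add (Nat.add (Nat.add (Nat.add (Nat.add (Nat.add (Nat.add (dg8 a (dg8 b 0)) (Nat.mul 8 (dg8 a (dg8 b 1)))) (Nat.mul 64 (dg8 a (dg8 b 2)))) (Nat.mul 512 (dg8 a (dg8 b 3)))) (Nat.mul 4096 (dg8 a (dg8 b 4)))) (Nat.mul 32768 (dg8 a (dg8 b 5)))) (Nat.mul 262144 (dg8 a (dg8 b 6)))) (Nat.mul 2097152 (dg8 a (dg8 b 7)))

/-- The code of a permutation of `Fin 8`. -/
def code8 (σ : Equiv.Perm (Fin 8)) : ℕ :=
  (σ 0).val + 8 * (σ 1).val + 64 * (σ 2).val + 512 * (σ 3).val + 4096 * (σ 4).val + 32768 * (σ 5).val + 262144 * (σ 6).val + 2097152 * (σ 7).val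

/-- Codes with pairwise distinct digits. -/
def valid8 (c : ℕ) : Bool :=
  Nat.blt c 16777216 &&
    (List.range 8).all (fun i => (List.range 8).all (fun j => i == j || dg8 c i != dg8 c j))

theorem dg8_eq (n i : ℕ) : dg8 n i = n / 8 ^ i % 8 := rfl

theorem dg8_lt (n i : ℕ) : dg8 n i < 8 := Nat.mod_lt _ (by norm_num)

theorem cm8_eq (a b : ℕ) : cm8 a b = dg8 a (dg8 b 0) + 8 * dg8 a (dg8 b 1) + 64 * dg8 a (dg8 b 2) + 512 * dg8 a (dg8 b 3) + 4096 * dg8 a (dg8 b 4) + 32768 * dg8 a (dg8 b 5) + 262144 * dg8 a (dg8 b 6) + 2097152 * dg8 a (dg8 b 7) := rfl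

theorem dg8_comb (x0 x1 x2 x3 x4 x5 x6 x7 : ℕ) (h0 : x0 < 8) (h1 : x1 < 8) (h2 : x2 < 8) (h3 : x3 < 8) (h4 : x4 < 8) (h5 : x5 < 8) (h6 : x6 < 8) (h7 : x7 < 8) :
    dg8 (x0 + 8 * x1 + 64 * x2 + 512 * x3 + 4096 * x4 + 32768 * x5 + 262144 * x6 + 2097152 * x7) 0 = x0 ∧
    dg8 (x0 + 8 * x1 + 64 * x2 + 512 * x3 + 4096 * x4 + 32768 * x5 + 262144 * x6 + 2097152 * x7) 1 = x1 ∧
    dg8 (x0 + 8 * x1 + 64 * x2 + 512 * x3 + 4096 * x4 + 32768 * x5 + 262144 * x6 + 2097152 * x7) 2 = x2 ∧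
    dg8 (x0 + 8 * x1 + 64 * x2 + 512 * x3 + 4096 * x4 + 32768 * x5 + 262144 * x6 + 2097152 * x7) 3 = x3 ∧
    dg8 (x0 + 8 * x1 + 64 * x2 + 512 * x3 + 4096 * x4 + 32768 * x5 + 262144 * x6 + 2097152 * x7) 4 = x4 ∧
    dg8 (x0 + 8 * x1 + 64 * x2 + 512 * x3 + 4096 * x4 + 32768 * x5 + 262144 * x6 + 2097152 * x7) 5 = x5 ∧
    dg8 (x0 + 8 * x1 + 64 * x2 + 512 * x3 + 4096 * x4 + 32768 * x5 + 262144 * x6 + 2097152 * x7) 6 = x6 ∧
    dg8 (x0 + 8 * x1 + 64 * x2 + 512 * x3 + 4096 * x4 + 32768 * x5 + 262144 * x6 + 2097152 * x7) 7 = x7 := by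
  simp only [dg8_eq, Nat.reducePow]
  refine ⟨?_, ?_, ?_, ?_, ?_, ?_, ?_, ?_⟩ <;> omega

theorem dg8_code (σ : Equiv.Perm (Fin 8)) (i : Fin 8) : dg8 (code8 σ) i.val = (σ i).val := by
  obtain ⟨H0, H1, H2, H3, H4, H5, H6, H7⟩ := dg8_comb (σ 0).val (σ 1).val (σ 2).val (σ 3).val (σ 4).val (σ 5).val (σ 6).val (σ 7).val
    (σ 0).isLt (σ 1).isLt (σ 2).isLt (σ 3).isLt (σ 4).isLt (σ 5).isLt (σ 6).isLt (σ 7).isLt
  fin_cases i
  · exact H0
  · exact H1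
  · exact H2
  · exact H3
  · exact H4
  · exact H5
  · exact H6
  · exact H7

theorem code8_lt (σ : Equiv.Perm (Fin 8)) : code8 σ < 16777216 := by
  have h0 := (σ 0).isLt
  have h1 := (σ 1).isLt
  have h2 := (σ 2).isLt
  have h3 := (σ 3).isLt
  have h4 := (σ 4).isLt
  have h5 := (σ 5).isLt
  have h6 := (σ 6).isLt
  have h7 := (σ 7).isLt
  unfold code8
  omega

theorem code8_injective : Function.Injective code8 := by
  intro σ τ h
  ext i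
  rw [← dg8_code σ i, ← dg8_code τ i, h]

theorem dg8_cm8 (a b i : ℕ) (hi : i < 8) : dg8 (cm8 a b) i = dg8 a (dg8 b i) := by
  obtain ⟨H0, H1, H2, H3, H4, H5, H6, H7⟩ := dg8_comb (dg8 a (dg8 b 0)) (dg8 a (dg8 b 1)) (dg8 a (dg8 b 2)) (dg8 a (dg8 b 3)) (dg8 a (dg8 b 4)) (dg8 a (dg8 b 5)) (dg8 a (dg8 b 6)) (dg8 a (dg8 b 7))
    (dg8_lt _ _) (dg8_lt _ _) (dg8_lt _ _) (dg8_lt _ _) (dg8_lt _ _) (dg8_lt _ _) (dg8_lt _ _) (dg8_lt _ _)
  rw [cm8_eq]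
  interval_cases i
  · exact H0
  · exact H1
  · exact H2
  · exact H3
  · exact H4
  · exact H5
  · exact H6
  · exact H7

theorem code8_mul (σ τ : Equiv.Perm (Fin 8)) : code8 (σ * τ) = cm8 (code8 σ) (code8 τ) := by
  have h : ∀ i : Fin 8, dg8 (code8 σ) (dg8 (code8 τ) i.val) = ((σ * τ) i).val := by
    intro i
    rw [dg8_code τ i, dg8_code σ (τ i), Equiv.Perm.mul_apply]
  rw [cm8_eq]
  have h0 := h 0
  have h1 := h 1
  have h2 := h 2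
  have h3 := h 3
  have h4 := h 4
  have h5 := h 5
  have h6 := h 6
  have h7 := h 7
  simp only [Fin.val_zero, Fin.val_one] at h0 h1
  have e2 : ((2 : Fin 8) : ℕ) = 2 := rfl
  have e3 : ((3 : Fin 8) : ℕ) = 3 := rfl
  have e4 : ((4 : Fin 8) : ℕ) = 4 := rfl
  have e5 : ((5 : Fin 8) : ℕ) = 5 := rfl
  have e6 : ((6 : Fin 8) : ℕ) = 6 := rfl
  have e7 : ((7 : Fin 8) : ℕ) = 7 := rfl
  rw [e2] at h2
  rw [e3] at h3
  rw [e4] at h4
  rw [e5] at h5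
  rw [e6] at h6
  rw [e7] at h7
  rw [h0, h1, h2, h3, h4, h5, h6, h7]
  rfl

theorem code8_one : code8 1 = 16434824 := by
  simp [code8]

theorem valid8_iff (c : ℕ) : valid8 c = true ↔
    c < 16777216 ∧ ∀ i < 8, ∀ j < 8, i = j ∨ dg8 c i ≠ dg8 c j := by
  simp [valid8]

theorem valid8_code (σ : Equiv.Perm (Fin 8)) : valid8 (code8 σ) = true := by
  rw [valid8_iff]
  refine ⟨code8_lt σ, ?_⟩
  intro i hi j hj
  by_cases hij : i = j
  · exact Or.inl hij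
  · right
    intro h
    have h1 := dg8_code σ ⟨i, hi⟩
    have h2 := dg8_code σ ⟨j, hj⟩
    simp only at h1 h2
    rw [h1, h2] at h
    have h3 := σ.injective (Fin.ext h)
    exact hij (congrArg Fin.val h3)

theorem exists_code8 (c : ℕ) (hc : valid8 c = true) : ∃ σ : Equiv.Perm (Fin 8), code8 σ = c := by
  rw [valid8_iff] at hc
  obtain ⟨hlt, hd⟩ := hc
  have hinj : Function.Injective (fun i : Fin 8 => (⟨dg8 c i.val, dg8_lt _ _⟩ : Fin 8)) := by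
    intro i j h
    have h1 : dg8 c i.val = dg8 c j.val := congrArg Fin.val h
    rcases hd i.val i.isLt j.val j.isLt with h2 | h2
    · exact Fin.ext h2
    · exact absurd h1 h2
  refine ⟨Equiv.ofBijective _ (Finite.injective_iff_bijective.mp hinj), ?_⟩
  simp only [code8, Equiv.ofBijective_apply, dg8_eq, Fin.val_zero, Fin.val_one]
  have e2 : ((2 : Fin 8) : ℕ) = 2 := rfl
  have e3 : ((3 : Fin 8) : ℕ) = 3 := rfl
  have e4 : ((4 : Fin 8) : ℕ) = 4 := rfl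
  have e5 : ((5 : Fin 8) : ℕ) = 5 := rfl
  have e6 : ((6 : Fin 8) : ℕ) = 6 := rfl
  have e7 : ((7 : Fin 8) : ℕ) = 7 := rfl
  rw [e2, e3, e4, e5, e6, e7]
  norm_num
  omega

/-- The code model of `Sym(8)`. -/
theorem s8model : GModel valid8 cm8 16434824 code8 where
  inj := code8_injective
  mem := valid8_code
  surj := exists_code8
  one := code8_one
  fmul := code8_mul

end Cfsg.Agent.Lib.helper6.S8Model
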