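import Cfsg.Agent.S3335
import Mathlib

/-!
# S0892 piece G2 (racing copy): reduction to a 2-group kernel
-/

set_option autoImplicit false
open Cfsg Cfsg.Agent.S3335

namespace Cfsg.Agent.Lib.helper70.SM

universe u

/-- the 2-part of a central kernel -/
def h6_K2 {Γ : Type u} [Group Γ] {P : Type*} [Group P] (π : Γ →* P)
    (hc : π.ker ≤ Subgroup.center Γ) : Subgroup Γ where
  carrier := {g | g ∈ π.ker ∧ ∃ m : ℕ, g ^ (2 ^ m) = 1}
  one_mem' := ⟨π.ker.one_mem, 0, by simp⟩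
  mul_mem' := by
    rintro a b ⟨ha, m, hm⟩ ⟨hb, n, hn⟩
    refine ⟨π.ker.mul_mem ha hb, m + n, ?_⟩
    have hcomm : Commute a b := (Subgroup.mem_center_iff.mp (hc ha) b).symm
    rw [hcomm.mul_pow, pow_add, pow_mul, hm, one_pow, mul_comm (2 ^ m) (2 ^ n), pow_mul, hn,
      one_pow, mul_one]
  inv_mem' := by
    rintro a ⟨ha, m, hm⟩
    exact ⟨π.ker.inv_mem ha, m, by rw [inv_pow, hm, inv_one]⟩

theorem h6_mem_K2 {Γ : Type u} [Group Γ] {P : Type*} [Group P] (π : Γ →* P)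
    (hc : π.ker ≤ Subgroup.center Γ) (g : Γ) :
    g ∈ h6_K2 π hc ↔ g ∈ π.ker ∧ ∃ m : ℕ, g ^ (2 ^ m) = 1 := Iff.rfl

theorem h6_K2_normal {Γ : Type u} [Group Γ] {P : Type*} [Group P] (π : Γ →* P)
    (hc : π.ker ≤ Subgroup.center Γ) : (h6_K2 π hc).Normal :=
  ⟨fun n hn g => by
    have h := Subgroup.mem_center_iff.mp (hc hn.1) g
    have h2 : g * n * g⁻¹ = n := by rw [h, mul_inv_cancel_right]
    rw [h2]
    exact hn⟩

/-- G2 (reduction to a 2-group kernel). -/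
theorem h6_ker_isPGroup_two_of_odd {Γ : Type u} [Group Γ] [Finite Γ] {P : Type*} [Group P]
    (hodd : ∀ (Δ : Type u) [Group Δ] [Finite Δ] (ρ : Δ →* P), Function.Surjective ρ →
      ρ.ker ≤ Subgroup.center Δ → ρ.ker ≤ commutator Δ → Odd (Nat.card ρ.ker) → ρ.ker = ⊥)
    (π : Γ →* P) (hπ : Function.Surjective π)
    (hc : π.ker ≤ Subgroup.center Γ) (hd : π.ker ≤ commutator Γ) : IsPGroup 2 π.ker := by
  classical
  haveI hK₂n : (h6_K2 π hc).Normal := h6_K2_normal π hc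
  have hK₂K : h6_K2 π hc ≤ π.ker := fun g hg => hg.1
  set ρ : Γ ⧸ h6_K2 π hc →* P := QuotientGroup.lift (h6_K2 π hc) π (fun g hg => hK₂K hg) with hρdef
  have hρmk : ∀ g : Γ, ρ (QuotientGroup.mk g) = π g := fun g => rfl
  have hρs : Function.Surjective ρ := fun y => by
    obtain ⟨g, rfl⟩ := hπ y
    exact ⟨QuotientGroup.mk g, hρmk g⟩
  have hker : ∀ z : Γ ⧸ h6_K2 π hc, z ∈ ρ.ker ↔
      ∃ g ∈ π.ker, (QuotientGroup.mk g : Γ ⧸ h6_K2 π hc) = z := by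
    intro z
    constructor
    · intro hz
      obtain ⟨g, rfl⟩ := QuotientGroup.mk_surjective z
      refine ⟨g, ?_, rfl⟩
      rw [MonoidHom.mem_ker] at hz ⊢
      rwa [hρmk] at hz
    · rintro ⟨g, hg, rfl⟩
      rw [MonoidHom.mem_ker, hρmk]
      exact MonoidHom.mem_ker.mp hg
  have hcen : ρ.ker ≤ Subgroup.center (Γ ⧸ h6_K2 π hc) := by
    intro z hz
    obtain ⟨g, hg, rfl⟩ := (hker z).mp hz
    rw [Subgroup.mem_center_iff]
    intro w
    obtain ⟨h, rfl⟩ := QuotientGroup.mk_surjective w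
    rw [← QuotientGroup.mk_mul, ← QuotientGroup.mk_mul, Subgroup.mem_center_iff.mp (hc hg) h]
  have hcomm : ρ.ker ≤ commutator (Γ ⧸ h6_K2 π hc) := by
    intro z hz
    obtain ⟨g, hg, rfl⟩ := (hker z).mp hz
    have h1 : (QuotientGroup.mk g : Γ ⧸ h6_K2 π hc)
        ∈ (commutator Γ).map (QuotientGroup.mk' (h6_K2 π hc)) := ⟨g, hd hg, rfl⟩
    rw [commutator_def, Subgroup.map_commutator, ← MonoidHom.range_eq_map,
      MonoidHom.range_eq_top.mpr (QuotientGroup.mk'_surjective (h6_K2 π hc))] at h1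
    exact h1
  have hoddK : Odd (Nat.card ρ.ker) := by
    rw [← Nat.not_even_iff_odd]
    intro heven
    haveI : Fact (Nat.Prime 2) := ⟨Nat.prime_two⟩
    obtain ⟨z, hz⟩ := exists_prime_orderOf_dvd_card' 2 heven.two_dvd
    obtain ⟨g, hg, hgz⟩ := (hker z.1).mp z.2
    have hz2 : (z : Γ ⧸ h6_K2 π hc) ^ 2 = 1 := by
      have h := pow_orderOf_eq_one z
      rw [hz] at h
      exact congrArg (fun w : ↥ρ.ker => (w : Γ ⧸ h6_K2 π hc)) h
    rw [← hgz, ← QuotientGroup.mk_pow, QuotientGroup.eq_one_iff] at hz2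
    obtain ⟨_, m, hm⟩ := hz2
    have hgK₂ : g ∈ h6_K2 π hc := ⟨hg, m + 1, by rw [pow_succ', pow_mul]; exact hm⟩
    have hz1 : z = 1 := by
      apply Subtype.ext
      rw [← hgz]
      exact (QuotientGroup.eq_one_iff g).mpr hgK₂
    rw [hz1, orderOf_one] at hz
    exact absurd hz (by norm_num)
  have hbot := hodd (Γ ⧸ h6_K2 π hc) ρ hρs hcen hcomm hoddK
  intro g
  have h1 : (QuotientGroup.mk (g : Γ) : Γ ⧸ h6_K2 π hc) ∈ ρ.ker := (hker _).mpr ⟨g, g.2, rfl⟩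
  rw [hbot, Subgroup.mem_bot, QuotientGroup.eq_one_iff] at h1
  obtain ⟨_, m, hm⟩ := h1
  exact ⟨m, Subtype.ext hm⟩

end Cfsg.Agent.Lib.helper70.SM
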