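import Mathlib
import Cfsg.Prelude.Def_Classical
import Cfsg.Prelude.Def_GeometricClasses

/-!
# S5977 / S5978 block [A], leaf EIGB (`sfk_eig_basis`), helper6 (racer copy)
-/

set_option autoImplicit false

namespace Cfsg.Agent.Lib.helper59.Sfk

open Matrix Cfsg.Geo

/-- inductive core: `k` pairwise orthogonal anisotropic `±1`-eigenvectors, `k ≤ card ι` -/
theorem h6_eig_family {F : Type*} [Field F] {ι : Type} [Fintype ι] [DecidableEq ι]
    (h2 : (2 : F) ≠ 0) (Q : QuadraticForm F (ι → F))
    (hQ : (QuadraticMap.polarBilin Q).Nondegenerate)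
    (x : Matrix ι ι F) (hx : ∀ v : ι → F, Q (x *ᵥ v) = Q v)
    (hxx : ∀ v : ι → F, x *ᵥ (x *ᵥ v) = v) :
    ∀ k : ℕ, k ≤ Fintype.card ι → ∃ (e : Fin k → (ι → F)) (ε : Fin k → F),
      (∀ i j, i ≠ j → QuadraticMap.polar (⇑Q) (e i) (e j) = 0) ∧ (∀ i, Q (e i) ≠ 0) ∧
      (∀ i, ε i = 1 ∨ ε i = -1) ∧ ∀ i, x *ᵥ e i = ε i • e i := by
  have hpx : ∀ u v : ι → F, QuadraticMap.polar (⇑Q) (x *ᵥ u) (x *ᵥ v) =
      QuadraticMap.polar (⇑Q) u v := by
    intro u v
    unfold QuadraticMap.polar
    rw [← Matrix.mulVec_add, hx, hx, hx]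
  have hself : ∀ v : ι → F, QuadraticMap.polar (⇑Q) v v = 2 * Q v := by
    intro v
    rw [QuadraticMap.polar_self]
    simp
  intro k
  induction k with
  | zero =>
    intro _
    exact ⟨fun i => i.elim0, fun i => i.elim0, fun i => i.elim0, fun i => i.elim0,
      fun i => i.elim0, fun i => i.elim0⟩
  | succ k ih =>
    intro hk
    obtain ⟨e, ε, horth, hne, hε, hxe⟩ := ih (by omega)
    -- a nonzero vector orthogonal to all `e i`
    have hker : LinearMap.ker (LinearMap.pi (fun i : Fin k =>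
        (QuadraticMap.polarBilin Q) (e i))) ≠ ⊥ := by
      apply LinearMap.ker_ne_bot_of_finrank_lt
      rw [Module.finrank_fintype_fun_eq_card, Module.finrank_fintype_fun_eq_card, Fintype.card_fin]
      omega
    obtain ⟨w₀, hw₀mem, hw₀ne⟩ := (Submodule.ne_bot_iff _).mp hker
    have hw₀ : ∀ i, QuadraticMap.polar (⇑Q) (e i) w₀ = 0 := by
      intro i
      have h1 := congrFun (LinearMap.mem_ker.mp hw₀mem) i
      simpa using h1
    -- a vector `v` with `B w₀ v ≠ 0`
    obtain ⟨v, hv⟩ : ∃ v, QuadraticMap.polar (⇑Q) w₀ v ≠ 0 := by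
      by_contra hcon
      push_neg at hcon
      exact hw₀ne (hQ.1 w₀ (fun y => by simpa using hcon y))
    -- the projection of `v`
    have hee : ∀ i, QuadraticMap.polar (⇑Q) (e i) (e i) ≠ 0 := by
      intro i
      rw [hself]
      exact mul_ne_zero h2 (hne i)
    have hsum : ∀ (a : ι → F) (c : Fin k → F), QuadraticMap.polar (⇑Q) a (∑ i, c i • e i) =
        ∑ i, c i * QuadraticMap.polar (⇑Q) a (e i) := by
      intro a c
      have h1 : QuadraticMap.polar (⇑Q) a (∑ i, c i • e i) =
          (QuadraticMap.polarBilin Q) a (∑ i, c i • e i) := rfl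
      rw [h1, map_sum]
      apply Finset.sum_congr rfl
      intro i _
      rw [map_smul, smul_eq_mul]
      rfl
    obtain ⟨v', hv'orth, hv'⟩ : ∃ v' : ι → F, (∀ j, QuadraticMap.polar (⇑Q) (e j) v' = 0) ∧
        QuadraticMap.polar (⇑Q) w₀ v' ≠ 0 := by
      refine ⟨v - ∑ i, (QuadraticMap.polar (⇑Q) (e i) v / QuadraticMap.polar (⇑Q) (e i) (e i)) • e i,
        ?_, ?_⟩
      · intro j
        rw [QuadraticMap.polar_sub_right, hsum, Finset.sum_eq_single j]
        · rw [div_mul_cancel₀ _ (hee j), sub_self]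
        · intro b _ hb
          rw [horth j b (Ne.symm hb), mul_zero]
        · intro h
          exact absurd (Finset.mem_univ j) h
      · rw [QuadraticMap.polar_sub_right, hsum]
        have h3 : ∑ i, (QuadraticMap.polar (⇑Q) (e i) v / QuadraticMap.polar (⇑Q) (e i) (e i)) *
            QuadraticMap.polar (⇑Q) w₀ (e i) = 0 :=
          Finset.sum_eq_zero (fun i _ => by
            rw [QuadraticMap.polar_comm (⇑Q) w₀ (e i), hw₀ i, mul_zero])
        rw [h3, sub_zero]
        exact hv
    obtain ⟨w, hworth, hw⟩ : ∃ w : ι → F, (∀ j, QuadraticMap.polar (⇑Q) (e j) w = 0) ∧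
        Q w ≠ 0 := by
      by_cases h1 : Q w₀ = 0
      · by_cases h3 : Q v' = 0
        · refine ⟨w₀ + v', fun j => by
            rw [QuadraticMap.polar_add_right, hw₀ j, hv'orth j, add_zero], ?_⟩
          have h4 : Q (w₀ + v') = Q w₀ + Q v' + QuadraticMap.polar (⇑Q) w₀ v' := by
            unfold QuadraticMap.polar
            ring
          rw [h4, h1, h3, zero_add, zero_add]
          exact hv'
        · exact ⟨v', hv'orth, h3⟩
      · exact ⟨w₀, hw₀, h1⟩
    have hxw : ∀ j, QuadraticMap.polar (⇑Q) (e j) (x *ᵥ w) = 0 := by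
      intro j
      have h1 : QuadraticMap.polar (⇑Q) (x *ᵥ e j) (x *ᵥ w) = 0 := by
        rw [hpx]
        exact hworth j
      rw [hxe j, QuadraticMap.polar_smul_left] at h1
      rcases hε j with h | h
      · rw [h, one_smul] at h1
        exact h1
      · rw [h, neg_smul, one_smul, neg_eq_zero] at h1
        exact h1
    have hQsum : Q (w + x *ᵥ w) + Q (w - x *ᵥ w) = 4 * Q w := by
      have ha : Q (w + x *ᵥ w) = Q w + Q (x *ᵥ w) + QuadraticMap.polar (⇑Q) w (x *ᵥ w) := by
        unfold QuadraticMap.polar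
        ring
      have hb : Q (w - x *ᵥ w) = Q w + Q (x *ᵥ w) - QuadraticMap.polar (⇑Q) w (x *ᵥ w) := by
        have h5 : Q (w - x *ᵥ w) = Q w + Q (-(x *ᵥ w)) +
            QuadraticMap.polar (⇑Q) w (-(x *ᵥ w)) := by
          unfold QuadraticMap.polar
          rw [sub_eq_add_neg]
          ring
        rw [h5, QuadraticMap.map_neg, QuadraticMap.polar_neg_right]
        ring
      rw [ha, hb, hx]
      ring
    have h4 : (4 : F) ≠ 0 := by
      have h5 : (4 : F) = 2 * 2 := by norm_num
      rw [h5]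
      exact mul_ne_zero h2 h2
    obtain ⟨u, ε₀, huorth, hu, hε₀, hxu⟩ : ∃ (u : ι → F) (ε₀ : F),
        (∀ j, QuadraticMap.polar (⇑Q) (e j) u = 0) ∧ Q u ≠ 0 ∧ (ε₀ = 1 ∨ ε₀ = -1) ∧
        x *ᵥ u = ε₀ • u := by
      by_cases h1 : Q (w + x *ᵥ w) = 0
      · refine ⟨w - x *ᵥ w, -1, fun j => by
          rw [QuadraticMap.polar_sub_right, hworth j, hxw j, sub_zero], ?_, Or.inr rfl, ?_⟩
        · intro h3
          rw [h1, h3, add_zero] at hQsum
          exact hw ((mul_eq_zero.mp hQsum.symm).resolve_left h4)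
        · rw [Matrix.mulVec_sub, hxx, neg_smul, one_smul, neg_sub]
      · refine ⟨w + x *ᵥ w, 1, fun j => by
          rw [QuadraticMap.polar_add_right, hworth j, hxw j, add_zero], h1, Or.inl rfl, ?_⟩
        rw [Matrix.mulVec_add, hxx, one_smul, add_comm]
    refine ⟨(Fin.cons u e : Fin (k + 1) → (ι → F)), (Fin.cons ε₀ ε : Fin (k + 1) → F),
      ?_, ?_, ?_, ?_⟩
    · intro i j hij
      induction i using Fin.cases with
      | zero =>
        induction j using Fin.cases with
        | zero => exact absurd rfl hij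
        | succ j =>
          rw [Fin.cons_zero, Fin.cons_succ, QuadraticMap.polar_comm]
          exact huorth j
      | succ i =>
        induction j using Fin.cases with
        | zero =>
          rw [Fin.cons_zero, Fin.cons_succ]
          exact huorth i
        | succ j =>
          rw [Fin.cons_succ, Fin.cons_succ]
          exact horth i j (fun h => hij (by rw [h]))
    · intro i
      induction i using Fin.cases with
      | zero => rw [Fin.cons_zero]; exact hu
      | succ i => rw [Fin.cons_succ]; exact hne i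
    · intro i
      induction i using Fin.cases with
      | zero => rw [Fin.cons_zero]; exact hε₀
      | succ i => rw [Fin.cons_succ]; exact hε i
    · intro i
      induction i using Fin.cases with
      | zero => rw [Fin.cons_zero, Fin.cons_zero]; exact hxu
      | succ i => rw [Fin.cons_succ, Fin.cons_succ]; exact hxe i

/-- EIGB (L): an involutory isometry has an orthogonal basis of eigenvectors. -/
theorem h6_sfk_eig_basis {F : Type*} [Field F] {ι : Type} [Fintype ι] [DecidableEq ι]
    (h2 : (2 : F) ≠ 0) (Q : QuadraticForm F (ι → F))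
    (hQ : (QuadraticMap.polarBilin Q).Nondegenerate)
    (x : GL ι F) (hx : x ∈ Cfsg.isometryGroup F (⇑Q))
    (hxx : (x : Matrix ι ι F) * (x : Matrix ι ι F) = 1) :
    ∃ (e : Fin (Fintype.card ι) → (ι → F)) (ε : Fin (Fintype.card ι) → F),
      LinearIndependent F e ∧
      (∀ i j, i ≠ j → QuadraticMap.polar (⇑Q) (e i) (e j) = 0) ∧ (∀ i, Q (e i) ≠ 0) ∧
      (∀ i, ε i = 1 ∨ ε i = -1) ∧ ∀ i, (x : Matrix ι ι F) *ᵥ e i = ε i • e i := by
  have hx' : ∀ v : ι → F, Q ((x : Matrix ι ι F) *ᵥ v) = Q v := fun v => hx v v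
  have hxx' : ∀ v : ι → F, (x : Matrix ι ι F) *ᵥ ((x : Matrix ι ι F) *ᵥ v) = v := by
    intro v
    rw [Matrix.mulVec_mulVec, hxx, Matrix.one_mulVec]
  obtain ⟨e, ε, horth, hne, hε, hxe⟩ :=
    h6_eig_family h2 Q hQ (x : Matrix ι ι F) hx' hxx' (Fintype.card ι) le_rfl
  refine ⟨e, ε, ?_, horth, hne, hε, hxe⟩
  apply LinearMap.BilinForm.linearIndependent_of_iIsOrtho (B := QuadraticMap.polarBilin Q)
  · rw [LinearMap.BilinForm.iIsOrtho_def]
    intro i j hij
    exact horth i j hij
  · intro i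
    show QuadraticMap.polar (⇑Q) (e i) (e i) ≠ 0
    rw [QuadraticMap.polar_self]
    simp only [nsmul_eq_mul, Nat.cast_ofNat]
    exact mul_ne_zero h2 (hne i)

end Cfsg.Agent.Lib.helper59.Sfk
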