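import Mathlib
import Cfsg.Agent.Lib.helper24.SfoDefs

/-! Piece OFREE of the S5981 split (helper24), racing copy: an element of order dividing `r` of
the similarity group without nonzero fixed vectors acts freely on `{Q = 1}`. -/

set_option autoImplicit false

namespace Cfsg.Agent.Lib.helper24

open Module Matrix Cfsg.Geo

/-- OFREE -/
theorem h6_sfo_free_count {F : Type*} [Field F] [Fintype F] {n : ℕ} (h2 : (2 : F) ≠ 0)
    (Q : (Fin n → F) → F) (hQ : IsNondegenerateQuadraticForm Q) (r : ℕ) [Fact r.Prime]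
    (hrF : (r : F) ≠ 0) (hnd : ¬ r ∣ Fintype.card F - 1) (g : GL (Fin n) F)
    (hg : g ∈ quadSimilarityGroup Q) (hgr : (g : Matrix (Fin n) (Fin n) F) ^ r = 1)
    (hker : LinearMap.ker (Matrix.toLin' (g : Matrix (Fin n) (Fin n) F) - 1) = ⊥) :
    r ∣ sfoCount Q 1 := by
  classical
  unfold sfoCount
  by_cases hne : Nonempty {v : Fin n → F // Q v = 1}
  swap
  · rw [not_nonempty_iff] at hne
    rw [Nat.card_of_isEmpty]
    exact dvd_zero r
  obtain ⟨⟨v₀, hv₀⟩⟩ := hne
  obtain ⟨c, hc⟩ := hg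
  -- powers of `g` scale `Q` by powers of `c`
  have hpowQ : ∀ (k : ℕ) (v : Fin n → F),
      Q (((g : Matrix (Fin n) (Fin n) F) ^ k) *ᵥ v) = (c : F) ^ k * Q v := by
    intro k
    induction k with
    | zero => intro v; simp
    | succ k ih =>
      intro v
      rw [pow_succ, ← Matrix.mulVec_mulVec, ih, hc, pow_succ, mul_assoc]
  have hcr : (c : F) ^ r = 1 := by
    have h := hpowQ r v₀
    rw [hgr, Matrix.one_mulVec, hv₀, mul_one] at h
    exact h.symm
  have hcu : c ^ r = 1 := by
    apply Units.ext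
    rw [Units.val_pow_eq_pow_val, hcr, Units.val_one]
  have hc1 : c = 1 := by
    have hdvd : orderOf c ∣ r := orderOf_dvd_of_pow_eq_one hcu
    rcases (Nat.dvd_prime (Fact.out : r.Prime)).mp hdvd with h | h
    · exact orderOf_eq_one_iff.mp h
    · exfalso
      apply hnd
      rw [← h, ← Fintype.card_units]
      exact orderOf_dvd_card
  have hiso : ∀ v, Q ((g : Matrix (Fin n) (Fin n) F) *ᵥ v) = Q v := by
    intro v
    rw [hc, hc1, Units.val_one, one_mul]
  have hQ0 : Q 0 = 0 := by
    have h := hQ.smul 0 (0 : Fin n → F)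
    rw [zero_smul] at h
    rw [h]; ring
  haveI : Fintype {v : Fin n → F // Q v = 1} := Fintype.ofFinite _
  let f : Function.End {v : Fin n → F // Q v = 1} :=
    fun v => ⟨(g : Matrix (Fin n) (Fin n) F) *ᵥ v.1, by rw [hiso]; exact v.2⟩
  have hpow : ∀ (k : ℕ) (v : {v : Fin n → F // Q v = 1}),
      (((f ^ k) v : {v : Fin n → F // Q v = 1}) : Fin n → F) =
        ((g : Matrix (Fin n) (Fin n) F) ^ k) *ᵥ v.1 := by
    intro k
    induction k with
    | zero => intro v; rw [pow_zero, pow_zero, Matrix.one_mulVec]; rfl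
    | succ k ih =>
      intro v
      have h1 : (f ^ (k + 1)) v = (f ^ k) (f v) := by rw [pow_succ]; rfl
      rw [h1, ih (f v)]
      show ((g : Matrix (Fin n) (Fin n) F) ^ k) *ᵥ ((g : Matrix (Fin n) (Fin n) F) *ᵥ v.1) = _
      rw [Matrix.mulVec_mulVec, ← pow_succ]
  have hfr : f ^ r ^ 1 = 1 := by
    funext v
    apply Subtype.ext
    rw [pow_one, hpow r v, hgr, Matrix.one_mulVec]
    rfl
  have hmod := Equiv.Perm.card_fixedPoints_modEq (p := r) (n := 1) hfr
  rw [← Nat.card_eq_fintype_card, ← Nat.card_eq_fintype_card] at hmod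
  have hempty : IsEmpty ↥(Function.fixedPoints f) := by
    constructor
    rintro ⟨v, hv⟩
    have hfix : f v = v := hv
    have h1 : (g : Matrix (Fin n) (Fin n) F) *ᵥ v.1 = v.1 := congrArg Subtype.val hfix
    have hmem : v.1 ∈ LinearMap.ker (Matrix.toLin' (g : Matrix (Fin n) (Fin n) F) - 1) := by
      rw [LinearMap.mem_ker, LinearMap.sub_apply, Matrix.toLin'_apply, h1]
      simp
    rw [hker, Submodule.mem_bot] at hmem
    have h3 := v.2
    rw [hmem, hQ0] at h3
    exact zero_ne_one h3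
  have h0 : Nat.card ↥(Function.fixedPoints f) = 0 := Nat.card_of_isEmpty
  rw [h0] at hmod
  exact (Nat.modEq_zero_iff_dvd).mp hmod

end Cfsg.Agent.Lib.helper24
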