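import Mathlib
import Cfsg.Prelude.Def_Classical
import Cfsg.Agent.Lib.helper6.Act16
import Cfsg.Agent.Lib.helper6.S8Model
import Cfsg.Agent.Lib.helper17.U42Main

/-!
# A Sylow 2-subgroup of `PSp₄(3)`

`exists_psp4`: the group `PSp 2 (ZMod 3)` has a subgroup isomorphic to the subgroup `P0` of
`Sym(8)` with code list `LP0` (64 codes), which lies in the alternating group.  The subgroup is
the image of a group of order 128 generated by five explicit symplectic matrices, acting
faithfully on 16 vectors; the isomorphism comes from a table homomorphism with kernel `±1`.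
-/

namespace Cfsg.Agent.Lib.helper6.Sp4Syl

open Cfsg.Agent.Lib.helper6.CodeModel Cfsg.Agent.Lib.helper6.CodeIso
open Cfsg.Agent.Lib.helper6.S16Model Cfsg.Agent.Lib.helper6.S8Model Cfsg.Agent.Lib.helper6.Act16
open Matrix

/-- The index type. -/
abbrev I4 := Fin 2 ⊕ Fin 2

/-- Numbering of the coordinates. -/
def idx4 : I4 → ℕ := Sum.elim ![0, 1] ![2, 3]

/-- The vector with given base-3 digits. -/
def vec4 (m : ℕ) : I4 → ZMod 3 := fun i => ((m / 3 ^ idx4 i % 3 : ℕ) : ZMod 3)

/-- The matrix with a given list of rows. -/
def mat4 (L : List (List ℕ)) : Matrix I4 I4 (ZMod 3) :=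
  fun i j => (((L.getD (idx4 i) []).getD (idx4 j) 0 : ℕ) : ZMod 3)

/-- Sixteen vectors, coded in base 3. -/
def V16 : List ℕ := [9, 18, 1, 10, 19, 2, 11, 20, 27, 54, 3, 30, 57, 6, 33, 60]

/-- The sixteen points. -/
def wv (i : ℕ) : I4 → ZMod 3 := vec4 (V16.getD i 0)

/-- The symplectic group. -/
abbrev Sp4 := ↥(Matrix.symplecticGroup (Fin 2) (ZMod 3))

/-- The action on vectors. -/
def act (g : Sp4) (v : I4 → ZMod 3) : I4 → ZMod 3 := (g : Matrix I4 I4 (ZMod 3)) *ᵥ v

theorem act_one (v : I4 → ZMod 3) : act 1 v = v := by
  show (1 : Matrix I4 I4 (ZMod 3)) *ᵥ v = v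
  rw [Matrix.one_mulVec]

theorem act_mul (g h : Sp4) (v : I4 → ZMod 3) : act (g * h) v = act g (act h v) := by
  show ((g : Matrix I4 I4 (ZMod 3)) * (h : Matrix I4 I4 (ZMod 3))) *ᵥ v = _
  rw [← Matrix.mulVec_mulVec]
  rfl

theorem wv_inj : ∀ i < 16, ∀ j < 16, wv i = wv j → i = j := by decide +kernel

/-- The points as columns. -/
def Wm : Matrix I4 (Fin 16) (ZMod 3) := fun i j => wv j.val i

/-- A right inverse. -/
def Rm : Matrix (Fin 16) I4 (ZMod 3) :=
  fun j i => ((([[0, 0, 1, 0], [0, 0, 0, 0], [1, 0, 0, 0], [0, 0, 0, 0], [0, 0, 0, 0], [0, 0, 0, 0], [0, 0, 0, 0], [0, 0, 0, 0], [0, 0, 0, 1], [0, 0, 0, 0], [0, 1, 0, 0], [0, 0, 0, 0], [0, 0, 0, 0], [0, 0, 0, 0], [0, 0, 0, 0], [0, 0, 0, 0]].getD j.val []).getD (idx4 i) 0 : ℕ) : ZMod 3)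

theorem hWR : Wm * Rm = 1 := by decide +kernel

theorem faith_mat (A : Matrix I4 I4 (ZMod 3)) (h : ∀ i < 16, A *ᵥ wv i = wv i) : A = 1 := by
  have h1 : A * Wm = Wm := by
    ext i j
    exact congrFun (h j.val j.isLt) i
  calc A = A * (Wm * Rm) := by rw [hWR, Matrix.mul_one]
    _ = 1 := by rw [← Matrix.mul_assoc, h1, hWR]

theorem act_faith (g : Sp4) (h : ∀ i < 16, act g (wv i) = wv i) : g = 1 :=
  Subtype.ext (faith_mat _ h)

theorem exists_gen (M : Matrix I4 I4 (ZMod 3))
    (hM : M * J (Fin 2) (ZMod 3) * Mᵀ = J (Fin 2) (ZMod 3)) (c : ℕ)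
    (hc : ∀ i < 16, M *ᵥ wv i = wv (dg16 c i)) :
    ∃ g : Sp4, ∀ i < 16, act g (wv i) = wv (dg16 c i) :=
  ⟨⟨M, SymplecticGroup.mem_iff.mpr hM⟩, hc⟩

/-- Generator 0. -/
def G0 : Matrix I4 I4 (ZMod 3) := mat4 [[0, 0, 2, 0], [0, 1, 0, 0], [1, 0, 0, 0], [0, 0, 0, 1]]

theorem exists_G0 : ∃ g : Sp4, ∀ i < 16, act g (wv i) = wv (dg16 18364758543700287525 i) :=
  exists_gen G0 (by decide +kernel) 18364758543700287525 (by decide +kernel)

/-- Generator 1. -/
def G1 : Matrix I4 I4 (ZMod 3) := mat4 [[1, 0, 1, 0], [0, 1, 0, 0], [1, 0, 2, 0], [0, 0, 0, 1]]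

theorem exists_G1 : ∃ g : Sp4, ∀ i < 16, act g (wv i) = wv (dg16 18364758543052133220 i) :=
  exists_gen G1 (by decide +kernel) 18364758543052133220 (by decide +kernel)

/-- Generator 2. -/
def G2 : Matrix I4 I4 (ZMod 3) := mat4 [[1, 0, 0, 0], [0, 0, 0, 2], [0, 0, 1, 0], [0, 1, 0, 0]]

theorem exists_G2 : ∃ g : Sp4, ∀ i < 16, act g (wv i) = wv (dg16 14959806418953450000 i) :=
  exists_gen G2 (by decide +kernel) 14959806418953450000 (by decide +kernel)

/-- Generator 3. -/
def G3 : Matrix I4 I4 (ZMod 3) := mat4 [[1, 0, 0, 0], [0, 1, 0, 1], [0, 0, 1, 0], [0, 1, 0, 2]]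

theorem exists_G3 : ∃ g : Sp4, ∀ i < 16, act g (wv i) = wv (dg16 12176004876216840720 i) :=
  exists_gen G3 (by decide +kernel) 12176004876216840720 (by decide +kernel)

/-- Generator 4. -/
def G4 : Matrix I4 I4 (ZMod 3) := mat4 [[0, 1, 0, 0], [1, 0, 0, 0], [0, 0, 0, 1], [0, 0, 1, 0]]

theorem exists_G4 : ∃ g : Sp4, ∀ i < 16, act g (wv i) = wv (dg16 8526495043095935640 i) :=
  exists_gen G4 (by decide +kernel) 8526495043095935640 (by decide +kernel)

/-- The codes of the generators. -/
def gens16 : List ℕ := [18364758543700287525, 18364758543052133220, 14959806418953450000, 12176004876216840720, 8526495043095935640]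

/-- The straight-line program producing all elements. -/
def prog16 : List (ℕ × ℕ) := [(0, 0), (0, 1), (0, 2), (0, 3), (0, 4), (0, 5), (0, 6), (0, 7), (0, 8), (0, 9), (0, 10), (0, 11), (0, 12), (0, 13), (0, 14), (1, 2), (0, 20), (0, 21), (0, 22), (1, 3), (0, 24), (0, 25), (0, 26), (1, 4), (0, 28), (0, 29), (0, 30), (2, 2), (0, 32), (0, 33), (0, 34), (1, 32), (0, 36), (0, 37), (0, 38), (2, 3), (0, 40), (0, 41), (0, 42), (1, 40), (0, 44), (0, 45), (0, 46), (2, 4), (0, 48), (0, 49), (0, 50), (1, 48), (0, 52), (0, 53), (0, 54), (2, 32), (0, 56), (0, 57), (0, 58), (1, 56), (0, 60), (0, 61), (0, 62), (2, 40), (0, 64), (0, 65), (0, 66), (1, 64), (0, 68), (0, 69), (0, 70), (2, 48), (0, 72), (0, 73), (0, 74), (1, 72), (0, 76), (0, 77), (0, 78), (2, 64), (0, 80), (0, 81), (0, 82), (1, 80), (0, 84), (0, 85), (0, 86), (2, 72), (0, 88), (0, 89), (0, 90), (1, 88), (0, 92), (0, 93), (0, 94), (3, 4), (0, 96), (0, 97), (0, 98), (1, 96), (0, 100), (0, 101), (0, 102), (2, 96), (0, 104), (0, 105), (0, 106), (1, 104), (0, 108), (0, 109), (0, 110), (2, 104), (0, 112), (0, 113), (0, 114), (1, 112),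 (0, 116), (0, 117), (0, 118), (2, 112), (0, 120), (0, 121), (0, 122), (1, 120), (0, 124), (0, 125), (0, 126)]

/-- The codes of the 128 permutations of the sixteen points. -/
def L16 : List ℕ := [378890004208459515, 378890004428852415, 378890004664540140, 378890004995177865, 378890005312694445, 378890005482352590, 378890005781662170, 378890006105471640, 1325470301979057915, 1325470302199450815, 1325470302435138540, 1325470302765776265, 1325470303083292845, 1325470303252950990, 1325470303552260570, 1325470303876070040, 2337741372922699515, 2337741373143092415, 2337741373378780140, 2337741373709417865, 2337741374026934445, 2337741374196592590, 2337741374495902170, 2337741374819711640, 3757819588621541115, 3757819588841934015, 3757819589077621740, 3757819589408259465, 3757819589725776045, 3757819589895434190, 3757819590194743770, 3757819590518553240, 5121542915659308795, 5121542915879701695, 5121542916115389420, 5121542916446027145, 5121542916763543725, 5121542916933201870, 5121542917232511450, 5121542917556320920, 5850219099934334715, 5850219100154727615, 5850219100390415340, 5850219100721053065,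 5850219101038569645, 5850219101208227790, 5850219101507537370, 5850219101831346840, 7135743957413830395, 7135743957634223295, 7135743957869911020, 7135743958200548745, 7135743958518065325, 7135743958687723470, 7135743958987033050, 7135743959310842520, 8526495041198923515, 8526495041419316415, 8526495041655004140, 8526495041985641865, 8526495042303158445, 8526495042472816590, 8526495042772126170, 8526495043095935640, 10217153505605588595, 10217153505825981495, 10217153506061669220, 10217153506392306945, 10217153506709823525, 10217153506879481670, 10217153507178791250, 10217153507502600720, 11163733803376186995, 11163733803596579895, 11163733803832267620, 11163733804162905345, 11163733804480421925, 11163733804650080070, 11163733804949389650, 11163733805273199120, 12176004874319828595, 12176004874540221495, 12176004874775909220, 12176004875106546945, 12176004875424063525, 12176004875593721670, 12176004875893031250, 12176004876216840720, 13596083090018670195, 13596083090239063095, 13596083090474750820, 13596083090805388545, 13596083091122905125, 13596083091292563270, 13596083091591872850,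 13596083091915682320, 14959806417056437875, 14959806417276830775, 14959806417512518500, 14959806417843156225, 14959806418160672805, 14959806418330330950, 14959806418629640530, 14959806418953450000, 15688482601331463795, 15688482601551856695, 15688482601787544420, 15688482602118182145, 15688482602435698725, 15688482602605356870, 15688482602904666450, 15688482603228475920, 16974007458810959475, 16974007459031352375, 16974007459267040100, 16974007459597677825, 16974007459915194405, 16974007460084852550, 16974007460384162130, 16974007460707971600, 18364758542596052595, 18364758542816445495, 18364758543052133220, 18364758543382770945, 18364758543700287525, 18364758543869945670, 18364758544169255250, 18364758544493064720]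

/-- The codes of a Sylow 2-subgroup of `Alt(8)`. -/
def LP0 : List ℕ := [342391, 342846, 343525, 343980, 371070, 371511, 372204, 372645, 2177406, 2177847, 2178540, 2178981, 2206071, 2206526, 2207205, 2207660, 4987255, 4987710, 4988389, 4988844, 5015934, 5016375, 5017068, 5017509, 6822270, 6822711, 6823404, 6823845, 6850935, 6851390, 6852069, 6852524, 9924691, 9925146, 9925825, 9926280, 9953370, 9953811, 9954504, 9954945, 11759706, 11760147, 11760840, 11761281, 11788371, 11788826, 11789505, 11789960, 14569555, 14570010, 14570689, 14571144, 14598234, 14598675, 14599368, 14599809, 16404570, 16405011, 16405704, 16406145, 16433235, 16433690, 16434369, 16434824]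

/-- The homomorphism table. -/
def thT : List (ℕ × ℕ) := [(378890004208459515, 16433235), (378890004428852415, 14570010), (378890004664540140, 6851390), (378890004995177865, 9954945), (378890005312694445, 372204), (378890005482352590, 4987255), (378890005781662170, 2178981), (378890006105471640, 11760840), (1325470301979057915, 14570010), (1325470302199450815, 16433235), (1325470302435138540, 4987255), (1325470302765776265, 11760840), (1325470303083292845, 2178981), (1325470303252950990, 6851390), (1325470303552260570, 372204), (1325470303876070040, 9954945), (2337741372922699515, 2207660), (2337741373143092415, 343525), (2337741373378780140, 9926280), (2337741373709417865, 5015934), (2337741374026934445, 16404570), (2337741374196592590, 11789505), (2337741374495902170, 14598675), (2337741374819711640, 6822711), (3757819588621541115, 9954504), (3757819588841934015, 11761281), (3757819589077621740, 372645), (3757819589408259465, 14569555), (3757819589725776045, 4987710), (3757819589895434190, 2178540), (3757819590194743770, 6850935), (3757819590518553240, 16433690), (5121542915659308795,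 5016375), (5121542915879701695, 6822270), (5121542916115389420, 16405011), (5121542916446027145, 343980), (5121542916763543725, 11789960), (5121542916933201870, 14598234), (5121542917232511450, 9925825), (5121542917556320920, 2207205), (5850219099934334715, 343525), (5850219100154727615, 2207660), (5850219100390415340, 11789505), (5850219100721053065, 6822711), (5850219101038569645, 14598675), (5850219101208227790, 9926280), (5850219101507537370, 16404570), (5850219101831346840, 5015934), (7135743957413830395, 6822270), (7135743957634223295, 5016375), (7135743957869911020, 14598234), (7135743958200548745, 2207205), (7135743958518065325, 9925825), (7135743958687723470, 16405011), (7135743958987033050, 11789960), (7135743959310842520, 343980), (8526495041198923515, 11761281), (8526495041419316415, 9954504), (8526495041655004140, 2178540), (8526495041985641865, 16433690), (8526495042303158445, 6850935), (8526495042472816590, 372645), (8526495042772126170, 4987710), (8526495043095935640, 14569555), (10217153505605588595, 14571144), (10217153505825981495, 16434369), (10217153506061669220,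 342391), (10217153506392306945, 11759706), (10217153506709823525, 6823845), (10217153506879481670, 2206526), (10217153507178791250, 5017068), (10217153507502600720, 9953811), (11163733803376186995, 16434369), (11163733803596579895, 14571144), (11163733803832267620, 2206526), (11163733804162905345, 9953811), (11163733804480421925, 5017068), (11163733804650080070, 342391), (11163733804949389650, 6823845), (11163733805273199120, 11759706), (12176004874319828595, 4988389), (12176004874540221495, 6852524), (12176004874775909220, 11788371), (12176004875106546945, 2177847), (12176004875424063525, 14599809), (12176004875593721670, 9925146), (12176004875893031250, 16405704), (12176004876216840720, 371070), (13596083090018670195, 11760147), (13596083090239063095, 9953370), (13596083090474750820, 6823404), (13596083090805388545, 16434824), (13596083091122905125, 2206071), (13596083091292563270, 5017509), (13596083091591872850, 342846), (13596083091915682320, 14570689), (14959806417056437875, 2177406), (14959806417276830775, 371511), (14959806417512518500, 14599368), (14959806417843156225,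 6852069), (14959806418160672805, 9924691), (14959806418330330950, 16406145), (14959806418629640530, 11788826), (14959806418953450000, 4988844), (15688482601331463795, 6852524), (15688482601551856695, 4988389), (15688482601787544420, 9925146), (15688482602118182145, 371070), (15688482602435698725, 16405704), (15688482602605356870, 11788371), (15688482602904666450, 14599809), (15688482603228475920, 2177847), (16974007458810959475, 371511), (16974007459031352375, 2177406), (16974007459267040100, 16406145), (16974007459597677825, 4988844), (16974007459915194405, 11788826), (16974007460084852550, 14599368), (16974007460384162130, 9924691), (16974007460707971600, 6852069), (18364758542596052595, 9953370), (18364758542816445495, 11760147), (18364758543052133220, 5017509), (18364758543382770945, 14570689), (18364758543700287525, 342846), (18364758543869945670, 6823404), (18364758544169255250, 2206071), (18364758544493064720, 16434824)]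

/-- Table lookup. -/
def look : List (ℕ × ℕ) → ℕ → ℕ
  | [], _ => 0
  | p :: rest, c => cond (Nat.beq c p.1) p.2 (look rest c)

/-- The code of `-1`. -/
def zcode : ℕ := 13596083090805388545

/-- Generators of the subgroup of `Alt(8)`. -/
def p0gens : List ℕ := [6851390, 342846, 371511]

/-- The straight-line program producing the subgroup of `Alt(8)`. -/
def p0prog : List (ℕ × ℕ) := [(0, 0), (0, 1), (0, 2), (0, 3), (0, 4), (0, 5), (0, 6), (0, 7), (0, 8), (1, 0), (0, 12), (0, 13), (0, 14), (1, 1), (0, 16), (0, 17), (0, 18), (1, 2), (0, 20), (0, 21), (0, 22), (1, 5), (0, 24), (0, 25), (0, 26), (1, 20), (0, 28), (0, 29), (0, 30), (2, 0), (0, 32), (0, 33), (0, 34), (1, 32), (0, 36), (0, 37), (0, 38), (1, 33), (0, 40), (0, 41), (0, 42), (1, 36), (0, 44), (0, 45), (0, 46), (2, 5), (0, 48), (0, 49), (0, 50), (1, 48), (0, 52), (0, 53), (0, 54), (1, 49), (0, 56), (0, 57), (0, 58), (1, 52), (0, 60), (0, 61), (0, 62)]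

theorem L16_one : 18364758544493064720 ∈ L16 := by decide +kernel

theorem L16_valid : ∀ c ∈ L16, valid16 c = true := by decide +kernel

theorem gens16_valid : ∀ c ∈ gens16, valid16 c = true := by decide +kernel

theorem gens16_mem : ∀ g ∈ gens16, g ∈ L16 := by decide +kernel

theorem L16_slp : ∀ c ∈ L16, c ∈ slp cm16 18364758544493064720 prog16 gens16 := by decide +kernel

theorem L16_gens : ∀ g ∈ gens16, ∀ s ∈ L16, cm16 g s ∈ L16 := by decide +kernel

theorem L16_closed : ∀ x ∈ L16, ∀ y ∈ L16, cm16 x y ∈ L16 :=
  closed_of_gens s16model L16 gens16 prog16 L16_valid gens16_valid L16_gens L16_slp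

theorem LP0_one : 16434824 ∈ LP0 := by decide +kernel

theorem LP0_valid : ∀ c ∈ LP0, valid8 c = true := by decide +kernel

theorem LP0_nodup : LP0.Nodup := by decide +kernel

theorem LP0_length : LP0.length = 64 := by decide +kernel

theorem p0gens_valid : ∀ c ∈ p0gens, valid8 c = true := by decide +kernel

theorem LP0_slp : ∀ c ∈ LP0, c ∈ slp cm8 16434824 p0prog p0gens := by decide +kernel

theorem LP0_gens : ∀ g ∈ p0gens, ∀ s ∈ LP0, cm8 g s ∈ LP0 := by decide +kernel

theorem LP0_closed : ∀ x ∈ LP0, ∀ y ∈ LP0, cm8 x y ∈ LP0 :=
  closed_of_gens s8model LP0 p0gens p0prog LP0_valid p0gens_valid LP0_gens LP0_slp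

theorem theta_mem : ∀ x ∈ L16, look thT x ∈ LP0 := by decide +kernel

theorem theta_one : look thT 18364758544493064720 = 16434824 := by decide +kernel

theorem theta_gens : ∀ g ∈ gens16, ∀ s ∈ L16,
    look thT (cm16 g s) = cm8 (look thT g) (look thT s) := by decide +kernel

theorem theta_mul : ∀ x ∈ L16, ∀ y ∈ L16,
    look thT (cm16 x y) = cm8 (look thT x) (look thT y) :=
  hom_of_gens s16model s8model L16 LP0 gens16 prog16 L16_one L16_closed L16_valid LP0_valid
    gens16_mem L16_slp (look thT) theta_mem theta_one theta_gens

theorem theta_ker : ∀ x ∈ L16, look thT x = 16434824 →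
    x = 18364758544493064720 ∨ x = zcode := by decide +kernel

theorem theta_z : look thT zcode = 16434824 := by decide +kernel

theorem theta_img : ∀ c ∈ LP0, c ∈ L16.map (look thT) := by decide +kernel

theorem theta_surj : ∀ c ∈ LP0, ∃ a ∈ L16, look thT a = c := by
  intro c hc
  exact List.mem_map.mp (theta_img c hc)

theorem zcode_valid : valid16 zcode = true := by decide +kernel

theorem wv_neg : ∀ i < 16, wv (dg16 zcode i) = - wv i := by decide +kernel

theorem gens16_real : ∀ c ∈ gens16, ∃ g : Sp4, ∀ i < 16, act g (wv i) = wv (dg16 c i) := by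
  intro c hc
  simp only [gens16, List.mem_cons, List.mem_nil_iff, or_false] at hc
  rcases hc with rfl | rfl | rfl | rfl | rfl
  · exact exists_G0
  · exact exists_G1
  · exact exists_G2
  · exact exists_G3
  · exact exists_G4

/-- The subgroup of `Sym(8)` with code list `LP0`. -/
noncomputable def P0 : Subgroup (Equiv.Perm (Fin 8)) := s8model.sub LP0 LP0_one LP0_closed

theorem card_P0 : Nat.card P0 = 64 := by
  rw [P0, card_sub s8model LP0 LP0_one LP0_closed LP0_nodup LP0_valid, LP0_length]

/-- Generator 0 of the subgroup of `Alt(8)`. -/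
def p0g0 : Equiv.Perm (Fin 8) := (Equiv.swap 0 6 * Equiv.swap 6 2 * Equiv.swap 2 4) * (Equiv.swap 1 7 * Equiv.swap 7 3 * Equiv.swap 3 5)

theorem p0g0_code : code8 p0g0 = 6851390 := by decide +kernel

theorem p0g0_mem : p0g0 ∈ alternatingGroup (Fin 8) := by
  rw [Equiv.Perm.mem_alternatingGroup]
  decide +kernel

/-- Generator 1 of the subgroup of `Alt(8)`. -/
def p0g1 : Equiv.Perm (Fin 8) := (Equiv.swap 0 6 * Equiv.swap 6 1 * Equiv.swap 1 7) * (Equiv.swap 2 4 * Equiv.swap 4 3 * Equiv.swap 3 5)

theorem p0g1_code : code8 p0g1 = 342846 := by decide +kernel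

theorem p0g1_mem : p0g1 ∈ alternatingGroup (Fin 8) := by
  rw [Equiv.Perm.mem_alternatingGroup]
  decide +kernel

/-- Generator 2 of the subgroup of `Alt(8)`. -/
def p0g2 : Equiv.Perm (Fin 8) := (Equiv.swap 0 7) * (Equiv.swap 1 6) * (Equiv.swap 2 4) * (Equiv.swap 3 5)

theorem p0g2_code : code8 p0g2 = 371511 := by decide +kernel

theorem p0g2_mem : p0g2 ∈ alternatingGroup (Fin 8) := by
  rw [Equiv.Perm.mem_alternatingGroup]
  decide +kernel

theorem P0_le_alt : P0 ≤ alternatingGroup (Fin 8) := by
  have hg : ∀ c ∈ p0gens, ∃ y ∈ alternatingGroup (Fin 8), code8 y = c := by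
    intro c hc
    simp only [p0gens, List.mem_cons, List.mem_nil_iff, or_false] at hc
    rcases hc with rfl | rfl | rfl
    · exact ⟨p0g0, p0g0_mem, p0g0_code⟩
    · exact ⟨p0g1, p0g1_mem, p0g1_code⟩
    · exact ⟨p0g2, p0g2_mem, p0g2_code⟩
  have hall := s8model.slp_mem (alternatingGroup (Fin 8)) p0prog p0gens hg
  intro σ hσ
  obtain ⟨y, hy, hyc⟩ := hall _ (LP0_slp _ ((s8model.mem_sub LP0 LP0_one LP0_closed σ).mp hσ))
  rw [← code8_injective hyc]
  exact hy

/-- `PSp₄(3)` has a subgroup isomorphic to `P0`. -/
theorem exists_psp4 : ∃ T : Subgroup (Cfsg.PSp 2 (ZMod 3)), Nonempty (T ≃* P0) := by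
  obtain ⟨T, ρ, hρ⟩ := exists_sub16 act wv act_one act_mul wv_inj act_faith L16 L16_one L16_closed
    gens16 prog16 gens16_valid gens16_real L16_slp
  obtain ⟨Θ, hΘ⟩ := exists_hom_of_table s16model s8model L16 LP0 L16_one L16_closed LP0_one
    LP0_closed LP0_valid (look thT) theta_mem theta_mul
  have hΘs : Function.Surjective Θ := surjective_of_table s16model s8model L16 LP0 L16_one
    L16_closed LP0_one LP0_closed L16_valid (look thT) Θ hΘ theta_surj
  let ψ : T →* P0 := Θ.comp ρ.toMonoidHom
  have hψ : Function.Surjective ψ := hΘs.comp ρ.surjective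
  have hcode : ∀ t : T, ψ t = 1 ↔
      look thT (code16 (ρ t : Equiv.Perm (Fin 16))) = 16434824 := by
    intro t
    rw [← hΘ (ρ t)]
    constructor
    · intro h
      have h' : Θ (ρ t) = 1 := h
      rw [h', Subgroup.coe_one]
      exact code8_one
    · intro h
      apply Subtype.ext
      apply code8_injective
      rw [Subgroup.coe_one, code8_one]
      exact h
  have hker : ∀ t : T, ψ t = 1 ↔ (t : Sp4) ∈ Subgroup.center Sp4 := by
    intro t
    rw [hcode]
    constructor
    · intro h
      rcases theta_ker _ ((s16model.mem_sub L16 L16_one L16_closed _).mp (ρ t).2) h with h1 | h1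
      · have h2 : ρ t = 1 := by
          apply Subtype.ext
          apply code16_injective
          rw [Subgroup.coe_one, code16_one]
          exact h1
        have h3 : t = 1 := by
          rw [← ρ.symm_apply_apply t, h2, map_one]
        rw [h3, Subgroup.coe_one]
        exact Subgroup.one_mem _
      · have h2 : ∀ i < 16, (-((t : Sp4) : Matrix I4 I4 (ZMod 3))) *ᵥ wv i = wv i := by
          intro i hi
          have h3 := hρ t i hi
          rw [h1, wv_neg i hi] at h3
          rw [Matrix.neg_mulVec]
          have h4 : ((t : Sp4) : Matrix I4 I4 (ZMod 3)) *ᵥ wv i = - wv i := h3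
          rw [h4, neg_neg]
        have h3 := faith_mat _ h2
        have h4 : ((t : Sp4) : Matrix I4 I4 (ZMod 3)) = -1 := by
          rw [← neg_neg ((t : Sp4) : Matrix I4 I4 (ZMod 3)), h3]
        rw [Subgroup.mem_center_iff]
        intro g
        apply Subtype.ext
        show (g : Matrix I4 I4 (ZMod 3)) * ((t : Sp4) : Matrix I4 I4 (ZMod 3))
          = ((t : Sp4) : Matrix I4 I4 (ZMod 3)) * (g : Matrix I4 I4 (ZMod 3))
        rw [h4, mul_neg, neg_mul, mul_one, one_mul]
    · intro h
      rcases Cfsg.Agent.Lib.helper17.u42_center_cases _ h with h1 | h1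
      · have h2 : (t : Sp4) = 1 := Subtype.ext h1
        have h3 : t = 1 := Subtype.ext h2
        rw [h3, map_one, Subgroup.coe_one, code16_one]
        exact theta_one
      · have h1' : ((t : Sp4) : Matrix I4 I4 (ZMod 3)) = -1 := h1
        have h2 : code16 (ρ t : Equiv.Perm (Fin 16)) = zcode := by
          apply code16_eq_of_dg _ _ zcode_valid
          intro i hi
          apply wv_inj _ (dg16_lt _ _) _ (dg16_lt _ _)
          rw [← hρ t i hi, wv_neg i hi]
          show ((t : Sp4) : Matrix I4 I4 (ZMod 3)) *ᵥ wv i = - wv i
          rw [h1', Matrix.neg_mulVec, Matrix.one_mulVec]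
        rw [h2]
        exact theta_z
  exact exists_quot_subgroup (Subgroup.center Sp4) T ψ hψ hker

end Cfsg.Agent.Lib.helper6.Sp4Syl
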