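import Mathlib
import Cfsg.Prelude.Def_OddOrderLocal
import Cfsg.Prelude.Def_Solvable

/-!
# S4118 piece E2
-/

set_option autoImplicit false

namespace Cfsg.Agent.Lib.helper6.TIH

open Cfsg QuaternionGroup

theorem helper6_a_pow {m : ℕ} (j : ZMod (2 * m)) (k : ℕ) :
    (a j : QuaternionGroup m) ^ k = a ((k : ZMod (2 * m)) * j) := by
  induction k with
  | zero => rw [pow_zero, Nat.cast_zero, zero_mul]; rfl
  | succ k ih =>
    rw [pow_succ, ih, a_mul_a]
    congr 1
    push_cast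
    ring

/-- **E2** (pure).  For `n ≥ 2` an automorphism of odd order of the generalized quaternion group
of order `4 * 2^n` is trivial. -/
theorem quat_aut_odd_trivial (n : ℕ) (hn : 2 ≤ n) (φ : MulAut (QuaternionGroup (2 ^ n)))
    (hφ : Odd (orderOf φ)) : φ = 1 := by
  have hN4 : 4 ≤ 2 ^ n := by
    calc 4 = 2 ^ 2 := by norm_num
      _ ≤ 2 ^ n := Nat.pow_le_pow_right (by norm_num) hn
  have h2ne : (2 : ZMod (2 * 2 ^ n)) ≠ 0 := by
    intro h
    have h' : ((2 : ℕ) : ZMod (2 * 2 ^ n)) = 0 := by exact_mod_cast h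
    rw [ZMod.natCast_eq_zero_iff] at h'
    have := Nat.le_of_dvd (by norm_num) h'
    omega
  obtain ⟨j, hj⟩ : ∃ j, φ (a 1) = a j := by
    have ho : orderOf (φ (a 1)) = 2 * 2 ^ n := by rw [MulEquiv.orderOf_eq, orderOf_a_one]
    cases h : φ (a 1) with
    | a j => exact ⟨j, rfl⟩
    | xa j =>
      rw [h, orderOf_xa] at ho
      omega
  obtain ⟨s, hs⟩ : ∃ s, φ (xa 0) = xa s := by
    cases h : φ (xa 0) with
    | xa s => exact ⟨s, rfl⟩
    | a s' =>
      exfalso
      have h1 : φ (a 1 * xa 0) = φ (xa 0 * a 1) := by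
        rw [map_mul, map_mul, hj, h, a_mul_a, a_mul_a, add_comm]
      have h2 := φ.injective h1
      rw [a_mul_xa, xa_mul_a] at h2
      have h3 : (0 - 1 : ZMod (2 * 2 ^ n)) = 0 + 1 := QuaternionGroup.xa.inj h2
      apply h2ne
      linear_combination (-1 : ZMod (2 * 2 ^ n)) * h3
  have hA : ∀ i : ZMod (2 * 2 ^ n), φ (a i) = a (i * j) := by
    intro i
    have h1 : (a i : QuaternionGroup (2 ^ n)) = a 1 ^ i.val := by
      rw [a_one_pow, ZMod.natCast_zmod_val i]
    rw [h1, map_pow, hj, helper6_a_pow, ZMod.natCast_zmod_val i]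
  have hX : ∀ i : ZMod (2 * 2 ^ n), φ (xa i) = xa (s + i * j) := by
    intro i
    have h1 : (xa i : QuaternionGroup (2 ^ n)) = xa 0 * a i := by rw [xa_mul_a, zero_add]
    rw [h1, map_mul, hs, hA, xa_mul_a]
  have hApow : ∀ k : ℕ, ∀ i : ZMod (2 * 2 ^ n), (φ ^ k) (a i) = a (i * j ^ k) := by
    intro k
    induction k with
    | zero => intro i; simp
    | succ k ih =>
      intro i
      rw [pow_succ, MulAut.mul_apply, hA, ih]
      congr 1
      ring
  obtain ⟨k, hk⟩ : ∃ k, k = orderOf φ := ⟨_, rfl⟩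
  have hkodd : Odd k := by rw [hk]; exact hφ
  have hk0 : k ≠ 0 := hkodd.pos.ne'
  have hφk : φ ^ k = 1 := by rw [hk]; exact pow_orderOf_eq_one φ
  have hjk : j ^ k = 1 := by
    have h := hApow k 1
    rw [hφk, MulAut.one_apply, one_mul] at h
    exact (QuaternionGroup.a.inj h).symm
  have hj1 : j = 1 := by
    obtain ⟨u, rfl⟩ := IsUnit.of_pow_eq_one hjk hk0
    have h1 : u ^ k = 1 := Units.ext (by simpa using hjk)
    have h2 : u ^ (2 ^ n) = 1 := by
      have h := ZMod.pow_totient u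
      have ht : Nat.totient (2 * 2 ^ n) = 2 ^ n := by
        rw [← pow_succ', Nat.totient_prime_pow_succ Nat.prime_two]; simp
      rwa [ht] at h
    have h3 : u ^ Nat.gcd k (2 ^ n) = 1 := pow_gcd_eq_one.mpr ⟨h1, h2⟩
    have hg : Nat.gcd k (2 ^ n) = 1 :=
      Nat.Coprime.pow_right n hkodd.coprime_two_right
    rw [hg, pow_one] at h3
    rw [h3]; rfl
  subst hj1
  simp only [mul_one] at hA hX
  have hXpow : ∀ k : ℕ, ∀ i : ZMod (2 * 2 ^ n), (φ ^ k) (xa i) = xa ((k : ZMod (2 * 2 ^ n)) * s + i) := by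
    intro k
    induction k with
    | zero => intro i; simp
    | succ k ih =>
      intro i
      rw [pow_succ, MulAut.mul_apply, hX, ih]
      congr 1
      push_cast
      ring
  have hs0 : s = 0 := by
    have h := hXpow k 0
    rw [hφk, MulAut.one_apply, add_zero] at h
    have h' : (0 : ZMod (2 * 2 ^ n)) = (k : ZMod (2 * 2 ^ n)) * s := QuaternionGroup.xa.inj h
    have hu : IsUnit ((k : ℕ) : ZMod (2 * 2 ^ n)) := by
      rw [ZMod.isUnit_iff_coprime, ← pow_succ']
      exact Nat.Coprime.pow_right _ hkodd.coprime_two_right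
    exact (hu.mul_right_eq_zero).mp h'.symm
  subst hs0
  apply MulEquiv.ext
  intro x
  cases x with
  | a i => rw [hA, MulAut.one_apply]
  | xa i => rw [hX, zero_add, MulAut.one_apply]

end Cfsg.Agent.Lib.helper6.TIH
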