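import Mathlib
import Cfsg.Prelude.Def_OddOrderLocal
import Cfsg.Prelude.Def_Solvable

/-!
# S4118 piece S2
-/

set_option autoImplicit false

namespace Cfsg.Agent.Lib.helper6.TIH

open Cfsg

/-- **S2** (pure).  A subgroup whose commutators all lie in a solvable subgroup is solvable. -/
theorem solvable_of_comm_mem {G : Type*} [Group G] (B Y : Subgroup G) (hY : Group.IsSolvable Y)
    (h : ∀ b₁ ∈ B, ∀ b₂ ∈ B, b₁ * b₂ * b₁⁻¹ * b₂⁻¹ ∈ Y) : Group.IsSolvable B := by
  have h1 : Group.IsSolvable ↥(Y.subgroupOf B) := by
    let f : ↥(Y.subgroupOf B) →* ↥Y :=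
      (B.subtype.comp (Y.subgroupOf B).subtype).codRestrict Y
        (fun x => Subgroup.mem_subgroupOf.mp x.2)
    have hf : Function.Injective f := by
      intro x y hxy
      have := congrArg (fun z : ↥Y => (z : G)) hxy
      exact Subtype.ext (Subtype.ext this)
    exact Group.isSolvable_of_isSolvable_injective hf
  have hle : commutator ↥B ≤ Y.subgroupOf B := by
    rw [commutator_def, Subgroup.commutator_le]
    intro g₁ _ g₂ _
    rw [Subgroup.mem_subgroupOf, commutatorElement_def]
    exact h g₁ g₁.2 g₂ g₂.2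
  have h2 : Group.IsSolvable ↥(commutator ↥B) :=
    Group.isSolvable_of_isSolvable_injective (Subgroup.inclusion_injective hle)
  exact Group.isSolvable_of_ker_le_range (commutator ↥B).subtype
    (Abelianization.of : ↥B →* Abelianization ↥B)
    (by rw [Abelianization.ker_of, Subgroup.range_subtype])

end Cfsg.Agent.Lib.helper6.TIH
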