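import Mathlib
import Cfsg.Prelude.Def_OddOrderLocal
import Cfsg.Agent.Lib.helper6.TV_X1

/-!
# S1383 piece X4
-/

set_option autoImplicit false

namespace Cfsg.Agent.Lib.helper6.TV

open Cfsg Subgroup

variable {G : Type*} [Group G]

/-- a non-cyclic group of order `p ^ 2` has exactly `p + 1` subgroups of order `p` -/
theorem helper6_count_order_p {E : Type*} [Group E] [Finite E] (p : ℕ) [Fact p.Prime]
    (hE : Nat.card E = p ^ 2) (hnc : ¬ IsCyclic E) :
    Nat.card {B : Subgroup E // Nat.card B = p} = p + 1 := by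
  classical
  have hp : p.Prime := Fact.out
  letI : Fintype E := Fintype.ofFinite E
  letI : Fintype (Subgroup E) := Fintype.ofFinite _
  have hord : ∀ e : E, e ≠ 1 → orderOf e = p := by
    intro e he
    have h1 : orderOf e ∣ p ^ 2 := by rw [← hE]; exact orderOf_dvd_natCard e
    obtain ⟨k, hk2, hk⟩ := (Nat.dvd_prime_pow hp).mp h1
    interval_cases k
    · rw [pow_zero, orderOf_eq_one_iff] at hk; exact absurd hk he
    · rw [hk, pow_one]
    · exact absurd (isCyclic_of_orderOf_eq_card e (by rw [hk, hE])) hnc
  rw [Nat.card_eq_fintype_card, Fintype.card_subtype]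
  obtain ⟨S, hS⟩ : ∃ S : Finset (Subgroup E), S = Finset.univ.filter (fun B : Subgroup E => Nat.card B = p) :=
    ⟨_, rfl⟩
  obtain ⟨N, hN⟩ : ∃ N : Finset E, N = Finset.univ.filter (fun e : E => e ≠ 1) := ⟨_, rfl⟩
  rw [← hS]
  have hNcard : N.card = p ^ 2 - 1 := by
    have h1 : N = Finset.univ.erase 1 := by ext e; simp [hN]
    rw [h1, Finset.card_erase_of_mem (Finset.mem_univ _), Finset.card_univ,
      ← Nat.card_eq_fintype_card, hE]
  have hmaps : ∀ e ∈ N, Subgroup.zpowers e ∈ S := by
    intro e he
    simp only [hN, Finset.mem_filter, Finset.mem_univ, true_and] at he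
    simp only [hS, Finset.mem_filter, Finset.mem_univ, true_and]
    rw [Nat.card_zpowers, hord e he]
  have hfib : ∀ B ∈ S, (N.filter (fun e => Subgroup.zpowers e = B)).card = p - 1 := by
    intro B hB
    simp only [hS, Finset.mem_filter, Finset.mem_univ, true_and] at hB
    have h1 : N.filter (fun e => Subgroup.zpowers e = B)
        = (Finset.univ.filter (fun e => e ∈ B)).erase 1 := by
      ext e
      simp only [hN, Finset.mem_filter, Finset.mem_univ, true_and, Finset.mem_erase]
      constructor
      · rintro ⟨he, hz⟩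
        exact ⟨he, hz ▸ Subgroup.mem_zpowers e⟩
      · rintro ⟨he, heB⟩
        refine ⟨he, ?_⟩
        apply Subgroup.eq_of_le_of_card_ge (Subgroup.zpowers_le.mpr heB)
        rw [Nat.card_zpowers, hord e he, hB]
    rw [h1, Finset.card_erase_of_mem (by simp)]
    have h2 : (Finset.univ.filter (fun e => e ∈ B)).card = Nat.card B := by
      rw [Nat.card_eq_fintype_card, Fintype.card_subtype]
    rw [h2, hB]
  have hsum := Finset.card_eq_sum_card_fiberwise hmaps
  rw [Finset.sum_congr rfl hfib, Finset.sum_const, smul_eq_mul, hNcard] at hsum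
  have hp2 := hp.two_le
  have h3 : (p + 1) * (p - 1) = S.card * (p - 1) := by
    rw [← hsum]
    have h4 := Nat.sq_sub_sq p 1
    rw [one_pow] at h4
    exact h4.symm
  exact (Nat.eq_of_mul_eq_mul_right (by omega) h3).symm

/-- **X4** (pure). A non-abelian group of order `p ^ 3` has exactly `p + 1` subgroups of order
`p ^ 2` containing its centre. -/
theorem p3_count [Finite G] (p : ℕ) [Fact p.Prime] (P : Subgroup G) (hP : Nat.card P = p ^ 3)
    (hPna : ¬ IsMulCommutative ↥P) :
    Nat.card {A : Subgroup G // P ⊓ centralizer (P : Set G) ≤ A ∧ A ≤ P ∧ Nat.card A = p ^ 2} =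
      p + 1 := by
  have hp : p.Prime := Fact.out
  obtain ⟨hZcard, hqcard, hcyc⟩ := helper6_p3_core p P hP hPna
  rw [← helper6_count_order_p p hqcard hcyc]
  symm
  have hcardcomap : ∀ B : Subgroup (↥P ⧸ Subgroup.center ↥P),
      Nat.card (B.comap (QuotientGroup.mk' (Subgroup.center ↥P))) = p * Nat.card B := by
    intro B
    have h1 := Subgroup.card_mul_index (B.comap (QuotientGroup.mk' (Subgroup.center ↥P)))
    rw [Subgroup.index_comap_of_surjective B (QuotientGroup.mk'_surjective _), hP] at h1
    have h2 := Subgroup.card_mul_index B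
    rw [hqcard] at h2
    have h3 : B.index ≠ 0 := Subgroup.index_ne_zero_of_finite
    have h4 : Nat.card (B.comap (QuotientGroup.mk' (Subgroup.center ↥P))) * B.index
        = p * Nat.card B * B.index := by
      rw [h1, mul_assoc, h2]; ring
    exact Nat.eq_of_mul_eq_mul_right (Nat.pos_of_ne_zero h3) h4
  refine Nat.card_congr (Equiv.ofBijective
    (fun B => ⟨(B.1.comap (QuotientGroup.mk' (Subgroup.center ↥P))).map P.subtype, ?_, ?_, ?_⟩)
    ⟨?_, ?_⟩)
  · rw [← helper6_center_map]
    apply Subgroup.map_mono
    intro z hz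
    rw [Subgroup.mem_comap]
    have h1 : (QuotientGroup.mk' (Subgroup.center ↥P)) z = 1 := (QuotientGroup.eq_one_iff z).mpr hz
    rw [h1]; exact Subgroup.one_mem _
  · exact Subgroup.map_subtype_le _
  · rw [Subgroup.card_map_of_injective (Subgroup.subtype_injective _), hcardcomap, B.2]; ring
  · intro B1 B2 h
    apply Subtype.ext
    have h1 := congrArg Subtype.val h
    simp only at h1
    have h2 := Subgroup.map_injective (Subgroup.subtype_injective P) h1
    exact Subgroup.comap_injective (QuotientGroup.mk'_surjective _) h2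
  · rintro ⟨A, hZA, hAP, hA⟩
    have hker : Subgroup.center ↥P ≤ A.subgroupOf P := by
      intro z hz
      rw [Subgroup.mem_subgroupOf]
      apply hZA
      rw [← helper6_center_map]
      exact Subgroup.mem_map_of_mem _ hz
    have hcm : ((A.subgroupOf P).map (QuotientGroup.mk' (Subgroup.center ↥P))).comap
        (QuotientGroup.mk' (Subgroup.center ↥P)) = A.subgroupOf P := by
      rw [Subgroup.comap_map_eq, QuotientGroup.ker_mk', sup_eq_left]; exact hker
    have hmapA : (A.subgroupOf P).map P.subtype = A := Subgroup.map_subgroupOf_eq_of_le hAP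
    refine ⟨⟨(A.subgroupOf P).map (QuotientGroup.mk' (Subgroup.center ↥P)), ?_⟩, ?_⟩
    · have h1 := hcardcomap ((A.subgroupOf P).map (QuotientGroup.mk' (Subgroup.center ↥P)))
      rw [hcm] at h1
      have h2 : Nat.card (A.subgroupOf P) = p ^ 2 := by
        rw [Nat.card_congr (Subgroup.subgroupOfEquivOfLe hAP).toEquiv, hA]
      rw [h2] at h1
      have h3 : p * p = p * Nat.card ((A.subgroupOf P).map
          (QuotientGroup.mk' (Subgroup.center ↥P))) := by rw [← h1]; ring
      exact (Nat.eq_of_mul_eq_mul_left hp.pos h3).symm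
    · apply Subtype.ext
      simp only
      rw [hcm, hmapA]

end Cfsg.Agent.Lib.helper6.TV
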