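import Mathlib
import Cfsg.Prelude.Def_OddOrderLocal

/-!
# S1383 piece X5
-/

set_option autoImplicit false

namespace Cfsg.Agent.Lib.helper6.TV

open Cfsg Subgroup

variable {G : Type*} [Group G]

/-- **X5** (pure). A free action of a finite group on a finite set: `|K|` divides `|X|`. -/
theorem card_dvd_of_free {K X : Type*} [Group K] [Finite K] [MulAction K X] [Finite X]
    (h : ∀ (k : K) (x : X), k • x = x → k = 1) : Nat.card K ∣ Nat.card X := by
  have hst : ∀ b : X, MulAction.stabilizer K b = ⊥ := by
    intro b
    rw [Subgroup.eq_bot_iff_forall]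
    intro k hk
    exact h k b (MulAction.mem_stabilizer_iff.mp hk)
  have e := MulAction.selfEquivOrbitsQuotientProd hst
  rw [Nat.card_congr e, Nat.card_prod]
  exact Dvd.intro_left _ rfl

end Cfsg.Agent.Lib.helper6.TV
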